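import Mathlib.GroupTheory.Sylow
import Mathlib.GroupTheory.Complement
import Mathlib.GroupTheory.Commutator.Basic

/-! Sylow subgroups of subgroups, in relative-index form. -/

set_option autoImplicit false

namespace CfsgLib.Techniques

open Subgroup

variable {G : Type*} [Group G]

theorem exists_mul_of_mem_sup {A B : Subgroup G} (h : A ≤ normalizer (B : Set G)) {x : G}
    (hx : x ∈ A ⊔ B) : ∃ a ∈ A, ∃ b ∈ B, a * b = x := by
  have : x ∈ ((A ⊔ B : Subgroup G) : Set G) := hx
  rw [coe_mul_of_left_le_normalizer_right A B h] at this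
  obtain ⟨a, ha, b, hb, e⟩ := this
  exact ⟨a, ha, b, hb, e⟩

theorem exists_mul_of_mem_sup' {A B : Subgroup G} (h : A ≤ normalizer (B : Set G)) {x : G}
    (hx : x ∈ A ⊔ B) : ∃ b ∈ B, ∃ a ∈ A, b * a = x := by
  obtain ⟨a, ha, b, hb, rfl⟩ := exists_mul_of_mem_sup h hx
  exact ⟨a * b * a⁻¹, ((mem_normalizer_iff.1 (h ha)) b).1 hb, a, ha, by group⟩

theorem mem_map_conj {H : Subgroup G} {g x : G} :
    x ∈ H.map (MulAut.conj g).toMonoidHom ↔ g⁻¹ * x * g ∈ H := by
  constructor
  · rintro ⟨h, hh, rfl⟩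
    simpa [mul_assoc] using hh
  · intro h
    exact ⟨_, h, by simp [mul_assoc]⟩

theorem conj_mem_map_conj {H : Subgroup G} (g : G) {x : G} (hx : x ∈ H) :
    g * x * g⁻¹ ∈ H.map (MulAut.conj g).toMonoidHom :=
  ⟨x, hx, rfl⟩

theorem map_conj_mul (H : Subgroup G) (a b : G) :
    H.map (MulAut.conj (a * b)).toMonoidHom =
      (H.map (MulAut.conj b).toMonoidHom).map (MulAut.conj a).toMonoidHom := by
  rw [map_map]
  congr 1
  ext x
  simp [mul_assoc]

theorem map_conj_one (H : Subgroup G) : H.map (MulAut.conj (1 : G)).toMonoidHom = H := by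
  ext x; simp [mem_map_conj]

theorem map_conj_eq_self_iff [Finite G] {H : Subgroup G} {g : G} :
    H.map (MulAut.conj g).toMonoidHom = H ↔ g ∈ normalizer (H : Set G) := by
  constructor
  · intro h
    rw [mem_normalizer_iff]
    intro x
    constructor
    · exact fun hx => h ▸ conj_mem_map_conj g hx
    · intro hx
      rw [← h, mem_map_conj] at hx
      simpa [mul_assoc] using hx
  · intro h
    ext x
    rw [mem_map_conj]
    have := (mem_normalizer_iff.1 h) (g⁻¹ * x * g)
    simpa [mul_assoc] using this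

theorem isPGroup_map_conj {p : ℕ} {H : Subgroup G} (h : IsPGroup p H) (g : G) :
    IsPGroup p (H.map (MulAut.conj g).toMonoidHom) :=
  h.map _

theorem card_map_conj (H : Subgroup G) (g : G) :
    Nat.card (H.map (MulAut.conj g).toMonoidHom) = Nat.card H :=
  card_map_of_injective (MulAut.conj g).injective

theorem isPGroup_sup {p : ℕ} {A B : Subgroup G} (hA : IsPGroup p A) (hB : IsPGroup p B)
    (h : A ≤ normalizer (B : Set G)) : IsPGroup p ↥(A ⊔ B) :=
  hA.to_sup_of_normal_right' hB h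

/-- The elements of `Z` which normalise `X` normalise `Y`, whenever they fix it setwise. -/
theorem mem_normalizer_inf {H K : Subgroup G} {g : G} (hH : g ∈ normalizer (H : Set G))
    (hK : g ∈ normalizer (K : Set G)) : g ∈ normalizer ((H ⊓ K : Subgroup G) : Set G) := by
  rw [mem_normalizer_iff] at hH hK ⊢
  intro x
  simp only [mem_inf, hH x, hK x]

theorem centralizer_conj_mem {S : Set G} {n c : G}
    (hn : n ∈ normalizer S) (hc : c ∈ centralizer S) : n * c * n⁻¹ ∈ centralizer S := by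
  rw [mem_centralizer_iff] at hc ⊢
  intro s hs
  have h1 : n⁻¹ * s * n ∈ S := (mem_set_normalizer_iff.1 hn (n⁻¹ * s * n)).2 (by simpa [mul_assoc] using hs)
  have := hc _ h1
  calc s * (n * c * n⁻¹) = n * ((n⁻¹ * s * n) * c) * n⁻¹ := by group
    _ = n * (c * (n⁻¹ * s * n)) * n⁻¹ := by rw [this]
    _ = n * c * n⁻¹ * s := by group

theorem normalizer_le_normalizer_centralizer (H : Subgroup G) :
    normalizer (H : Set G) ≤ normalizer (centralizer (H : Set G) : Set G) := by
  intro n hn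
  rw [mem_normalizer_iff]
  intro x
  refine ⟨fun hx => centralizer_conj_mem hn hx, fun hx => ?_⟩
  have := centralizer_conj_mem (inv_mem hn) hx
  simpa [mul_assoc] using this

theorem inf_le_centralizer_of_normal {N H : Subgroup G} [N.Normal] (hd : H ⊓ N = ⊥) :
    N ⊓ normalizer (H : Set G) ≤ centralizer (H : Set G) := by
  rintro d ⟨hd1, hd2⟩
  rw [mem_centralizer_iff]
  intro h hh
  have h1 : d * h * d⁻¹ * h⁻¹ ∈ H ⊓ N := by
    refine ⟨H.mul_mem ((mem_normalizer_iff.1 hd2 h).1 hh) (H.inv_mem hh), ?_⟩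
    have := N.mul_mem hd1 (Subgroup.Normal.conj_mem inferInstance _ (N.inv_mem hd1) h)
    simpa [mul_assoc] using this
  rw [hd, mem_bot, mul_inv_eq_one, mul_inv_eq_iff_eq_mul] at h1
  exact h1.symm

theorem normalizer_le_normalizer_map_subtype (C : Subgroup G) (K : Subgroup C) [hK : K.Characteristic] :
    normalizer (C : Set G) ≤ normalizer ((K.map C.subtype : Subgroup G) : Set G) := by
  have key : ∀ n ∈ normalizer (C : Set G), ∀ x ∈ K.map C.subtype, n * x * n⁻¹ ∈ K.map C.subtype := by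
    rintro n hn x ⟨k, hk, rfl⟩
    let φ : C ≃* C :=
      { toFun := fun c => ⟨n * c * n⁻¹, (mem_normalizer_iff.1 hn _).1 c.2⟩
        invFun := fun c => ⟨n⁻¹ * c * n, by
          simpa using (mem_normalizer_iff.1 (inv_mem hn) _).1 c.2⟩
        left_inv := fun c => Subtype.ext (by simp [mul_assoc])
        right_inv := fun c => Subtype.ext (by simp [mul_assoc])
        map_mul' := fun a b => Subtype.ext (by simp [mul_assoc]) }
    exact ⟨φ k, (characteristic_iff_map_le.1 hK φ) ⟨k, hk, rfl⟩, rfl⟩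
  intro n hn
  rw [mem_normalizer_iff]
  refine fun x => ⟨key n hn x, fun hx => ?_⟩
  simpa [mul_assoc] using key n⁻¹ (inv_mem hn) _ hx

variable [Finite G] {p : ℕ} [Fact p.Prime]

/-- Sylow's conjugacy theorem inside a subgroup `X`. -/
theorem exists_conj_le_sylow_of {X A S : Subgroup G} (hAX : A ≤ X) (hA : IsPGroup p A)
    (hSX : S ≤ X) (hS : IsPGroup p S) (hi : ¬ p ∣ S.relIndex X) :
    ∃ x ∈ X, A.map (MulAut.conj x).toMonoidHom ≤ S := by
  let T : Sylow p X :=
    (hS.of_equiv (subgroupOfEquivOfLe hSX).symm).toSylow (P := S.subgroupOf X) hi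
  obtain ⟨Q, hQ⟩ := (hA.of_equiv (subgroupOfEquivOfLe hAX).symm).exists_le_sylow
  obtain ⟨x, hx⟩ := MulAction.exists_smul_eq X Q T
  refine ⟨x, x.2, ?_⟩
  rintro y ⟨a, ha, rfl⟩
  have h1 : x * ⟨a, hAX ha⟩ * x⁻¹ ∈ ((x • Q : Sylow p X) : Subgroup X) :=
    ⟨⟨a, hAX ha⟩, hQ (by exact ha), rfl⟩
  rw [hx] at h1
  exact h1

theorem exists_conj_eq_sylow_of {X A S : Subgroup G} (hAX : A ≤ X) (hA : IsPGroup p A)
    (hAi : ¬ p ∣ A.relIndex X) (hSX : S ≤ X) (hS : IsPGroup p S) (hi : ¬ p ∣ S.relIndex X) :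
    ∃ x ∈ X, A.map (MulAut.conj x).toMonoidHom = S := by
  obtain ⟨x, hx, h⟩ := exists_conj_le_sylow_of hAX hA hSX hS hi
  obtain ⟨y, hy, h'⟩ := exists_conj_le_sylow_of hSX hS hAX hA hAi
  refine ⟨x, hx, eq_of_le_of_card_ge h ?_⟩
  rw [card_map_conj]
  have := card_le_of_le h'
  rwa [card_map_conj] at this

/-- A Sylow subgroup of `G` inside a subgroup has index prime to `p` there. -/
theorem not_dvd_relIndex_sylow (P : Sylow p G) {X : Subgroup G} (h : (P : Subgroup G) ≤ X) :
    ¬ p ∣ (P : Subgroup G).relIndex X :=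
  fun hd => P.not_dvd_index (hd.trans (relIndex_dvd_index_of_le h))

/-- A Sylow subgroup meets a normal subgroup in a Sylow subgroup. -/
theorem not_dvd_relIndex_inf_normal (P : Sylow p G) (N : Subgroup G) [N.Normal] :
    ¬ p ∣ ((P : Subgroup G) ⊓ N).relIndex N := by
  rw [inf_relIndex_right]
  intro hd
  apply not_dvd_relIndex_sylow P (le_sup_left : (P : Subgroup G) ≤ (P : Subgroup G) ⊔ N)
  have h1 := relIndex_mul_relIndex ((P : Subgroup G) ⊓ N) (P : Subgroup G) ((P : Subgroup G) ⊔ N)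
    inf_le_left le_sup_left
  have h2 := relIndex_mul_relIndex ((P : Subgroup G) ⊓ N) N ((P : Subgroup G) ⊔ N)
    inf_le_right le_sup_right
  rw [inf_relIndex_left] at h1
  rw [inf_relIndex_right, relIndex_sup_right] at h2
  rw [← h2, mul_comm (N.relIndex _)] at h1
  have hne : N.relIndex (P : Subgroup G) ≠ 0 := index_ne_zero_of_finite
  rw [Nat.eq_of_mul_eq_mul_right (Nat.pos_of_ne_zero hne) (h1.trans rfl)]
  exact hd

/-- Frattini's argument for `P ⊓ N`. -/
theorem sup_normalizer_inf_eq_top (P : Sylow p G) (N : Subgroup G) [N.Normal] :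
    N ⊔ normalizer (((P : Subgroup G) ⊓ N : Subgroup G) : Set G) = ⊤ := by
  refine top_le_iff.1 fun g _ => ?_
  have hN : ((P : Subgroup G) ⊓ N).map (MulAut.conj g).toMonoidHom ≤ N := by
    rintro x ⟨y, hy, rfl⟩
    exact Subgroup.Normal.conj_mem inferInstance y hy.2 g
  obtain ⟨n, hn, h⟩ := exists_conj_le_sylow_of hN (isPGroup_map_conj (P.isPGroup'.to_le inf_le_left) g)
    inf_le_right (P.isPGroup'.to_le inf_le_left) (not_dvd_relIndex_inf_normal P N)
  rw [← map_conj_mul] at h
  have : n * g ∈ normalizer (((P : Subgroup G) ⊓ N : Subgroup G) : Set G) :=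
    map_conj_eq_self_iff.1 (eq_of_le_of_card_ge h (card_map_conj _ _).ge)
  simpa using mul_mem_sup (inv_mem hn) this

theorem exists_eq_mul_normalizer_inf (P : Sylow p G) (N : Subgroup G) [N.Normal] (g : G) :
    ∃ n ∈ N, ∃ m ∈ normalizer (((P : Subgroup G) ⊓ N : Subgroup G) : Set G), n * m = g :=
  mem_sup_of_normal_left.1 (sup_normalizer_inf_eq_top P N ▸ mem_top g)

end CfsgLib.Techniques
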