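import Cfsg.Agent.Lib.Techniques.Basic
import Cfsg.Agent.Lib.PCore.Basic

/-! The subgroup `P ∩ O_{p',p}(G)`: decomposition and control of fusion by its normaliser. -/

set_option autoImplicit false

namespace CfsgLib.Techniques

open Subgroup Cfsg CfsgLib.PCore

variable {G : Type*} [Group G] [Finite G] {p : ℕ} [Fact p.Prime]

theorem sylow_inf_pPrimePCore_sup (P : Sylow p G) :
    pPrimeCore p G ⊔ ((P : Subgroup G) ⊓ pPrimePCore p G) = pPrimePCore p G := by
  refine le_antisymm (sup_le pPrimeCore_le_pPrimePCore inf_le_right) fun x hx => ?_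
  obtain ⟨d, hd, q, hq, rfl⟩ := mem_sup_of_normal_left.1 (pPrimePCore_le_sup_sylow P hx)
  refine mul_mem_sup hd ⟨hq, ?_⟩
  have := mul_mem (inv_mem (pPrimeCore_le_pPrimePCore hd)) hx
  simpa using this

theorem exists_pPrimeCore_mul_normalizer (P : Sylow p G) (g : G) :
    ∃ d ∈ pPrimeCore p G,
      ∃ n ∈ normalizer (((P : Subgroup G) ⊓ pPrimePCore p G : Subgroup G) : Set G), d * n = g := by
  obtain ⟨x, hx, m, hm, rfl⟩ := exists_eq_mul_normalizer_inf P (pPrimePCore p G) g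
  rw [← sylow_inf_pPrimePCore_sup P] at hx
  obtain ⟨d, hd, q, hq, rfl⟩ := mem_sup_of_normal_left.1 hx
  exact ⟨d, hd, q * m, mul_mem (le_normalizer hq) hm, by group⟩

theorem mem_normalizer_inf_pPrimePCore (P : Sylow p G) {x : G} (hx : x ∈ (P : Subgroup G)) :
    x ∈ normalizer (((P : Subgroup G) ⊓ pPrimePCore p G : Subgroup G) : Set G) :=
  mem_normalizer_inf (le_normalizer hx) (by rw [normalizer_eq_top]; exact mem_top x)

theorem inf_normalizer_le_centralizer (P : Sylow p G) :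
    pPrimeCore p G ⊓ normalizer (((P : Subgroup G) ⊓ pPrimePCore p G : Subgroup G) : Set G) ≤
      centralizer (((P : Subgroup G) ⊓ pPrimePCore p G : Subgroup G) : Set G) :=
  inf_le_centralizer_of_normal
    (inf_eq_bot_of_isPGroup_coprime (P.isPGroup'.to_le inf_le_left) pPrimeCore_coprime)

theorem factor_pPrimeCore (P : Sylow p G) {y d : G}
    (hy : y ∈ normalizer (((P : Subgroup G) ⊓ pPrimePCore p G : Subgroup G) : Set G))
    (hyp : ∃ k : ℕ, orderOf y = p ^ k) (hd : d ∈ pPrimeCore p G)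
    (hy' : d⁻¹ * y * d ∈ normalizer (((P : Subgroup G) ⊓ pPrimePCore p G : Subgroup G) : Set G)) :
    ∃ d₁ ∈ pPrimeCore p G ⊓ centralizer ({y} : Set G),
      ∃ d₂ ∈ pPrimeCore p G ⊓ centralizer (((P : Subgroup G) ⊓ pPrimePCore p G : Subgroup G) : Set G),
        d = d₁ * d₂ := by
  set H := (P : Subgroup G) ⊓ pPrimePCore p G
  set C := pPrimeCore p G ⊓ centralizer (H : Set G) with hC
  set y' := d⁻¹ * y * d with hy'def
  obtain ⟨k, hk⟩ := hyp
  have hk' : orderOf y' = p ^ k := by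
    have : y' = MulAut.conj d⁻¹ y := by simp [hy'def]
    rw [this, MulEquiv.orderOf_eq, hk]
  have hpy : IsPGroup p (zpowers y) := IsPGroup.of_card (n := k) (by rw [Nat.card_zpowers, hk])
  have hpy' : IsPGroup p (zpowers y') := IsPGroup.of_card (n := k) (by rw [Nat.card_zpowers, hk'])
  have hnC : normalizer (H : Set G) ≤ normalizer (C : Set G) := fun n hn =>
    mem_normalizer_inf (by rw [normalizer_eq_top]; exact mem_top n)
      (normalizer_le_normalizer_centralizer H hn)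
  have hcop : (Nat.card C).Coprime p :=
    Nat.Coprime.coprime_dvd_left (card_dvd_of_le inf_le_left) pPrimeCore_coprime
  have hyy : y⁻¹ * y' ∈ C := by
    have h1 : y⁻¹ * y' ∈ pPrimeCore p G := by
      have := (pPrimeCore p G).mul_mem ((pPrimeCore_normal p G).conj_mem _ ((pPrimeCore p G).inv_mem hd) y⁻¹) hd
      simpa [hy'def, mul_assoc] using this
    exact ⟨h1, inf_normalizer_le_centralizer P ⟨h1, (normalizer (H : Set G)).mul_mem ((normalizer (H : Set G)).inv_mem hy) hy'⟩⟩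
  set X := zpowers y ⊔ C with hX
  have hyn : zpowers y ≤ normalizer (C : Set G) := zpowers_le.2 (hnC hy)
  have hyX : zpowers y ≤ X := le_sup_left
  have hy'X : zpowers y' ≤ X := by
    rw [zpowers_le]
    have := mul_mem_sup (mem_zpowers y) hyy
    simpa using this
  have hidx : ∀ z, zpowers z ≤ X → Nat.card (zpowers z) = p ^ k → ¬ p ∣ (zpowers z).relIndex X := by
    intro z hz hcard hdvd
    have hNC : (C.subgroupOf X).Normal :=
      (normal_subgroupOf_iff_le_normalizer le_sup_right).2 (sup_le hyn le_normalizer)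
    have h1 : Nat.card X ∣ Nat.card C * p ^ k := by
      have := @card_sup_dvd_mul _ _ (C.subgroupOf X) ((zpowers y).subgroupOf X) hNC
      rw [← subgroupOf_sup le_sup_right le_sup_left, sup_comm, subgroupOf_self, card_top,
        Nat.card_congr (subgroupOfEquivOfLe (le_sup_right : C ≤ X)).toEquiv,
        Nat.card_congr (subgroupOfEquivOfLe hyX).toEquiv, Nat.card_zpowers y, hk] at this
      exact this
    have h2 := relIndex_mul_relIndex ⊥ (zpowers z) X bot_le hz
    rw [relIndex_bot_left, relIndex_bot_left, hcard] at h2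
    rw [← h2, mul_comm (Nat.card C)] at h1
    exact (Nat.Prime.coprime_iff_not_dvd Fact.out).1 hcop.symm
      (hdvd.trans ((Nat.mul_dvd_mul_iff_left (pow_pos (Fact.out (p := p.Prime)).pos k)).1 h1))
  obtain ⟨e, he, heq⟩ := exists_conj_eq_sylow_of hyX hpy (hidx y hyX (by rw [Nat.card_zpowers, hk]))
    hy'X hpy' (hidx y' hy'X (by rw [Nat.card_zpowers, hk']))
  obtain ⟨c, hc, a, ha, rfl⟩ := exists_mul_of_mem_sup' hyn he
  have hz : c * y * c⁻¹ ∈ zpowers y' := by
    rw [← heq]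
    have := conj_mem_map_conj (c * a) (mem_zpowers y)
    have hay : a * y * a⁻¹ = y := by
      obtain ⟨i, rfl⟩ := mem_zpowers_iff.1 ha
      group
    have e : c * y * c⁻¹ = c * a * y * (c * a)⁻¹ := by
      rw [show c * a * y * (c * a)⁻¹ = c * (a * y * a⁻¹) * c⁻¹ by group, hay]
    rw [e]
    exact this
  have hzC : c * y * c⁻¹ * y'⁻¹ ∈ C := by
    have h1 : c * (y * c⁻¹ * y⁻¹) * (y * (y⁻¹ * y')⁻¹ * y⁻¹) ∈ C :=
      C.mul_mem (C.mul_mem hc ((mem_normalizer_iff.1 (hnC hy) c⁻¹).1 (C.inv_mem hc)))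
        ((mem_normalizer_iff.1 (hnC hy) _).1 (C.inv_mem hyy))
    convert h1 using 1
    group
  have hone : c * y * c⁻¹ * y'⁻¹ = 1 := by
    have := inf_eq_bot_of_isPGroup_coprime hpy' hcop
    rw [← mem_bot, ← this]
    exact ⟨(zpowers y').mul_mem hz ((zpowers y').inv_mem (mem_zpowers y')), hzC⟩
  rw [mul_inv_eq_one, hy'def] at hone
  refine ⟨d * c, ⟨(pPrimeCore p G).mul_mem hd hc.1, ?_⟩, c⁻¹, C.inv_mem hc, by group⟩
  change d * c ∈ centralizer ({y} : Set G)
  rw [mem_centralizer_singleton_iff]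
  calc d * c * y = d * (c * y * c⁻¹) * c := by group
    _ = d * (d⁻¹ * y * d) * c := by rw [hone]
    _ = y * (d * c) := by group

theorem normalizer_controls_fusion (P : Sylow p G) {x y g : G} (hx : x ∈ (P : Subgroup G))
    (hy : y ∈ (P : Subgroup G)) (hg : g * x * g⁻¹ = y) :
    ∃ n ∈ normalizer (((P : Subgroup G) ⊓ pPrimePCore p G : Subgroup G) : Set G), n * x * n⁻¹ = y := by
  obtain ⟨d, hd, n, hn, rfl⟩ := exists_pPrimeCore_mul_normalizer P g
  have hxy : n * x * n⁻¹ = d⁻¹ * y * d := by rw [← hg]; group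
  obtain ⟨k, hk⟩ := IsPGroup.iff_orderOf.mp P.isPGroup' ⟨y, hy⟩
  obtain ⟨d₁, ⟨-, hd₁⟩, d₂, ⟨hd₂D, hd₂⟩, rfl⟩ := factor_pPrimeCore P (mem_normalizer_inf_pPrimePCore P hy)
    ⟨k, by rw [← hk, orderOf_mk]⟩ hd (by
      rw [← hxy]; exact mul_mem (mul_mem hn (mem_normalizer_inf_pPrimePCore P hx)) (inv_mem hn))
  refine ⟨d₂ * n, mul_mem (centralizer_le_normalizer _ hd₂) hn, ?_⟩
  replace hd₁ : d₁ ∈ centralizer ({y} : Set G) := hd₁
  rw [mem_centralizer_singleton_iff] at hd₁
  calc d₂ * n * x * (d₂ * n)⁻¹ = d₂ * (n * x * n⁻¹) * d₂⁻¹ := by group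
    _ = d₁⁻¹ * y * d₁ := by rw [hxy]; group
    _ = y := by rw [mul_assoc, ← hd₁]; group

end CfsgLib.Techniques
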