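import Cfsg.Agent.Lib.Techniques.Control
import Mathlib.GroupTheory.Solvable

/-! Transfer control and `p`-automizers give a normal subgroup of index `p`. -/

set_option autoImplicit false
set_option linter.unusedSectionVars false

namespace CfsgLib.Techniques.Fusion

open Cfsg Subgroup CfsgLib.Techniques

universe u

variable {p : ℕ} [Fact p.Prime]

theorem exists_index_eq_prime {A : Type*} [CommGroup A] [Finite A] (h : p ∣ Nat.card A) :
    ∃ M : Subgroup A, M.index = p := by
  obtain ⟨M, hM, hmax⟩ := (Set.toFinite {M : Subgroup A | p ∣ M.index}).exists_maximal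
    ⟨⊥, by simpa [index_bot] using h⟩
  refine ⟨M, ?_⟩
  by_contra hne
  obtain ⟨k, hk⟩ := hM
  have hk1 : k ≠ 1 := fun e => hne (by rw [hk, e, mul_one])
  obtain ⟨q, hq, hqk⟩ := Nat.exists_prime_and_dvd hk1
  have := Fact.mk hq
  obtain ⟨y, hy⟩ := exists_prime_orderOf_dvd_card' q (G := A ⧸ M)
    (by rw [← index_eq_card, hk]; exact hqk.mul_left p)
  set M' := (zpowers y).comap (QuotientGroup.mk' M) with hM'
  have hle : M ≤ M' := fun m hm => by
    rw [hM', mem_comap, show QuotientGroup.mk' M m = 1 from (QuotientGroup.eq_one_iff m).2 hm]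
    exact one_mem _
  have hidx : M'.index * q = M.index := by
    rw [hM', index_comap_of_surjective _ (QuotientGroup.mk'_surjective M), index_eq_card M, ← hy,
      ← Nat.card_zpowers, mul_comm, card_mul_index]
  have hp : p ∣ M'.index := by
    obtain ⟨j, rfl⟩ := hqk
    refine ⟨j, Nat.eq_of_mul_eq_mul_right hq.pos ?_⟩
    rw [hidx, hk]; ring
  have hge : M' ≤ M := hmax hp hle
  obtain ⟨x, rfl⟩ := QuotientGroup.mk'_surjective M y
  have hxM : x ∈ M := hge (mem_zpowers _)
  rw [show QuotientGroup.mk' M x = 1 from (QuotientGroup.eq_one_iff x).2 hxM, orderOf_one] at hy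
  exact hq.ne_one hy.symm

theorem exists_normal_index_eq_prime {X : Type u} [Group X] [Finite X] (S : Sylow p X)
    (h : ¬ (S : Subgroup X) ≤ _root_.commutator X) : ∃ N : Subgroup X, N.Normal ∧ N.index = p := by
  have hdvd : p ∣ Nat.card (Abelianization X) := by
    by_contra hd
    apply h
    intro s hs
    rw [← Abelianization.ker_of X, MonoidHom.mem_ker, ← orderOf_eq_one_iff]
    obtain ⟨n, hn⟩ : ∃ n, orderOf s = p ^ n :=
      ⟨_, ((Subgroup.orderOf_coe ⟨s, hs⟩).trans ((IsPGroup.iff_orderOf.1 S.2 ⟨s, hs⟩).choose_spec))⟩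
    refine Nat.eq_one_of_dvd_coprimes ?_ (_root_.orderOf_dvd_natCard (Abelianization.of s))
      (hn ▸ orderOf_map_dvd Abelianization.of s)
    exact (((Fact.out : p.Prime).coprime_iff_not_dvd.2 hd).pow_left n).symm
  obtain ⟨M, hM⟩ := exists_index_eq_prime hdvd
  have hM' : M.Normal := ⟨fun m hm g => by rwa [mul_comm g m, mul_inv_cancel_right]⟩
  exact ⟨M.comap Abelianization.of, inferInstance,
    (index_comap_of_surjective M (QuotientGroup.mk'_surjective (_root_.commutator X))).trans hM⟩

/-- `N_X(S)` acts on `S` as a `p`-group. -/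
def PAutomizer (p : ℕ) {X : Type u} [Group X] (S : Subgroup X) : Prop :=
  ∀ g ∈ normalizer (S : Set X), (orderOf g).Coprime p → g ∈ centralizer (S : Set X)

variable {W : ∀ (Q : Type u) [Group Q], Subgroup Q}

theorem not_le_commutator_of_normal {X : Type u} [Group X] [Finite X] (S : Sylow p X)
    [hn : (S : Subgroup X).Normal] (hne : (S : Subgroup X) ≠ ⊥) (hN : PAutomizer p (S : Subgroup X)) :
    ¬ (S : Subgroup X) ≤ _root_.commutator X := by
  intro hle
  set C := centralizer ((S : Subgroup X) : Set X) ⊔ (S : Subgroup X) with hC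
  have hCn : C.Normal := by rw [hC]; infer_instance
  have htop : C = ⊤ := by
    rw [← index_eq_one]
    by_contra h1
    obtain ⟨q, hq, hqd⟩ := Nat.exists_prime_and_dvd h1
    have hqp : q ≠ p := fun e => by
      subst e
      exact S.not_dvd_index (hqd.trans (index_dvd_of_le le_sup_right))
    have := Fact.mk hq
    obtain ⟨y, hy⟩ := exists_prime_orderOf_dvd_card' q (G := X ⧸ C) (by rwa [← index_eq_card])
    obtain ⟨z, rfl⟩ := QuotientGroup.mk'_surjective _ y
    set n := p ^ (orderOf z).factorization p with hn
    have hord : (orderOf (z ^ n)).Coprime p := by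
      rw [orderOf_pow, hn, Nat.gcd_eq_right (Nat.ordProj_dvd _ _)]
      exact Nat.Coprime.symm ((Fact.out : p.Prime).coprime_iff_not_dvd.2
        (Nat.not_dvd_ordCompl Fact.out (orderOf_pos z).ne'))
    have hmem : z ^ n ∈ C :=
      mem_sup_left (hN _ (normalizer_eq_top (S : Subgroup X) ▸ mem_top _) hord)
    have h2 : q ∣ n := hy ▸ orderOf_dvd_of_pow_eq_one (by
      rw [← map_pow]; exact (QuotientGroup.eq_one_iff _).2 hmem)
    exact hqp ((Nat.prime_dvd_prime_iff_eq hq Fact.out).1 (hq.dvd_of_dvd_pow h2))
  have h := inf_commutator_le_of_centralizer_sup_eq_top S (S : Subgroup X) le_rfl htop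
  rw [inf_eq_left.2 hle] at h
  have := (S : Subgroup X).nontrivial_iff_ne_bot.2 hne
  have hnil : Group.IsNilpotent (S : Subgroup X) := S.2.isNilpotent
  have hlt : _root_.commutator (S : Subgroup X) ≠ ⊤ :=
    (Group.IsSolvable.commutator_lt_top_of_nontrivial (S : Subgroup X)).ne
  apply hlt
  apply Subgroup.map_injective (S : Subgroup X).subtype_injective
  rw [_root_.commutator_def, map_commutator, ← MonoidHom.range_eq_map, range_subtype]
  exact le_antisymm (commutator_le_self _) h

theorem not_le_commutator_of_transCtrl {G : Type u} [Group G] [Finite G]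
    (hW : IsCharPFunctor.{u} p W)
    (hctl : ∀ (X : Type u) [Group X] [Finite X], IsSectionOf X G → TransCtrl p {W} X)
    (X : Type u) [Group X] [Finite X] (hX : IsSectionOf X G) (S : Sylow p X)
    (hne : (S : Subgroup X) ≠ ⊥) (hN : PAutomizer p (S : Subgroup X)) :
    ¬ (S : Subgroup X) ≤ _root_.commutator X := by
  suffices H : ∀ (n : ℕ) (X : Type u) [Group X] [Finite X], Nat.card X < n → IsSectionOf X G →
      ∀ S : Sylow p X, (S : Subgroup X) ≠ ⊥ → PAutomizer p (S : Subgroup X) →
      ¬ (S : Subgroup X) ≤ _root_.commutator X from H _ X (Nat.lt_succ_self _) hX S hne hN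
  intro n
  induction n with
  | zero => intro X _ _ h; omega
  | succ n ih =>
    intro X _ _ hn hX S hne hN hle
    set U := inducedFunctor (G := X) W (S : Subgroup X) with hU
    set N := normalizer (U : Set X) with hNdef
    have hSN : (S : Subgroup X) ≤ N :=
      Subgroup.le_normalizer.trans (normalizer_le_normalizer_inducedFunctor hW S.2)
    have hUS : U ≤ (S : Subgroup X) := inducedFunctor_le W _
    have hSN' : (S : Subgroup X) ≤ ⁅N, N⁆ := by
      have h1 := hctl X hX S
      rw [inf_eq_left.2 hle] at h1
      exact h1.trans (iSup₂_le fun M hM => by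
        obtain ⟨V, hV, rfl⟩ := hM
        obtain rfl := hV
        exact inf_le_right)
    -- transfer to `N`
    let SN : Sylow p N := S.subtype hSN
    have hSNmap : (SN : Subgroup N).map N.subtype = (S : Subgroup X) := map_subgroupOf_eq_of_le hSN
    have hSNle : (SN : Subgroup N) ≤ _root_.commutator N := by
      rw [← map_le_map_iff_of_injective N.subtype_injective, hSNmap, _root_.commutator_def,
        map_commutator, ← MonoidHom.range_eq_map, range_subtype]
      exact hSN'
    have hUn : (U.subgroupOf N).Normal := normal_in_normalizer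
    have hSNne : (SN : Subgroup N) ≠ ⊥ := fun e => hne (by rw [← hSNmap, e, Subgroup.map_bot])
    have hNN : PAutomizer p (SN : Subgroup N) := by
      intro g hg hord
      have hg' : (g : X) ∈ normalizer ((S : Subgroup X) : Set X) := by
        rw [← hSNmap]; exact le_normalizer_map _ (mem_map_of_mem N.subtype hg)
      have h1 := hN _ hg' (by rwa [Subgroup.orderOf_coe])
      rw [mem_centralizer_iff] at h1 ⊢
      intro a ha
      exact Subtype.ext (h1 (a : X) ha)
    by_cases hUeq : U = (S : Subgroup X)
    · have : (SN : Subgroup N).Normal := by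
        have h2 := hUn; rw [hUeq] at h2; exact h2
      exact not_le_commutator_of_normal SN hSNne hNN hSNle
    set π := QuotientGroup.mk' (U.subgroupOf N) with hπ
    let T : Sylow p (N ⧸ U.subgroupOf N) := SN.mapSurjective (QuotientGroup.mk'_surjective _)
    have hT : (T : Subgroup _) = (SN : Subgroup N).map π := rfl
    have hUb : U.subgroupOf N ≠ ⊥ := fun e => inducedFunctor_ne_bot hW S.2 hne (by
      show U = ⊥
      rw [← map_subgroupOf_eq_of_le (hUS.trans hSN : U ≤ N), e, Subgroup.map_bot])
    have hcomap : ((SN : Subgroup N).map π).comap π = (SN : Subgroup N) := by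
      rw [hπ, comap_map_eq, QuotientGroup.ker_mk', sup_eq_left]
      exact comap_mono hUS
    refine ih (N ⧸ U.subgroupOf N) ?_
      ((IsSectionOf.of_surjective _ (QuotientGroup.mk'_surjective _)).trans
        ((IsSectionOf.of_subgroup N).trans hX)) T ?_ ?_ ?_
    · have := card_quotient_lt _ hUb
      have := card_le_card_group N
      omega
    · rw [hT, Ne, Subgroup.map_eq_bot_iff, hπ, QuotientGroup.ker_mk']
      intro h
      apply hUeq
      refine hUS.antisymm ?_
      rw [← hSNmap, ← map_subgroupOf_eq_of_le (hUS.trans hSN : U ≤ N)]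
      exact Subgroup.map_mono h
    · intro y hy hord
      obtain ⟨g, rfl⟩ := QuotientGroup.mk'_surjective _ y
      have hg : g ∈ normalizer ((SN : Subgroup N) : Set N) := by
        have h1 : g ∈ (normalizer ((T : Subgroup (N ⧸ U.subgroupOf N)) : Set (N ⧸ U.subgroupOf N))).comap π := hy
        rwa [comap_normalizer_eq_of_surjective _ (QuotientGroup.mk'_surjective _), hT, hcomap] at h1
      set k := p ^ (orderOf g).factorization p with hk
      have hc : (orderOf (g ^ k)).Coprime p := by
        rw [orderOf_pow, hk, Nat.gcd_eq_right (Nat.ordProj_dvd _ _)]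
        exact Nat.Coprime.symm ((Fact.out : p.Prime).coprime_iff_not_dvd.2
          (Nat.not_dvd_ordCompl Fact.out (orderOf_pos g).ne'))
      have h2 := hNN _ (pow_mem hg k) hc
      have h3 : π g ^ k ∈ centralizer ((T : Subgroup (N ⧸ U.subgroupOf N)) : Set (N ⧸ U.subgroupOf N)) := by
        rw [← map_pow, mem_centralizer_iff, hT]
        rintro _ ⟨a, ha, rfl⟩
        rw [← map_mul, ← map_mul, mem_centralizer_iff.1 h2 a ha]
      obtain ⟨m, hm⟩ := exists_pow_eq_self_of_coprime (x := π g) (n := k)
        (Nat.Coprime.pow_left _ hord.symm)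
      rw [← hm]
      exact pow_mem h3 m
    · rw [hT]
      refine (Subgroup.map_mono hSNle).trans ?_
      rw [_root_.commutator_def, map_commutator,
        map_top_of_surjective π (QuotientGroup.mk'_surjective _), ← _root_.commutator_def]

end CfsgLib.Techniques.Fusion
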