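import Cfsg.Agent.Lib.PLocal.Thompson
import Cfsg.Agent.Lib.PCore.Basic
import Cfsg.Agent.Lib.Solvable.Fitting
import Cfsg.Agent.Lib.LocalEven.InvolvesFour
import Cfsg.Agent.Lib.LocalEven.FStarCoprime
import Cfsg.Agent.Lib.Coprime.HyperplaneGeneration
import Cfsg.Agent.Lib.Coprime.Basic
import Cfsg.Agent.Lib.InvChar.SolvableTwo
import Cfsg.Agent.Lib.Involutions.BaerSuzuki
import Cfsg.Agent.Lib.Techniques.Basic

/-!
`J_e(S) ≤ O₂(G)` for a solvable group without section `S₄` with `C(O₂(G)) ≤ O₂(G)` whose Sylow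
2-subgroup has class at most two.
-/

set_option autoImplicit false
set_option linter.unusedSectionVars false

open scoped commutatorElement

namespace CfsgLib.Techniques.JeTwo

open Cfsg Subgroup

variable {G : Type*} [Group G]

/-- `Z(O₂(G))`. -/
def zQ (G : Type*) [Group G] : Subgroup G :=
  pCore 2 G ⊓ centralizer (pCore 2 G : Set G)

theorem zQ_normal : (zQ G).Normal := by
  haveI := pCore_normal 2 G
  unfold zQ
  infer_instance

/-- `x` acts trivially on `O₂(G) / Z(O₂(G))`. -/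
def Triv (x : G) : Prop := ∀ q ∈ pCore 2 G, ⁅x, q⁆ ∈ zQ G

theorem Triv.one : Triv (1 : G) := fun q _ => by simp [commutatorElement_def]

theorem Triv.mul {x y : G} (hx : Triv x) (hy : Triv y) : Triv (x * y) := fun q hq => by
  have e : ⁅x * y, q⁆ = x * ⁅y, q⁆ * x⁻¹ * ⁅x, q⁆ := by simp only [commutatorElement_def]; group
  rw [e]
  exact mul_mem (zQ_normal.conj_mem _ (hy q hq) x) (hx q hq)

theorem Triv.inv {x : G} (hx : Triv x) : Triv x⁻¹ := fun q hq => by
  have e : ⁅x⁻¹, q⁆ = x⁻¹ * ⁅x, q⁆⁻¹ * (x⁻¹)⁻¹ := by simp only [commutatorElement_def]; group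
  rw [e]
  exact zQ_normal.conj_mem _ (inv_mem (hx q hq)) _

theorem Triv.pow {x : G} (hx : Triv x) : ∀ n : ℕ, Triv (x ^ n)
  | 0 => by simpa using Triv.one
  | n + 1 => by rw [pow_succ]; exact (Triv.pow hx n).mul hx

theorem Triv.conj {x : G} (hx : Triv x) (g : G) : Triv (g * x * g⁻¹) := fun q hq => by
  have e : ⁅g * x * g⁻¹, q⁆ = g * ⁅x, g⁻¹ * q * g⁆ * g⁻¹ := by
    simp only [commutatorElement_def]; group
  rw [e]
  exact zQ_normal.conj_mem _ (hx _ ((pCore_normal 2 G).conj_mem' q hq g)) g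

theorem zQ_comm {z w : G} (hz : z ∈ zQ G) (hw : w ∈ zQ G) : z * w = w * z :=
  mem_centralizer_iff.1 hw.2 z hz.1

variable [Finite G]

/-- An element of odd order commuting with its displacement of `t`, a 2-element, commutes with `t`. -/
theorem commute_of_displacement {x t : G} (hx : Odd (orderOf x))
    (hd : x * (x * t * x⁻¹ * t⁻¹) = (x * t * x⁻¹ * t⁻¹) * x)
    (hd2 : ∃ k, (x * t * x⁻¹ * t⁻¹) ^ 2 ^ k = 1) : x * t = t * x := by
  set d := x * t * x⁻¹ * t⁻¹ with hdef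
  have hn : ∀ n : ℕ, x ^ n * t * (x ^ n)⁻¹ = d ^ n * t := by
    intro n
    induction n with
    | zero => simp
    | succ n ih =>
      have hc : x * d ^ n = d ^ n * x := (show Commute x d from hd).pow_right n
      calc x ^ (n + 1) * t * (x ^ (n + 1))⁻¹ = x * (x ^ n * t * (x ^ n)⁻¹) * x⁻¹ := by
            rw [pow_succ' x n]; group
        _ = x * (d ^ n * t) * x⁻¹ := by rw [ih]
        _ = d ^ n * x * t * x⁻¹ := by rw [← mul_assoc, hc]
        _ = d ^ n * (x * t * x⁻¹) := by simp only [mul_assoc]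
        _ = d ^ n * (d * t) := by rw [show x * t * x⁻¹ = d * t by rw [hdef, inv_mul_cancel_right]]
        _ = d ^ (n + 1) * t := by rw [pow_succ]; exact (mul_assoc _ _ _).symm
  have h1 : d ^ orderOf x = 1 := by
    have := hn (orderOf x)
    rw [pow_orderOf_eq_one] at this
    simpa using this.symm
  obtain ⟨k, hk⟩ := hd2
  have h2 : d = 1 := by
    rw [← orderOf_eq_one_iff]
    exact Nat.eq_one_of_dvd_coprimes ((Nat.coprime_two_left.2 hx).pow_left k)
      (orderOf_dvd_of_pow_eq_one hk) (orderOf_dvd_of_pow_eq_one h1)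
  rw [hdef] at h2
  calc x * t = (x * t * x⁻¹ * t⁻¹) * t * x := by group
    _ = t * x := by rw [h2, one_mul]

theorem exists_pow_two_eq_one {z : G} (hz : z ∈ pCore 2 G) : ∃ k, z ^ 2 ^ k = 1 := by
  obtain ⟨k, hk⟩ := CfsgLib.PCore.pCore_isPGroup (p := 2) (G := G) ⟨z, hz⟩
  exact ⟨k, by simpa using congrArg Subtype.val hk⟩

/-- An element of odd order acting trivially on `O₂/Z(O₂)` and centralizing the involutions of
`Z(O₂)` is trivial. -/
theorem eq_one_of_odd (hC : centralizer (pCore 2 G : Set G) ≤ pCore 2 G) {x : G}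
    (hx : Odd (orderOf x)) (hK : Triv x)
    (hV : ∀ v ∈ zQ G, v ^ 2 = 1 → x * v = v * x) : x = 1 := by
  have hZ : ∀ (k : ℕ) (z : G), z ∈ zQ G → z ^ 2 ^ k = 1 → x * z = z * x := by
    intro k
    induction k with
    | zero => intro z _ hz; simp only [pow_zero, pow_one] at hz; simp [hz]
    | succ k ih =>
      intro z hz hk
      have hsq : x * z ^ 2 = z ^ 2 * x := ih _ (pow_mem hz 2) (by rw [← pow_mul, ← pow_succ']; exact hk)
      set d := x * z * x⁻¹ * z⁻¹ with hd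
      have hdZ : d ∈ zQ G := mul_mem (zQ_normal.conj_mem z hz x) (inv_mem hz)
      have hcm : Commute (x * z * x⁻¹) z⁻¹ := zQ_comm (zQ_normal.conj_mem z hz x) (inv_mem hz)
      have hd2 : d ^ 2 = 1 := by
        rw [hd, hcm.mul_pow, conj_pow, hsq, inv_pow, mul_inv_cancel_right, mul_inv_cancel]
      exact commute_of_displacement hx (hV d hdZ hd2) ⟨1, by rw [pow_one]; exact hd2⟩
  have hQ : x ∈ pCore 2 G := by
    refine hC (mem_centralizer_iff.2 fun q hq => (commute_of_displacement hx ?_ ?_).symm)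
    · have h1 : x * q * x⁻¹ * q⁻¹ ∈ zQ G := by
        have := hK q hq; rwa [commutatorElement_def] at this
      obtain ⟨k, hk⟩ := exists_pow_two_eq_one (mem_inf.1 h1).1
      exact hZ k _ h1 hk
    · exact exists_pow_two_eq_one (mul_mem ((pCore_normal 2 G).conj_mem q hq x) (inv_mem hq))
  obtain ⟨k, hk⟩ := exists_pow_two_eq_one hQ
  rw [← orderOf_eq_one_iff]
  exact Nat.eq_one_of_dvd_coprimes ((Nat.coprime_two_left.2 hx).pow_left k)
    (orderOf_dvd_of_pow_eq_one hk) dvd_rfl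

theorem exists_odd_power (y : G) :
    ∃ k : ℕ, Odd (orderOf (y ^ 2 ^ k)) ∧ ((y ^ 2 ^ k = 1) → ∃ j, orderOf y = 2 ^ j) := by
  obtain ⟨k, m, hm, hord⟩ :=
    Nat.exists_eq_pow_mul_and_not_dvd (orderOf_pos y).ne' 2 (by norm_num)
  refine ⟨k, ?_, fun h => ?_⟩
  · rw [orderOf_pow, hord, Nat.gcd_mul_right_left, Nat.mul_div_cancel_left _ (pow_pos two_pos k)]
    exact Nat.odd_iff.2 (by omega)
  · obtain ⟨j, -, hj⟩ := (Nat.dvd_prime_pow Nat.prime_two).1 (orderOf_dvd_of_pow_eq_one h)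
    exact ⟨j, hj⟩

/-- Outside `O₂`, an involution inverts a nontrivial element of odd order which is a power of the
product with a conjugate. -/
theorem exists_inverted {a : G} (ha2 : a * a = 1) (haQ : a ∉ pCore 2 G) :
    ∃ (g : G) (k : ℕ), Odd (orderOf ((a * (g * a * g⁻¹)) ^ 2 ^ k)) ∧
      (a * (g * a * g⁻¹)) ^ 2 ^ k ≠ 1 ∧
      a * (a * (g * a * g⁻¹)) ^ 2 ^ k * a⁻¹ = ((a * (g * a * g⁻¹)) ^ 2 ^ k)⁻¹ := by
  obtain ⟨g, hg⟩ : ∃ g : G, ¬ IsPGroup 2 (Subgroup.closure ({a, g * a * g⁻¹} : Set G)) := by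
    by_contra! h
    obtain ⟨N, hN, hNp, haN⟩ := CfsgLib.Involutions.exists_normal_isPGroup_of_mem h
    exact haQ (CfsgLib.PCore.le_pCore hN hNp haN)
  set b := g * a * g⁻¹ with hb
  set y := a * b with hy
  have hai : a⁻¹ = a := inv_eq_of_mul_eq_one_right ha2
  have hbi : b⁻¹ = b := by rw [hb, mul_inv_rev, mul_inv_rev, inv_inv, hai, mul_assoc]
  have hinv : a * y * a⁻¹ = y⁻¹ := by
    rw [hy, mul_inv_rev, hbi, hai, ← mul_assoc, ha2, one_mul]
  obtain ⟨k, hodd, hk⟩ := exists_odd_power y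
  refine ⟨g, k, hodd, fun h => hg ?_, by rw [← conj_pow, hinv, inv_pow]⟩
  obtain ⟨j, hj⟩ := hk h
  have hnorm : zpowers a ≤ normalizer (zpowers y : Set G) := by
    rw [zpowers_le]
    refine CfsgLib.Techniques.map_conj_eq_self_iff.1 ?_
    rw [MonoidHom.map_zpowers]
    show zpowers (a * y * a⁻¹) = _
    rw [hinv, zpowers_inv]
  refine IsPGroup.to_le (CfsgLib.Techniques.isPGroup_sup (A := zpowers a) (B := zpowers y) ?_ ?_ hnorm) ?_
  · intro z
    obtain ⟨i, hi⟩ := z.2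
    refine ⟨1, Subtype.ext ?_⟩
    simp only [pow_one, pow_two, coe_mul, coe_one, ← hi]
    rw [← (Commute.refl a).mul_zpow, ha2, one_zpow]
  · exact IsPGroup.of_card (n := j) (by rw [Nat.card_zpowers, hj])
  · rw [closure_le]
    rintro z (rfl | rfl)
    · exact mem_sup_left (mem_zpowers _)
    · show b ∈ _
      rw [show b = a⁻¹ * y by rw [hy, inv_mul_cancel_left]]
      exact mul_mem (inv_mem (mem_sup_left (mem_zpowers _))) (mem_sup_right (mem_zpowers _))

/-- The involutions of `Z(O₂(G))` with `1`. -/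
def vQ (G : Type*) [Group G] : Subgroup G where
  carrier := {z | z ∈ zQ G ∧ z ^ 2 = 1}
  one_mem' := ⟨one_mem _, one_pow 2⟩
  mul_mem' := by
    rintro z w ⟨hz, hz'⟩ ⟨hw, hw'⟩
    exact ⟨mul_mem hz hw, by rw [(show Commute z w from zQ_comm hz hw).mul_pow, hz', hw', one_mul]⟩
  inv_mem' := by
    rintro z ⟨hz, hz'⟩
    exact ⟨inv_mem hz, by rw [inv_pow, hz', inv_one]⟩

theorem mem_vQ {z : G} : z ∈ vQ G ↔ z ∈ zQ G ∧ z ^ 2 = 1 := Iff.rfl

theorem vQ_normal : (vQ G).Normal :=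
  ⟨fun z hz g => ⟨zQ_normal.conj_mem z hz.1 g, by rw [conj_pow, hz.2, mul_one, mul_inv_cancel]⟩⟩

theorem vQ_elemAb : IsElementaryAbelian 2 (vQ G) :=
  ⟨⟨⟨fun z w => Subtype.ext (zQ_comm z.2.1 w.2.1)⟩⟩, fun _ hz => hz.2⟩

theorem vQ_le : vQ G ≤ pCore 2 G := fun _ hz => (mem_inf.1 hz.1).1

theorem commute_vQ_of_mem {q v : G} (hq : q ∈ pCore 2 G) (hv : v ∈ vQ G) : q * v = v * q :=
  mem_centralizer_iff.1 (mem_inf.1 hv.1).2 q hq

/-- An involution acting trivially on `O₂/Z(O₂)` and on `Ω₁Z(O₂)` lies in `O₂`. -/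
theorem mem_pCore_of_centralizes (hC : centralizer (pCore 2 G : Set G) ≤ pCore 2 G) {a : G}
    (ha2 : a * a = 1) (hK : Triv a) (hV : a ∈ centralizer (vQ G : Set G)) : a ∈ pCore 2 G := by
  by_contra haQ
  obtain ⟨g, k, hodd, hne, -⟩ := exists_inverted ha2 haQ
  haveI := vQ_normal (G := G)
  refine hne (eq_one_of_odd hC hodd ((hK.mul (hK.conj g)).pow _) fun v hv hv2 => ?_)
  have h1 : (a * (g * a * g⁻¹)) ^ 2 ^ k ∈ centralizer (vQ G : Set G) :=
    pow_mem (mul_mem hV ((inferInstance : (centralizer (vQ G : Set G)).Normal).conj_mem a hV g)) _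
  exact (mem_centralizer_iff.1 h1 v ⟨hv, hv2⟩).symm

/-- A transvection on `Ω₁Z(O₂)` gives a section `S₄`. -/
theorem involves_four_of_transvection (hC : centralizer (pCore 2 G : Set G) ≤ pCore 2 G) {a : G}
    (ha2 : a * a = 1) (ha1 : a ≠ 1) (hK : Triv a) (haQ : a ∉ pCore 2 G)
    (hidx : (centralizer ({a} : Set G)).relIndex (vQ G) ≤ 2) :
    Involves (Equiv.Perm (Fin 4)) G := by
  classical
  haveI hVn := vQ_normal (G := G)
  obtain ⟨g, k, hodd, hne, hinv⟩ := exists_inverted ha2 haQ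
  set b := g * a * g⁻¹ with hb
  set y := (a * b) ^ 2 ^ k with hy
  have hKy : Triv y := (hK.mul (hK.conj g)).pow _
  have hyV : y ∉ centralizer (vQ G : Set G) := fun h =>
    hne (eq_one_of_odd hC hodd hKy fun v hv hv2 => (mem_centralizer_iff.1 h v ⟨hv, hv2⟩).symm)
  have hcm : ∀ v ∈ vQ G, ∀ w ∈ vQ G, v * w = w * v := fun v hv w hw => zQ_comm hv.1 hw.1
  let f : vQ G →* G := MonoidHom.mk' (fun v => y * v * y⁻¹ * (v : G)⁻¹) (by
    rintro ⟨v, hv⟩ ⟨w, hw⟩
    show y * (v * w) * y⁻¹ * (v * w)⁻¹ = y * v * y⁻¹ * v⁻¹ * (y * w * y⁻¹ * w⁻¹)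
    have h1 := hcm _ (mul_mem (hVn.conj_mem w hw y) (inv_mem hw)) _ (inv_mem hv)
    calc y * (v * w) * y⁻¹ * (v * w)⁻¹ = y * v * y⁻¹ * ((y * w * y⁻¹ * w⁻¹) * v⁻¹) := by group
      _ = y * v * y⁻¹ * (v⁻¹ * (y * w * y⁻¹ * w⁻¹)) := by rw [h1]
      _ = _ := by group)
  set W := f.range with hW
  have hfV : ∀ w ∈ W, w ∈ vQ G := by
    rintro _ ⟨⟨v, hv⟩, rfl⟩
    exact mul_mem (hVn.conj_mem v hv y) (inv_mem hv)
  have hWy : ∀ w ∈ W, y * w * y⁻¹ ∈ W := by
    rintro _ ⟨⟨v, hv⟩, rfl⟩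
    refine ⟨⟨y * v * y⁻¹, hVn.conj_mem v hv y⟩, ?_⟩
    show y * (y * v * y⁻¹) * y⁻¹ * (y * v * y⁻¹)⁻¹ = y * (y * v * y⁻¹ * v⁻¹) * y⁻¹
    group
  have hfree : ∀ w ∈ W, y * w = w * y → w = 1 := by
    intro w hw hc
    obtain ⟨⟨v, hv⟩, hv'⟩ := hw
    change y * v * y⁻¹ * v⁻¹ = w at hv'
    subst hv'
    have := commute_of_displacement hodd hc ⟨1, by
      rw [pow_one]; exact (hfV _ ⟨⟨v, hv⟩, rfl⟩).2⟩
    rw [this]; group
  have hcard : Nat.card W ≤ 4 := by
    rw [hW, ← index_ker]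
    have h1 : (centralizer ({a} : Set G) ⊓ centralizer ({b} : Set G)).subgroupOf (vQ G) ≤ f.ker := by
      rintro ⟨v, hv⟩ hv'
      rw [mem_subgroupOf, mem_inf, mem_centralizer_singleton_iff, mem_centralizer_singleton_iff] at hv'
      rw [MonoidHom.mem_ker]
      show y * v * y⁻¹ * v⁻¹ = 1
      have hc : Commute y v := by
        refine Commute.pow_left (Commute.mul_left ?_ ?_) _
        · exact (show Commute v a from hv'.1).symm
        · exact (show Commute v b from hv'.2).symm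
      rw [hc.eq]; group
    have hb2 : (centralizer ({b} : Set G)).relIndex (vQ G) ≤ 2 := by
      have e1 : centralizer ({b} : Set G) =
          (centralizer ({a} : Set G)).map (MulAut.conj g).toMonoidHom := by
        ext x
        rw [CfsgLib.Techniques.mem_map_conj, mem_centralizer_singleton_iff, mem_centralizer_singleton_iff]
        constructor
        · intro h
          calc g⁻¹ * x * g * a = g⁻¹ * (x * b) * g := by rw [hb]; group
            _ = g⁻¹ * (b * x) * g := by rw [h]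
            _ = a * (g⁻¹ * x * g) := by rw [hb]; group
        · intro h
          calc x * b = g * (g⁻¹ * x * g * a) * g⁻¹ := by rw [hb]; group
            _ = g * (a * (g⁻¹ * x * g)) * g⁻¹ := by rw [h]
            _ = b * x := by rw [hb]; group
      have e2 : vQ G = (vQ G).map (MulAut.conj g).toMonoidHom :=
        (CfsgLib.Techniques.map_conj_eq_self_iff.2 (normalizer_eq_top (vQ G) ▸ mem_top g)).symm
      rw [e1, e2, relIndex_map_map_of_injective _ _ (MulAut.conj g).injective]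
      exact hidx
    calc f.ker.index ≤ (centralizer ({a} : Set G) ⊓ centralizer ({b} : Set G)).relIndex (vQ G) :=
          Nat.le_of_dvd (Nat.pos_of_ne_zero index_ne_zero_of_finite) (index_dvd_of_le h1)
      _ ≤ _ * _ := relIndex_inf_le
      _ ≤ 2 * 2 := Nat.mul_le_mul hidx hb2
  have hcube : ∀ w ∈ W, y ^ 3 * w = w * y ^ 3 := by
    intro w hw
    by_cases hw1 : w = 1
    · simp [hw1]
    set σ : G → G := fun u => y * u * y⁻¹ with hσ
    have hinj : ∀ u u' : G, σ u = σ u' → u = u' := fun u u' h => by simpa [hσ] using h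
    have hfix : ∀ u ∈ W, σ u = u → u = 1 := fun u hu h => hfree u hu (mul_inv_eq_iff_eq_mul.1 h)
    have h1 : σ w ≠ w := fun h => hw1 (hfix w hw h)
    have h2 : σ (σ w) ≠ w := by
      intro h
      apply h1
      have he : Commute (y ^ 2) w := mul_inv_eq_iff_eq_mul.1 (show y ^ 2 * w * (y ^ 2)⁻¹ = w by
        conv_rhs => rw [← h]
        rw [hσ, pow_two]; group)
      obtain ⟨m, hm⟩ := hodd
      have : Commute y w := by
        have e : y = y ^ orderOf y * (y ^ 2) ^ (0 : ℕ) * y := by simp [pow_orderOf_eq_one]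
        have e' : y = ((y ^ 2) ^ (m + 1)) := by
          rw [← pow_mul, show 2 * (m + 1) = orderOf y + 1 by omega, pow_succ, pow_orderOf_eq_one,
            one_mul]
        rw [e']
        exact he.pow_left _
      show y * w * y⁻¹ = w
      rw [this.eq, mul_inv_cancel_right]
    have hne1 : ∀ u, u ≠ 1 → σ u ≠ 1 := fun u hu h => hu (hinj u 1 (by simpa [hσ] using h))
    set s : Finset G := {1, w, σ w, σ (σ w)} with hs
    have hs4 : s.card = 4 := by
      have := hne1 w hw1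
      have := hne1 _ (hne1 w hw1)
      have : σ w ≠ σ (σ w) := fun h => h1 (hinj _ _ h).symm
      rw [hs, Finset.card_insert_of_notMem, Finset.card_insert_of_notMem, Finset.card_pair ‹_›]
      · simp [Ne.symm h1, Ne.symm h2]
      · simp [Ne.symm hw1, Ne.symm (hne1 w hw1), Ne.symm (hne1 _ (hne1 w hw1))]
    have hsW : (s : Set G) = (W : Set G) := by
      refine Set.eq_of_subset_of_ncard_le ?_ ?_ (Set.toFinite _)
      · intro u hu
        simp only [hs, Finset.coe_insert, Finset.coe_singleton, Set.mem_insert_iff,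
          Set.mem_singleton_iff] at hu
        rcases hu with rfl | rfl | rfl | rfl
        · exact one_mem W
        · exact hw
        · exact hWy w hw
        · exact hWy _ (hWy w hw)
      · rw [Set.ncard_coe_finset, hs4, ← Nat.card_coe_set_eq]
        exact hcard
    have h3 : σ (σ (σ w)) ∈ (s : Set G) := by rw [hsW]; exact hWy _ (hWy _ (hWy w hw))
    simp only [hs, Finset.coe_insert, Finset.coe_singleton, Set.mem_insert_iff,
      Set.mem_singleton_iff] at h3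
    have h4 : σ (σ (σ w)) = w := by
      rcases h3 with h | h | h | h
      · exact absurd h (hne1 _ (hne1 _ (hne1 w hw1)))
      · exact h
      · exact absurd (hinj _ _ h) h2
      · exact absurd (hinj _ _ (hinj _ _ h)) h1
    apply mul_inv_eq_iff_eq_mul.1
    conv_rhs => rw [← h4]
    simp only [hσ, pow_succ, pow_zero, one_mul]
    group
  have hy3 : y ^ 3 = 1 := by
    have hodd3 : Odd (orderOf (y ^ 3)) := Odd.of_dvd_nat hodd (orderOf_pow_dvd 3)
    refine eq_one_of_odd hC hodd3 (hKy.pow 3) fun v hv hv2 => ?_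
    have hd : y ^ 3 * v * (y ^ 3)⁻¹ * v⁻¹ ∈ W := by
      have h0 : y * v * y⁻¹ * v⁻¹ ∈ W := ⟨⟨v, ⟨hv, hv2⟩⟩, rfl⟩
      have h1 := hWy _ h0
      have h2 := hWy _ h1
      have e : y ^ 3 * v * (y ^ 3)⁻¹ * v⁻¹ = (y * (y * (y * v * y⁻¹ * v⁻¹) * y⁻¹) * y⁻¹) *
          (y * (y * v * y⁻¹ * v⁻¹) * y⁻¹) * (y * v * y⁻¹ * v⁻¹) := by
        simp only [pow_succ, pow_zero, one_mul]; group
      rw [e]
      exact mul_mem (mul_mem h2 h1) h0
    exact commute_of_displacement hodd3 (hcube _ hd) ⟨1, by rw [pow_one]; exact (hfV _ hd).2⟩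
  haveI : Fact (Nat.Prime 3) := ⟨Nat.prime_three⟩
  refine CfsgLib.LocalEven.Involved.involves_four_of_action (vQ G) vQ_elemAb a y (zpowers y) (k := 1)
    (by rw [pow_one]; exact orderOf_eq_prime (by rw [pow_two, ha2]) ha1)
    (IsPGroup.of_card (n := 1) (by
      rw [pow_one, Nat.card_zpowers]
      exact orderOf_eq_prime hy3 hne))
    ?_ (mem_zpowers y) hyV (by rw [hy3]; exact one_mem _) (fun u hu => ?_) ?_
  · refine CfsgLib.Techniques.map_conj_eq_self_iff.1 ?_
    rw [MonoidHom.map_zpowers]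
    show zpowers (a * y * a⁻¹) = _
    rw [hinv, zpowers_inv]
  · obtain ⟨i, hi⟩ := mem_powers_iff_mem_zpowers.2 (inv_mem hu)
    refine ⟨i, ?_⟩
    rw [show y ^ i = u⁻¹ from hi, inv_mul_cancel]
    exact one_mem _
  · rw [hinv, inv_mul_cancel]; exact one_mem _

/-- Cardinality of the part centralized. -/
theorem relIndex_mul_card_inf (C V : Subgroup G) :
    C.relIndex V * Nat.card (V ⊓ C : Subgroup G) = Nat.card V := by
  have h := relIndex_mul_relIndex ⊥ (V ⊓ C) V bot_le inf_le_left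
  rw [relIndex_bot_left, relIndex_bot_left, inf_relIndex_left] at h
  rw [mul_comm]; exact h

/-- The main step: maximal elementary abelian subgroups of `S` lie in `O₂(G)`. -/
theorem le_pCore_of_isMaxElemIn [Group.IsSolvable G] (hS4 : ¬ Involves (Equiv.Perm (Fin 4)) G)
    (hC : centralizer (pCore 2 G : Set G) ≤ pCore 2 G) (S : Sylow 2 G)
    (hcl : ∀ a ∈ (S : Subgroup G), ∀ b ∈ (S : Subgroup G), ∀ c ∈ (S : Subgroup G),
      ⁅a, b⁆ * c = c * ⁅a, b⁆)
    {A : Subgroup G} (hA : CfsgLib.PLocal.IsMaxElemIn 2 (S : Subgroup G) A) : A ≤ pCore 2 G := by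
  classical
  set Q := pCore 2 G with hQ
  have hQS : Q ≤ (S : Subgroup G) := CfsgLib.PCore.pCore_le_sylow S
  have hQn : Q.Normal := pCore_normal 2 G
  haveI hVn := vQ_normal (G := G)
  have hKS : ∀ s ∈ (S : Subgroup G), Triv s := fun s hs q hq => by
    have hqS := hQS hq
    have h2 : ⁅s, q⁆ ∈ centralizer (Q : Set G) :=
      mem_centralizer_iff.2 fun c hc => (hcl s hs q hqS c (hQS hc)).symm
    exact mem_inf.2 ⟨hC h2, h2⟩
  have hA2 : ∀ a ∈ A, a * a = 1 := fun a ha => by rw [← pow_two]; exact hA.elem.2 a ha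
  have hAV : ∀ a ∈ A, a ∈ centralizer (vQ G : Set G) → a ∈ Q := fun a ha h =>
    mem_pCore_of_centralizes hC (hA2 a ha) (hKS a (hA.le ha)) h
  have hAcm : ∀ a ∈ A, ∀ b ∈ A, a * b = b * a := fun a ha b hb =>
    CfsgLib.PLocal.elemAb_commute hA.elem ha hb
  by_contra hAQ
  set B₀ := A ⊓ Q with hB₀
  -- a complement of `A ⊓ Q`
  obtain ⟨A₁, ⟨hA₁, hA₁Q⟩, hmax⟩ := Set.exists_max_image
    {B : Subgroup G | B ≤ A ∧ B ⊓ Q = ⊥} (fun B => Nat.card B) (Set.toFinite _)
    ⟨⊥, bot_le, bot_inf_eq _⟩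
  have hsup : A₁ ⊔ B₀ = A := by
    refine le_antisymm (sup_le hA₁ inf_le_left) fun a ha => ?_
    by_contra ha'
    have hanA₁ : a ∉ A₁ := fun h => ha' (mem_sup_left h)
    have hB : A₁ < A₁ ⊔ zpowers a := lt_of_le_of_ne le_sup_left fun e =>
      hanA₁ (e ▸ mem_sup_right (mem_zpowers a))
    refine absurd (hmax (A₁ ⊔ zpowers a) ⟨sup_le hA₁ (zpowers_le.2 ha), ?_⟩)
      (not_le.2 ((lt_of_le_of_ne (card_le_of_le hB.le)) fun e => hB.ne (eq_of_le_of_card_ge hB.le e.ge)))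
    rw [eq_bot_iff]
    rintro x ⟨hx, hxQ⟩
    obtain ⟨b, hb, c, hc, rfl⟩ := CfsgLib.Techniques.exists_mul_of_mem_sup (A := A₁) (B := zpowers a)
      (fun b hb => (centralizer_le_normalizer (zpowers a : Set G))
        (mem_centralizer_iff.2 fun c hc => hAcm c (zpowers_le.2 ha hc) b (hA₁ hb))) hx
    obtain ⟨i, rfl⟩ := hc
    rcases Int.even_or_odd i with ⟨j, rfl⟩ | ⟨j, rfl⟩
    · have e : a ^ (j + j) = 1 := by
        rw [zpow_add, ← (Commute.refl a).mul_zpow, hA2 a ha, one_zpow]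
      change b * a ^ (j + j) ∈ Q at hxQ
      show b * a ^ (j + j) ∈ _
      rw [e, mul_one] at hxQ ⊢
      rw [← hA₁Q]; exact ⟨hb, hxQ⟩
    · have e : a ^ (2 * j + 1) = a := by
        rw [zpow_add, zpow_mul, zpow_two, hA2 a ha, one_zpow, one_mul, zpow_one]
      change b * a ^ (2 * j + 1) ∈ Q at hxQ
      rw [e] at hxQ
      refine absurd ?_ ha'
      have : a = b⁻¹ * (b * a) := by group
      rw [this]
      exact mul_mem_sup (inv_mem hb) ⟨mul_mem (hA₁ hb) ha, hxQ⟩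
  have hA₁ne : A₁ ≠ ⊥ := fun h => hAQ (by rw [← hsup, h, bot_sup_eq]; exact inf_le_right)
  -- the failure of factorization inequality
  have hbig : Nat.card (vQ G) ≤
      Nat.card A₁ * Nat.card (vQ G ⊓ centralizer (A₁ : Set G) : Subgroup G) := by
    have hVB : vQ G ≤ centralizer (B₀ : Set G) := fun v hv =>
      mem_centralizer_iff.2 fun q hq => commute_vQ_of_mem hq.2 hv
    have hel : IsElementaryAbelian 2 (vQ G ⊔ B₀) :=
      CfsgLib.PLocal.elemAb_sup vQ_elemAb (CfsgLib.PLocal.elemAb_of_le hA.elem inf_le_left) hVB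
    have h1 : Nat.card (vQ G ⊔ B₀ : Subgroup G) ≤ Nat.card A :=
      hA.2.2 _ (sup_le (vQ_le.trans hQS) (inf_le_right.trans hQS)) hel
    have h2 := CfsgLib.Coprime.card_sup_mul_card_inf (H := vQ G) (N := B₀)
      (hVB.trans (centralizer_le_normalizer (B₀ : Set G)))
    have h3 := CfsgLib.Coprime.card_sup_mul_card_inf (H := A₁) (N := B₀)
      ((show A₁ ≤ centralizer (B₀ : Set G) from fun b hb => mem_centralizer_iff.2 fun c hc =>
        hAcm c hc.1 b (hA₁ hb)).trans (centralizer_le_normalizer (B₀ : Set G)))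
    have h4 : B₀ ⊓ A₁ = ⊥ := by
      rw [inf_comm, eq_bot_iff, ← hA₁Q]; exact inf_le_inf_left _ inf_le_right
    rw [hsup, h4, Subgroup.card_bot, mul_one] at h3
    have h5 : Nat.card (vQ G ⊓ B₀ : Subgroup G) ≤
        Nat.card (vQ G ⊓ centralizer (A₁ : Set G) : Subgroup G) :=
      card_le_of_le (le_inf inf_le_left fun v hv => mem_centralizer_iff.2 fun b hb =>
        hAcm b (hA₁ hb) v (mem_inf.1 hv).2.1)
    have h6 : Nat.card (vQ G) * Nat.card B₀ ≤
        Nat.card A₁ * Nat.card B₀ * Nat.card (vQ G ⊓ centralizer (A₁ : Set G) : Subgroup G) := by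
      rw [← h2, ← h3, inf_comm B₀ (vQ G)]
      exact Nat.mul_le_mul h1 h5
    refine Nat.le_of_mul_le_mul_right ?_ (Nat.card_pos (α := B₀))
    rwa [mul_right_comm]
  obtain ⟨A₀, ⟨hA₀, hA₀ne, hA₀V⟩, hmin⟩ := Set.exists_min_image
    {B : Subgroup G | B ≤ A₁ ∧ B ≠ ⊥ ∧
      Nat.card (vQ G) ≤ Nat.card B * Nat.card (vQ G ⊓ centralizer (B : Set G) : Subgroup G)}
    (fun B => Nat.card B) (Set.toFinite _) ⟨A₁, le_rfl, hA₁ne, hbig⟩
  have hA₀A : A₀ ≤ A := hA₀.trans hA₁
  have hA₀Q : A₀ ⊓ Q = ⊥ := le_bot_iff.1 (hA₁Q ▸ inf_le_inf_right _ hA₀)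
  have hA₀el : IsElementaryAbelian 2 A₀ := CfsgLib.PLocal.elemAb_of_le hA.elem hA₀A
  obtain ⟨n, hn⟩ := IsPGroup.iff_card.1 (CfsgLib.PLocal.elemAb_isPGroup hA₀el)
  have hn0 : n ≠ 0 := fun h => hA₀ne (card_eq_one.1 (by rw [hn, h, pow_zero]))
  obtain ⟨a₁, ha₁, ha₁ne⟩ : ∃ a ∈ A₀, a ≠ 1 := by
    by_contra! h; exact hA₀ne ((eq_bot_iff_forall _).2 h)
  have ha₁Q : a₁ ∉ Q := fun h => ha₁ne (by
    have : a₁ ∈ A₀ ⊓ Q := ⟨ha₁, h⟩
    rwa [hA₀Q, mem_bot] at this)
  by_cases hn1 : n = 1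
  · -- a transvection
    apply hS4
    refine involves_four_of_transvection hC (hA2 _ (hA₀A ha₁)) ha₁ne (hKS _ (hA.le (hA₀A ha₁))) ha₁Q ?_
    have hle : vQ G ⊓ centralizer (A₀ : Set G) ≤ vQ G ⊓ centralizer ({a₁} : Set G) :=
      inf_le_inf_left _ (centralizer_le (by simpa using ha₁))
    have h2 := relIndex_mul_card_inf (centralizer ({a₁} : Set G)) (vQ G)
    have h3 : Nat.card (vQ G) ≤ 2 * Nat.card (vQ G ⊓ centralizer ({a₁} : Set G) : Subgroup G) := by
      refine hA₀V.trans ?_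
      rw [hn, hn1, pow_one]
      exact Nat.mul_le_mul_left _ (card_le_of_le hle)
    exact Nat.le_of_mul_le_mul_right (h2.le.trans h3) Nat.card_pos
  -- a larger minimal group
  let π := QuotientGroup.mk' Q
  set F := fittingSubgroup (G ⧸ Q) with hF
  haveI hFn : F.Normal := CfsgLib.Fitting.fitting_normal
  have hFcop : (Nat.card F).Coprime 2 :=
    CfsgLib.FStarCop.coprime_card_fitting CfsgLib.PCore.pCore_quotient_pCore
  set Ab := A₀.map π with hAb
  have hAbcard : Nat.card Ab = Nat.card A₀ :=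
    CfsgLib.Coprime.card_map_of_disjoint π (by rw [QuotientGroup.ker_mk', inf_comm]; exact hA₀Q)
  have hAbne : Ab ≠ ⊥ := fun h => by
    rw [h, Subgroup.card_bot, hn] at hAbcard
    exact hn0 (Nat.pow_eq_one.1 hAbcard.symm |>.resolve_left (by norm_num))
  have hAbel : IsElementaryAbelian 2 Ab := CfsgLib.PLocal.elemAb_map π hA₀el
  have hgen := CfsgLib.Coprime39.eq_hyperCent hAbel hAbne hFcop
    (by rw [normalizer_eq_top F]; exact le_top)
  obtain ⟨Bb, hBbA, hBbi, hBb⟩ : ∃ B : Subgroup (G ⧸ Q), B ≤ Ab ∧ B.relIndex Ab = 2 ∧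
      ¬ F ⊓ centralizer (B : Set (G ⧸ Q)) ≤ centralizer (Ab : Set (G ⧸ Q)) := by
    by_contra! h
    apply hAbne
    have h1 : F ≤ centralizer (Ab : Set (G ⧸ Q)) :=
      hgen.ge.trans (iSup_le fun B => h B.1 B.2.1 B.2.2)
    have h2 : Ab ≤ F := (le_centralizer_iff.1 h1).trans CfsgLib.Fitting.centralizer_fitting_le
    exact CfsgLib.PCore.eq_bot_of_isPGroup_coprime (p := 2) (CfsgLib.PLocal.elemAb_isPGroup hAbel)
      (hFcop.coprime_dvd_left (card_dvd_of_le h2))
  set B := A₀ ⊓ Bb.comap π with hB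
  have hBmap : B.map π = Bb := by
    refine le_antisymm ?_ fun x hx => ?_
    · exact map_le_iff_le_comap.2 inf_le_right
    · obtain ⟨a, ha, rfl⟩ := hBbA hx
      exact ⟨a, ⟨ha, hx⟩, rfl⟩
  have hBcard : 2 * Nat.card B = Nat.card A₀ := by
    have h1 : Nat.card Bb = Nat.card B := by
      rw [← hBmap]
      exact CfsgLib.Coprime.card_map_of_disjoint π (by
        rw [QuotientGroup.ker_mk', inf_comm]; exact le_bot_iff.1 (hA₀Q ▸ inf_le_inf_right _ inf_le_left))
    have h2 := relIndex_mul_card_inf Bb Ab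
    rw [hBbi, inf_eq_right.2 hBbA, h1, hAbcard] at h2
    exact h2
  have hn2 : 4 ≤ Nat.card A₀ := by
    rw [hn]
    calc 4 = 2 ^ 2 := rfl
      _ ≤ 2 ^ n := Nat.pow_le_pow_right two_pos (by omega)
  have hBne : B ≠ ⊥ := fun h => by rw [h, Subgroup.card_bot] at hBcard; omega
  have hBA : B ≤ A := inf_le_left.trans hA₀A
  set U := vQ G ⊓ centralizer (B : Set G) with hU
  have hUA : U = vQ G ⊓ centralizer (A₀ : Set G) := by
    refine (eq_of_le_of_card_ge (inf_le_inf_left _ (centralizer_le inf_le_left)) ?_).symm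
    have h1 : Nat.card B * Nat.card U < Nat.card (vQ G) := by
      by_contra! hle
      have := hmin B ⟨inf_le_left.trans hA₀, hBne, hle⟩
      omega
    have hVp : IsPGroup 2 (vQ G) := CfsgLib.PCore.pCore_isPGroup.to_le vQ_le
    have hUp : IsPGroup 2 U := hVp.to_le inf_le_left
    have hBp : IsPGroup 2 B := CfsgLib.PLocal.elemAb_isPGroup (CfsgLib.PLocal.elemAb_of_le hA.elem hBA)
    obtain ⟨v, hv⟩ := IsPGroup.iff_card.1 hVp
    obtain ⟨u, hu⟩ := IsPGroup.iff_card.1 hUp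
    obtain ⟨b, hb⟩ := IsPGroup.iff_card.1 hBp
    have h2 : 2 * (Nat.card B * Nat.card U) ≤ Nat.card (vQ G) := by
      rw [hv, hu, hb, ← pow_add] at h1 ⊢
      rw [← pow_succ']
      exact Nat.pow_le_pow_right two_pos ((Nat.pow_lt_pow_iff_right (by norm_num)).1 h1)
    refine Nat.le_of_mul_le_mul_left ?_ (show 0 < Nat.card A₀ from Nat.card_pos)
    calc Nat.card A₀ * Nat.card U = 2 * (Nat.card B * Nat.card U) := by rw [← hBcard, mul_assoc]
      _ ≤ _ := h2.trans hA₀V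
  obtain ⟨yb, ⟨hybF, hybB⟩, hyba⟩ := SetLike.not_le_iff_exists.1 hBb
  obtain ⟨y, rfl⟩ := QuotientGroup.mk'_surjective Q yb
  obtain ⟨a, ha, hane⟩ : ∃ a ∈ A₀, π a * π y ≠ π y * π a := by
    by_contra! h
    apply hyba
    rw [mem_centralizer_iff]
    rintro _ ⟨a, ha, rfl⟩
    exact h a ha
  set c := a * y * a⁻¹ * y⁻¹ with hc
  have hcF : π c ∈ F := by
    rw [hc, map_mul, map_mul, map_mul, map_inv, map_inv]
    exact mul_mem (hFn.conj_mem _ hybF _) (inv_mem hybF)
  obtain ⟨k, hkodd, -⟩ := exists_odd_power c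
  set c' := c ^ 2 ^ k with hc'
  have hπne : π c' ≠ 1 := by
    intro h
    rw [hc', map_pow] at h
    have h1 : π c = 1 := by
      rw [← orderOf_eq_one_iff]
      refine Nat.eq_one_of_dvd_coprimes ?_ (orderOf_dvd_of_pow_eq_one h)
        (Subgroup.orderOf_dvd_natCard F hcF)
      exact (hFcop.pow_right k).symm
    rw [hc, map_mul, map_mul, map_mul, map_inv, map_inv, mul_inv_eq_one, mul_inv_eq_iff_eq_mul] at h1
    exact hane h1
  apply hπne
  suffices c' = 1 by rw [this, map_one]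
  have haK : Triv a := hKS a (hA.le (hA₀A ha))
  have hcK : Triv c := by
    have e : c = a * (y * a⁻¹ * y⁻¹) := by rw [hc]; group
    rw [e]; exact haK.mul (haK.inv.conj y)
  refine eq_one_of_odd hC hkodd (hcK.pow _) fun v hv hv2 => ?_
  have hcB : ∀ b ∈ B, π c' * π b = π b * π c' := by
    intro b hb
    have h1 : Commute (π y) (π b) :=
      (mem_centralizer_iff.1 hybB (π b) (hBmap ▸ mem_map_of_mem π hb)).symm
    have h2 : Commute (π a) (π b) :=
      (show Commute a b from hAcm a (hA₀A ha) b (hBA hb)).map π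
    have h3 : Commute (π c) (π b) := by
      rw [hc, map_mul, map_mul, map_mul, map_inv, map_inv]
      exact ((h2.mul_left h1).mul_left h2.inv_left).mul_left h1.inv_left
    rw [hc', map_pow]
    exact h3.pow_left _
  -- `c` centralizes `U`
  have hUy : ∀ u ∈ U, y⁻¹ * u * y ∈ U := by
    intro u hu
    refine ⟨hVn.conj_mem' u hu.1 y, mem_centralizer_iff.2 fun b hb => ?_⟩
    have hbq : b⁻¹ * (y * b * y⁻¹) ∈ Q := by
      rw [← QuotientGroup.eq_one_iff]
      show π (b⁻¹ * (y * b * y⁻¹)) = 1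
      rw [map_mul, map_mul, map_mul, map_inv, map_inv,
        show π y * π b = π b * π y from
          (mem_centralizer_iff.1 hybB (π b) (hBmap ▸ mem_map_of_mem π hb)).symm,
        mul_inv_cancel_right, inv_mul_cancel]
    have h1 : Commute (y * b * y⁻¹) u := by
      have e : y * b * y⁻¹ = b * (b⁻¹ * (y * b * y⁻¹)) := by group
      rw [e]
      exact Commute.mul_left (mem_centralizer_iff.1 hu.2 b hb) (commute_vQ_of_mem hbq hu.1)
    calc b * (y⁻¹ * u * y) = y⁻¹ * ((y * b * y⁻¹) * u) * y := by group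
      _ = y⁻¹ * (u * (y * b * y⁻¹)) * y := by rw [h1.eq]
      _ = y⁻¹ * u * y * b := by group
  have hafix : ∀ u ∈ U, a * u = u * a := fun u hu => by
    rw [hUA] at hu; exact mem_centralizer_iff.1 hu.2 a ha
  have hcU : ∀ u ∈ U, c' * u = u * c' := by
    intro u hu
    refine (Commute.pow_left ?_ _).eq
    have h1 : Commute (y * a⁻¹ * y⁻¹) u := by
      have h2 : Commute a⁻¹ (y⁻¹ * u * y) := (show Commute a _ from hafix _ (hUy u hu)).inv_left
      have h3 := h2.map (MulAut.conj y).toMonoidHom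
      have e : (MulAut.conj y).toMonoidHom (y⁻¹ * u * y) = u := by simp [mul_assoc]
      rw [e] at h3
      exact h3
    have e : c = a * (y * a⁻¹ * y⁻¹) := by rw [hc]; group
    rw [e]
    exact Commute.mul_left (hafix u hu) h1
  -- the displacements of `c'`
  let f : vQ G →* G := MonoidHom.mk' (fun w => c' * w * c'⁻¹ * (w : G)⁻¹) (by
    rintro ⟨w, hw⟩ ⟨w', hw'⟩
    show c' * (w * w') * c'⁻¹ * (w * w')⁻¹ = c' * w * c'⁻¹ * w⁻¹ * (c' * w' * c'⁻¹ * w'⁻¹)
    have h1 := zQ_comm (mul_mem (hVn.conj_mem w' hw' c') (inv_mem hw')).1 (inv_mem hw).1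
    calc c' * (w * w') * c'⁻¹ * (w * w')⁻¹
        = c' * w * c'⁻¹ * ((c' * w' * c'⁻¹ * w'⁻¹) * w⁻¹) := by group
      _ = c' * w * c'⁻¹ * (w⁻¹ * (c' * w' * c'⁻¹ * w'⁻¹)) := by rw [h1]
      _ = _ := by group)
  have hWV : f.range ≤ vQ G := by
    rintro _ ⟨⟨w, hw⟩, rfl⟩
    exact mul_mem (hVn.conj_mem w hw c') (inv_mem hw)
  have hBW : B ≤ normalizer (f.range : Set G) := by
    intro b hb
    refine CfsgLib.Techniques.map_conj_eq_self_iff.1
      (eq_of_le_of_card_ge ?_ (CfsgLib.Techniques.card_map_conj _ _).ge)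
    rintro _ ⟨_, ⟨⟨w, hw⟩, rfl⟩, rfl⟩
    refine ⟨⟨b * w * b⁻¹, hVn.conj_mem w hw b⟩, ?_⟩
    show c' * (b * w * b⁻¹) * c'⁻¹ * (b * w * b⁻¹)⁻¹ = b * (c' * w * c'⁻¹ * w⁻¹) * b⁻¹
    set q := c'⁻¹ * b⁻¹ * c' * b with hq
    have hqQ : q ∈ Q := by
      rw [← QuotientGroup.eq_one_iff]
      show π q = 1
      rw [hq, map_mul, map_mul, map_mul, map_inv, map_inv, mul_assoc, hcB b hb]
      group
    have e : c' * b = b * c' * q := by rw [hq]; group
    calc c' * (b * w * b⁻¹) * c'⁻¹ * (b * w * b⁻¹)⁻¹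
        = (c' * b) * w * (c' * b)⁻¹ * (b * w⁻¹ * b⁻¹) := by group
      _ = b * c' * (q * w * q⁻¹) * c'⁻¹ * b⁻¹ * (b * w⁻¹ * b⁻¹) := by rw [e]; group
      _ = b * c' * w * c'⁻¹ * b⁻¹ * (b * w⁻¹ * b⁻¹) := by
          rw [commute_vQ_of_mem hqQ hw, mul_inv_cancel_right]
      _ = _ := by group
  by_contra hv'
  have hWne : f.range ≠ ⊥ := by
    intro h
    apply hv'
    have h1 : f ⟨v, hv, hv2⟩ = 1 := by
      have : f ⟨v, hv, hv2⟩ ∈ f.range := ⟨_, rfl⟩
      rwa [h, mem_bot] at this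
    change c' * v * c'⁻¹ * v⁻¹ = 1 at h1
    exact mul_inv_eq_iff_eq_mul.1 (mul_inv_eq_one.1 h1)
  have hBp : IsPGroup 2 B := CfsgLib.PLocal.elemAb_isPGroup (CfsgLib.PLocal.elemAb_of_le hA.elem hBA)
  let act : MulAction B f.range :=
    { smul := fun b w => ⟨b.1 * w.1 * b.1⁻¹, (mem_normalizer_iff.1 (hBW b.2) _).1 w.2⟩
      one_smul := fun w => Subtype.ext (by show (1 : G) * w.1 * (1 : G)⁻¹ = w.1; simp)
      mul_smul := fun b b' w => Subtype.ext (by
        show (b.1 * b'.1) * w.1 * (b.1 * b'.1)⁻¹ = b.1 * (b'.1 * w.1 * b'.1⁻¹) * b.1⁻¹; group) }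
  have hWp : IsPGroup 2 f.range := CfsgLib.PCore.pCore_isPGroup.to_le (hWV.trans vQ_le)
  have h2W : 2 ∣ Nat.card f.range := by
    haveI := (f.range).nontrivial_iff_ne_bot.2 hWne
    obtain ⟨j, hj0, hj⟩ := hWp.nontrivial_iff_card.1 inferInstance
    rw [hj]; exact dvd_pow_self 2 (by omega)
  obtain ⟨w, hw, hwne⟩ := hBp.exists_fixed_point_of_prime_dvd_card_of_fixed_point f.range h2W
    (a := (1 : f.range)) (fun b => Subtype.ext (by show b.1 * (1 : G) * b.1⁻¹ = 1; simp))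
  have hwU : (w : G) ∈ U := ⟨hWV w.2, mem_centralizer_iff.2 fun b hb =>
    mul_inv_eq_iff_eq_mul.1 (congrArg Subtype.val (hw ⟨b, hb⟩))⟩
  obtain ⟨⟨w₀, hw₀⟩, hw₀'⟩ := w.2
  change c' * w₀ * c'⁻¹ * w₀⁻¹ = (w : G) at hw₀'
  have h1 : c' * (c' * w₀ * c'⁻¹ * w₀⁻¹) = c' * w₀ * c'⁻¹ * w₀⁻¹ * c' := by
    rw [hw₀']; exact hcU _ hwU
  have h2 := commute_of_displacement hkodd h1
    ⟨1, by rw [pow_one, hw₀']; exact (hWV w.2).2⟩
  apply hwne
  refine Subtype.ext ?_
  rw [OneMemClass.coe_one, ← hw₀', h2]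
  group

end CfsgLib.Techniques.JeTwo

namespace CfsgLib.Techniques.JeTwo

open Cfsg Subgroup

variable {G : Type*} [Group G] [Finite G]

/-- A normal Thompson subgroup modulo a normal subgroup of odd order gives a factorization. -/
theorem sup_normalizer_eq_top_of_quotient (O : Subgroup G) [O.Normal] (hO : (Nat.card O).Coprime 2)
    (S : Sylow 2 G)
    (hJ : (CfsgLib.PLocal.thompson 2 ((S : Subgroup G).map (QuotientGroup.mk' O))).Normal) :
    normalizer (CfsgLib.PLocal.thompson 2 (S : Subgroup G) : Set G) ⊔ O = ⊤ := by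
  set J := CfsgLib.PLocal.thompson 2 (S : Subgroup G) with hJdef
  set π := QuotientGroup.mk' O with hπ
  have hJS : J ≤ (S : Subgroup G) := CfsgLib.PLocal.thompson_le _ _
  have hinj : Function.Injective (π.comp (S : Subgroup G).subtype) := by
    rw [injective_iff_map_eq_one]
    intro s hs
    have hsO : (s : G) ∈ O := (QuotientGroup.eq_one_iff _).1 hs
    obtain ⟨k, hk⟩ := IsPGroup.iff_orderOf.1 S.2 s
    rw [← orderOf_eq_one_iff]
    exact Nat.eq_one_of_dvd_coprimes (Nat.Coprime.pow_left k (Nat.coprime_comm.1 hO)) (hk ▸ dvd_rfl)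
      (by rw [← Subgroup.orderOf_coe]; exact Subgroup.orderOf_dvd_natCard O hsO)
  have himg : CfsgLib.PLocal.thompson 2 ((S : Subgroup G).map π) = J.map π := by
    have h1 := CfsgLib.PLocal.thompson_map (e := 2) hinj (⊤ : Subgroup (S : Subgroup G))
    have h2 := CfsgLib.PLocal.thompson_map (e := 2) (S : Subgroup G).subtype_injective
      (⊤ : Subgroup (S : Subgroup G))
    rw [← MonoidHom.range_eq_map, range_subtype] at h2
    rw [← MonoidHom.range_eq_map, MonoidHom.range_comp, range_subtype, ← Subgroup.map_map, ← h2] at h1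
    exact h1
  rw [himg] at hJ
  set X := J ⊔ O with hX
  have hXn : X.Normal := by
    have : X = (J.map π).comap π := by rw [comap_map_eq, hπ, QuotientGroup.ker_mk']
    rw [this]; exact hJ.comap π
  have hJi : ¬ 2 ∣ J.relIndex X := by
    intro hd
    have h1 := relIndex_mul_relIndex ⊥ J X bot_le le_sup_left
    rw [relIndex_bot_left, relIndex_bot_left] at h1
    have h2 : Nat.card J * J.relIndex X ∣ Nat.card J * Nat.card O := by
      rw [h1, hX]
      exact CfsgLib.Coprime.card_sup_dvd (by rw [normalizer_eq_top O]; exact le_top)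
    have h3 := hd.trans (Nat.dvd_of_mul_dvd_mul_left Nat.card_pos h2)
    exact absurd (Nat.eq_one_of_dvd_coprimes hO h3 dvd_rfl) (by norm_num)
  refine top_le_iff.1 fun g _ => ?_
  obtain ⟨x, hx, hle⟩ := CfsgLib.Techniques.exists_conj_le_sylow_of (S := J) (X := X)
    (A := J.map (MulAut.conj g).toMonoidHom)
    (by rintro _ ⟨j, hj, rfl⟩; exact hXn.conj_mem j (mem_sup_left hj) g)
    (CfsgLib.Techniques.isPGroup_map_conj (S.2.to_le hJS) g) le_sup_left (S.2.to_le hJS) hJi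
  rw [← CfsgLib.Techniques.map_conj_mul] at hle
  have hxg : x * g ∈ normalizer (J : Set G) := CfsgLib.Techniques.map_conj_eq_self_iff.1
    (eq_of_le_of_card_ge hle (CfsgLib.Techniques.card_map_conj _ _).ge)
  have hx' : x ∈ normalizer (J : Set G) ⊔ O := sup_le_sup_right le_normalizer O hx
  have := mul_mem (inv_mem hx') (mem_sup_left (T := O) hxg)
  rwa [inv_mul_cancel_left] at this

/-- `S₄`-free solvable groups with Sylow 2-subgroups of class at most two factor by `J_e`. -/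
theorem sup_normalizer_thompson [Group.IsSolvable G] (hS4 : ¬ Involves (Equiv.Perm (Fin 4)) G)
    (S : Sylow 2 G) (hcl : Subgroup.lowerCentralSeries (S : Subgroup G) 2 = ⊥) :
    normalizer (CfsgLib.PLocal.thompson 2 (S : Subgroup G) : Set G) ⊔ pPrimeCore 2 G = ⊤ := by
  haveI := pPrimeCore_normal 2 G
  set O := pPrimeCore 2 G with hOdef
  refine sup_normalizer_eq_top_of_quotient O CfsgLib.PCore.pPrimeCore_coprime S ?_
  set Sb : Sylow 2 (G ⧸ O) := S.mapSurjective (QuotientGroup.mk'_surjective O) with hSb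
  have hSbeq : (Sb : Subgroup (G ⧸ O)) = (S : Subgroup G).map (QuotientGroup.mk' O) := rfl
  rw [← hSbeq]
  have hC : centralizer (pCore 2 (G ⧸ O) : Set (G ⧸ O)) ≤ pCore 2 (G ⧸ O) :=
    CfsgLib.InvChar.centralizer_pCore_le CfsgLib.PCore.pPrimeCore_quotient_pPrimeCore
  have hS4' : ¬ Involves (Equiv.Perm (Fin 4)) (G ⧸ O) := fun h =>
    hS4 (CfsgLib.LocalEven.Involved.involves_of_surjective _ (QuotientGroup.mk'_surjective O) h)
  have hcl' : ∀ a ∈ (Sb : Subgroup (G ⧸ O)), ∀ b ∈ (Sb : Subgroup (G ⧸ O)),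
      ∀ c ∈ (Sb : Subgroup (G ⧸ O)), ⁅a, b⁆ * c = c * ⁅a, b⁆ := by
    rw [hSbeq]
    rintro _ ⟨a, ha, rfl⟩ _ ⟨b, hb, rfl⟩ _ ⟨c, hc, rfl⟩
    rw [← map_commutatorElement, ← map_mul, ← map_mul]
    congr 1
    have h1 : ⁅⁅a, b⁆, c⁆ ∈ Subgroup.lowerCentralSeries (S : Subgroup G) 2 :=
      commutator_mem_commutator (commutator_mem_commutator ha hb) hc
    rw [hcl, mem_bot, commutatorElement_eq_one_iff_mul_comm] at h1
    exact h1
  have hle : CfsgLib.PLocal.thompson 2 (Sb : Subgroup (G ⧸ O)) ≤ pCore 2 (G ⧸ O) :=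
    CfsgLib.PLocal.thompson_le_iff.2 fun A hA => le_pCore_of_isMaxElemIn hS4' hC Sb hcl' hA
  have hQS := CfsgLib.PCore.pCore_le_sylow Sb
  rw [← CfsgLib.PLocal.thompson_eq_of_le hQS hle]
  refine normalizer_eq_top_iff.1 (top_le_iff.1 ?_)
  have hQn : (pCore 2 (G ⧸ O)).Normal := pCore_normal 2 _
  exact (normalizer_eq_top (pCore 2 (G ⧸ O))).ge.trans
    (CfsgLib.PLocal.normalizer_le_normalizer_thompson _ _)

end CfsgLib.Techniques.JeTwo
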