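import Cfsg.Agent.Lib.Techniques.Basic
import Cfsg.Prelude.Def_ConjugacyFunctors
import Mathlib.GroupTheory.Nilpotent

/-!
Conjugation families as an induction principle: a property of conjugations between subgroups of a
Sylow `p`-subgroup which is closed under restriction and composition holds for all of them as soon as
it holds for the normalizers of a family containing fully normalized conjugates of all subgroups.
-/

set_option autoImplicit false

namespace CfsgLib.Techniques.Fusion

open Cfsg Subgroup CfsgLib.Techniques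

variable {G : Type*} [Group G] {p : ℕ}

/-- `U` is a subgroup of `S` whose normalizer in `S` is a Sylow `p`-subgroup of its normalizer. -/
def IsFN (p : ℕ) (S U : Subgroup G) : Prop :=
  U ≤ S ∧ ¬ p ∣ (S ⊓ normalizer (U : Set G)).relIndex (normalizer (U : Set G))

/-- A property of conjugations inside `S` closed under restriction and composition. -/
structure IsFusionClosed (S : Subgroup G) (P : Subgroup G → G → Prop) : Prop where
  mono : ∀ {D D' : Subgroup G} {h : G}, D ≤ D' → P D' h → P D h
  comp : ∀ {D : Subgroup G} {h h' : G}, D ≤ S → D.map (MulAut.conj h).toMonoidHom ≤ S →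
    P D h → P (D.map (MulAut.conj h).toMonoidHom) h' → P D (h' * h)

/-- `P` holds for all conjugations into `S` of subgroups of `S` of order more than `k`. -/
def HoldsAbove (S : Subgroup G) (P : Subgroup G → G → Prop) (k : ℕ) : Prop :=
  ∀ (D : Subgroup G) (h : G), k < Nat.card D → D ≤ S → D.map (MulAut.conj h).toMonoidHom ≤ S → P D h

set_option linter.unusedSectionVars false

variable [Finite G] [Fact p.Prime]

theorem card_lt_of_lt {A B : Subgroup G} (h : A < B) : Nat.card A < Nat.card B := by
  by_contra hc
  exact h.ne (eq_of_le_of_card_ge h.le (not_lt.1 hc))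

/-- Normalizers grow in finite `p`-groups, ambient form. -/
theorem lt_inf_normalizer {H S : Subgroup G} (hS : IsPGroup p S) (h : H < S) :
    H < S ⊓ normalizer (H : Set G) := by
  have : Group.IsNilpotent S := hS.isNilpotent
  have h1 : H.subgroupOf S < ⊤ := lt_top_iff_ne_top.2 fun e => h.not_ge (subgroupOf_eq_top.1 e)
  have h2 := Group.normalizerCondition_of_isNilpotent (H.subgroupOf S) h1
  refine lt_of_le_of_ne (le_inf h.le le_normalizer) fun e => h2.not_ge fun x hx => ?_
  have hx' : (x : G) ∈ normalizer (H : Set G) := by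
    rw [mem_normalizer_iff] at hx ⊢
    intro y
    constructor
    · intro hy
      exact (hx ⟨y, h.le hy⟩).1 hy
    · intro hy
      have hy' : y ∈ S := by
        have := S.mul_mem (S.mul_mem (S.inv_mem x.2) (h.le hy)) x.2
        simpa [mul_assoc] using this
      exact (hx ⟨y, hy'⟩).2 hy
  have : (x : G) ∈ S ⊓ normalizer (H : Set G) := ⟨x.2, hx'⟩
  rw [← e] at this
  exact this

theorem card_lt_card_inf_normalizer {H S : Subgroup G} (hS : IsPGroup p S) (hle : H ≤ S)
    (hne : H ≠ S) : Nat.card H < Nat.card (S ⊓ normalizer (H : Set G) : Subgroup G) :=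
  card_lt_of_lt (lt_inf_normalizer hS (lt_of_le_of_ne hle hne))

theorem map_conj_le_iff {A B : Subgroup G} {g : G} :
    A.map (MulAut.conj g).toMonoidHom ≤ B ↔ ∀ a ∈ A, g * a * g⁻¹ ∈ B :=
  ⟨fun h _ ha => h (conj_mem_map_conj g ha), fun h _ hy => by
    obtain ⟨a, ha, rfl⟩ := hy; exact h a ha⟩

theorem map_conj_inv_cancel (D : Subgroup G) (g : G) :
    (D.map (MulAut.conj g).toMonoidHom).map (MulAut.conj g⁻¹).toMonoidHom = D := by
  rw [← map_conj_mul, inv_mul_cancel, map_conj_one]

theorem map_conj_normalizer_le (U : Subgroup G) (g : G) :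
    (normalizer (U : Set G)).map (MulAut.conj g).toMonoidHom ≤
      normalizer ((U.map (MulAut.conj g).toMonoidHom : Subgroup G) : Set G) :=
  Subgroup.le_normalizer_map _

/-- If `N_S(U)` is Sylow in `N(U)`, any conjugate `T ≤ S` of `U` is carried to `U` by an element
taking `N_S(T)` into `N_S(U)`. -/
theorem exists_conj_into {S T U : Subgroup G} (hS : IsPGroup p S) (hU : IsFN p S U) {g : G}
    (hg : T.map (MulAut.conj g).toMonoidHom = U) :
    ∃ h : G, T.map (MulAut.conj h).toMonoidHom = U ∧
      (S ⊓ normalizer (T : Set G)).map (MulAut.conj h).toMonoidHom ≤ S ⊓ normalizer (U : Set G) := by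
  set R := S ⊓ normalizer (T : Set G)
  have h1 : R.map (MulAut.conj g).toMonoidHom ≤ normalizer (U : Set G) := by
    rw [← hg]
    exact (Subgroup.map_mono inf_le_right).trans (map_conj_normalizer_le T g)
  have hR : IsPGroup p (R.map (MulAut.conj g).toMonoidHom) :=
    isPGroup_map_conj (hS.to_le inf_le_left) g
  obtain ⟨x, hx, hle⟩ := exists_conj_le_sylow_of (S := S ⊓ normalizer (U : Set G)) h1 hR inf_le_right
    (hS.to_le inf_le_left) hU.2
  refine ⟨x * g, ?_, by rwa [map_conj_mul]⟩
  rw [map_conj_mul, hg, map_conj_eq_self_iff.2 hx]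

theorem inf_normalizer_sylow (S : Sylow p G) :
    (S : Subgroup G) ⊓ normalizer ((S : Subgroup G) : Set G) = S :=
  inf_eq_left.2 le_normalizer

theorem isFN_sylow (S : Sylow p G) : IsFN p (S : Subgroup G) (S : Subgroup G) := by
  refine ⟨le_rfl, ?_⟩
  rw [inf_normalizer_sylow]
  exact not_dvd_relIndex_sylow S le_normalizer

/-- Every `p`-subgroup has a fully normalized conjugate in `S`, reached by an element carrying a
given `p`-subgroup of its normalizer into `S`. -/
theorem exists_isFN_conj (S : Sylow p G) {T : Subgroup G} (hT : IsPGroup p T) :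
    ∃ g : G, IsFN p (S : Subgroup G) (T.map (MulAut.conj g).toMonoidHom) := by
  obtain ⟨R, hR⟩ := (hT.of_equiv (subgroupOfEquivOfLe (le_normalizer (H := T))).symm).exists_le_sylow
  have hR' : IsPGroup p ((R : Subgroup _).map (normalizer (T : Set G)).subtype) := R.2.map _
  obtain ⟨Q, hQ⟩ := hR'.exists_le_sylow
  obtain ⟨g, hg⟩ := MulAction.exists_smul_eq G Q S
  refine ⟨g, ?_, ?_⟩
  · have hTQ : T ≤ (Q : Subgroup G) := fun t ht => hQ ⟨⟨t, le_normalizer ht⟩, hR ht, rfl⟩
    refine (Subgroup.map_mono hTQ).trans ?_
    rw [← hg, Sylow.coe_subgroup_smul, Subgroup.pointwise_smul_def]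
    rfl
  · have hN : normalizer ((T.map (MulAut.conj g).toMonoidHom : Subgroup G) : Set G) =
        (normalizer (T : Set G)).map (MulAut.conj g).toMonoidHom :=
      (Subgroup.map_equiv_normalizer_eq T (MulAut.conj g)).symm
    have hS : (S : Subgroup G) = (Q : Subgroup G).map (MulAut.conj g).toMonoidHom := by
      rw [← hg, Sylow.coe_subgroup_smul, Subgroup.pointwise_smul_def]
      rfl
    rw [hN, hS, ← Subgroup.map_inf _ _ _ (MulAut.conj g).injective,
      relIndex_map_map_of_injective _ _ (MulAut.conj g).injective]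
    intro hd
    apply R.not_dvd_index
    have hle : (R : Subgroup _).map (normalizer (T : Set G)).subtype ≤
        (Q : Subgroup G) ⊓ normalizer (T : Set G) := le_inf hQ (map_subtype_le _)
    have := hd.trans (relIndex_dvd_of_le_left (normalizer (T : Set G)) hle)
    rwa [relIndex, subgroupOf,
      comap_map_eq_self_of_injective (normalizer (T : Set G)).subtype_injective] at this

/-- The induction principle of conjugation families, above a given order. -/
theorem holdsAbove_of_family (S : Sylow p G) {P : Subgroup G → G → Prop}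
    (hP : IsFusionClosed (S : Subgroup G) P) (𝓕 : Set (Subgroup G)) (k : ℕ)
    (hF : ∀ T : Subgroup G, T ≤ (S : Subgroup G) → k < Nat.card T →
      ∃ U ∈ 𝓕, (∃ g : G, T.map (MulAut.conj g).toMonoidHom = U) ∧ IsFN p (S : Subgroup G) U)
    (hstep : ∀ U ∈ 𝓕, k < Nat.card U → IsFN p (S : Subgroup G) U →
      ∀ x ∈ normalizer (U : Set G), P U x) :
    HoldsAbove (S : Subgroup G) P k := by
  suffices H : ∀ (m : ℕ) (D : Subgroup G) (h : G), Nat.card (S : Subgroup G) - Nat.card D < m →
      k < Nat.card D → D ≤ S → D.map (MulAut.conj h).toMonoidHom ≤ S → P D h from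
    fun D h hk hD hh => H _ D h (Nat.lt_succ_self _) hk hD hh
  intro m
  induction m with
  | zero => intro D h hlt; omega
  | succ m ih =>
    intro D h hlt hk hD hh
    set D' := D.map (MulAut.conj h).toMonoidHom with hD'
    have hcard : Nat.card D' = Nat.card D := card_map_conj D h
    obtain ⟨U, hUF, ⟨g, hg⟩, hU⟩ := hF D hD hk
    have hcU : Nat.card U = Nat.card D := by rw [← hg, card_map_conj]
    by_cases hDS : D = S
    · have hUS : U = D := eq_of_le_of_card_ge (hDS ▸ hU.1) hcU.ge
      have hDD : D' = D := eq_of_le_of_card_ge (hDS ▸ hh) hcard.ge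
      rw [← hUS]
      exact hstep U hUF (hcU ▸ hk) hU h (hUS ▸ map_conj_eq_self_iff.1 hDD)
    have hD'S : D' ≠ S := fun e => hDS (eq_of_le_of_card_ge hD (by rw [← hcard, e]))
    have hg' : D'.map (MulAut.conj (g * h⁻¹)).toMonoidHom = U := by
      rw [hD', ← map_conj_mul, inv_mul_cancel_right, hg]
    obtain ⟨a, ha, ha'⟩ := exists_conj_into S.2 hU hg
    obtain ⟨b, hb, hb'⟩ := exists_conj_into S.2 hU hg'
    set R := (S : Subgroup G) ⊓ normalizer (D : Set G) with hR
    set R' := (S : Subgroup G) ⊓ normalizer (D' : Set G) with hR'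
    have hlt1 : Nat.card D < Nat.card R := card_lt_card_inf_normalizer S.2 hD hDS
    have hlt2 : Nat.card D' < Nat.card R' := card_lt_card_inf_normalizer S.2 hh hD'S
    have hle1 : Nat.card R ≤ Nat.card (S : Subgroup G) := card_le_of_le inf_le_left
    have hle2 : Nat.card R' ≤ Nat.card (S : Subgroup G) := card_le_of_le inf_le_left
    have p1 : P D a := hP.mono (le_inf hD le_normalizer)
      (ih R a (by omega) (by omega) inf_le_left (ha'.trans inf_le_left))
    have p2 : P U b⁻¹ := by
      have hcR : Nat.card (R'.map (MulAut.conj b).toMonoidHom) = Nat.card R' := card_map_conj _ _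
      refine hP.mono (D' := R'.map (MulAut.conj b).toMonoidHom) ?_ (ih _ _ (by omega) (by omega)
        (hb'.trans inf_le_left) ?_)
      · rw [← hb]; exact Subgroup.map_mono (le_inf hh le_normalizer)
      · rw [map_conj_inv_cancel]; exact inf_le_left
    have hx : b * h * a⁻¹ ∈ normalizer (U : Set G) := by
      rw [← map_conj_eq_self_iff, map_conj_mul, ← ha, map_conj_inv_cancel, map_conj_mul, ← hD', hb, ha]
    have pU : P U (b * h * a⁻¹) := hstep U hUF (hcU ▸ hk) hU _ hx
    have e : h = b⁻¹ * ((b * h * a⁻¹) * a) := by group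
    rw [e]
    refine hP.comp hD ?_ (hP.comp hD (ha.le.trans hU.1) p1 (by rwa [ha])) ?_
    · rw [map_conj_mul, ha, map_conj_eq_self_iff.2 hx]; exact hU.1
    · rwa [map_conj_mul, ha, map_conj_eq_self_iff.2 hx]

end CfsgLib.Techniques.Fusion
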