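import Cfsg.Prelude.Def_ConjugacyFunctors
import Mathlib.GroupTheory.PGroup
import Mathlib.GroupTheory.Nilpotent
import Mathlib.GroupTheory.GroupAction.ConjAct

/-! Elementary properties of the K-sequence and the two K-infinity subgroups. -/

set_option autoImplicit false

namespace CfsgLib.Techniques.KInf

open Cfsg
open scoped Pointwise commutatorElement

variable {P : Type*} [Group P]

theorem mem_classTwo {B : Subgroup P} :
    B ∈ classTwoSubgroups P ↔ ⁅B, B⁆ ≤ Subgroup.centralizer (B : Set P) := Iff.rfl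

theorem kUpperStar_anti {Q Q' : Subgroup P} (h : Q ≤ Q') :
    kUpperStarFamily Q' ⊆ kUpperStarFamily Q := fun _ hB =>
  ⟨hB.1, (Subgroup.commutator_mono le_rfl h).trans hB.2⟩

theorem kLowerStar_anti {Q Q' : Subgroup P} (h : Q ≤ Q') :
    kLowerStarFamily Q' ⊆ kLowerStarFamily Q := fun _ hB =>
  ⟨hB.1, h.trans hB.2.1, fun A hA hAQ => hB.2.2 A hA (hAQ.trans h)⟩

theorem kSeqOdd_succ (n : ℕ) :
    kSeqOdd P (n + 1) = sSup (kUpperStarFamily (kSeqEven P n)) := rfl

theorem kSeqOdd_succ_le (n : ℕ) : kSeqOdd P (n + 1) ≤ kSeqOdd P n := by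
  induction n with
  | zero => exact le_top
  | succ k ih =>
      exact sSup_le_sSup (kUpperStar_anti (sSup_le_sSup (kLowerStar_anti ih)))

theorem kSeqEven_le_succ (n : ℕ) : kSeqEven P n ≤ kSeqEven P (n + 1) :=
  sSup_le_sSup (kLowerStar_anti (kSeqOdd_succ_le n))

theorem kSeqOdd_antitone : Antitone (kSeqOdd P) := antitone_nat_of_succ_le kSeqOdd_succ_le

theorem kSeqEven_monotone : Monotone (kSeqEven P) := monotone_nat_of_le_succ kSeqEven_le_succ

theorem kSeq_stabilize [Finite P] :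
    ∃ n : ℕ, ∀ m : ℕ, n ≤ m → kSeqEven P m = kInfLower P ∧ kSeqOdd P m = kInfUpper P := by
  obtain ⟨a, ha⟩ := WellFoundedGT.monotone_chain_condition ⟨kSeqEven P, kSeqEven_monotone⟩
  obtain ⟨b, hb⟩ := WellFoundedGT.monotone_chain_condition
    (α := (Subgroup P)ᵒᵈ) ⟨fun n => OrderDual.toDual (kSeqOdd P n), kSeqOdd_antitone⟩
  refine ⟨max a b, fun m hm => ⟨le_antisymm (le_iSup (kSeqEven P) m) (iSup_le fun k => ?_),
    le_antisymm (le_iInf fun k => ?_) (iInf_le (kSeqOdd P) m)⟩⟩
  · rcases le_total k m with h | h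
    · exact kSeqEven_monotone h
    · exact ((ha k (((le_max_left a b).trans hm).trans h)).symm.trans
        (ha m ((le_max_left a b).trans hm))).le
  · rcases le_total k m with h | h
    · exact kSeqOdd_antitone h
    · exact (OrderDual.toDual.injective ((hb m ((le_max_right a b).trans hm)).symm.trans
        (hb k (((le_max_right a b).trans hm).trans h)))).le

theorem kInfUpper_le_kSeqOdd (n : ℕ) : kInfUpper P ≤ kSeqOdd P n := iInf_le _ n

theorem kSeqEven_le_kInfLower (n : ℕ) : kSeqEven P n ≤ kInfLower P := le_iSup (kSeqEven P) n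

/-! ### Normal abelian subgroups -/

theorem commutator_le_inf_centralizer_of_abelian (A : Subgroup P) [A.Normal]
    (hA : IsMulCommutative A) (Q : Subgroup P) :
    ⁅A, Q⁆ ≤ A ⊓ Subgroup.centralizer (A : Set P) :=
  (Subgroup.commutator_le_left A Q).trans
    (le_inf le_rfl (Subgroup.le_centralizer_iff_isMulCommutative.2 hA))

theorem normal_abelian_mem_classTwo (A : Subgroup P) [A.Normal] (hA : IsMulCommutative A) :
    A ∈ classTwoSubgroups P :=
  (commutator_le_inf_centralizer_of_abelian A hA A).trans inf_le_right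

theorem normal_abelian_mem_upper (A : Subgroup P) [A.Normal] (hA : IsMulCommutative A)
    (Q : Subgroup P) : A ∈ kUpperStarFamily Q :=
  ⟨normal_abelian_mem_classTwo A hA, commutator_le_inf_centralizer_of_abelian A hA Q⟩

theorem normal_abelian_mem_lower (A : Subgroup P) [A.Normal] (hA : IsMulCommutative A)
    (Q : Subgroup P) : A ∈ kLowerStarFamily Q :=
  ⟨normal_abelian_mem_classTwo A hA, by rw [Subgroup.normalizer_eq_top]; exact le_top,
    fun A' _ _ _ _ _ => commutator_le_inf_centralizer_of_abelian A hA A'⟩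

theorem normal_abelian_le_kSeqOdd (A : Subgroup P) [A.Normal] (hA : IsMulCommutative A) :
    ∀ n, A ≤ kSeqOdd P n
  | 0 => le_top
  | _ + 1 => le_sSup (normal_abelian_mem_upper A hA _)

/-! ### Maximal members are self-centralizing -/

/-- A nontrivial normal subgroup of a finite `p`-group meets the centre nontrivially. -/
theorem exists_mem_center [Finite P] {p : ℕ} [Fact p.Prime] (hP : IsPGroup p P) (M : Subgroup P)
    [M.Normal] (hM : M ≠ ⊥) : ∃ z ∈ M, z ∈ Subgroup.center P ∧ z ≠ 1 := by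
  have hA : IsPGroup p (ConjAct P) := hP
  have hdvd : p ∣ Nat.card M := by
    rcases (IsPGroup.iff_card.1 (hP.to_subgroup M)) with ⟨k, hk⟩
    rcases k with - | k
    · exact absurd (Subgroup.card_eq_one.1 (by simpa using hk)) hM
    · rw [hk]; exact dvd_pow_self p k.succ_ne_zero
  have h1 : (1 : M) ∈ MulAction.fixedPoints (ConjAct P) M := fun g => smul_one g
  obtain ⟨b, hb, hb1⟩ := hA.exists_fixed_point_of_prime_dvd_card_of_fixed_point M hdvd h1
  refine ⟨b, b.2, Subgroup.mem_center_iff.2 fun g => ?_, fun h => hb1 (Subtype.ext h.symm)⟩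
  have h2 := congrArg Subtype.val (hb (ConjAct.toConjAct g))
  rw [ConjAct.Subgroup.val_conj_smul, ConjAct.smul_def, ConjAct.ofConjAct_toConjAct] at h2
  exact mul_inv_eq_iff_eq_mul.1 h2

/-- A proper centralizer overgroup of a class two subgroup `B` of a finite `p`-group can be used to
enlarge `B` by an element that is central modulo `B` in the normalizer of `B`. -/
theorem exists_centralizing_central_element [Finite P] {p : ℕ} [Fact p.Prime] (hP : IsPGroup p P)
    (B : Subgroup P) (h : ¬ Subgroup.centralizer (B : Set P) ≤ B) :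
    ∃ x ∈ Subgroup.centralizer (B : Set P), x ∉ B ∧
      ∀ n ∈ Subgroup.normalizer (B : Set P), ⁅x, n⁆ ∈ B := by
  classical
  set N := Subgroup.normalizer (B : Set P) with hNdef
  set C := Subgroup.centralizer (B : Set P) with hCdef
  have hBN : B ≤ N := Subgroup.le_normalizer
  have hCN : C ≤ N := Subgroup.centralizer_le_normalizer _
  have : (B.subgroupOf N).Normal := Subgroup.normal_subgroupOf_iff_le_normalizer hBN |>.2 le_rfl
  set π := QuotientGroup.mk' (B.subgroupOf N) with hπ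
  have hCn : (C.subgroupOf N).Normal := by
    constructor
    intro c hc n
    rw [Subgroup.mem_subgroupOf] at hc ⊢
    rw [hCdef, Subgroup.mem_centralizer_iff] at hc ⊢
    intro b hb
    have h1 : (n : P)⁻¹ * b * n ∈ B :=
      (Subgroup.mem_normalizer_iff''.1 n.2 b).1 hb
    have h2 := hc _ h1
    simp only [Subgroup.coe_mul, Subgroup.coe_inv]
    calc b * ((n : P) * c * (n : P)⁻¹) = n * (((n:P)⁻¹ * b * n) * c) * (n:P)⁻¹ := by group
      _ = n * ((c : P) * ((n:P)⁻¹ * b * n)) * (n:P)⁻¹ := by rw [h2]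
      _ = (n * c * (n:P)⁻¹) * b := by group
  have hQ : IsPGroup p (N ⧸ B.subgroupOf N) := (hP.to_subgroup N).to_quotient _
  set M := (C.subgroupOf N).map π with hM
  have hMn : M.Normal := Subgroup.Normal.map inferInstance π (QuotientGroup.mk'_surjective _)
  have hMne : M ≠ ⊥ := by
    rw [hM, Ne, Subgroup.map_eq_bot_iff, QuotientGroup.ker_mk']
    exact fun hle => h fun c hc => hle (show (⟨c, hCN hc⟩ : N) ∈ C.subgroupOf N from hc)
  obtain ⟨z, hzM, hzc, hz1⟩ := exists_mem_center hQ M hMne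
  obtain ⟨x, hx, rfl⟩ := hzM
  have hxB : (x : P) ∉ B := fun hxB => hz1 ((QuotientGroup.eq_one_iff x).2 hxB)
  refine ⟨x, hx, hxB, fun n hn => ?_⟩
  have h1 : π ⁅x, ⟨n, hn⟩⁆ = 1 := by
    rw [map_commutatorElement, commutatorElement_eq_one_iff_mul_comm]
    exact (Subgroup.mem_center_iff.1 hzc _).symm
  exact (QuotientGroup.eq_one_iff (G := N) _).1 h1

/-- The subgroup `B ⊔ ⟨x⟩` for `x` centralizing `B` and central modulo `B` in its normalizer. -/
theorem extend_facts (B : Subgroup P) (hB : B ∈ classTwoSubgroups P) {x : P}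
    (hx : x ∈ Subgroup.centralizer (B : Set P))
    (hxN : ∀ n ∈ Subgroup.normalizer (B : Set P), ⁅x, n⁆ ∈ B) :
    B ⊔ Subgroup.zpowers x ∈ classTwoSubgroups P ∧
      B ⊓ Subgroup.centralizer (B : Set P) ≤
        (B ⊔ Subgroup.zpowers x) ⊓ Subgroup.centralizer ((B ⊔ Subgroup.zpowers x : Subgroup P) : Set P) ∧
      Subgroup.normalizer (B : Set P) ≤ Subgroup.normalizer ((B ⊔ Subgroup.zpowers x : Subgroup P) : Set P) ∧
      ∀ Q : Subgroup P, Q ≤ Subgroup.normalizer (B : Set P) →
        ⁅B, Q⁆ ≤ B ⊓ Subgroup.centralizer (B : Set P) →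
        ⁅B ⊔ Subgroup.zpowers x, Q⁆ ≤
          (B ⊔ Subgroup.zpowers x) ⊓ Subgroup.centralizer ((B ⊔ Subgroup.zpowers x : Subgroup P) : Set P) := by
  set B' := B ⊔ Subgroup.zpowers x with hB'
  set Z := B ⊓ Subgroup.centralizer (B : Set P) with hZ
  have hxB : Subgroup.zpowers x ≤ Subgroup.centralizer (B : Set P) := Subgroup.zpowers_le.2 hx
  -- the centre of `B` stays central
  have hZB' : Z ≤ B' ⊓ Subgroup.centralizer (B' : Set P) := by
    refine le_inf (inf_le_left.trans le_sup_left) ?_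
    rw [Subgroup.le_centralizer_iff]
    refine sup_le ?_ (hxB.trans (Subgroup.centralizer_le (SetLike.coe_subset_coe.2 inf_le_left)))
    rw [Subgroup.le_centralizer_iff]
    exact inf_le_right
  have hcl : ⁅B', B'⁆ ≤ ⁅B, B⁆ := by
    rw [Subgroup.commutator_le]
    intro u hu v hv
    have key : ∀ w ∈ B', ∃ b ∈ B, ∃ k : ℤ, w = b * x ^ k := by
      intro w hw
      have hsup : (B' : Set P) = (B : Set P) * (Subgroup.zpowers x : Set P) :=
        Subgroup.coe_mul_of_right_le_normalizer_left B _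
          (hxB.trans (Subgroup.centralizer_le_normalizer _))
      rw [← SetLike.mem_coe, hsup] at hw
      obtain ⟨b, hb, y, hy, rfl⟩ := hw
      obtain ⟨k, rfl⟩ := hy
      exact ⟨b, hb, k, rfl⟩
    obtain ⟨b, hb, k, rfl⟩ := key u hu
    obtain ⟨c, hc, l, rfl⟩ := key v hv
    have e1 : Commute (x ^ k) c :=
      ((Subgroup.mem_centralizer_iff.1 (zpow_mem hx k) c hc)).symm
    have e2 : Commute (x ^ l) b :=
      ((Subgroup.mem_centralizer_iff.1 (zpow_mem hx l) b hb)).symm
    have e3 : Commute (x ^ k) (x ^ l) := Commute.zpow_zpow_self x k l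
    have heq : ⁅b * x ^ k, c * x ^ l⁆ = ⁅b, c⁆ := by
      rw [commutatorElement_def, commutatorElement_def]
      calc b * x ^ k * (c * x ^ l) * (b * x ^ k)⁻¹ * (c * x ^ l)⁻¹
          = b * (x ^ k * c) * x ^ l * (x ^ k)⁻¹ * b⁻¹ * (x ^ l)⁻¹ * c⁻¹ := by group
        _ = b * (c * x ^ k) * x ^ l * (x ^ k)⁻¹ * b⁻¹ * (x ^ l)⁻¹ * c⁻¹ := by rw [e1.eq]
        _ = b * c * (x ^ k * x ^ l) * (x ^ k)⁻¹ * b⁻¹ * (x ^ l)⁻¹ * c⁻¹ := by group
        _ = b * c * (x ^ l * x ^ k) * (x ^ k)⁻¹ * b⁻¹ * (x ^ l)⁻¹ * c⁻¹ := by rw [e3.eq]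
        _ = b * c * (x ^ l * b⁻¹) * (x ^ l)⁻¹ * c⁻¹ := by group
        _ = b * c * (b⁻¹ * x ^ l) * (x ^ l)⁻¹ * c⁻¹ := by rw [(e2.inv_right).eq]
        _ = b * c * b⁻¹ * c⁻¹ := by group
    rw [heq]
    exact Subgroup.commutator_mem_commutator hb hc
  have hBZ : ⁅B, B⁆ ≤ Z := le_inf (Subgroup.commutator_le_self B) hB
  refine ⟨hcl.trans (hBZ.trans (hZB'.trans inf_le_right)), hZB', ?_, ?_⟩
  · intro n hn
    rw [Subgroup.mem_normalizer_iff_map_conj_eq, hB', Subgroup.map_sup,
      Subgroup.mem_normalizer_iff_map_conj_eq.1 hn, MonoidHom.map_zpowers]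
    have hxn : (MulAut.conj n : P →* P) x = ⁅x, n⁆⁻¹ * x := by
      simp only [MonoidHom.coe_coe, MulAut.conj_apply, commutatorElement_def]; group
    have hmem : ⁅x, n⁆ ∈ B := hxN n hn
    refine le_antisymm (sup_le le_sup_left (Subgroup.zpowers_le.2 ?_))
      (sup_le le_sup_left (Subgroup.zpowers_le.2 ?_))
    · rw [hxn]
      exact mul_mem (inv_mem (Subgroup.mem_sup_left hmem))
        (Subgroup.mem_sup_right (Subgroup.mem_zpowers x))
    · have h2 : ⁅x, n⁆ * (MulAut.conj n : P →* P) x = x := by rw [hxn]; group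
      have h3 := mul_mem (Subgroup.mem_sup_left (T := Subgroup.zpowers ((MulAut.conj n : P →* P) x)) hmem)
        (Subgroup.mem_sup_right (S := B) (Subgroup.mem_zpowers ((MulAut.conj n : P →* P) x)))
      rwa [h2] at h3
  · intro Q hQ hBQ
    refine le_trans ?_ hZB'
    rw [Subgroup.commutator_le]
    -- the set of `w ∈ B'` with `⁅w, q⁆ ∈ Z` for every `q ∈ Q` contains `B` and `x`
    intro w hw q hq
    have hxq : ⁅x, q⁆ ∈ Z := by
      refine ⟨hxN q (hQ hq), ?_⟩
      have hC : ∀ y ∈ Subgroup.centralizer (B : Set P), q * y * q⁻¹ ∈ Subgroup.centralizer (B : Set P) := by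
        intro y hy
        rw [Subgroup.mem_centralizer_iff] at hy ⊢
        intro b hb
        have h1 : q⁻¹ * b * q ∈ B := (Subgroup.mem_normalizer_iff''.1 (hQ hq) b).1 hb
        calc b * (q * y * q⁻¹) = q * ((q⁻¹ * b * q) * y) * q⁻¹ := by group
          _ = q * (y * (q⁻¹ * b * q)) * q⁻¹ := by rw [hy _ h1]
          _ = q * y * q⁻¹ * b := by group
      have : ⁅x, q⁆ = x * (q * x⁻¹ * q⁻¹) := by rw [commutatorElement_def]; group
      rw [this]
      exact mul_mem hx (hC _ (inv_mem hx))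
    have hfix : ∀ u ∈ B', ∀ z ∈ Z, u * z * u⁻¹ = z := by
      intro u hu z hz
      rw [Subgroup.mem_centralizer_iff.1 (hZB' hz).2 u hu]; group
    -- the elements of `B'` with commutators in `Z` form a subgroup
    let K : Subgroup P :=
      { carrier := {u | u ∈ B' ∧ ⁅u, q⁆ ∈ Z}
        one_mem' := ⟨one_mem _, by rw [commutatorElement_one_left]; exact one_mem _⟩
        mul_mem' := by
          rintro u v ⟨hu, hu'⟩ ⟨hv, hv'⟩
          refine ⟨mul_mem hu hv, ?_⟩
          have e : ⁅u * v, q⁆ = (u * ⁅v, q⁆ * u⁻¹) * ⁅u, q⁆ := by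
            simp only [commutatorElement_def]; group
          rw [e, hfix u hu _ hv']
          exact mul_mem hv' hu'
        inv_mem' := by
          rintro u ⟨hu, hu'⟩
          refine ⟨inv_mem hu, ?_⟩
          have e : ⁅u⁻¹, q⁆ = (u⁻¹ * ⁅u, q⁆ * (u⁻¹)⁻¹)⁻¹ := by
            simp only [commutatorElement_def]; group
          rw [e, hfix _ (inv_mem hu) _ hu']
          exact inv_mem hu' }
    have hK : B' ≤ K := sup_le
      (fun b hb => ⟨Subgroup.mem_sup_left hb, hBQ (Subgroup.commutator_mem_commutator hb hq)⟩)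
      (Subgroup.zpowers_le.2 ⟨Subgroup.mem_sup_right (Subgroup.mem_zpowers x), hxq⟩)
    exact (hK hw).2

theorem maximal_classTwo_self_centralizing [Finite P] {p : ℕ} [Fact p.Prime] (hP : IsPGroup p P)
    {B : Subgroup P} (hB : B ∈ classTwoSubgroups P)
    (hmax : ∀ C ∈ classTwoSubgroups P, B ≤ C → C = B) :
    Subgroup.centralizer (B : Set P) ≤ B := by
  by_contra h
  obtain ⟨x, hx, hxB, hxN⟩ := exists_centralizing_central_element hP B h
  exact hxB (hmax _ (extend_facts B hB hx hxN).1 le_sup_left ▸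
    Subgroup.mem_sup_right (Subgroup.mem_zpowers x))

theorem le_normalizer_of_mem_upper {B Q : Subgroup P} (hB : B ∈ kUpperStarFamily Q) :
    Q ≤ Subgroup.normalizer (B : Set P) := by
  intro q hq
  rw [Subgroup.mem_normalizer_iff]
  have key : ∀ r ∈ Q, ∀ b ∈ B, r * b * r⁻¹ ∈ B := by
    intro r hr b hb
    have : r * b * r⁻¹ = ⁅b, r⁆⁻¹ * b := by simp only [commutatorElement_def]; group
    rw [this]
    exact mul_mem (inv_mem (hB.2 (Subgroup.commutator_mem_commutator hb hr)).1) hb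
  intro b
  refine ⟨key q hq b, fun h => ?_⟩
  have := key q⁻¹ (inv_mem hq) _ h
  simpa [mul_assoc] using this

theorem maximal_upper_self_centralizing [Finite P] {p : ℕ} [Fact p.Prime] (hP : IsPGroup p P)
    {Q B : Subgroup P} (hB : B ∈ kUpperStarFamily Q)
    (hmax : ∀ C ∈ kUpperStarFamily Q, B ≤ C → C = B) :
    Subgroup.centralizer (B : Set P) ≤ B := by
  by_contra h
  obtain ⟨x, hx, hxB, hxN⟩ := exists_centralizing_central_element hP B h
  obtain ⟨h1, -, -, h4⟩ := extend_facts B hB.1 hx hxN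
  exact hxB (hmax _ ⟨h1, h4 Q (le_normalizer_of_mem_upper hB) hB.2⟩ le_sup_left ▸
    Subgroup.mem_sup_right (Subgroup.mem_zpowers x))

theorem maximal_lower_self_centralizing [Finite P] {p : ℕ} [Fact p.Prime] (hP : IsPGroup p P)
    {Q B : Subgroup P} (hB : B ∈ kLowerStarFamily Q)
    (hmax : ∀ C ∈ kLowerStarFamily Q, B ≤ C → C = B) :
    Subgroup.centralizer (B : Set P) ≤ B := by
  by_contra h
  obtain ⟨x, hx, hxB, hxN⟩ := exists_centralizing_central_element hP B h
  obtain ⟨h1, h2, h3, h4⟩ := extend_facts B hB.1 hx hxN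
  refine hxB (hmax _ ⟨h1, hB.2.1.trans h3, ?_⟩ le_sup_left ▸
    Subgroup.mem_sup_right (Subgroup.mem_zpowers x))
  intro A hA hAQ hAN hAB hAZ
  refine h4 A (hAQ.trans hB.2.1) (hB.2.2 A hA hAQ (le_sup_left.trans hAN) ?_ ?_)
  · exact le_bot_iff.1 ((Subgroup.commutator_mono le_sup_left le_rfl).trans hAB.le)
  · exact le_bot_iff.1
      ((Subgroup.commutator_mono (Subgroup.commutator_mono h2 le_rfl) le_rfl).trans hAZ.le)

theorem centralizer_sSup_le [Finite P] (𝒦 : Set (Subgroup P)) (hne : 𝒦.Nonempty)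
    (h : ∀ B ∈ 𝒦, (∀ C ∈ 𝒦, B ≤ C → C = B) → Subgroup.centralizer (B : Set P) ≤ B) :
    Subgroup.centralizer ((sSup 𝒦 : Subgroup P) : Set P) ≤ sSup 𝒦 := by
  obtain ⟨B, hB⟩ := 𝒦.toFinite.exists_maximal hne
  exact (Subgroup.centralizer_le (SetLike.coe_subset_coe.2 (le_sSup hB.1))).trans
    ((h B hB.1 fun C hC hBC => le_antisymm (hB.2 hC hBC) hBC).trans (le_sSup hB.1))

theorem bot_mem_upper (Q : Subgroup P) : ⊥ ∈ kUpperStarFamily Q :=
  normal_abelian_mem_upper ⊥ (by infer_instance) Q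

theorem bot_mem_lower (Q : Subgroup P) : ⊥ ∈ kLowerStarFamily Q :=
  normal_abelian_mem_lower ⊥ (by infer_instance) Q

theorem centralizer_kSeqEven_le [Finite P] {p : ℕ} [Fact p.Prime] (hP : IsPGroup p P) (n : ℕ) :
    Subgroup.centralizer (kSeqEven P n : Set P) ≤ kSeqEven P n :=
  centralizer_sSup_le _ ⟨⊥, bot_mem_lower _⟩ fun _ hB hmax =>
    maximal_lower_self_centralizing hP hB hmax

theorem centralizer_kSeqOdd_le [Finite P] {p : ℕ} [Fact p.Prime] (hP : IsPGroup p P) (n : ℕ) :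
    Subgroup.centralizer (kSeqOdd P n : Set P) ≤ kSeqOdd P n := by
  rcases n with - | k
  · exact le_top
  · exact centralizer_sSup_le _ ⟨⊥, bot_mem_upper _⟩ fun _ hB hmax =>
      maximal_upper_self_centralizing hP hB hmax

theorem center_le_centralizer' (H : Subgroup P) :
    Subgroup.center P ≤ Subgroup.centralizer (H : Set P) := fun _ hz =>
  Subgroup.mem_centralizer_iff.2 fun g _ => Subgroup.mem_center_iff.1 hz g

theorem centralizer_kInfLower_le [Finite P] {p : ℕ} [Fact p.Prime] (hP : IsPGroup p P) :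
    Subgroup.centralizer (kInfLower P : Set P) ≤ kInfLower P := by
  obtain ⟨n, hn⟩ := kSeq_stabilize (P := P)
  rw [← (hn n le_rfl).1]
  exact centralizer_kSeqEven_le hP n

theorem centralizer_kInfUpper_le [Finite P] {p : ℕ} [Fact p.Prime] (hP : IsPGroup p P) :
    Subgroup.centralizer (kInfUpper P : Set P) ≤ kInfUpper P := by
  obtain ⟨n, hn⟩ := kSeq_stabilize (P := P)
  rw [← (hn n le_rfl).2]
  exact centralizer_kSeqOdd_le hP n

theorem center_le_kInfLower [Finite P] {p : ℕ} [Fact p.Prime] (hP : IsPGroup p P) :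
    Subgroup.center P ≤ kInfLower P :=
  (center_le_centralizer' _).trans (centralizer_kInfLower_le hP)

theorem center_le_kInfUpper [Finite P] {p : ℕ} [Fact p.Prime] (hP : IsPGroup p P) :
    Subgroup.center P ≤ kInfUpper P :=
  (center_le_centralizer' _).trans (centralizer_kInfUpper_le hP)

end CfsgLib.Techniques.KInf
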