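import Cfsg.Agent.Lib.Techniques.PCoreLift
import Cfsg.Prelude.Def_LocalEven

/-!
Glauberman's reduction: control of strong fusion and of transfer by isomorphism-invariant functors in
the constrained sections gives control in all sections.
-/

set_option autoImplicit false
set_option linter.unusedSectionVars false

namespace CfsgLib.Techniques.Fusion

open Cfsg Subgroup CfsgLib.Techniques
open scoped commutatorElement

universe u

variable {p : ℕ} [Fact p.Prime] {𝓦 : Set (∀ (Q : Type u) [Group Q], Subgroup Q)}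

theorem card_quotient_lt {X : Type u} [Group X] [Finite X] (K : Subgroup X) (hK : K ≠ ⊥) :
    Nat.card (X ⧸ K) < Nat.card X := by
  have h := (card_eq_card_quotient_mul_card_subgroup K)
  have h1 : 1 < Nat.card K := K.one_lt_card_iff_ne_bot.2 hK
  have h2 : 0 < Nat.card (X ⧸ K) := Nat.card_pos
  calc Nat.card (X ⧸ K) < Nat.card (X ⧸ K) * Nat.card K := lt_mul_of_one_lt_right h2 h1
    _ = Nat.card X := h.symm

theorem card_lt_of_ne_top {X : Type u} [Group X] [Finite X] {H : Subgroup X} (hH : H ≠ ⊤) :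
    Nat.card H < Nat.card X :=
  lt_of_le_of_ne (card_le_card_group H) fun h => hH (eq_top_of_card_eq H h)

theorem sylow_ne_top {X : Type u} [Group X] [Finite X] (S : Sylow p X)
    (hne : pCore p X ≠ (S : Subgroup X)) : (S : Subgroup X) ≠ ⊤ := fun h =>
  hne ((CfsgLib.PCore.pCore_le_sylow S).antisymm
    (CfsgLib.PCore.le_pCore (h ▸ inferInstance) S.2))

/-- Glauberman: control of strong fusion reduces to constrained sections. -/
theorem fusCtrl_of_constrained {G : Type u} [Group G] [Finite G]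
    (h𝓦 : ∀ W ∈ 𝓦, IsCharPFunctor.{u} p W)
    (hloc : ∀ (X : Type u) [Group X] [Finite X], IsSectionOf X G →
      centralizer (pCore p X : Set X) ≤ pCore p X → FusCtrl p 𝓦 X)
    (X : Type u) [Group X] [Finite X] (hX : IsSectionOf X G) : FusCtrl p 𝓦 X := by
  suffices H : ∀ (n : ℕ) (X : Type u) [Group X] [Finite X], Nat.card X < n → IsSectionOf X G →
      FusCtrl p 𝓦 X from H _ X (Nat.lt_succ_self _) hX
  intro n
  induction n with
  | zero => intro X _ _ h; omega
  | succ n ih =>
    intro X _ _ hn hX S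
    refine reduction_skeleton h𝓦 S (isMapClosed_chain _ _) ?_ ?_ ?_ ?_ ?_
    · intro W hW D h hh _ hhD
      exact chain_step (Ms := stepGroups 𝓦 (S : Subgroup X)) ⟨W, hW, rfl⟩ hh hhD
    · intro H T hH hTS hTH hi hsteps
      exact holdsOn_of_fusCtrl h𝓦 (isMapClosed_chain _ _) hTS hTH (S.2.to_le hTS) hi
        (ih H (by have := card_lt_of_ne_top hH; omega) ((IsSectionOf.of_subgroup H).trans hX)) hsteps
    · intro hK
      have hKn : (pPrimeCore p X).Normal := pPrimeCore_normal p X
      exact holdsOn_chain_of_quotient_pPrime h𝓦 S (pPrimeCore p X)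
        CfsgLib.PCore.pPrimeCore_coprime (ih _ (by have := card_quotient_lt _ hK; omega)
          ((IsSectionOf.of_surjective _ (QuotientGroup.mk'_surjective _)).trans hX))
    · intro hc; exact hloc X hX hc S
    · intro hP0 hne htop hprop
      have hPn : (pCore p X).Normal := pCore_normal p X
      exact holdsOn_chain_of_quotient_pCore h𝓦 S (pCore p X) rfl hne htop
        (ih _ (by have := card_quotient_lt _ hP0; omega)
          ((IsSectionOf.of_surjective _ (QuotientGroup.mk'_surjective _)).trans hX))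
        (hprop _ (sylow_ne_top S hne) le_rfl) hprop

/-- Glauberman: control of transfer reduces to constrained sections. The induction hypothesis is
available in the constrained case. -/
theorem transCtrl_of_constrained {G : Type u} [Group G] [Finite G]
    (h𝓦 : ∀ W ∈ 𝓦, IsCharPFunctor.{u} p W)
    (hloc : ∀ (X : Type u) [Group X] [Finite X], IsSectionOf X G →
      centralizer (pCore p X : Set X) ≤ pCore p X →
      (∀ (Y : Type u) [Group Y] [Finite Y], IsSectionOf Y X → Nat.card Y < Nat.card X →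
        TransCtrl p 𝓦 Y) → TransCtrl p 𝓦 X)
    (X : Type u) [Group X] [Finite X] (hX : IsSectionOf X G) : TransCtrl p 𝓦 X := by
  suffices H : ∀ (n : ℕ) (X : Type u) [Group X] [Finite X], Nat.card X < n → IsSectionOf X G →
      TransCtrl p 𝓦 X from H _ X (Nat.lt_succ_self _) hX
  intro n
  induction n with
  | zero => intro X _ _ h; omega
  | succ n ih =>
    intro X _ _ hn hX S
    by_cases hc : centralizer (pCore p X : Set X) ≤ pCore p X
    · exact hloc X hX hc (fun Y _ _ hY hlt => ih Y (by omega) (hY.trans hX)) S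
    have hsub : ∀ H T : Subgroup X, H ≠ ⊤ → T ≤ (S : Subgroup X) → T ≤ H → ¬ p ∣ T.relIndex H →
        (∀ W ∈ 𝓦, HoldsOn T (FocalIn (transferTarget 𝓦 (S : Subgroup X)))
          (H ⊓ normalizer ((inducedFunctor (G := X) W T : Subgroup X) : Set X))) →
        HoldsOn T (FocalIn (transferTarget 𝓦 (S : Subgroup X))) H := fun H T hH hTS hTH hi hsteps =>
      holdsOn_of_transCtrl h𝓦 hTH (S.2.to_le hTS) hi
        (ih H (by have := card_lt_of_ne_top hH; omega) ((IsSectionOf.of_subgroup H).trans hX)) hsteps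
    have hstep : ∀ W ∈ 𝓦, HoldsOn (S : Subgroup X) (FocalIn (transferTarget 𝓦 (S : Subgroup X)))
        (normalizer ((inducedFunctor (G := X) W (S : Subgroup X) : Subgroup X) : Set X)) := fun W hW =>
      focalIn_of_inf_commutator_le
        (Subgroup.le_normalizer.trans (normalizer_le_normalizer_inducedFunctor (h𝓦 W hW) S.2))
        (le_iSup₂_of_le _ ⟨W, hW, rfl⟩ le_rfl)
    suffices H : HoldsOn (S : Subgroup X) (FocalIn (transferTarget 𝓦 (S : Subgroup X))) ⊤ by
      rw [_root_.commutator_def]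
      exact inf_commutator_le_of_focalIn le_top S.2 (not_dvd_relIndex_sylow S le_top) H
    refine reduction_skeleton h𝓦 S (isMapClosed_focalIn _ _) hstep hsub ?_ (fun h => absurd h hc) ?_
    · intro hK
      have hKn : (pPrimeCore p X).Normal := pPrimeCore_normal p X
      refine focalIn_of_inf_commutator_le le_top ?_
      rw [← _root_.commutator_def]
      exact le_target_of_quotient_pPrime h𝓦 S (pPrimeCore p X) CfsgLib.PCore.pPrimeCore_coprime
        (ih _ (by have := card_quotient_lt _ hK; omega)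
          ((IsSectionOf.of_surjective _ (QuotientGroup.mk'_surjective _)).trans hX))
    · intro hP0 hne htop hprop
      have hPn : (pCore p X).Normal := pCore_normal p X
      exact holdsOn_focalIn_of_quotient_pCore h𝓦 S (pCore p X) rfl hne htop
        (ih _ (by have := card_quotient_lt _ hP0; omega)
          ((IsSectionOf.of_surjective _ (QuotientGroup.mk'_surjective _)).trans hX))
        (hprop _ (sylow_ne_top S hne) le_rfl) hprop

/-! ### Conversions -/

variable {G : Type u} [Group G] [Finite G]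

theorem fusCtrl_of_family (h𝓦 : ∀ W ∈ 𝓦, IsCharPFunctor.{u} p W)
    (h : FamilyControlsStrongFusionIn p ((fun W => inducedFunctor (G := G) W) '' 𝓦) ⊤) :
    FusCtrl p 𝓦 G := by
  obtain ⟨T, -, hTp, hTi, hctl⟩ := h
  intro S D h _ hD hh
  rw [relIndex_top_right] at hTi
  obtain ⟨u, hu⟩ := MulAction.exists_smul_eq G S (hTp.toSylow hTi)
  have hST : (S : Subgroup G).map (MulAut.conj u).toMonoidHom = T := by
    show _ = ((hTp.toSylow hTi : Sylow p G) : Subgroup G)
    rw [← hu, Sylow.coe_subgroup_smul, Subgroup.pointwise_smul_def]; rfl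
  obtain ⟨n, c, h0, h1, h2, h3⟩ := hctl (D.map (MulAut.conj u).toMonoidHom : Set G) (u * h * u⁻¹)
    (mem_top _) (by rw [← hST]; exact SetLike.coe_subset_coe.2 (Subgroup.map_mono hD)) (by
      rintro _ ⟨_, ⟨a, ha, rfl⟩, rfl⟩
      rw [← hST]
      refine ⟨h * a * h⁻¹, hh (conj_mem_map_conj h ha), ?_⟩
      show u * (h * a * h⁻¹) * u⁻¹ = u * h * u⁻¹ * (u * a * u⁻¹) * (u * h * u⁻¹)⁻¹
      group)
  have hc : Chain T (stepGroups 𝓦 T) (D.map (MulAut.conj u).toMonoidHom) (u * h * u⁻¹) := by
    refine chain_of_fin c h0 (fun i => ?_) (fun i a ha => h2 i ⟨a, ha, rfl⟩) h3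
    obtain ⟨_, ⟨W, hW, rfl⟩, hm⟩ := h1 i
    exact ⟨_, ⟨W, hW, rfl⟩, (mem_inf.1 hm).2⟩
  have h4 := Chain.map (MulAut.conj u⁻¹).toMonoidHom (T' := (S : Subgroup G))
    (Ms' := stepGroups 𝓦 (S : Subgroup G)) ?_ ?_ hc
  · rw [map_conj_inv_cancel] at h4
    convert h4 using 2
    simp [mul_assoc]
  · rw [← hST, map_conj_inv_cancel]
  · rintro _ ⟨W, hW, rfl⟩
    refine ⟨_, ⟨W, hW, rfl⟩, ?_⟩
    refine (le_normalizer_map _).trans (le_of_eq ?_)
    rw [← inducedFunctor_map_injective (h𝓦 W hW) _ (MulAut.conj u⁻¹).injective hTp, ← hST,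
      map_conj_inv_cancel]

theorem family_of_fusCtrl (h : FusCtrl p 𝓦 G) :
    FamilyControlsStrongFusionIn p ((fun W => inducedFunctor (G := G) W) '' 𝓦) ⊤ := by
  obtain ⟨S⟩ : Nonempty (Sylow p G) := inferInstance
  refine ⟨S, le_top, S.2, not_dvd_relIndex_sylow S le_top, fun A x _ hA hx => ?_⟩
  have hD : closure A ≤ (S : Subgroup G) := (closure_le _).2 hA
  have hxD : (closure A).map (MulAut.conj x).toMonoidHom ≤ (S : Subgroup G) := by
    rw [MonoidHom.map_closure, closure_le]; exact hx
  obtain ⟨n, c, h0, h1, h2, h3⟩ := Chain.toFin hD (h S _ x (mem_top _) hD hxD)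
  refine ⟨n, c, h0, fun i => ?_, fun i => ?_, fun a ha => h3 a (subset_closure ha)⟩
  · obtain ⟨_, ⟨W, hW, rfl⟩, hm⟩ := h1 i
    exact ⟨_, ⟨W, hW, rfl⟩, mem_inf.2 ⟨mem_top _, hm⟩⟩
  · rintro _ ⟨a, ha, rfl⟩
    exact h2 i a (subset_closure ha)

theorem controlsStrongFusion_of_fusCtrl {W : ∀ (Q : Type u) [Group Q], Subgroup Q}
    (h : FusCtrl p {W} G) (S : Sylow p G) :
    ControlsStrongFusion p (inducedFunctor (G := G) W (S : Subgroup G)) := by
  refine ⟨S, inducedFunctor_le W _, fun A hA => ⟨hA, fun g hg => ?_⟩⟩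
  have hD : closure A ≤ (S : Subgroup G) := (closure_le _).2 hA
  have hgD : (closure A).map (MulAut.conj g).toMonoidHom ≤ (S : Subgroup G) := by
    rw [MonoidHom.map_closure, closure_le]; exact hg
  have hc := h S _ g (mem_top _) hD hgD
  rw [stepGroups, Set.image_singleton] at hc
  obtain ⟨x, hx, hx'⟩ := hc.exists_mem
  exact ⟨x, hx, fun a ha => (hx' a (subset_closure ha)).symm⟩

theorem transCtrl_of_family (h𝓦 : ∀ W ∈ 𝓦, IsCharPFunctor.{u} p W)
    (h : FamilyControlsTransferIn p ((fun W => inducedFunctor (G := G) W) '' 𝓦) ⊤) :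
    TransCtrl p 𝓦 G := by
  obtain ⟨T, -, hTp, hTi, hctl⟩ := h
  intro S
  rw [relIndex_top_right] at hTi
  obtain ⟨u, hu⟩ := MulAction.exists_smul_eq G (hTp.toSylow hTi) S
  have hTS : T.map (MulAut.conj u).toMonoidHom = (S : Subgroup G) := by
    rw [← hu, Sylow.coe_subgroup_smul, Subgroup.pointwise_smul_def]; rfl
  set φ := (MulAut.conj u).toMonoidHom with hφ
  have hinj : Function.Injective φ := (MulAut.conj u).injective
  have h1 : (S : Subgroup G) ⊓ _root_.commutator G = (T ⊓ ⁅(⊤ : Subgroup G), ⊤⁆).map φ := by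
    rw [Subgroup.map_inf _ _ _ hinj, hTS, map_commutator,
      map_top_of_surjective φ (MulAut.conj u).surjective, ← _root_.commutator_def]
  rw [h1, hctl, Subgroup.map_iSup]
  refine iSup_le fun F => ?_
  rw [Subgroup.map_iSup]
  refine iSup_le fun hF => ?_
  obtain ⟨W, hW, rfl⟩ := hF
  refine le_trans ?_ (le_iSup₂_of_le _ ⟨W, hW, rfl⟩ le_rfl)
  rw [Subgroup.map_inf _ _ _ hinj, hTS, map_commutator, top_inf_eq]
  have h2 : (normalizer ((inducedFunctor (G := G) W T : Subgroup G) : Set G)).map φ ≤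
      normalizer ((inducedFunctor (G := G) W (S : Subgroup G) : Subgroup G) : Set G) := by
    rw [← hTS, inducedFunctor_map_injective (h𝓦 W hW) φ hinj hTp]
    exact le_normalizer_map _
  exact inf_le_inf_left _ (commutator_mono h2 h2)

theorem transfer_eq_of_transCtrl (h : TransCtrl p 𝓦 G) (S : Sylow p G) :
    (S : Subgroup G) ⊓ _root_.commutator G = transferTarget 𝓦 (S : Subgroup G) :=
  le_antisymm (h S) (iSup₂_le fun _ _ => inf_le_inf_left _ (by
    rw [_root_.commutator_def]; exact commutator_mono le_top le_top))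

theorem family_of_transCtrl (h : TransCtrl p 𝓦 G) :
    FamilyControlsTransferIn p ((fun W => inducedFunctor (G := G) W) '' 𝓦) ⊤ := by
  obtain ⟨S⟩ : Nonempty (Sylow p G) := inferInstance
  refine ⟨S, le_top, S.2, not_dvd_relIndex_sylow S le_top, ?_⟩
  rw [← _root_.commutator_def, transfer_eq_of_transCtrl h S]
  unfold transferTarget stepGroups
  simp only [iSup_image, top_inf_eq]

theorem controlsTransferIn_of_transCtrl {W : ∀ (Q : Type u) [Group Q], Subgroup Q}
    (h : TransCtrl p {W} G) : ControlsTransferIn p (inducedFunctor (G := G) W) ⊤ := by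
  obtain ⟨S⟩ : Nonempty (Sylow p G) := inferInstance
  refine ⟨S, le_top, S.2, not_dvd_relIndex_sylow S le_top, ?_⟩
  rw [← _root_.commutator_def, transfer_eq_of_transCtrl h S]
  unfold transferTarget stepGroups
  simp only [iSup_image, iSup_singleton, top_inf_eq]

theorem transCtrl_of_controlsTransferIn {W : ∀ (Q : Type u) [Group Q], Subgroup Q}
    (hW : IsCharPFunctor.{u} p W) (h : ControlsTransferIn p (inducedFunctor (G := G) W) ⊤) :
    TransCtrl p {W} G := by
  refine transCtrl_of_family (fun V hV => by obtain rfl := hV; exact hW) ?_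
  obtain ⟨T, hT, hTp, hTi, heq⟩ := h
  refine ⟨T, hT, hTp, hTi, ?_⟩
  rw [heq]
  simp only [Set.image_singleton, iSup_singleton]

theorem fusCtrl_of_mulEquiv (h𝓦 : ∀ W ∈ 𝓦, IsCharPFunctor.{u} p W) {H : Type u} [Group H]
    (e : G ≃* H) (h : FusCtrl p 𝓦 G) : FusCtrl p 𝓦 H := by
  have : Finite H := Finite.of_equiv G e.toEquiv
  intro S D x _ hD hx
  let S₀ : Sylow p G := S.mapSurjective (f := e.symm.toMonoidHom) e.symm.surjective
  have hS₀ : (S₀ : Subgroup G) = (S : Subgroup H).map e.symm.toMonoidHom := rfl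
  have hback : ∀ K : Subgroup H, (K.map e.symm.toMonoidHom).map e.toMonoidHom = K := fun K => by
    rw [Subgroup.map_map]
    conv_rhs => rw [← K.map_id]
    congr 1; ext; simp
  have h1 : (D.map e.symm.toMonoidHom).map (MulAut.conj (e.symm x)).toMonoidHom ≤ (S₀ : Subgroup G) := by
    rintro _ ⟨_, ⟨a, ha, rfl⟩, rfl⟩
    rw [hS₀]
    exact ⟨x * a * x⁻¹, hx (conj_mem_map_conj x ha), by simp⟩
  have h2 := Chain.map e.toMonoidHom (T' := (S : Subgroup H)) (Ms' := stepGroups 𝓦 (S : Subgroup H))
    ?_ ?_ (h S₀ _ (e.symm x) (mem_top _) (hS₀ ▸ Subgroup.map_mono hD) h1)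
  · rw [hback] at h2
    simpa using h2
  · rw [hS₀, hback]
  · rintro _ ⟨W, hW, rfl⟩
    refine ⟨_, ⟨W, hW, rfl⟩, ?_⟩
    refine (le_normalizer_map _).trans (le_of_eq ?_)
    rw [← inducedFunctor_map_injective (h𝓦 W hW) _ e.injective S₀.2, hS₀, hback]

theorem transCtrl_of_mulEquiv (h𝓦 : ∀ W ∈ 𝓦, IsCharPFunctor.{u} p W) {H : Type u} [Group H]
    (e : G ≃* H) (h : TransCtrl p 𝓦 G) : TransCtrl p 𝓦 H := by
  have : Finite H := Finite.of_equiv G e.toEquiv
  intro S
  let S₀ : Sylow p G := S.mapSurjective (f := e.symm.toMonoidHom) e.symm.surjective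
  have hS₀ : (S₀ : Subgroup G) = (S : Subgroup H).map e.symm.toMonoidHom := rfl
  have hback : (S₀ : Subgroup G).map e.toMonoidHom = (S : Subgroup H) := by
    rw [hS₀, Subgroup.map_map]
    conv_rhs => rw [← (S : Subgroup H).map_id]
    congr 1; ext; simp
  have h1 : (S : Subgroup H) ⊓ _root_.commutator H =
      ((S₀ : Subgroup G) ⊓ _root_.commutator G).map e.toMonoidHom := by
    rw [Subgroup.map_inf _ _ _ e.injective, hback, _root_.commutator_def G, map_commutator,
      map_top_of_surjective e.toMonoidHom e.surjective, _root_.commutator_def]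
  rw [h1]
  refine (Subgroup.map_mono (h S₀)).trans ?_
  unfold transferTarget
  rw [Subgroup.map_iSup]
  refine iSup_le fun M => ?_
  rw [Subgroup.map_iSup]
  refine iSup_le fun hM => ?_
  obtain ⟨W, hW, rfl⟩ := hM
  refine le_trans ?_ (le_iSup₂_of_le _ ⟨W, hW, rfl⟩ le_rfl)
  rw [Subgroup.map_inf _ _ _ e.injective, hback, map_commutator]
  have h2 : (normalizer ((inducedFunctor (G := G) W (S₀ : Subgroup G) : Subgroup G) : Set G)).map
      e.toMonoidHom ≤ normalizer ((inducedFunctor (G := H) W (S : Subgroup H) : Subgroup H) : Set H) := by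
    rw [← hback, inducedFunctor_map_injective (h𝓦 W hW) _ e.injective S₀.2]
    exact le_normalizer_map _
  exact inf_le_inf_left _ (commutator_mono h2 h2)

theorem constrained_of_mulEquiv {H : Type u} [Group H] (e : G ≃* H)
    (h : centralizer (pCore p G : Set G) ≤ pCore p G) :
    centralizer (pCore p H : Set H) ≤ pCore p H := by
  rw [← CfsgLib.PCore.map_pCore_equiv (p := p) e]
  intro y hy
  refine ⟨e.symm y, h (mem_centralizer_iff.2 fun a ha => e.injective ?_), e.apply_symm_apply y⟩
  have := mem_centralizer_iff.1 hy (e a) ⟨a, ha, rfl⟩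
  simpa using this

end CfsgLib.Techniques.Fusion
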