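import Cfsg.Agent.Lib.Techniques.ChiefLattice

/-! An element acting with small degree on a critical subgroup acts with small degree on the group. -/

set_option autoImplicit false
set_option linter.unusedSectionVars false

namespace CfsgLib.Techniques.KInf

open Cfsg Subgroup CfsgLib.Techniques
open scoped commutatorElement

variable {G : Type*} [Group G]

theorem iterCommutator_le_normal {W V B : Subgroup G} (hV : V.Normal) {i : ℕ}
    (h : iterCommutator W B i ≤ V) : ∀ m, iterCommutator W B (i + m) ≤ V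
  | 0 => h
  | m + 1 => (commutator_mono (iterCommutator_le_normal hV h m) le_rfl).trans (commutator_le_left V B)

theorem iterCommutator_le_self {W B : Subgroup G} (hW : W.Normal) (k : ℕ) : iterCommutator W B k ≤ W := by
  have h := iterCommutator_le_normal (B := B) hW (i := 0) (le_refl W) k
  rwa [zero_add] at h

variable [Finite G]

theorem zpowers_le_normalizer_iterCommutator {W : Subgroup G} (hW : W.Normal) (g : G) :
    ∀ k, zpowers g ≤ normalizer ((iterCommutator W (zpowers g) k : Subgroup G) : Set G)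
  | 0 => le_top.trans (normalizer_eq_top_iff.2 hW).ge
  | k + 1 => fun x hx => map_conj_eq_self_iff.1 (by
      show (⁅iterCommutator W (zpowers g) k, zpowers g⁆).map _ = ⁅iterCommutator W (zpowers g) k, zpowers g⁆
      rw [map_commutator, map_conj_eq_self_iff.2 (zpowers_le_normalizer_iterCommutator hW g k hx),
        map_conj_eq_self_iff.2 (Subgroup.le_normalizer hx)])

variable {p : ℕ} [Fact p.Prime]

theorem iterCommutator_chiefFactor_le (P Q : Subgroup G) (hPn : P.Normal) (hP : IsPGroup p P)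
    (hQn : Q.Normal) (hQP : Q ≤ P) (hcomm : ⁅P, Q⁆ ≤ Q ⊓ centralizer (Q : Set G))
    (hcent : P ⊓ centralizer (Q : Set G) ≤ Q) (g : G) (i j : ℕ) (hj : 1 ≤ j)
    (hQi : ∀ U V : Subgroup G, IsChiefFactor U V → U ≤ Q → iterCommutator U (zpowers g) i ≤ V)
    (hZj : ∀ U V : Subgroup G, IsChiefFactor U V → U ≤ Q ⊓ centralizer (Q : Set G) →
      iterCommutator U (zpowers g) j ≤ V)
    {U V : Subgroup G} (hUV : IsChiefFactor U V) (hUP : U ≤ P) :
    iterCommutator U (zpowers g) (i + j - 1) ≤ V := by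
  have hUn := hUV.2.1
  have hVn := hUV.2.2.1
  by_cases hle : U ⊓ Q ≤ V
  swap
  · obtain ⟨h1, h2⟩ := isChiefFactor_inf hUV hQn hle
    rw [← h2, sup_comm, show i + j - 1 = i + (j - 1) by omega]
    exact (iterCommutator_sup_le hVn _).trans (sup_le le_rfl (iterCommutator_le_normal hVn
      ((hQi _ _ h1 inf_le_right).trans inf_le_left) _))
  have hkerN : ∀ X Y : Subgroup G, X.Normal → ∀ hY : Y.Normal,
      (U ⊓ @sectionKernel _ _ X Y hY).Normal := fun X Y hX hY => by
    have := @sectionKernel_normal _ _ X Y hX hY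
    infer_instance
  set 𝒳 : Set (Subgroup G) := {X | X.Normal ∧ X ≤ Q ∧ U ⊓ sectionKernel X (⊥ : Subgroup G) ≤ V}
  obtain ⟨X, ⟨hXn, hXQ, hXV⟩, hXmin⟩ := (Set.toFinite 𝒳).exists_minimal ⟨Q, hQn, le_rfl, fun u hu => by
    refine hle (mem_inf.2 ⟨(mem_inf.1 hu).1, hcent (mem_inf.2 ⟨hUP (mem_inf.1 hu).1, ?_⟩)⟩)
    rw [mem_centralizer_iff]
    intro q hq
    rw [← commutatorElement_eq_one_iff_mul_comm]
    exact mem_bot.1 (mem_sectionKernel_iff.1 (mem_inf.1 hu).2 q hq)⟩
  have hX0 : X ≠ ⊥ := fun e => hUV.1.not_ge (le_trans (le_inf le_rfl (le_sectionKernel_iff.2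
    (by rw [e, commutator_bot_left]))) hXV)
  obtain ⟨X', hXX'⟩ := exists_isChiefFactor hXn hX0
  have hX'n := hXX'.2.2.1
  set U₁ := U ⊓ sectionKernel X' (⊥ : Subgroup G) with hU₁def
  have hU₁n : U₁.Normal := hkerN X' ⊥ hX'n inferInstance
  have hU₁ : ¬ U₁ ≤ V := fun h => hXX'.1.not_ge (hXmin ⟨hX'n, hXX'.1.le.trans hXQ, h⟩ hXX'.1.le)
  set Z := Q ⊓ centralizer (Q : Set G) with hZdef
  have hZn : Z.Normal := inferInstance
  set 𝒴 : Set (Subgroup G) := {Y | ∃ h : Y.Normal, Y ≤ Z ∧ ¬ U₁ ⊓ @sectionKernel _ _ X Y h ≤ V}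
  obtain ⟨Y, ⟨hYn, hYZ, hY⟩, hYmin⟩ := (Set.toFinite 𝒴).exists_minimal ⟨Z, hZn, le_rfl, fun h => hU₁ (by
    refine le_trans (le_inf le_rfl (le_sectionKernel_iff.2 ?_)) h
    rw [commutator_comm]
    exact (commutator_mono (inf_le_left.trans hUP) hXQ).trans hcomm)⟩
  have hY0 : Y ≠ ⊥ := by
    rintro rfl
    exact hY ((inf_le_inf_right _ inf_le_left).trans hXV)
  obtain ⟨Y', hYY'⟩ := exists_isChiefFactor hYn hY0
  have hY'n := hYY'.2.2.1
  set U₂ := U₁ ⊓ sectionKernel X Y with hU₂def
  have hU₂n : U₂.Normal := by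
    have := @sectionKernel_normal _ _ X Y hXn hYn
    infer_instance
  have hU₂Y' : U₁ ⊓ sectionKernel X Y' ≤ V := by
    by_contra h
    exact hYY'.1.not_ge (hYmin ⟨hY'n, hYY'.1.le.trans hYZ, h⟩ hYY'.1.le)
  have hU₂sup : U₂ ⊔ V = U := by
    rcases hUV.2.2.2 (U₂ ⊔ V) inferInstance le_sup_right
      (sup_le (inf_le_left.trans inf_le_left) hUV.1.le) with h | h
    · exact absurd (le_sup_left.trans h.le) hY
    · exact h
  have hU₂P : U₂ ≤ P := (inf_le_left.trans inf_le_left).trans hUP
  have hU₂X : ⁅U₂, X⁆ ≤ Y := by rw [commutator_comm, ← le_sectionKernel_iff]; exact inf_le_right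
  have hU₂X' : ⁅U₂, X'⁆ ≤ (⊥ : Subgroup G) := by
    rw [commutator_comm, ← le_sectionKernel_iff]
    exact inf_le_left.trans inf_le_right
  set Yk : ℕ → Subgroup G := fun k => Y' ⊔ iterCommutator Y (zpowers g) k with hYk
  have hYkY : ∀ k, Yk k ≤ Y := fun k => sup_le hYY'.1.le (iterCommutator_le_self hYn k)
  have hYP : IsPGroup p Y := hP.to_le ((hYZ.trans inf_le_left).trans hQP)
  have hPYk : ∀ k, P ≤ normalizer (Yk k : Set G) := fun k x hx => by
    rw [← map_conj_eq_self_iff]
    refine eq_of_le_of_card_ge ?_ (card_map_conj _ x).ge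
    rintro _ ⟨a, ha, rfl⟩
    have h1 : ⁅a, x⁆⁻¹ * a ∈ Yk k := mul_mem (inv_mem (mem_sup_left (commutator_le_of_isPGroup hYY' hYP
      hPn hP (commutator_mem_commutator (hYkY k ha) hx)))) ha
    simpa [commutatorElement_def, mul_assoc] using h1
  have hgYk : ∀ k, zpowers g ≤ normalizer (Yk k : Set G) := fun k x hx => by
    rw [← map_conj_eq_self_iff, hYk]
    simp only [Subgroup.map_sup]
    rw [map_conj_eq_self_iff.2 ((normalizer_eq_top_iff.2 hY'n).ge (mem_top x)),
      map_conj_eq_self_iff.2 (zpowers_le_normalizer_iterCommutator hYn g k hx)]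
  have hYk0 : Yk 0 = Y := sup_eq_right.2 hYY'.1.le
  have claim : ∀ n l, ⁅iterCommutator U₂ (zpowers g) n, iterCommutator X (zpowers g) l⁆ ≤
      Yk (n + l + 1 - i) := by
    intro n
    induction n with
    | zero =>
      intro l
      by_cases hl : l + 1 ≤ i
      · rw [show 0 + l + 1 - i = 0 by omega, hYk0]
        exact (commutator_mono le_rfl (iterCommutator_le_self hXn l)).trans hU₂X
      · refine le_trans ((commutator_mono le_rfl ?_).trans hU₂X') bot_le
        have h := iterCommutator_le_normal hX'n (hQi X X' hXX' hXQ) (l - i)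
        rwa [show i + (l - i) = l by omega] at h
    | succ n ih =>
      intro l
      by_cases ht : n + 1 + l + 1 ≤ i
      · rw [show n + 1 + l + 1 - i = 0 by omega, hYk0]
        exact (commutator_mono (iterCommutator_le_self hU₂n _) (iterCommutator_le_self hXn l)).trans hU₂X
      show ⁅⁅iterCommutator U₂ (zpowers g) n, zpowers g⁆, iterCommutator X (zpowers g) l⁆ ≤ _
      refine commutator_commutator_le_of_normalizing (((iterCommutator_le_self hU₂n n).trans hU₂P).trans (hPYk _))
        (hgYk _) (((iterCommutator_le_self hXn l).trans (hXQ.trans hQP)).trans (hPYk _)) ?_ ?_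
      · rw [commutator_comm (zpowers g), commutator_comm _ (iterCommutator U₂ (zpowers g) n)]
        refine (ih (l + 1)).trans (le_of_eq ?_)
        rw [show n + (l + 1) + 1 - i = n + 1 + l + 1 - i by omega]
      · rw [commutator_comm (iterCommutator X (zpowers g) l)]
        refine (commutator_mono (ih l) le_rfl).trans ?_
        rw [show n + 1 + l + 1 - i = (n + l + 1 - i) + 1 by omega]
        exact (iterCommutator_sup_le (B := zpowers g) hY'n 1).trans (sup_le le_sup_left le_sup_right)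
  have hfin : iterCommutator U₂ (zpowers g) (i + j - 1) ≤ V := by
    refine le_trans (le_inf ((iterCommutator_le_self hU₂n _).trans inf_le_left)
      (le_sectionKernel_iff.2 ?_)) hU₂Y'
    rw [commutator_comm]
    refine (claim (i + j - 1) 0).trans ?_
    rw [show i + j - 1 + 0 + 1 - i = j by omega]
    exact sup_le le_rfl (hZj Y Y' hYY' hYZ)
  rw [← hU₂sup, sup_comm]
  exact (iterCommutator_sup_le hVn _).trans (sup_le le_rfl hfin)

end CfsgLib.Techniques.KInf
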