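import Cfsg.Agent.Lib.Techniques.KInfCritical
import Cfsg.Agent.Lib.Techniques.CriticalFilter
import Cfsg.Agent.Lib.PGroup.Critical

/-! Glauberman's theorem on non-normal K-infinity subgroups. -/

set_option autoImplicit false
set_option linter.unusedSectionVars false

namespace CfsgLib.Techniques.KInf

open Cfsg Subgroup CfsgLib.Techniques
open scoped commutatorElement

universe u

variable {G : Type u} [Group G] [Finite G] {p : ℕ} [Fact p.Prime]

theorem exists_criticalData : ∃ A : Subgroup G, CriticalData p (pCore p G) A ∧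
    pCore p G ⊓ centralizer (A : Set G) ≤ A := by
  have hTn : (pCore p G).Normal := pCore_normal p G
  have hTp : IsPGroup p (pCore p G) := CfsgLib.PCore.pCore_isPGroup
  obtain ⟨H, hHc, hCH, hcomm, -⟩ := CfsgLib.PGroup.exists_critical hTp
  set f := (pCore p G).subtype with hf
  have hinj : Function.Injective f := (pCore p G).subtype_injective
  have hcent : pCore p G ⊓ centralizer ((H.map f : Subgroup G) : Set G) ≤ H.map f := by
    intro t ht
    obtain ⟨htT, htC⟩ := mem_inf.1 ht
    refine ⟨⟨t, htT⟩, hCH (mem_centralizer_iff.2 fun h hh => Subtype.ext ?_), rfl⟩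
    exact mem_centralizer_iff.1 htC h ⟨h, hh, rfl⟩
  have hc2 : ⁅pCore p G, H.map f⁆ ≤ H.map f ⊓ centralizer ((H.map f : Subgroup G) : Set G) := by
    rw [← map_inf_centralizer f hinj, commutator_le]
    rintro t ht _ ⟨h, hh, rfl⟩
    exact ⟨⁅(⟨t, ht⟩ : ↥(pCore p G)), h⁆, hcomm ⟨t, ht⟩ h hh, map_commutatorElement f _ _⟩
  refine ⟨H.map f, ⟨map_subtype_le H, inferInstance, hTp, hTn, fun N hN hp => CfsgLib.PCore.le_pCore hN hp,
    (commutator_mono (map_subtype_le H) le_rfl).trans (hc2.trans inf_le_right), hc2, ?_⟩, hcent⟩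
  intro x hx hxA
  have hfix : ∀ {a}, a ∈ H.map f → x * a * x⁻¹ = a := fun {a} ha => by
    rw [← mem_centralizer_iff.1 hxA a ha, mul_inv_cancel_right]
  rw [mem_centralizer_iff]
  intro t ht
  set c := t⁻¹ * (x * t * x⁻¹) with hc
  have hcT : c ∈ pCore p G := mul_mem (inv_mem ht) (hTn.conj_mem t ht x)
  have hAn : (H.map f).Normal := inferInstance
  have hcA : c ∈ H.map f := hcent (mem_inf.2 ⟨hcT, mem_centralizer_iff.2 fun a ha => by
    have h2 : x * t * x⁻¹ * a * (x * t * x⁻¹)⁻¹ = t * a * t⁻¹ := by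
      calc x * t * x⁻¹ * a * (x * t * x⁻¹)⁻¹ = x * t * (x⁻¹ * (x * a * x⁻¹) * x) * t⁻¹ * x⁻¹ := by
            rw [hfix ha]; group
        _ = x * (t * a * t⁻¹) * x⁻¹ := by group
        _ = t * a * t⁻¹ := hfix (hAn.conj_mem a ha t)
    have h4 : c * a * c⁻¹ = a := by
      calc c * a * c⁻¹ = t⁻¹ * (x * t * x⁻¹ * a * (x * t * x⁻¹)⁻¹) * t := by rw [hc]; group
        _ = a := by rw [h2]; group
    exact (mul_inv_eq_iff_eq_mul.1 h4).symm⟩)
  have hxc : Commute x c := mul_inv_eq_iff_eq_mul.1 (hfix hcA)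
  have h1 : t⁻¹ * x * t = c * x := by rw [hc]; group
  have h2 : c ^ orderOf x = 1 := by
    have h3 : (t⁻¹ * x * (t⁻¹)⁻¹) ^ orderOf x = 1 := by rw [conj_pow, pow_orderOf_eq_one]; group
    rwa [inv_inv, h1, hxc.symm.mul_pow, pow_orderOf_eq_one, mul_one] at h3
  have h3 : c = 1 := eq_one_of_coprime_of_mem hTp hcT (hx.coprime_dvd_left (orderOf_dvd_of_pow_eq_one h2))
  rw [h3, one_mul, mul_assoc, inv_mul_eq_iff_eq_mul] at h1
  exact h1.symm

theorem exists_element (S : Sylow p G)
    (hK : ¬ (inducedFunctor kInfLower (S : Subgroup G)).Normal ∨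
      ¬ (inducedFunctor kInfUpper (S : Subgroup G)).Normal) :
    ∃ g : G, g ∈ (S : Subgroup G) ∧ g ∉ pCore p G ∧
      (∀ U V : Subgroup G, IsChiefFactor U V → U ≤ pCore p G → iterCommutator U (zpowers g) 4 ≤ V) ∧
      ⁅⁅pCore p G ⊓ centralizer (pCore p G : Set G), zpowers g⁆, zpowers g⁆ = ⊥ ∧
      (centralizer (pCore p G : Set G) ≤ pCore p G →
        ∃ (N : Subgroup G) (_ : N.Normal), ¬ IsNormalizerPStable p (G ⧸ N)) := by
  obtain ⟨A, hd, hcent⟩ := exists_criticalData (G := G) (p := p)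
  obtain ⟨g, hgS, hgT, h1, h2, h3⟩ := exists_goodElement S hd hK
  have hTn : (pCore p G).Normal := pCore_normal p G
  refine ⟨g, hgS, hgT, fun U V hUV hUP => ?_, ?_, fun hC => ?_⟩
  · refine iterCommutator_chiefFactor_le (pCore p G) A hTn hd.pgroup hd.normal hd.le hd.commT hcent g 3 2
      (by norm_num) (fun X Y hXY hXA => ?_) (fun X Y hXY hXZ => ?_) hUV hUP
    · by_cases hle : X ⊓ (A ⊓ centralizer (A : Set G)) ≤ Y
      · exact (le_inf (iterCommutator_le_self hXY.2.1 3)
          ((Fusion.iterCommutator_mono hXA le_rfl 3).trans h1)).trans hle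
      · obtain ⟨-, h4⟩ := isChiefFactor_inf hXY hd.center_normal hle
        rw [← h4, sup_comm]
        have h5 : iterCommutator (Y ⊔ X ⊓ (A ⊓ centralizer (A : Set G))) (zpowers g) 2 ≤ Y :=
          (iterCommutator_sup_le hXY.2.2.1 2).trans (sup_le le_rfl
            (((Fusion.iterCommutator_mono inf_le_right le_rfl 2).trans h2.le).trans bot_le))
        exact iterCommutator_le_normal hXY.2.2.1 h5 1
    · exact ((Fusion.iterCommutator_mono hXZ le_rfl 2).trans h2.le).trans bot_le
  · refine le_bot_iff.1 ((commutator_mono (commutator_mono ?_ le_rfl) le_rfl).trans h2.le)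
    refine le_inf (le_trans ?_ hcent) ?_
    · exact inf_le_inf_left _ (centralizer_le (SetLike.coe_subset_coe.2 hd.le))
    · exact inf_le_right.trans (centralizer_le (SetLike.coe_subset_coe.2 hd.le))
  · obtain ⟨U, V, hUV, hUA, hq, hne⟩ := h3 hC
    have hUn := hUV.2.1
    have hVn := hUV.2.2.1
    refine ⟨V, hVn, fun hst => hne ?_⟩
    set π := QuotientGroup.mk' V
    have hUb : (U.map π).Normal := hUn.map π (QuotientGroup.mk'_surjective V)
    have hUp : IsPGroup p U := hd.pgroup.to_le (hUA.trans hd.le)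
    have hN : ∀ y : G ⧸ V, y ∈ normalizer ((U.map π : Subgroup (G ⧸ V)) : Set (G ⧸ V)) := fun y =>
      (normalizer_eq_top_iff.2 hUb).ge (mem_top y)
    set C := (centralizer ((U.map π : Subgroup (G ⧸ V)) : Set (G ⧸ V))).subgroupOf
      (normalizer ((U.map π : Subgroup (G ⧸ V)) : Set (G ⧸ V))) with hCdef
    have hmem := hst (U.map π) (hUp.map π) (π g) (hN _) (by
      rw [← MonoidHom.map_zpowers, ← map_commutator, ← map_commutator, Subgroup.map_eq_bot_iff,
        QuotientGroup.ker_mk']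
      exact hq)
    let φ : G →* _ ⧸ C := (QuotientGroup.mk' C).comp (π.codRestrict _ fun y => hN (π y))
    have hD : ((pCore p (_ ⧸ C)).comap φ).Normal := (pCore_normal p _).comap φ
    rw [← le_sectionKernel_iff, zpowers_le]
    refine le_sectionKernel_of_coprime hUV hUp hD (fun x hx hxc => ?_) hmem
    have h5 : φ x = 1 := eq_one_of_coprime_of_mem CfsgLib.PCore.pCore_isPGroup hx
      (hxc.coprime_dvd_left (orderOf_map_dvd φ x))
    exact mem_subgroupOf.1 ((QuotientGroup.eq_one_iff _).1 h5)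

end CfsgLib.Techniques.KInf
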