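import Cfsg.Prelude.Def_LocalEven
import Cfsg.Agent.Lib.PCore.Basic

/-! Normalizer `p`-stability is invariant under isomorphisms. -/

set_option autoImplicit false

namespace CfsgLib.Techniques.KInf

open Cfsg Subgroup
open scoped commutatorElement

variable {G H : Type*} [Group G] [Group H] [Finite G] [Finite H] {p : ℕ} [Fact p.Prime]

theorem isNormalizerPStable_of_mulEquiv (e : G ≃* H) (h : IsNormalizerPStable p G) :
    IsNormalizerPStable p H := by
  intro P hP g hg hq
  obtain ⟨P₀, rfl⟩ : ∃ P₀ : Subgroup G, P₀.map e.toMonoidHom = P :=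
    ⟨P.comap e.toMonoidHom, map_comap_eq_self_of_surjective (f := e.toMonoidHom) e.surjective P⟩
  obtain ⟨g₀, rfl⟩ := e.surjective g
  have hinj : Function.Injective e.toMonoidHom := e.injective
  set C := (centralizer (P₀ : Set G)).subgroupOf (normalizer (P₀ : Set G)) with hC
  set C' := (centralizer ((P₀.map e.toMonoidHom : Subgroup H) : Set H)).subgroupOf
    (normalizer ((P₀.map e.toMonoidHom : Subgroup H) : Set H)) with hC'
  have hN : ∀ x : G, x ∈ normalizer (P₀ : Set G) ↔
      e x ∈ normalizer ((P₀.map e.toMonoidHom : Subgroup H) : Set H) := by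
    intro x
    rw [← map_normalizer_eq_of_bijective _ (f := e.toMonoidHom) e.bijective]
    exact (mem_map_iff_mem hinj).symm
  let f : normalizer (P₀ : Set G) →* normalizer ((P₀.map e.toMonoidHom : Subgroup H) : Set H) :=
    (e.toMonoidHom.comp (normalizer (P₀ : Set G)).subtype).codRestrict _ fun x => (hN x).1 x.2
  have hcomap : C ≤ C'.comap f := by
    intro x hx
    rw [hC, mem_subgroupOf, mem_centralizer_iff] at hx
    rw [mem_comap, hC', mem_subgroupOf, mem_centralizer_iff]
    rintro _ ⟨a, ha, rfl⟩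
    show e a * e (x : G) = e (x : G) * e a
    rw [← map_mul, ← map_mul, hx a ha]
  have hsur : Function.Surjective (QuotientGroup.map C C' f hcomap) := by
    intro y
    obtain ⟨y, rfl⟩ := QuotientGroup.mk'_surjective _ y
    obtain ⟨x, hx⟩ := e.surjective (y : H)
    have hxN : x ∈ normalizer (P₀ : Set G) := (hN x).2 (hx ▸ y.2)
    exact ⟨QuotientGroup.mk' C ⟨x, hxN⟩, congrArg (QuotientGroup.mk' C') (Subtype.ext hx)⟩
  have hP₀ : IsPGroup p P₀ := hP.of_equiv (P₀.equivMapOfInjective e.toMonoidHom hinj).symm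
  have hq₀ : ⁅⁅P₀, zpowers g₀⁆, zpowers g₀⁆ = ⊥ := by
    rw [← map_eq_bot_iff_of_injective _ hinj, map_commutator, map_commutator, MonoidHom.map_zpowers]
    exact hq
  have h1 := h P₀ hP₀ g₀ ((hN g₀).2 hg) hq₀
  have h2 : (pCore p (_ ⧸ C)).map (QuotientGroup.map C C' f hcomap) ≤ pCore p (_ ⧸ C') :=
    CfsgLib.PCore.le_pCore ((pCore_normal p _).map _ hsur) (CfsgLib.PCore.pCore_isPGroup.map _)
  exact h2 (mem_map_of_mem (QuotientGroup.map C C' f hcomap) h1)

end CfsgLib.Techniques.KInf
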