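import Cfsg.Agent.S1972
import Cfsg.Agent.Lib.Techniques.KInfGlauberman
import Cfsg.Agent.Lib.Techniques.PStableTransport
import Cfsg.Agent.Lib.Techniques.Control

/-! The K-infinity subgroups control transfer for `p ≥ 5` and strong fusion under `p`-stability. -/

set_option autoImplicit false
set_option linter.unusedSectionVars false

namespace CfsgLib.Techniques.KInf

open Cfsg Subgroup CfsgLib.Techniques

universe u

variable {G : Type u} [Group G] [Finite G] {p : ℕ} [Fact p.Prime]

/-- A functor which is one of the two K-infinity subgroups. -/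
def IsKInf (W : ∀ (Q : Type u) [Group Q], Subgroup Q) : Prop :=
  W = @kInfLower.{u} ∨ W = @kInfUpper.{u}

theorem IsKInf.isCharPFunctor {W : ∀ (Q : Type u) [Group Q], Subgroup Q} (h : IsKInf W) :
    IsCharPFunctor.{u} p W := by
  rcases h with rfl | rfl
  · exact isCharPFunctor_kInfLower
  · exact isCharPFunctor_kInfUpper

theorem IsKInf.element {W : ∀ (Q : Type u) [Group Q], Subgroup Q} (h : IsKInf W) (S : Sylow p G)
    (hK : ¬ (inducedFunctor (G := G) W (S : Subgroup G)).Normal) :
    ∃ g : G, g ∈ (S : Subgroup G) ∧ g ∉ pCore p G ∧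
      (∀ U V : Subgroup G, IsChiefFactor U V → U ≤ pCore p G → iterCommutator U (zpowers g) 4 ≤ V) ∧
      ⁅⁅pCore p G ⊓ centralizer (pCore p G : Set G), zpowers g⁆, zpowers g⁆ = ⊥ ∧
      (centralizer (pCore p G : Set G) ≤ pCore p G →
        ∃ (N : Subgroup G) (_ : N.Normal), ¬ IsNormalizerPStable p (G ⧸ N)) := by
  rcases h with rfl | rfl
  · exact exists_element S (Or.inl hK)
  · exact exists_element S (Or.inr hK)

theorem IsKInf.transCtrl {W : ∀ (Q : Type u) [Group Q], Subgroup Q} (h : IsKInf W) (hp : 5 ≤ p)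
    (X : Type u) [Group X] [Finite X] (hX : Fusion.IsSectionOf X G) : Fusion.TransCtrl p {W} X := by
  refine Cfsg.Agent.S1972.transCtrl_of_engel W h.isCharPFunctor (fun X _ _ _ _ T hT => ?_) X hX
  obtain ⟨g, hgT, hgP, h4, -, -⟩ := h.element T hT
  refine ⟨g, hgT, hgP, fun U V hUV hUP => ?_⟩
  have h5 := iterCommutator_le_normal hUV.2.2.1 (h4 U V hUV hUP) (p - 1 - 4)
  rwa [show 4 + (p - 1 - 4) = p - 1 by omega] at h5

theorem IsKInf.fusCtrl {W : ∀ (Q : Type u) [Group Q], Subgroup Q} (h : IsKInf W)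
    (hst : ∀ (K R : Subgroup G) [(R.subgroupOf K).Normal], IsNormalizerPStable p (↥K ⧸ R.subgroupOf K))
    (X : Type u) [Group X] [Finite X] (hX : Fusion.IsSectionOf X G) : Fusion.FusCtrl p {W} X := by
  have h𝓦 : ∀ V ∈ ({W} : Set (∀ (Q : Type u) [Group Q], Subgroup Q)), IsCharPFunctor.{u} p V :=
    fun V hV => by obtain rfl := hV; exact h.isCharPFunctor
  refine Fusion.fusCtrl_of_constrained h𝓦 (fun X _ _ hX hc => ?_) X hX
  intro S D x _ _ hh
  by_cases hn : (inducedFunctor (G := X) W (S : Subgroup X)).Normal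
  · refine Fusion.chain_step (Ms := Fusion.stepGroups {W} (S : Subgroup X)) ⟨W, rfl, rfl⟩ ?_ hh
    simp only [Subgroup.normalizer_eq_top]
    exact Subgroup.mem_top x
  · exfalso
    obtain ⟨g, -, -, -, -, hns⟩ := h.element S hn
    obtain ⟨N, hN, hbad⟩ := hns hc
    obtain ⟨K, R, hnR, ⟨e⟩⟩ :=
      ((Fusion.IsSectionOf.of_surjective _ (QuotientGroup.mk'_surjective N)).trans hX).exists_quotient
    exact hbad (isNormalizerPStable_of_mulEquiv e (hst K R))

end CfsgLib.Techniques.KInf
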