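import Cfsg.Agent.Lib.PLocal.QdSection
import Cfsg.Agent.Lib.LocalEven.InvolvesFour
import Cfsg.Agent.Lib.PCore.Basic

/-! Groups not involving `Qd(p)` have `p`-stable sections. -/

set_option autoImplicit false
set_option linter.unusedSectionVars false

namespace CfsgLib.Techniques.KInf

open Cfsg Subgroup

variable {p : ℕ} [Fact p.Prime]

theorem isNormalizerPStable_of_not_involves_qd {Y : Type*} [Group Y] [Finite Y] (hp : p ≠ 2)
    (h : ¬ Involves ↥(Cfsg.qd p) Y) : IsNormalizerPStable p Y := by
  intro P hP g hg hquad
  set H := normalizer (P : Set Y) with hH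
  set V := P.subgroupOf H with hV
  have hVn : V.Normal := normal_in_normalizer
  have hst : IsPStableOn p V := by
    by_contra hns
    obtain ⟨M, f, hf⟩ := CfsgLib.PLocal.exists_qd_of_not_isPStableOn_pGroup hp V hP.comap_subtype hns
    exact h (CfsgLib.LocalEven.Involved.involves_of_subgroup
      (CfsgLib.LocalEven.Involved.involves_of_hom M f hf))
  have hPH : P ≤ H := Subgroup.le_normalizer
  have hmem := hst ⟨g, hg⟩ (by
    rw [← map_eq_bot_iff_of_injective _ H.subtype_injective, map_commutator, map_commutator,
      MonoidHom.map_zpowers, hV, map_subgroupOf_eq_of_le hPH]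
    exact hquad)
  set C := centralizer ((V : Subgroup H) : Set H) with hC
  set C' := (centralizer (P : Set Y)).subgroupOf H with hC'
  have hle : C ≤ C'.comap (MonoidHom.id H) := by
    intro x hx
    rw [mem_comap, MonoidHom.id_apply, hC', mem_subgroupOf, mem_centralizer_iff]
    intro a ha
    exact congrArg Subtype.val (mem_centralizer_iff.1 hx ⟨a, hPH ha⟩ (mem_subgroupOf.2 ha))
  have hsur : Function.Surjective (QuotientGroup.map C C' (MonoidHom.id H) hle) := by
    intro y
    obtain ⟨y, rfl⟩ := QuotientGroup.mk'_surjective _ y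
    exact ⟨QuotientGroup.mk' C y, rfl⟩
  exact CfsgLib.PCore.map_pCore_le (p := p) _ hsur (mem_map_of_mem _ hmem)

theorem isNormalizerPStable_sections_of_not_involves_qd {G : Type*} [Group G] [Finite G] (hp : p ≠ 2)
    (h : ¬ Involves ↥(Cfsg.qd p) G) (K R : Subgroup G) [(R.subgroupOf K).Normal] :
    IsNormalizerPStable p (↥K ⧸ R.subgroupOf K) :=
  isNormalizerPStable_of_not_involves_qd hp fun hX =>
    h (CfsgLib.LocalEven.Involved.involves_of_subgroup
      (CfsgLib.LocalEven.Involved.involves_of_surjective (QuotientGroup.mk' (R.subgroupOf K))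
        (QuotientGroup.mk'_surjective _) hX))

end CfsgLib.Techniques.KInf
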