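import Cfsg.Agent.Lib.Techniques.StableCore
import Cfsg.Agent.Lib.Techniques.Control
import Cfsg.Agent.Lib.PLocal.ZJ

/-!
For odd `p`, `N(Z(J(P)))` controls strong fusion in a normalizer `p`-stable group.
-/

set_option autoImplicit false
set_option linter.style.haveILetI false

open scoped commutatorElement

namespace CfsgLib.Techniques.StableQuot

open Cfsg Subgroup

universe u

variable {p : ℕ} [hp : Fact p.Prime]

/-- Normalizer `p`-stability passes to quotients by normal `p`-subgroups centralized by all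
`p'`-elements, for odd `p`. -/
theorem isNormalizerPStable_quotient_pGroup {G : Type u} [Group G] [Finite G] (hp2 : p ≠ 2)
    (U : Subgroup G) [U.Normal] (hUp : IsPGroup p U)
    (hU : ∀ x : G, (orderOf x).Coprime p → x ∈ centralizer (U : Set G))
    (hst : IsNormalizerPStable p G) : IsNormalizerPStable p (G ⧸ U) := by
  intro Pb hPb gb hgb hq
  set π := QuotientGroup.mk' U with hπ
  have hπs : Function.Surjective π := QuotientGroup.mk'_surjective U
  set P := Pb.comap π with hP
  have hPp : IsPGroup p P := CfsgLib.PCore.isPGroup_comap_mk' hUp hPb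
  set N := normalizer (P : Set G) with hN
  have hPN : P ≤ N := le_normalizer
  have hUP : U ≤ P := fun u hu => by
    rw [hP, mem_comap, show π u = 1 from (QuotientGroup.eq_one_iff u).2 hu]; exact one_mem _
  have hiff : ∀ x : G, x ∈ N ↔ π x ∈ normalizer (Pb : Set (G ⧸ U)) := by
    intro x
    rw [hN, mem_normalizer_iff, mem_normalizer_iff]
    constructor
    · intro h y
      obtain ⟨y, rfl⟩ := hπs y
      rw [← map_inv, ← map_mul, ← map_mul]
      exact h y
    · intro h y
      show π y ∈ Pb ↔ π (x * y * x⁻¹) ∈ Pb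
      rw [map_mul, map_mul, map_inv]
      exact h (π y)
  let f : N →* normalizer (Pb : Set (G ⧸ U)) :=
    (π.comp N.subtype).codRestrict _ fun x => (hiff x).1 x.2
  have hf : Function.Surjective f := by
    rintro ⟨y, hy⟩
    obtain ⟨x, rfl⟩ := hπs y
    exact ⟨⟨x, (hiff x).2 hy⟩, rfl⟩
  obtain ⟨⟨g, hg⟩, hgf⟩ := hf ⟨gb, hgb⟩
  have hπg : π g = gb := congrArg Subtype.val hgf
  haveI : (P.subgroupOf N).Normal := normal_in_normalizer
  have hqN : ⁅⁅P.subgroupOf N, zpowers (⟨g, hg⟩ : N)⁆, zpowers (⟨g, hg⟩ : N)⁆ ≤ U.subgroupOf N := by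
    rw [subgroupOf, subgroupOf, ← map_le_iff_le_comap, map_commutator, map_commutator,
      MonoidHom.map_zpowers, ← subgroupOf, map_subgroupOf_eq_of_le hPN, ← QuotientGroup.ker_mk' U,
      ← Subgroup.map_eq_bot_iff, map_commutator, map_commutator, MonoidHom.map_zpowers,
      show π (N.subtype ⟨g, hg⟩) = gb from hπg, hP, map_comap_eq_self_of_surjective hπs]
    exact hq
  have hUN : ∀ x : N, (orderOf x).Coprime p → x ∈ centralizer ((U.subgroupOf N : Subgroup N) : Set N) := by
    intro x hx
    rw [← orderOf_coe] at hx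
    exact mem_centralizer_iff.2 fun u hu =>
      Subtype.ext (mem_centralizer_iff.1 (hU x hx) u (mem_subgroupOf.1 hu))
  have h1 := mem_stabD_of_stable hp2 (isNormalizerPStable_of_injective N.subtype N.subtype_injective hst)
    (P.subgroupOf N) (U.subgroupOf N) hPp.comap_subtype hUN ⟨g, hg⟩ hqN
  set C := centralizer ((P.subgroupOf N : Subgroup N) : Set N)
  set C' := (centralizer (Pb : Set (G ⧸ U))).subgroupOf (normalizer (Pb : Set (G ⧸ U)))
  have hle : C ≤ C'.comap f := by
    intro x hx
    rw [mem_comap, mem_subgroupOf, mem_centralizer_iff]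
    intro y hy
    obtain ⟨y, rfl⟩ := hπs y
    have hyP : y ∈ P := hy
    have := congrArg (fun z : N => π (z : G)) (mem_centralizer_iff.1 hx ⟨y, hPN hyP⟩ (mem_subgroupOf.2 hyP))
    show π y * π (x : G) = π (x : G) * π y
    simpa using this
  have hsur : Function.Surjective (QuotientGroup.map C C' f hle) := by
    intro q
    obtain ⟨q, rfl⟩ := QuotientGroup.mk'_surjective C' q
    obtain ⟨x, rfl⟩ := hf q
    exact ⟨QuotientGroup.mk' C x, rfl⟩
  have h2 := CfsgLib.PCore.map_pCore_le (p := p) _ hsur (mem_map_of_mem _ h1)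
  show QuotientGroup.mk' C' ⟨gb, hgb⟩ ∈ _
  rw [← hgf]
  exact h2

/-- A normalizer `p`-stable group acts `p`-stably on its normal `p`-subgroups. -/
theorem isPStableOn_of_stable {G : Type u} [Group G] [Finite G] (hst : IsNormalizerPStable p G)
    (V : Subgroup G) [V.Normal] (hV : IsPGroup p V) : IsPStableOn p V := by
  intro a ha
  have hN : normalizer (V : Set G) = ⊤ := normalizer_eq_top V
  have h1 := hst V hV a (hN ▸ mem_top a) ha
  refine (CfsgLib.PLocal.mk_mem_pCore_iff_of_surjective (p := p) (normalizer (V : Set G)).subtype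
    (fun y => ⟨⟨y, hN ▸ mem_top y⟩, rfl⟩) (centralizer (V : Set G)) _ rfl ⟨a, hN ▸ mem_top a⟩).1 h1

/-- `Z(J(Q))` (abelian version) as a functor. -/
def zJAFun (Q : Type u) [Group Q] : Subgroup Q := CfsgLib.PLocal.centerJ 0 ⊤

theorem inducedFunctor_zJAFun {G : Type u} [Group G] (P : Subgroup G) :
    Cfsg.inducedFunctor (G := G) zJAFun P = CfsgLib.PLocal.centerJ 0 P := by
  show (CfsgLib.PLocal.centerJ 0 (⊤ : Subgroup P)).map P.subtype = _
  rw [← CfsgLib.PLocal.centerJ_map P.subtype_injective, CfsgLib.PLocal.map_subtype_top]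

theorem isCharPFunctor_zJAFun : Cfsg.IsCharPFunctor.{u} p zJAFun := by
  refine ⟨fun Q _ _ hQ hnt h0 => ?_, fun Q R _ _ _ _ φ => ?_⟩
  · exact CfsgLib.PLocal.centerJ_zero_ne_bot (hQ.to_subgroup ⊤) top_ne_bot h0
  · show (CfsgLib.PLocal.centerJ 0 ⊤).map _ = CfsgLib.PLocal.centerJ 0 ⊤
    rw [← CfsgLib.PLocal.centerJ_map φ.injective, Subgroup.map_top_of_surjective _ φ.surjective]

/-- The functor `Z J` controls strong fusion. -/
theorem fusCtrl_zJA (hp2 : p ≠ 2) (X : Type u) [Group X] [Finite X] (hX : IsNormalizerPStable p X) :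
    Fusion.FusCtrl p ({zJAFun} : Set (∀ (Q : Type u) [Group Q], Subgroup Q)) X := by
  have h𝓦 : ∀ W ∈ ({zJAFun} : Set (∀ (Q : Type u) [Group Q], Subgroup Q)),
      Cfsg.IsCharPFunctor p W := fun W hW => by obtain rfl := hW; exact isCharPFunctor_zJAFun
  suffices H : ∀ (n : ℕ) (X : Type u) [Group X] [Finite X], Nat.card X < n → IsNormalizerPStable p X →
      Fusion.FusCtrl p ({zJAFun} : Set (∀ (Q : Type u) [Group Q], Subgroup Q)) X from
    H _ X (Nat.lt_succ_self _) hX
  intro n
  induction n with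
  | zero => intro X _ _ h; omega
  | succ n ih =>
    intro X _ _ hn hX S
    refine Fusion.reduction_skeleton h𝓦 S (Fusion.isMapClosed_chain _ _) ?_ ?_ ?_ ?_ ?_
    · intro W hW D h hh _ hhD
      exact Fusion.chain_step (Ms := Fusion.stepGroups _ (S : Subgroup X)) ⟨W, hW, rfl⟩ hh hhD
    · intro H T hH hTS hTH hi hsteps
      exact Fusion.holdsOn_of_fusCtrl h𝓦 (Fusion.isMapClosed_chain _ _) hTS hTH (S.2.to_le hTS) hi
        (ih H (by have := Fusion.card_lt_of_ne_top hH; omega)
          (isNormalizerPStable_of_injective H.subtype H.subtype_injective hX)) hsteps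
    · intro hK
      have hKn : (pPrimeCore p X).Normal := pPrimeCore_normal p X
      exact Fusion.holdsOn_chain_of_quotient_pPrime h𝓦 S (pPrimeCore p X)
        CfsgLib.PCore.pPrimeCore_coprime (ih _ (by have := Fusion.card_quotient_lt _ hK; omega)
          (isNormalizerPStable_quotient_coprime _ CfsgLib.PCore.pPrimeCore_coprime hX))
    · intro hc D h _ _ hhD
      have hn' := CfsgLib.PLocal.zj_normal (e := 0) hp2 (Or.inl rfl) hc
        (fun V _ hV => isPStableOn_of_stable hX V hV) S
      rw [CfsgLib.PLocal.zj_zero] at hn'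
      refine Fusion.chain_step (Ms := Fusion.stepGroups {zJAFun} (S : Subgroup X))
        (M := normalizer ((Cfsg.inducedFunctor (G := X) zJAFun (S : Subgroup X) : Subgroup X) : Set X))
        ⟨zJAFun, rfl, rfl⟩ ?_ hhD
      rw [inducedFunctor_zJAFun, normalizer_eq_top (CfsgLib.PLocal.centerJ 0 (S : Subgroup X))]
      exact mem_top _
    · intro hP0 hne htop hprop
      have hPn : (pCore p X).Normal := pCore_normal p X
      refine Fusion.holdsOn_chain_of_quotient_pCore h𝓦 S (pCore p X) rfl hne htop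
        (ih _ (by have := Fusion.card_quotient_lt _ hP0; omega) ?_)
        (hprop _ (Fusion.sylow_ne_top S hne) le_rfl) hprop
      refine isNormalizerPStable_quotient_pGroup hp2 _ CfsgLib.PCore.pCore_isPGroup (fun x hx => ?_) hX
      set C := centralizer (pCore p X : Set X)
      have h1 : (S : Subgroup X).map (QuotientGroup.mk' C) = ⊤ := by
        rw [← Subgroup.map_top_of_surjective (QuotientGroup.mk' C) (QuotientGroup.mk'_surjective C),
          ← htop, Subgroup.map_sup, QuotientGroup.map_mk'_self, bot_sup_eq]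
      obtain ⟨s, hs, hsx⟩ := h1.ge (mem_top (QuotientGroup.mk' C x))
      obtain ⟨j, hj⟩ := S.2 ⟨s, hs⟩
      have hj' : QuotientGroup.mk' C x ^ p ^ j = 1 := by
        rw [← hsx, ← map_pow, show s ^ p ^ j = 1 by simpa using congrArg Subtype.val hj, map_one]
      exact (QuotientGroup.eq_one_iff x).1 (orderOf_eq_one_iff.1
        (Nat.eq_one_of_dvd_coprimes (hx.pow_right j) (orderOf_map_dvd (QuotientGroup.mk' C) x)
          (orderOf_dvd_of_pow_eq_one hj')))

end CfsgLib.Techniques.StableQuot
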