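import Cfsg.Agent.Lib.Techniques.CentricControl
import Cfsg.Agent.Lib.Techniques.StableControl

/-!
For odd `p`, a normalizer `p`-stable group has a centric normal subgroup of its Sylow `p`-subgroup whose
normalizer controls strong fusion.
-/

set_option autoImplicit false

namespace CfsgLib.Techniques

open Subgroup CfsgLib.Techniques.Fusion Cfsg.Agent.S1954

universe u

variable {p : ℕ} [Fact p.Prime]

/-- `N(Z(J(P)))` controls strong fusion. -/
theorem StableQuot.ctrl_zJA {G : Type u} [Group G] [Finite G] (hp2 : p ≠ 2)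
    (hst : Cfsg.IsNormalizerPStable p G) (P : Sylow p G) (A : Subgroup G)
    (hA : A ≤ (P : Subgroup G)) (g : G) (hg : A.map (MulAut.conj g).toMonoidHom ≤ (P : Subgroup G)) :
    Ctrl (CfsgLib.PLocal.centerJ 0 (P : Subgroup G)) A g := by
  have hc := StableQuot.fusCtrl_zJA hp2 G hst P _ g (mem_top _) hA hg
  rw [Fusion.stepGroups, Set.image_singleton] at hc
  obtain ⟨x, hx, hx'⟩ := hc.exists_mem
  rw [StableQuot.inducedFunctor_zJAFun] at hx
  refine ⟨x, hx, x⁻¹ * g, mem_centralizer_iff.2 fun a ha => ?_, by group⟩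
  calc a * (x⁻¹ * g) = x⁻¹ * (x * a * x⁻¹) * g := by group
    _ = x⁻¹ * g * a := by rw [hx' a ha]; group

/-- Existence of a centric subgroup whose normalizer controls strong fusion. -/
theorem exists_goodIn_of_stable (hp2 : p ≠ 2) {G : Type u} [Group G] [Finite G] (hst : Cfsg.IsNormalizerPStable p G)
    (P : Sylow p G) : ∃ Q, GoodIn ⊤ (P : Subgroup G) Q := by
  suffices H : ∀ (n : ℕ) (G : Type u) [Group G] [Finite G], Nat.card G < n → Cfsg.IsNormalizerPStable p G →
      ∀ P : Sylow p G, ∃ Q, GoodIn ⊤ (P : Subgroup G) Q from H _ G (Nat.lt_succ_self _) hst P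
  intro n
  induction n with
  | zero => intro G _ _ h; omega
  | succ n ih =>
    intro G _ _ hn hst P
    set S : Subgroup G := P.toSubgroup
    have hSp : IsPGroup p S := P.2
    by_cases hS : S = ⊥
    · refine ⟨⊥, goodIn_top bot_le (by rw [hS]; exact bot_le) (by rw [hS]; exact inf_le_left) fun A _ g _ => ?_⟩
      exact ⟨g, by rw [normalizer_eq_top]; exact mem_top g, 1, one_mem _, by simp⟩
    set W := CfsgLib.PLocal.centerJ 0 S with hW
    have hW1 : W ≠ ⊥ := CfsgLib.PLocal.centerJ_zero_ne_bot hSp hS
    have hWS : W ≤ S := CfsgLib.PLocal.centerJ_le 0 S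
    have hsub : ∀ X T : Subgroup G, X ≠ ⊤ → T ≤ X → IsPGroup p T → ¬ p ∣ T.relIndex X →
        ∃ Q, GoodIn X T Q := fun X T hX hTX hT hi => exists_goodIn_of_subgroup hTX hT hi fun R =>
      ih ↥X (by have := card_lt_of_ne_top hX; omega) (StableQuot.isNormalizerPStable_of_injective X.subtype X.subtype_injective hst) R
    by_cases hN : normalizer (W : Set G) = ⊤
    swap
    · have hSN : S ≤ normalizer (W : Set G) := CfsgLib.PLocal.le_normalizer_centerJ 0 S
      obtain ⟨Q, hQ⟩ := hsub _ S hN hSN hSp (not_dvd_relIndex_sylow P hSN)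
      refine ⟨Q, goodIn_top hQ.1 hQ.2.1 hQ.2.2.1 fun A hA g hg => ?_⟩
      obtain ⟨h, hh, c, hc, rfl⟩ := StableQuot.ctrl_zJA hp2 hst P A hA g hg
      rw [map_conj_mul, map_conj_eq_self_iff.2 (centralizer_le_normalizer _ hc)] at hg
      obtain ⟨h', hh', c', hc', rfl⟩ := hQ.2.2.2 A hA h hh hg
      exact ⟨h', (mem_inf.1 hh').2, c' * c, mul_mem (mem_inf.1 hc').2 hc, by rw [mul_assoc]⟩
    haveI hWn : W.Normal := normalizer_eq_top_iff.1 hN
    set C := centralizer (W : Set G) with hC
    have hWC : W ≤ C := le_centralizer_iff_isMulCommutative.2 (CfsgLib.PLocal.centerJ_isMulCommutative 0 S)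
    by_cases hCtop : C = ⊤
    swap
    · set T := S ⊓ C with hT
      obtain ⟨V0, hV0⟩ := hsub C T hCtop inf_le_right (hSp.to_le inf_le_left) (not_dvd_relIndex_inf_normal P C)
      obtain ⟨V, hV, hmax⟩ := hV0.exists_greatest
      have hST : S ≤ normalizer (T : Set G) := fun s hs =>
        mem_normalizer_inf (le_normalizer hs) (by rw [normalizer_eq_top]; exact mem_top s)
      have hTV : normalizer (T : Set G) ≤ normalizer (V : Set G) := fun x hx => by
        refine map_conj_eq_self_iff.1 (eq_of_le_of_card_ge (hmax _ (hV.conj ?_ hx)) (card_map_conj _ _).ge)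
        rw [normalizer_eq_top]; exact mem_top x
      set W' := closure (⋃ x ∈ normalizer (T : Set G),
        ((V.map (MulAut.conj x).toMonoidHom : Subgroup G) : Set G)) with hW'
      have hW'V : W' = V := by
        refine le_antisymm ((closure_le _).2 (Set.iUnion₂_subset fun x hx => ?_)) fun v hv => ?_
        · rw [map_conj_eq_self_iff.2 (hTV hx)]
        · refine subset_closure (Set.mem_iUnion₂.2 ⟨1, one_mem _, ?_⟩)
          rw [map_conj_one]; exact hv
      have hctl := Cfsg.Agent.S1954.result C P V hV.1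
        (fun x hx => map_conj_eq_self_iff.2 (hV.2.1 hx)) hV.2.2.2 W' hW'
      have hWV : W ≤ V := fun w hw => hV.2.2.1 (mem_inf.2 ⟨mem_inf.2 ⟨hWS hw, hWC hw⟩,
        mem_centralizer_iff.2 fun v hv => (mem_centralizer_iff.1 (mem_inf.1 (hV.1 hv)).2 w hw).symm⟩)
      refine ⟨V, goodIn_top (hV.1.trans inf_le_left) (hST.trans hTV) (fun x hx => ?_)
        fun A hA g hg => hW'V ▸ hctl A hA g hg⟩
      obtain ⟨hxS, hxV⟩ := mem_inf.1 hx
      exact hV.2.2.1 (mem_inf.2 ⟨mem_inf.2 ⟨hxS, centralizer_le (SetLike.coe_subset_coe.2 hWV) hxV⟩, hxV⟩)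
    -- `W` is central
    have hcen : ∀ w ∈ W, ∀ g : G, g * w = w * g := fun w hw g =>
      (mem_centralizer_iff.1 (hCtop.ge (mem_top g) : g ∈ C) w hw).symm
    set π := QuotientGroup.mk' W with hπ
    have hπs : Function.Surjective π := QuotientGroup.mk'_surjective W
    obtain ⟨Qb, hQb⟩ := ih (G ⧸ W) (by have := card_quotient_lt W hW1; omega)
      (StableQuot.isNormalizerPStable_quotient_pGroup hp2 W (hSp.to_le hWS)
        (fun x _ => mem_centralizer_iff.2 fun w hw => (hcen w hw x).symm) hst) (P.mapSurjective hπs)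
    rw [Sylow.coe_mapSurjective] at hQb
    set Q := Qb.comap π with hQ
    have hQS : Q ≤ S := by
      refine (Subgroup.comap_mono hQb.1).trans (le_of_eq ?_)
      rw [comap_map_eq, QuotientGroup.ker_mk', sup_eq_left.2 hWS]
    have hlift : ∀ x : G, π x ∈ normalizer (Qb : Set (G ⧸ W)) → x ∈ normalizer (Q : Set G) := by
      intro x hx
      rw [mem_normalizer_iff]
      intro z
      simp only [hQ, mem_comap, map_mul, map_inv]
      exact mem_normalizer_iff.1 hx (π z)
    have hSQ : S ≤ normalizer (Q : Set G) := fun s hs => hlift s (hQb.2.1 (mem_map_of_mem π hs))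
    have hcentric : S ⊓ centralizer (Q : Set G) ≤ Q := by
      intro x hx
      refine hQb.2.2.1 (mem_inf.2 ⟨mem_map_of_mem π (mem_inf.1 hx).1, mem_centralizer_iff.2 fun q hq => ?_⟩)
      obtain ⟨q, rfl⟩ := hπs q
      rw [← map_mul, ← map_mul, mem_centralizer_iff.1 (mem_inf.1 hx).2 q hq]
    refine ⟨Q, goodIn_top hQS hSQ hcentric ?_⟩
    have main : ∀ (m : ℕ) (U : Subgroup G), Nat.card S - Nat.card U < m → IsFN p S U →
        ∀ x ∈ normalizer (U : Set G), Ctrl Q U x := by
      intro m
      induction m with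
      | zero => intro U h; omega
      | succ m ihm =>
        intro U hlt hU x hx
        have habove : HoldsAbove S (Ctrl Q) (Nat.card U) := by
          refine holdsAbove_of_family P (ctrl_closed _ Q) Set.univ _ (fun T hT _ => ?_) ?_
          · obtain ⟨g, hg⟩ := exists_isFN_conj P (hSp.to_le hT)
            exact ⟨_, Set.mem_univ _, ⟨g, rfl⟩, hg⟩
          · intro U' _ hlt' hU' x' hx'
            have : Nat.card U' ≤ Nat.card S := card_le_of_le hU'.1
            exact ihm U' (by omega) hU' x' hx'
        by_cases hWU : W ≤ U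
        swap
        · set U' := U ⊔ W with hU'
          have hlt' : U < U' := lt_of_le_of_ne le_sup_left fun e => hWU (e ▸ le_sup_right)
          have hxU' : x ∈ normalizer (U' : Set G) := by
            rw [← map_conj_eq_self_iff, Subgroup.map_sup, map_conj_eq_self_iff.2 hx,
              map_conj_eq_self_iff.2 (normalizer_eq_top W ▸ mem_top x : x ∈ normalizer (W : Set G))]
          refine (ctrl_closed S Q).mono hlt'.le (habove U' x (card_lt_of_lt hlt') (sup_le hU.1 hWS) ?_)
          rw [map_conj_eq_self_iff.2 hxU']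
          exact sup_le hU.1 hWS
        have hUb : U.map π ≤ S.map π := Subgroup.map_mono hU.1
        have hxb : (U.map π).map (MulAut.conj (π x)).toMonoidHom ≤ S.map π := by
          rw [map_conj_eq_self_iff.2 (le_normalizer_map π (mem_map_of_mem π hx))]
          exact hUb
        obtain ⟨hb, hhb, cb, hcb, e⟩ := hQb.ctrl hUb hxb
        obtain ⟨h, rfl⟩ := hπs hb
        set M := normalizer (U : Set G)
        set Y := (centralizer ((U.map π : Subgroup (G ⧸ W)) : Set (G ⧸ W))).comap π with hY
        have hYU : Y ≤ M := by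
          intro y hy
          have key : ∀ y ∈ Y, ∀ u ∈ U, y * u * y⁻¹ ∈ U := by
            intro y hy u hu
            have h1 : π (y * u * y⁻¹ * u⁻¹) = 1 := by
              have h2 := mem_centralizer_iff.1 hy (π u) (mem_map_of_mem π hu)
              rw [map_mul, map_mul, map_mul, map_inv, map_inv, ← h2]
              group
            simpa using mul_mem (hWU ((QuotientGroup.eq_one_iff _).1 h1)) hu
          rw [mem_normalizer_iff]
          refine fun u => ⟨key y hy u, fun hu => ?_⟩
          simpa [mul_assoc] using key y⁻¹ (inv_mem hy) _ hu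
        have hMY : M ≤ normalizer (Y : Set G) := by
          intro g hg
          rw [mem_normalizer_iff]
          intro z
          simp only [hY, mem_comap, map_mul, map_inv]
          exact mem_normalizer_iff.1
            (normalizer_le_normalizer_centralizer _ (le_normalizer_map π (mem_map_of_mem π hg))) (π z)
        have hcY : h⁻¹ * x ∈ Y := by
          rw [hY, mem_comap, map_mul, map_inv, e, inv_mul_cancel_left]
          exact hcb
        set T := (S ⊓ M) ⊓ Y with hTdef
        set K := Y ⊓ centralizer (U : Set G) with hK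
        have hTi : ¬ p ∣ T.relIndex Y := Cfsg.Agent.S1954.not_dvd_relIndex_inf (hSp.to_le inf_le_left) inf_le_right hYU hMY hU.2
        have hYK : Y ≤ T ⊔ K := by
          rw [← subgroupOf_eq_top]
          refine CfsgLib.Transfer.eq_top_of_pResidual_le (p := p) (CfsgLib.Transfer.pResidual_le_iff.2 ?_) ?_
          · intro c hc
            rw [← orderOf_coe] at hc
            refine mem_subgroupOf.2 (mem_sup_right (mem_inf.2 ⟨c.2, mem_centralizer_iff.2 fun u hu => ?_⟩))
            obtain ⟨k, hk⟩ := (hSp.to_le hU.1).exists_card_eq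
            have hy : u⁻¹ * ((c : G) * u * (c : G)⁻¹) ∈ W := by
              refine (QuotientGroup.eq_one_iff _).1 ?_
              have h2 := mem_centralizer_iff.1 (show π (c : G) ∈ _ from c.2) (π u) (mem_map_of_mem π hu)
              show π (u⁻¹ * ((c : G) * u * (c : G)⁻¹)) = 1
              rw [map_mul, map_mul, map_mul, map_inv, map_inv, ← h2]
              group
            refine (CfsgLib.OddOrder41.fixes_of_step_fixed (H := U) (x := u⁻¹ * ((c : G) * u * (c : G)⁻¹))
              (by rw [hk]; exact hc.pow_right k) (hWU hy) (by group) ?_).symm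
            rw [hcen _ hy (c : G)]
            group
          · exact fun hd => hTi (hd.trans (relIndex_dvd_of_le_left Y le_sup_left))
        obtain ⟨t, ht, k, hk, etk⟩ := exists_mul_of_mem_sup (A := T) (B := K) (fun t ht =>
          mem_normalizer_inf (le_normalizer (mem_inf.1 ht).2)
            (normalizer_le_normalizer_centralizer U (mem_inf.1 (mem_inf.1 ht).1).2)) (hYK hcY)
        exact ⟨h * t, mul_mem (hlift h hhb) (hSQ (mem_inf.1 (mem_inf.1 ht).1).1), k, (mem_inf.1 hk).2,
          by rw [mul_assoc, etk, mul_inv_cancel_left]⟩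
    intro A hA g hg
    refine holdsAbove_of_family P (ctrl_closed _ Q) Set.univ 0 (fun T hT _ => ?_)
      (fun U _ _ hU x hx => main _ U (Nat.lt_succ_self _) hU x hx) A g Nat.card_pos hA hg
    obtain ⟨g', hg'⟩ := exists_isFN_conj P (hSp.to_le hT)
    exact ⟨_, Set.mem_univ _, ⟨g', rfl⟩, hg'⟩

end CfsgLib.Techniques
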