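import Cfsg.Agent.Lib.KnownSimple51.QdFree

/-! Named elements of `Qd(p)`. -/

set_option autoImplicit false

namespace CfsgLib.Techniques.QdElements

open Matrix CfsgLib.KnownSimple51

variable {p : ℕ} [hp : Fact p.Prime]

local notation "SL2" => SpecialLinearGroup (Fin 2) (ZMod p)

/-- The linear part. -/
def linPart : ↥(Cfsg.qd p) →* SL2 where
  toFun M := ⟨!![M.1.1 0 0, M.1.1 0 1; M.1.1 1 0, M.1.1 1 1], by
    have h := M.1.2
    obtain ⟨h0, h1, h2⟩ := QdFree.mem_qd_iff.1 M.2
    rw [Matrix.det_fin_three] at h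
    rw [Matrix.det_fin_two]
    simp [h0, h1, h2] at h
    simp
    linear_combination h⟩
  map_one' := by
    apply Subtype.ext
    ext i j
    fin_cases i <;> fin_cases j <;> simp <;> rfl
  map_mul' A B := by
    obtain ⟨b0, b1, b2⟩ := QdFree.mem_qd_iff.1 B.2
    apply Subtype.ext
    change _ = (!![A.1.1 0 0, A.1.1 0 1; A.1.1 1 0, A.1.1 1 1] : Matrix (Fin 2) (Fin 2) (ZMod p)) *
      !![B.1.1 0 0, B.1.1 0 1; B.1.1 1 0, B.1.1 1 1]
    ext i j
    fin_cases i <;> fin_cases j <;> simp [Matrix.SpecialLinearGroup.coe_mul, Matrix.mul_apply, Fin.sum_univ_three, Fin.sum_univ_two, b0, b1]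

/-- The linear elements. -/
def linEmb : SL2 →* ↥(Cfsg.qd p) where
  toFun M := ⟨⟨!![M.1 0 0, M.1 0 1, 0; M.1 1 0, M.1 1 1, 0; 0, 0, 1], by
    have h := M.2
    rw [Matrix.det_fin_two] at h
    rw [Matrix.det_fin_three]
    simp
    linear_combination h⟩, QdFree.mem_qd_iff.2 (by simp)⟩
  map_one' := by
    apply Subtype.ext
    apply Subtype.ext
    ext i j
    fin_cases i <;> fin_cases j <;> simp
  map_mul' A B := by
    apply Subtype.ext
    apply Subtype.ext
    change _ = (!![A.1 0 0, A.1 0 1, 0; A.1 1 0, A.1 1 1, 0; 0, 0, 1] : Matrix (Fin 3) (Fin 3) (ZMod p)) *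
      !![B.1 0 0, B.1 0 1, 0; B.1 1 0, B.1 1 1, 0; 0, 0, 1]
    ext i j
    fin_cases i <;> fin_cases j <;> simp [Matrix.SpecialLinearGroup.coe_mul, Matrix.mul_apply, Fin.sum_univ_three, Fin.sum_univ_two]

theorem coe_linPart (M : ↥(Cfsg.qd p)) :
    (linPart M).1 = !![M.1.1 0 0, M.1.1 0 1; M.1.1 1 0, M.1.1 1 1] := rfl

theorem coe_linEmb (M : SL2) :
    (linEmb M).1.1 = !![M.1 0 0, M.1 0 1, 0; M.1 1 0, M.1 1 1, 0; 0, 0, 1] := rfl

theorem linPart_linEmb (M : SL2) : linPart (linEmb M) = M := by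
  apply Subtype.ext
  ext i j
  fin_cases i <;> fin_cases j <;> simp [coe_linPart, coe_linEmb]

/-- Upper unitriangular. -/
def up (x : ZMod p) : SL2 := ⟨!![1, x; 0, 1], by simp [Matrix.det_fin_two]⟩

/-- Lower unitriangular. -/
def low (x : ZMod p) : SL2 := ⟨!![1, 0; x, 1], by simp [Matrix.det_fin_two]⟩

theorem coe_up (x : ZMod p) : (up x).1 = !![1, x; 0, 1] := rfl

theorem coe_low (x : ZMod p) : (low x).1 = !![1, 0; x, 1] := rfl

theorem up_add (x y : ZMod p) : up x * up y = up (x + y) := by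
  apply Subtype.ext
  ext i j
  fin_cases i <;> fin_cases j <;> simp [Matrix.SpecialLinearGroup.coe_mul, coe_up, Matrix.mul_apply, Fin.sum_univ_two, add_comm]

theorem low_add (x y : ZMod p) : low x * low y = low (x + y) := by
  apply Subtype.ext
  ext i j
  fin_cases i <;> fin_cases j <;> simp [Matrix.SpecialLinearGroup.coe_mul, coe_low, Matrix.mul_apply, Fin.sum_univ_two, add_comm]

theorem up_zero : up (0 : ZMod p) = 1 := by
  apply Subtype.ext
  ext i j
  fin_cases i <;> fin_cases j <;> simp [coe_up]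

theorem low_zero : low (0 : ZMod p) = 1 := by
  apply Subtype.ext
  ext i j
  fin_cases i <;> fin_cases j <;> simp [coe_low]

theorem up_pow (x : ZMod p) (n : ℕ) : up x ^ n = up ((n : ZMod p) * x) := by
  induction n with
  | zero => simp [up_zero]
  | succ k ih => rw [pow_succ, ih, up_add]; push_cast; ring_nf

theorem low_pow (x : ZMod p) (n : ℕ) : low x ^ n = low ((n : ZMod p) * x) := by
  induction n with
  | zero => simp [low_zero]
  | succ k ih => rw [pow_succ, ih, low_add]; push_cast; ring_nf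

/-- Diagonal. -/
def diag (x : (ZMod p)ˣ) : SL2 := ⟨!![(x : ZMod p), 0; 0, (x : ZMod p)⁻¹], by
  simp [Matrix.det_fin_two, -ZMod.inv_coe_unit]⟩

theorem coe_diag (x : (ZMod p)ˣ) :
    (diag x).1 = !![(x : ZMod p), 0; 0, (x : ZMod p)⁻¹] := rfl

theorem diag_mul (x y : (ZMod p)ˣ) : diag x * diag y = diag (x * y) := by
  apply Subtype.ext
  ext i j
  fin_cases i <;> fin_cases j <;> simp [-ZMod.inv_coe_unit, Matrix.SpecialLinearGroup.coe_mul, coe_diag, Matrix.mul_apply, Fin.sum_univ_two, mul_comm]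

/-- The Weyl element. -/
def weyl : SL2 := up 1 * low (-1) * up 1

theorem two_ne_zero' (hp3 : 3 < p) : (2 : ZMod p) ≠ 0 := by
  intro h
  have : ((2 : ℕ) : ZMod p) = 0 := by exact_mod_cast h
  have := Nat.le_of_dvd two_pos ((ZMod.natCast_eq_zero_iff 2 p).1 this)
  omega

theorem three_ne_zero' (hp3 : 3 < p) : (3 : ZMod p) ≠ 0 := by
  intro h
  have : ((3 : ℕ) : ZMod p) = 0 := by exact_mod_cast h
  have := Nat.le_of_dvd three_pos ((ZMod.natCast_eq_zero_iff 3 p).1 this)
  omega

theorem exists_elements (hp3 : 3 < p) :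
    ∃ (T : Subgroup ↥(Cfsg.qd p)) (s u v w h : ↥(Cfsg.qd p)),
      T.Normal ∧ Nat.card T = p ^ 2 ∧ (∀ x ∈ T, x ^ p = 1) ∧ (∀ x ∈ T, s * x * s⁻¹ = x⁻¹) ∧
      s ^ 2 = 1 ∧ s ∉ T ∧ (∀ g, g * s * g⁻¹ * s⁻¹ ∈ T) ∧ u ^ p = 1 ∧ u ∉ T ∧ v ^ p = 1 ∧
      w * u * w⁻¹ = v ∧ s * u = u * s ∧ s ∈ Subgroup.closure {u, v} ∧ h ∈ Subgroup.closure {u, v} ∧
      s * h = h * s ∧ h * u * h⁻¹ = u ^ 4 ∧ h ^ (p - 1) = 1 := by
  have h2 := two_ne_zero' hp3
  let S : SL2 := diag (-1)
  let two : (ZMod p)ˣ := Units.mk0 2 h2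
  have hS : S = weyl * weyl := by
    apply Subtype.ext
    ext i j
    fin_cases i <;> fin_cases j <;> simp [Matrix.SpecialLinearGroup.coe_mul, S, coe_diag, weyl, coe_up, coe_low, Matrix.mul_apply, Fin.sum_univ_two]
  obtain ⟨m, hm⟩ : ∃ m : ℕ, (m : ZMod p) = (2 : ZMod p)⁻¹ := ⟨((2 : ZMod p)⁻¹).val, ZMod.natCast_zmod_val _⟩
  have hH : diag two = up 1 ^ 2 * low (-1) ^ m * up 1 ^ 2 * weyl⁻¹ := by
    rw [eq_mul_inv_iff_mul_eq, up_pow, low_pow]
    apply Subtype.ext
    ext i j
    fin_cases i <;> fin_cases j <;>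
      simp [Matrix.SpecialLinearGroup.coe_mul, two, coe_diag, weyl, coe_up, coe_low, Matrix.mul_apply, Fin.sum_univ_two, hm, h2] <;> ring
  have hc : ∀ M : SL2, S * M = M * S := by
    intro M
    apply Subtype.ext
    ext i j
    fin_cases i <;> fin_cases j <;> simp [Matrix.SpecialLinearGroup.coe_mul, S, coe_diag, Matrix.mul_apply, Fin.sum_univ_two]
  have hker : ∀ x : ↥(Cfsg.qd p), x ∈ (linPart (p := p)).ker →
      x.1 ∈ QdFree.transl p := by
    intro x hx i j hij
    obtain ⟨h0, h1, h3⟩ := QdFree.mem_qd_iff.1 x.2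
    have e : (linPart x).1 = (1 : Matrix (Fin 2) (Fin 2) (ZMod p)) := by
      rw [MonoidHom.mem_ker.1 hx]
      rfl
    have e00 := congrFun (congrFun e 0) 0
    have e01 := congrFun (congrFun e 0) 1
    have e10 := congrFun (congrFun e 1) 0
    have e11 := congrFun (congrFun e 1) 1
    simp [coe_linPart] at e00 e01 e10 e11
    fin_cases i <;> fin_cases j <;> simp at hij <;> simp [e00, e01, e10, e11, h0, h1, h3]
  refine ⟨(linPart (p := p)).ker, linEmb S, linEmb (up 1), linEmb (low (-1)), linEmb weyl,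
    linEmb (diag two), inferInstance, ?_, ?_, ?_, ?_, ?_, ?_, ?_, ?_, ?_, ?_, ?_, ?_, ?_, ?_, ?_, ?_⟩
  · let e : (linPart (p := p)).ker ≃ ZMod p × ZMod p :=
      { toFun := fun x => (x.1.1.1 0 2, x.1.1.1 1 2)
        invFun := fun xy => ⟨⟨⟨!![1, 0, xy.1; 0, 1, xy.2; 0, 0, 1],
            by simp [Matrix.det_fin_three]⟩, QdFree.mem_qd_iff.2 (by simp)⟩, by
          rw [MonoidHom.mem_ker]
          apply Subtype.ext
          ext i j
          fin_cases i <;> fin_cases j <;> simp [coe_linPart]⟩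
        left_inv := fun x => by
          have hx := hker x.1 x.2
          apply Subtype.ext
          apply Subtype.ext
          apply Subtype.ext
          ext i j
          fin_cases i <;> fin_cases j <;>
            simp [hx 0 0, hx 0 1, hx 1 0, hx 1 1, hx 2 0, hx 2 1, hx 2 2]
        right_inv := fun xy => by simp }
    rw [Nat.card_congr e, Nat.card_prod, Nat.card_zmod, sq]
  · intro x hx
    exact Subtype.ext (by simpa using QdFree.pow_eq_one_of_mem_transl (hker x hx))
  · intro x hx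
    have ht := hker x hx
    have hinv : (linEmb S)⁻¹ = linEmb S := by
      rw [← map_inv]
      congr 1
      rw [inv_eq_iff_mul_eq_one, diag_mul]
      apply Subtype.ext
      ext i j
      fin_cases i <;> fin_cases j <;> simp [-ZMod.inv_coe_unit, coe_diag]
    rw [hinv, eq_inv_iff_mul_eq_one]
    apply Subtype.ext
    apply Subtype.ext
    ext i j
    fin_cases i <;> fin_cases j <;>
      simp [Matrix.SpecialLinearGroup.coe_mul, S, coe_diag, coe_linEmb, Matrix.mul_apply, Matrix.vecMul, dotProduct, Fin.sum_univ_three, ht 0 0, ht 0 1, ht 1 0, ht 1 1, ht 2 0, ht 2 1, ht 2 2]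
  · rw [← map_pow, sq, diag_mul]
    convert map_one (linEmb (p := p))
    apply Subtype.ext
    ext i j
    fin_cases i <;> fin_cases j <;> simp [-ZMod.inv_coe_unit, coe_diag]
  · rw [MonoidHom.mem_ker, linPart_linEmb]
    intro h
    have := congrFun (congrFun (congrArg Subtype.val h) 0) 0
    simp [S, coe_diag] at this
    exact h2 (by linear_combination -this)
  · intro g
    rw [MonoidHom.mem_ker, map_mul, map_mul, map_mul, map_inv, map_inv, linPart_linEmb, ← hc]
    group
  · rw [← map_pow, up_pow, ZMod.natCast_self, zero_mul, up_zero, map_one]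
  · rw [MonoidHom.mem_ker, linPart_linEmb]
    intro h
    have := congrFun (congrFun (congrArg Subtype.val h) 0) 1
    simp [coe_up] at this
  · rw [← map_pow, low_pow, ZMod.natCast_self, zero_mul, low_zero, map_one]
  · rw [← map_inv, ← map_mul, ← map_mul]
    congr 1
    rw [mul_inv_eq_iff_eq_mul]
    apply Subtype.ext
    ext i j
    fin_cases i <;> fin_cases j <;> simp [Matrix.SpecialLinearGroup.coe_mul, weyl, coe_up, coe_low, Matrix.mul_apply, Fin.sum_univ_two]
  · rw [← map_mul, ← map_mul, hc]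
  · have hu : linEmb (up 1) ∈ Subgroup.closure {linEmb (up (1 : ZMod p)), linEmb (low (-1))} :=
      Subgroup.subset_closure (by simp)
    have hv : linEmb (low (-1)) ∈ Subgroup.closure {linEmb (up (1 : ZMod p)), linEmb (low (-1))} :=
      Subgroup.subset_closure (by simp)
    rw [hS, weyl, map_mul, map_mul, map_mul]
    exact mul_mem (mul_mem (mul_mem hu hv) hu) (mul_mem (mul_mem hu hv) hu)
  · have hu : linEmb (up 1) ∈ Subgroup.closure {linEmb (up (1 : ZMod p)), linEmb (low (-1))} :=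
      Subgroup.subset_closure (by simp)
    have hv : linEmb (low (-1)) ∈ Subgroup.closure {linEmb (up (1 : ZMod p)), linEmb (low (-1))} :=
      Subgroup.subset_closure (by simp)
    rw [hH, weyl]
    simp only [map_mul, map_pow, map_inv]
    exact mul_mem (mul_mem (mul_mem (pow_mem hu 2) (pow_mem hv m)) (pow_mem hu 2))
      (inv_mem (mul_mem (mul_mem hu hv) hu))
  · rw [← map_mul, ← map_mul, hc]
  · rw [← map_inv, ← map_mul, ← map_mul, ← map_pow, up_pow]
    congr 1
    rw [mul_inv_eq_iff_eq_mul]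
    apply Subtype.ext
    ext i j
    fin_cases i <;> fin_cases j <;> simp [Matrix.SpecialLinearGroup.coe_mul, two, coe_diag, coe_up, Matrix.mul_apply, Fin.sum_univ_two, h2]
    field_simp
    ring
  · rw [← map_pow]
    have hd : ∀ n : ℕ, diag two ^ n = diag (two ^ n) := by
      intro n
      induction n with
      | zero =>
        apply Subtype.ext
        ext i j
        fin_cases i <;> fin_cases j <;> simp [-ZMod.inv_coe_unit, coe_diag]
      | succ k ih => rw [pow_succ, ih, diag_mul, pow_succ]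
    rw [hd, ZMod.units_pow_card_sub_one_eq_one]
    convert map_one (linEmb (p := p))
    apply Subtype.ext
    ext i j
    fin_cases i <;> fin_cases j <;> simp [-ZMod.inv_coe_unit, coe_diag]

end CfsgLib.Techniques.QdElements
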