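import Cfsg.Agent.Lib.Techniques.MinimalFailure

/-! Groups failing control of transfer all whose proper sections are controlled. -/

set_option autoImplicit false

namespace CfsgLib.Techniques.Fusion

open Cfsg Subgroup CfsgLib.Techniques

universe u

variable {p : ℕ} [Fact p.Prime] {𝓦 : Set (∀ (Q : Type u) [Group Q], Subgroup Q)}

theorem IsSectionOf.nonempty_mulEquiv_of_card_eq {X G : Type u} [Group X] [Group G] [Finite G]
    (h : IsSectionOf X G) (hc : Nat.card X = Nat.card G) : Nonempty (G ≃* X) := by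
  obtain ⟨K, f, hf⟩ := h
  have h1 : Nat.card X ≤ Nat.card K := Nat.card_le_card_of_surjective f hf
  have hK : K = ⊤ := eq_top_of_card_eq K (le_antisymm K.card_le_card_group (hc ▸ h1))
  subst hK
  exact ⟨Subgroup.topEquiv.symm.trans (MulEquiv.ofBijective f
    ((Nat.bijective_iff_surjective_and_card f).2 ⟨hf, by simp [hc]⟩))⟩

variable {X : Type u} [Group X] [Finite X]

/-- Control of transfer holds as soon as it holds for one Sylow subgroup. -/
theorem transCtrl_of_sylow (h𝓦 : ∀ W ∈ 𝓦, IsCharPFunctor.{u} p W) (S : Sylow p X)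
    (h : (S : Subgroup X) ⊓ _root_.commutator X ≤ transferTarget 𝓦 (S : Subgroup X)) :
    TransCtrl p 𝓦 X := by
  refine transCtrl_of_family h𝓦 ⟨S, le_top, S.2, not_dvd_relIndex_sylow S le_top, ?_⟩
  have e : (S : Subgroup X) ⊓ _root_.commutator X = transferTarget 𝓦 (S : Subgroup X) :=
    le_antisymm h (iSup₂_le fun _ _ => inf_le_inf_left _ (by
      rw [_root_.commutator_def]; exact commutator_mono le_top le_top))
  rw [← _root_.commutator_def, e]
  unfold transferTarget stepGroups
  simp only [iSup_image, top_inf_eq]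

/-- In a group not controlling transfer all whose proper sections do, every Sylow subgroup gives
a minimal failure. -/
theorem isMinimalFailure_of_not_transCtrl (h𝓦 : ∀ W ∈ 𝓦, IsCharPFunctor.{u} p W) (hne : 𝓦.Nonempty)
    (hsec : ∀ (Y : Type u) [Group Y] [Finite Y], IsSectionOf Y X → Nat.card Y < Nat.card X →
      TransCtrl p 𝓦 Y)
    (hX : ¬ TransCtrl p 𝓦 X) (S : Sylow p X) : IsMinimalFailure p 𝓦 S := by
  have hc : centralizer (pCore p X : Set X) ≤ pCore p X := by
    by_contra hc
    refine hX (transCtrl_of_constrained h𝓦 (G := X) (fun Y _ _ hY hcY _ => ?_) X IsSectionOf.refl)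
    by_cases hlt : Nat.card Y < Nat.card X
    · exact hsec Y hY hlt
    obtain ⟨K, f, hf⟩ := id hY
    obtain ⟨e⟩ := hY.nonempty_mulEquiv_of_card_eq (le_antisymm
      ((Nat.card_le_card_of_surjective f hf).trans K.card_le_card_group) (not_lt.1 hlt))
    exact absurd (constrained_of_mulEquiv e.symm hcY) hc
  refine ⟨h𝓦, hne, hc, hsec, fun hcore => hX (transCtrl_of_sylow h𝓦 S ?_)⟩
  by_cases hP0 : pCore p X = ⊥
  · rw [sylow_eq_bot_of_pCore_eq_bot S hP0 hc, bot_inf_eq]; exact bot_le
  · exact (inf_commutator_le_target_sup h𝓦 S hP0 hsec).trans (sup_le le_rfl hcore)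

end CfsgLib.Techniques.Fusion
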