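import Cfsg.Agent.Lib.Techniques.ChiefFactor
import Cfsg.Agent.Lib.PCore.Basic
import Mathlib.GroupTheory.Sylow

/-! Kernels of chief factors below normal `p`-subgroups. -/

set_option autoImplicit false
set_option linter.unusedSectionVars false

namespace CfsgLib.Techniques.KInf

open Cfsg Subgroup CfsgLib.Techniques
open scoped commutatorElement

variable {G : Type*} [Group G]

theorem commutator_commutator_le_of_normalizing {N A B C : Subgroup G}
    (hA : A ≤ normalizer (N : Set G)) (hB : B ≤ normalizer (N : Set G)) (hC : C ≤ normalizer (N : Set G))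
    (h1 : ⁅⁅B, C⁆, A⁆ ≤ N) (h2 : ⁅⁅C, A⁆, B⁆ ≤ N) : ⁅⁅A, B⁆, C⁆ ≤ N := by
  set H := normalizer (N : Set G)
  have hNH : N ≤ H := Subgroup.le_normalizer
  have hn : (N.subgroupOf H).Normal := normal_in_normalizer
  set π := QuotientGroup.mk' (N.subgroupOf H)
  have key : ∀ {A B C : Subgroup G}, A ≤ H → B ≤ H → C ≤ H → (⁅⁅A, B⁆, C⁆ ≤ N ↔
      ⁅⁅(A.subgroupOf H).map π, (B.subgroupOf H).map π⁆, (C.subgroupOf H).map π⁆ = ⊥) := by
    intro A B C hA hB hC
    rw [← map_commutator, ← map_commutator, Subgroup.map_eq_bot_iff, QuotientGroup.ker_mk',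
      ← map_le_map_iff_of_injective H.subtype_injective, map_commutator, map_commutator,
      map_subgroupOf_eq_of_le hA, map_subgroupOf_eq_of_le hB, map_subgroupOf_eq_of_le hC,
      map_subgroupOf_eq_of_le hNH]
  rw [key hB hC hA] at h1
  rw [key hC hA hB] at h2
  rw [key hA hB hC]
  exact Subgroup.commutator_commutator_eq_bot_of_rotate h1 h2

theorem exists_isChiefFactor [Finite G] {U : Subgroup G} (hU : U.Normal) (hne : U ≠ ⊥) :
    ∃ V, IsChiefFactor U V := by
  obtain ⟨V, ⟨hVn, hVU⟩, hVmax⟩ := (Set.toFinite {V : Subgroup G | V.Normal ∧ V < U}).exists_maximal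
    ⟨⊥, inferInstance, bot_lt_iff_ne_bot.2 hne⟩
  refine ⟨V, hVU, hU, hVn, fun N hN hVN hNU => ?_⟩
  rcases eq_or_lt_of_le hNU with h | h
  · exact Or.inr h
  · exact Or.inl (le_antisymm (hVmax ⟨hN, h⟩ hVN) hVN)

theorem mem_sectionKernel_iff {U V : Subgroup G} [V.Normal] {g : G} :
    g ∈ sectionKernel U V ↔ ∀ u ∈ U, ⁅u, g⁆ ∈ V := by
  show QuotientGroup.mk' V g ∈
    centralizer ((U.map (QuotientGroup.mk' V) : Subgroup (G ⧸ V)) : Set (G ⧸ V)) ↔ _
  rw [mem_centralizer_iff]
  constructor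
  · intro h u hu
    rw [← QuotientGroup.eq_one_iff (N := V)]
    show QuotientGroup.mk' V ⁅u, g⁆ = 1
    rw [map_commutatorElement, commutatorElement_eq_one_iff_mul_comm]
    exact h _ ⟨u, hu, rfl⟩
  · rintro h _ ⟨u, hu, rfl⟩
    rw [← commutatorElement_eq_one_iff_mul_comm, ← map_commutatorElement]
    exact (QuotientGroup.eq_one_iff _).2 (h u hu)

theorem le_sectionKernel_iff {U V D : Subgroup G} [V.Normal] :
    D ≤ sectionKernel U V ↔ ⁅U, D⁆ ≤ V := by
  rw [commutator_le]
  exact ⟨fun h u hu d hd => mem_sectionKernel_iff.1 (h hd) u hu,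
    fun h d hd => mem_sectionKernel_iff.2 fun u hu => h u hu d hd⟩

theorem sectionKernel_normal {U V : Subgroup G} [U.Normal] [V.Normal] :
    (sectionKernel U V).Normal := by
  have : (U.map (QuotientGroup.mk' V)).Normal :=
    (inferInstance : U.Normal).map _ (QuotientGroup.mk'_surjective V)
  exact Subgroup.Normal.comap inferInstance _

variable [Finite G] {p : ℕ} [Fact p.Prime]

theorem exists_pow_prime_pow_coprime (x : G) : ∃ k : ℕ, (orderOf (x ^ p ^ k)).Coprime p := by
  refine ⟨(orderOf x).factorization p, ?_⟩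
  rw [orderOf_pow, Nat.gcd_eq_right (Nat.ordProj_dvd _ _)]
  exact (Nat.coprime_ordCompl (Fact.out : p.Prime) (orderOf_pos x).ne').symm

theorem eq_one_of_coprime_of_mem {D : Subgroup G} (hD : IsPGroup p D) {x : G} (hx : x ∈ D)
    (h : (orderOf x).Coprime p) : x = 1 := by
  obtain ⟨k, hk⟩ := hD ⟨x, hx⟩
  have h1 : x ^ p ^ k = 1 := congrArg Subtype.val hk
  exact orderOf_eq_one_iff.1
    (Nat.eq_one_of_dvd_coprimes (h.pow_right k) dvd_rfl (orderOf_dvd_of_pow_eq_one h1))

theorem isPGroup_of_coprime_eq_one {D : Subgroup G}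
    (h : ∀ x ∈ D, (orderOf x).Coprime p → x = 1) : IsPGroup p D := by
  intro x
  obtain ⟨k, hk⟩ := exists_pow_prime_pow_coprime (p := p) (x : G)
  exact ⟨k, Subtype.ext (h _ (pow_mem x.2 _) hk)⟩

/-- A normal subgroup whose elements of order prime to `p` centralise a chief factor which is a
`p`-group, centralises it. -/
theorem le_sectionKernel_of_coprime {U V : Subgroup G} [V.Normal] (h : IsChiefFactor U V)
    (hU : IsPGroup p U) {D : Subgroup G} (hD : D.Normal)
    (hc : ∀ x ∈ D, (orderOf x).Coprime p → x ∈ sectionKernel U V) : D ≤ sectionKernel U V := by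
  classical
  obtain ⟨hlt, hUn, -, hmax⟩ := h
  set π := QuotientGroup.mk' V
  have hUb : (U.map π).Normal := hUn.map π (QuotientGroup.mk'_surjective V)
  have hUbp : IsPGroup p (U.map π) := hU.map π
  let ψ : D →* MulAut (U.map π) := MulAut.conjNormal.comp (π.comp D.subtype)
  have hψ : ∀ (x : D), (x : G) ∈ sectionKernel U V → ψ x = 1 := by
    intro x hx
    ext y
    obtain ⟨u, hu, hy⟩ := y.2
    have h1 : π u * π x = π x * π u :=
      mem_centralizer_iff.1 (show π x ∈ centralizer ((U.map π : Subgroup (G ⧸ V)) : Set (G ⧸ V)) from hx)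
        (π u) (mem_map_of_mem π hu)
    show π x * (y : G ⧸ V) * (π x)⁻¹ = y
    rw [← hy, ← h1, mul_inv_cancel_right]
  let R := ψ.range
  have hR : IsPGroup p R := by
    rintro ⟨_, x, rfl⟩
    obtain ⟨k, hk⟩ := exists_pow_prime_pow_coprime (p := p) (x : G)
    exact ⟨k, Subtype.ext (by
      show (ψ x) ^ p ^ k = 1
      rw [← map_pow]
      exact hψ _ (hc _ (pow_mem x.2 _) hk))⟩
  have hdvd : p ∣ Nat.card (U.map π) := by
    have hne : Nontrivial (U.map π) := (U.map π).nontrivial_iff_ne_bot.2 fun e => by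
      rw [Subgroup.map_eq_bot_iff, QuotientGroup.ker_mk'] at e
      exact hlt.not_ge e
    obtain ⟨n, hn0, hn⟩ := hUbp.nontrivial_iff_card.1 hne
    rw [hn]; exact dvd_pow_self p hn0.ne'
  obtain ⟨b, hb, hb1⟩ := hR.exists_fixed_point_of_prime_dvd_card_of_fixed_point (U.map π) hdvd
    (a := 1) fun g => map_one (g : MulAut (U.map π))
  obtain ⟨b₀, hb₀, hbb⟩ := b.2
  -- the fixed points form a normal subgroup
  set N := (centralizer ((D.map π : Subgroup (G ⧸ V)) : Set (G ⧸ V)) ⊓ U.map π).comap π with hN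
  have hNn : N.Normal := by
    have : (D.map π).Normal := hD.map π (QuotientGroup.mk'_surjective V)
    exact Subgroup.Normal.comap inferInstance π
  have hbN : b₀ ∈ N := by
    refine mem_comap.2 (mem_inf.2 ⟨mem_centralizer_iff.2 ?_, mem_map_of_mem π hb₀⟩)
    rintro _ ⟨d, hd, rfl⟩
    have h1 : π d * (b : G ⧸ V) * (π d)⁻¹ = b := congrArg Subtype.val (hb ⟨ψ ⟨d, hd⟩, _, rfl⟩)
    rw [hbb]
    exact mul_inv_eq_iff_eq_mul.1 h1
  have hVN : V ≤ N := fun v hv => by
    rw [hN, mem_comap, show π v = 1 from (QuotientGroup.eq_one_iff v).2 hv]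
    exact one_mem _
  have hNU : N ≤ U := by
    refine (comap_mono inf_le_right).trans ?_
    rw [comap_map_eq, QuotientGroup.ker_mk', sup_eq_left.2 hlt.le]
  rcases hmax N hNn hVN hNU with h1 | h1
  · exfalso
    apply hb1
    apply Subtype.ext
    rw [← hbb]
    exact ((QuotientGroup.eq_one_iff b₀).2 (h1 ▸ hbN)).symm
  · intro d hd
    rw [mem_sectionKernel_iff]
    intro u hu
    rw [← QuotientGroup.eq_one_iff (N := V)]
    show π ⁅u, d⁆ = 1
    rw [map_commutatorElement, commutatorElement_eq_one_iff_mul_comm]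
    have h2 := (mem_inf.1 (mem_comap.1 (h1.symm ▸ hu : u ∈ N))).1
    exact (mem_centralizer_iff.1 h2 _ (mem_map_of_mem π hd)).symm

theorem commutator_le_of_isPGroup {U V D : Subgroup G} (h : IsChiefFactor U V) (hU : IsPGroup p U)
    (hD : D.Normal) (hDp : IsPGroup p D) : ⁅U, D⁆ ≤ V := by
  have hVn := h.2.2.1
  exact le_sectionKernel_iff.1 (le_sectionKernel_of_coprime h hU hD fun x hx hc => by
    rw [eq_one_of_coprime_of_mem hDp hx hc]; exact one_mem _)

/-- An element of order prime to `p` centralising all chief factors in a normal `p`-subgroup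
centralises the subgroup. -/
theorem mem_centralizer_of_forall_chiefFactor {U : Subgroup G} (hUn : U.Normal) (hU : IsPGroup p U)
    {x : G} (hx : (orderOf x).Coprime p)
    (h : ∀ X Y : Subgroup G, IsChiefFactor X Y → X ≤ U → ⁅X, zpowers x⁆ ≤ Y) :
    x ∈ centralizer (U : Set G) := by
  induction U using WellFoundedLT.induction with
  | _ U ih =>
    by_cases hU0 : U = ⊥
    · subst hU0
      rw [mem_centralizer_iff]
      intro u hu
      rw [SetLike.mem_coe, mem_bot] at hu
      simp [hu]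
    obtain ⟨V, hUV⟩ := exists_isChiefFactor hUn hU0
    have hV : x ∈ centralizer (V : Set G) := ih V hUV.1 hUV.2.2.1 (hU.to_le hUV.1.le)
      fun X Y hXY hXV => h X Y hXY (hXV.trans hUV.1.le)
    rw [mem_centralizer_iff]
    intro u hu
    have hv : ⁅u, x⁆ ∈ V := h U V hUV le_rfl (commutator_mem_commutator hu (mem_zpowers x))
    set v := ⁅u, x⁆ with hvdef
    have hxv : v * x = x * v := mem_centralizer_iff.1 hV v hv
    have hc : u * x * u⁻¹ = v * x := by rw [hvdef, commutatorElement_def]; group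
    have h1 : v ^ orderOf x = 1 := by
      have h2 : (u * x * u⁻¹) ^ orderOf x = 1 := by
        rw [conj_pow, pow_orderOf_eq_one, mul_one, mul_inv_cancel]
      rwa [hc, (show Commute v x from hxv).mul_pow, pow_orderOf_eq_one, mul_one] at h2
    have h3 : v = 1 := eq_one_of_coprime_of_mem (hU.to_le hUV.1.le) hv
      (hx.coprime_dvd_left (orderOf_dvd_of_pow_eq_one h1))
    rw [h3, one_mul] at hc
    exact mul_inv_eq_iff_eq_mul.1 hc

end CfsgLib.Techniques.KInf
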