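import Cfsg.Agent.Lib.Techniques.ChiefTools

/-! Invariant complements in a chief factor for subnormal subgroups (Clifford). -/

set_option autoImplicit false
set_option linter.unusedSectionVars false

namespace CfsgLib.Techniques.KInf

open Cfsg Subgroup CfsgLib.Techniques
open scoped commutatorElement

variable {G : Type*} [Group G]

/-- Every `H`-invariant subgroup between `Y` and `X` has an `H`-invariant complement. -/
def InvCompl (H X Y : Subgroup G) : Prop :=
  ∀ W : Subgroup G, Y ≤ W → W ≤ X → H ≤ normalizer (W : Set G) →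
    ∃ W' : Subgroup G, Y ≤ W' ∧ W' ≤ X ∧ H ≤ normalizer (W' : Set G) ∧ W ⊔ W' = X ∧ W ⊓ W' = Y

variable [Finite G]

theorem le_normalizer_of_forall_map_le {H A : Subgroup G}
    (h : ∀ x ∈ H, A.map (MulAut.conj x).toMonoidHom ≤ A) : H ≤ normalizer (A : Set G) := fun x hx =>
  map_conj_eq_self_iff.1 (eq_of_le_of_card_ge (h x hx) (card_map_conj A x).ge)

theorem map_conj_of_le_normalizer {H A : Subgroup G} (h : H ≤ normalizer (A : Set G)) {x : G}
    (hx : x ∈ H) : A.map (MulAut.conj x).toMonoidHom = A := map_conj_eq_self_iff.2 (h hx)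

theorem le_normalizer_sup {H A B : Subgroup G} (hA : H ≤ normalizer (A : Set G))
    (hB : H ≤ normalizer (B : Set G)) : H ≤ normalizer ((A ⊔ B : Subgroup G) : Set G) :=
  le_normalizer_of_forall_map_le fun x hx => by
    rw [Subgroup.map_sup, map_conj_of_le_normalizer hA hx, map_conj_of_le_normalizer hB hx]

theorem le_normalizer_inf {H A B : Subgroup G} (hA : H ≤ normalizer (A : Set G))
    (hB : H ≤ normalizer (B : Set G)) : H ≤ normalizer ((A ⊓ B : Subgroup G) : Set G) :=
  le_normalizer_of_forall_map_le fun x hx => by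
    rw [Subgroup.map_inf _ _ _ (MulAut.conj x).injective, map_conj_of_le_normalizer hA hx,
      map_conj_of_le_normalizer hB hx]

/-- Clifford: invariant complements pass to normal subgroups. -/
theorem InvCompl.of_normal {H H' X Y : Subgroup G} (h : InvCompl H' X Y) (hle : H ≤ H')
    (hn : H' ≤ normalizer (H : Set G)) (hX : H' ≤ normalizer (X : Set G))
    (hY : H' ≤ normalizer (Y : Set G)) (hYX : Y ≤ X) (hab : ⁅X, X⁆ ≤ Y) : InvCompl H X Y := by
  intro W hYW hWX hW
  have hXN : ∀ A : Subgroup G, Y ≤ A → A ≤ X → X ≤ normalizer (A : Set G) := fun A hA hAX =>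
    le_normalizer_of_forall_map_le fun x hx => by
      rintro _ ⟨a, ha, rfl⟩
      have h1 : ⁅x, a⁆ * a ∈ A := mul_mem (hA (hab (commutator_mem_commutator hx (hAX ha)))) ha
      simpa [commutatorElement_def] using h1
  obtain ⟨W', ⟨h1, h2, h3, h4⟩, hmax⟩ :=
    (Set.toFinite {A : Subgroup G | Y ≤ A ∧ A ≤ X ∧ H ≤ normalizer (A : Set G) ∧ W ⊓ A ≤ Y}).exists_maximal
      ⟨Y, le_rfl, hYX, hle.trans hY, inf_le_right⟩
  refine ⟨W', h1, h2, h3, ?_, le_antisymm h4 (le_inf hYW h1)⟩
  by_contra hne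
  set M := {S : Subgroup G | Minimal (fun S : Subgroup G => Y < S ∧ S ≤ X ∧ H ≤ normalizer (S : Set G)) S}
    with hM
  set S₀ := Y ⊔ sSup M with hS₀
  have hS₀X : S₀ ≤ X := sup_le hYX (sSup_le fun S hS => hS.1.2.1)
  have hS₀N : H' ≤ normalizer (S₀ : Set G) := by
    refine le_normalizer_of_forall_map_le fun x hx => ?_
    rw [hS₀, Subgroup.map_sup, map_conj_of_le_normalizer hY hx]
    refine sup_le le_sup_left (le_trans ?_ le_sup_right)
    rw [map_le_iff_le_comap]
    refine sSup_le fun S hS => ?_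
    rw [← map_le_iff_le_comap]
    refine le_sSup ?_
    have hconj : ∀ (y : G), y ∈ H' → ∀ T : Subgroup G, (Y < T ∧ T ≤ X ∧ H ≤ normalizer (T : Set G)) →
        Y < T.map (MulAut.conj y).toMonoidHom ∧ T.map (MulAut.conj y).toMonoidHom ≤ X ∧
          H ≤ normalizer ((T.map (MulAut.conj y).toMonoidHom : Subgroup G) : Set G) := by
      rintro y hy T ⟨hT1, hT2, hT3⟩
      refine ⟨?_, ?_, ?_⟩
      · conv_lhs => rw [← map_conj_of_le_normalizer hY hy]
        exact (map_lt_map_iff_of_injective (MulAut.conj y).injective).2 hT1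
      · rw [← map_conj_of_le_normalizer hX hy]
        exact Subgroup.map_mono hT2
      · rw [← map_conj_of_le_normalizer hn hy]
        exact (Subgroup.map_mono hT3).trans (le_normalizer_map _)
    refine ⟨hconj x hx S hS.1, fun T hT hTS => ?_⟩
    have h5 := hS.2 (hconj x⁻¹ (inv_mem hx) T hT) (by
      refine (Subgroup.map_mono hTS).trans (le_of_eq ?_)
      rw [← map_conj_mul, inv_mul_cancel, map_conj_one])
    refine (Subgroup.map_mono h5).trans (le_of_eq ?_)
    rw [← map_conj_mul, mul_inv_cancel, map_conj_one]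
  obtain ⟨C, hYC, hCX, hCN, hsup, hinf⟩ := h S₀ le_sup_left hS₀X hS₀N
  have hCY : C = Y := by
    by_contra hC
    obtain ⟨S, hS, hSmin⟩ := (Set.toFinite
      {S : Subgroup G | Y < S ∧ S ≤ C ∧ H ≤ normalizer (S : Set G)}).exists_minimal
      ⟨C, lt_of_le_of_ne hYC (Ne.symm hC), le_rfl, hle.trans hCN⟩
    have hSM : S ∈ M := ⟨⟨hS.1, hS.2.1.trans hCX, hS.2.2⟩,
      fun T hT hTS => hSmin ⟨hT.1, hTS.trans hS.2.1, hT.2.2⟩ hTS⟩
    exact hS.1.not_ge ((le_inf ((le_sSup hSM).trans le_sup_right) hS.2.1).trans hinf.le)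
  rw [hCY, sup_eq_left.2 (le_sup_left : Y ≤ S₀)] at hsup
  have hWW' : W ⊔ W' ≤ X := sup_le hWX h2
  obtain ⟨S, hS, hSnot⟩ : ∃ S ∈ M, ¬ S ≤ W ⊔ W' := by
    by_contra hall
    push Not at hall
    exact hne (le_antisymm hWW' (hsup.ge.trans (sup_le (hYW.trans le_sup_left) (sSup_le hall))))
  have hSY : S ⊓ (W ⊔ W') ≤ Y := by
    by_contra hnot
    refine hSnot ((hS.2 ⟨lt_of_le_of_ne (le_inf hS.1.1.le (hYW.trans le_sup_left))
      (fun e => hnot e.ge), inf_le_left.trans hS.1.2.1, le_normalizer_inf hS.1.2.2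
      (le_normalizer_sup hW h3)⟩ inf_le_left).trans inf_le_right)
  have hbig : W' ⊔ S ≤ W' := by
    refine hmax ⟨h1.trans le_sup_left, sup_le h2 hS.1.2.1, le_normalizer_sup h3 hS.1.2.2, ?_⟩ le_sup_left
    rintro z ⟨hzW, hz⟩
    obtain ⟨w, hw, s, hs, rfl⟩ := exists_mul_of_mem_sup (h2.trans (hXN S hS.1.1.le hS.1.2.1)) hz
    have hs' : s ∈ Y := hSY (mem_inf.2 ⟨hs, by
      simpa using mul_mem (mem_sup_right (S := W) (inv_mem hw)) (mem_sup_left (T := W') hzW)⟩)
    exact h4 (mem_inf.2 ⟨hzW, mul_mem hw (h1 hs')⟩)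
  exact hSnot (le_sup_right.trans (hbig.trans le_sup_right))

/-- A chief factor has invariant complements for the whole group. -/
theorem invCompl_top {X Y : Subgroup G} (h : IsChiefFactor X Y) : InvCompl ⊤ X Y := by
  intro W hYW hWX hW
  rcases h.2.2.2 W (normalizer_eq_top_iff.1 (top_le_iff.1 hW)) hYW hWX with rfl | rfl
  · exact ⟨X, h.1.le, le_rfl, (normalizer_eq_top_iff.2 h.2.1).ge, sup_eq_right.2 hWX,
      inf_eq_left.2 hWX⟩
  · exact ⟨Y, le_rfl, h.1.le, (normalizer_eq_top_iff.2 h.2.2.1).ge, sup_eq_left.2 hYW,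
      inf_eq_right.2 hYW⟩

variable {p : ℕ} [Fact p.Prime]

/-- A chief factor has invariant complements for every subgroup between normal subgroups `L ≤ D`
with `D/L` a `p`-group. -/
theorem invCompl_of_isChiefFactor {X Y : Subgroup G} (h : IsChiefFactor X Y) (hab : ⁅X, X⁆ ≤ Y)
    {L D : Subgroup G} (hL : L.Normal) (hD : D.Normal)
    (hq : ∀ x ∈ D, (orderOf x).Coprime p → x ∈ L) (H : Subgroup G) (hLH : L ≤ H) (hHD : H ≤ D) :
    InvCompl H X Y := by
  have hXN : ∀ A : Subgroup G, A ≤ normalizer (X : Set G) := fun A =>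
    le_top.trans (normalizer_eq_top_iff.2 h.2.1).ge
  have hYN : ∀ A : Subgroup G, A ≤ normalizer (Y : Set G) := fun A =>
    le_top.trans (normalizer_eq_top_iff.2 h.2.2.1).ge
  induction H using WellFoundedGT.induction with
  | _ H ih =>
    rcases eq_or_lt_of_le hHD with rfl | hlt
    · exact (invCompl_top h).of_normal le_top (normalizer_eq_top_iff.2 hD).ge (hXN _) (hYN _) h.1.le hab
    set π := QuotientGroup.mk' L
    have hDp : IsPGroup p (D.map π) := by
      rintro ⟨_, x, hx, rfl⟩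
      obtain ⟨k, hk⟩ := exists_pow_prime_pow_coprime (p := p) x
      exact ⟨k, Subtype.ext (by
        show (π x) ^ p ^ k = 1
        rw [← map_pow]
        exact (QuotientGroup.eq_one_iff _).2 (hq _ (pow_mem hx _) hk))⟩
    have hcomap : ∀ A : Subgroup G, L ≤ A → (A.map π).comap π = A := fun A hA => by
      rw [comap_map_eq, QuotientGroup.ker_mk', sup_eq_left.2 hA]
    have : Group.IsNilpotent (D.map π) := hDp.isNilpotent
    have hlt' : (H.map π).subgroupOf (D.map π) < ⊤ := by
      refine lt_top_iff_ne_top.2 fun e => hlt.not_ge ?_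
      rw [subgroupOf_eq_top] at e
      have := comap_mono (f := π) e
      rwa [hcomap H hLH, hcomap D (hLH.trans hlt.le)] at this
    obtain ⟨y, hy1, hy2⟩ := SetLike.exists_of_lt (normalizerCondition_of_isNilpotent _ hlt')
    obtain ⟨x, hx, hxy⟩ := y.2
    have hxH : x ∉ H := fun hxH => hy2 (mem_subgroupOf.2 (hxy ▸ mem_map_of_mem π hxH))
    have hxN : x ∈ normalizer (H : Set G) := by
      rw [mem_normalizer_iff]
      intro a
      by_cases haD : a ∈ D
      · have h1 := mem_normalizer_iff.1 hy1 ⟨π a, mem_map_of_mem π haD⟩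
        rw [mem_subgroupOf, mem_subgroupOf] at h1
        simp only [Subgroup.coe_mul, Subgroup.coe_inv, ← hxy, ← map_inv, ← map_mul, ← mem_comap,
          hcomap H hLH] at h1
        exact h1
      · constructor
        · exact fun ha => absurd (hlt.le ha) haD
        · intro ha
          have := hD.conj_mem' _ (hlt.le ha) x
          exact absurd (by simpa [mul_assoc] using this) haD
    refine (ih (normalizer (H : Set G) ⊓ D) ?_ (hLH.trans (le_inf Subgroup.le_normalizer hlt.le))
      inf_le_right).of_normal (le_inf Subgroup.le_normalizer hlt.le) inf_le_left (hXN _) (hYN _) h.1.le hab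
    exact lt_of_le_of_ne (le_inf Subgroup.le_normalizer hlt.le) fun e =>
      hxH (e.symm ▸ mem_inf.2 ⟨hxN, hx⟩)

end CfsgLib.Techniques.KInf
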