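import Cfsg.Agent.Lib.Techniques.WellPlaced

/-!
Local-to-global theorem for conjugacy functors: a property of conjugations closed under restriction,
composition and change to an element inducing the same map holds for all conjugations in a Sylow
subgroup `S`, if it holds inside the `N_G(W S)` and is inherited, in every normalizer of a fully
normalized subgroup `U`, from the `N_{N(U)}(W(N_S U))`.
-/

set_option autoImplicit false
set_option linter.unusedSectionVars false

namespace CfsgLib.Techniques.Fusion

open Cfsg Subgroup CfsgLib.Techniques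

variable {G : Type*} [Group G]

/-- A property of conjugations inside `S` which only depends on the induced map and is closed under
restriction and composition, and holds for the identity. -/
structure IsMapClosed (S : Subgroup G) (P : Subgroup G → G → Prop) : Prop extends
    IsFusionClosed S P where
  congr : ∀ {D : Subgroup G} {h h' : G}, (∀ a ∈ D, h * a * h⁻¹ = h' * a * h'⁻¹) → P D h → P D h'
  one : ∀ {D : Subgroup G}, D ≤ S → P D 1

/-- `P` holds for every conjugation by an element of `X` between subgroups of `R`. -/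
def HoldsOn (R : Subgroup G) (P : Subgroup G → G → Prop) (X : Subgroup G) : Prop :=
  ∀ (D : Subgroup G) (h : G), h ∈ X → D ≤ R → D.map (MulAut.conj h).toMonoidHom ≤ R → P D h

theorem HoldsOn.mono {R R' X X' : Subgroup G} {P : Subgroup G → G → Prop} (h : HoldsOn R P X)
    (hR : R' ≤ R) (hX : X' ≤ X) : HoldsOn R' P X' :=
  fun D g hg hD hg' => h D g (hX hg) (hD.trans hR) (hg'.trans hR)

variable [Finite G] {p : ℕ} [Fact p.Prime]

theorem local_to_global (S : Sylow p G) {P : Subgroup G → G → Prop}
    (hP : IsMapClosed (S : Subgroup G) P) (𝓦 : Set (Subgroup G → Subgroup G))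
    (h𝓦 : ∀ W ∈ 𝓦, IsConjugacyFunctor p W)
    (hstep : ∀ W ∈ 𝓦, HoldsOn (S : Subgroup G) P (normalizer ((W (S : Subgroup G) : Subgroup G) : Set G)))
    (hloc : ∀ U : Subgroup G, U ≠ ⊥ → IsFN p (S : Subgroup G) U →
      (∀ W ∈ 𝓦, HoldsOn ((S : Subgroup G) ⊓ normalizer (U : Set G)) P
        (normalizer (U : Set G) ⊓
          normalizer ((W ((S : Subgroup G) ⊓ normalizer (U : Set G)) : Subgroup G) : Set G))) →
      HoldsOn ((S : Subgroup G) ⊓ normalizer (U : Set G)) P (normalizer (U : Set G))) :
    HoldsOn (S : Subgroup G) P ⊤ := by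
  have hfam : ∀ (k : ℕ), 1 ≤ k →
      (∀ U : Subgroup G, U ≠ ⊥ → IsFN p (S : Subgroup G) U →
        k < Nat.card ((S : Subgroup G) ⊓ normalizer (U : Set G) : Subgroup G) →
        HoldsOn ((S : Subgroup G) ⊓ normalizer (U : Set G)) P (normalizer (U : Set G))) →
      HoldsAbove (S : Subgroup G) P k := by
    intro k hk hclaim
    refine holdsAbove_of_family S hP.toIsFusionClosed {U | IsFN p (S : Subgroup G) U} k
      (fun T hT _ => ?_) (fun U hU hkU _ x hx => ?_)
    · obtain ⟨g, hg⟩ := exists_isFN_conj S (S.2.to_le hT)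
      exact ⟨_, hg, ⟨g, rfl⟩, hg⟩
    · have hUle : U ≤ (S : Subgroup G) ⊓ normalizer (U : Set G) := le_inf hU.1 Subgroup.le_normalizer
      refine hclaim U (fun e => ?_) hU (lt_of_lt_of_le hkU (card_le_of_le hUle)) U x hx hUle ?_
      · rw [e, Subgroup.card_bot] at hkU; omega
      · rw [map_conj_eq_self_iff.2 hx]; exact hUle
  have claim : ∀ (m : ℕ) (U : Subgroup G),
      Nat.card (S : Subgroup G) - Nat.card ((S : Subgroup G) ⊓ normalizer (U : Set G) : Subgroup G) < m →
      U ≠ ⊥ → IsFN p (S : Subgroup G) U →
      HoldsOn ((S : Subgroup G) ⊓ normalizer (U : Set G)) P (normalizer (U : Set G)) := by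
    intro m
    induction m with
    | zero => intro U h; omega
    | succ m ih =>
      intro U hlt hne hU
      refine hloc U hne hU fun W hW => ?_
      set R := (S : Subgroup G) ⊓ normalizer (U : Set G) with hR
      by_cases hRS : R = S
      · rw [hRS]
        exact (hstep W hW).mono le_rfl inf_le_right
      intro D y hy hD hyD
      set V := W R with hV
      have hRp : IsPGroup p R := S.2.to_le inf_le_left
      have hVR : V ≤ R := (h𝓦 W hW R hRp).1
      have hRne : R ≠ ⊥ := fun e => hne (le_bot_iff.1 (e ▸ le_inf hU.1 Subgroup.le_normalizer))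
      have hVne : V ≠ ⊥ := (h𝓦 W hW R hRp).2.1 hRne
      obtain ⟨g0, hU'⟩ := exists_isFN_conj S (S.2.to_le (hVR.trans inf_le_left))
      obtain ⟨h, hh, hh'⟩ := exists_conj_into S.2 hU' rfl
      set V' := V.map (MulAut.conj g0).toMonoidHom
      set R' := (S : Subgroup G) ⊓ normalizer (V : Set G) with hR'
      have hRR' : R ≤ R' :=
        le_inf inf_le_left (Subgroup.le_normalizer.trans (IsConjugacyFunctor.le_normalizer (h𝓦 W hW) hRp))
      have h1 : Nat.card R < Nat.card R' :=
        lt_of_lt_of_le (card_lt_card_inf_normalizer (H := R) S.2 inf_le_left hRS) (card_le_of_le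
          (inf_le_inf_left _ (IsConjugacyFunctor.le_normalizer (h𝓦 W hW) hRp)))
      have habove : HoldsAbove (S : Subgroup G) P (Nat.card R) := by
        refine hfam _ Nat.card_pos fun U₂ hne₂ hU₂ hlt₂ => ih U₂ ?_ hne₂ hU₂
        have := card_le_of_le (inf_le_left : (S : Subgroup G) ⊓ normalizer (U₂ : Set G) ≤ S)
        omega
      set R₂ := R'.map (MulAut.conj h).toMonoidHom with hR₂
      have hcR₂ : Nat.card R₂ = Nat.card R' := card_map_conj R' h
      have hV'ne : V' ≠ ⊥ := fun e => hVne ((Subgroup.map_eq_bot_iff_of_injective _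
        (MulAut.conj g0).injective).1 e)
      have hlocV' := ih V' (by
        have := card_le_of_le hh'
        have := card_le_of_le (inf_le_left : (S : Subgroup G) ⊓ normalizer (V' : Set G) ≤ S)
        omega) hV'ne hU'
      have hD1 : D.map (MulAut.conj h).toMonoidHom ≤ R₂ := Subgroup.map_mono (hD.trans hRR')
      set D' := D.map (MulAut.conj y).toMonoidHom with hD'
      have hD2 : D'.map (MulAut.conj h).toMonoidHom ≤ R₂ := Subgroup.map_mono (hyD.trans hRR')
      have p1 : P D h := hP.mono (hD.trans hRR')
        (habove R' h h1 inf_le_left (hh'.trans inf_le_left))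
      have hy' : h * y * h⁻¹ ∈ normalizer (V' : Set G) := by
        rw [← map_conj_eq_self_iff, map_conj_mul, map_conj_mul, ← hh, map_conj_inv_cancel,
          map_conj_eq_self_iff.2 hy.2]
      have himg : (D.map (MulAut.conj h).toMonoidHom).map (MulAut.conj (h * y * h⁻¹)).toMonoidHom =
          D'.map (MulAut.conj h).toMonoidHom := by
        rw [← map_conj_mul, inv_mul_cancel_right, map_conj_mul]
      have p2 : P (D.map (MulAut.conj h).toMonoidHom) (h * y * h⁻¹) :=
        hlocV' _ _ hy' (hD1.trans hh') (himg.le.trans (hD2.trans hh'))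
      have p3 : P (D'.map (MulAut.conj h).toMonoidHom) h⁻¹ := by
        refine hP.mono hD2 (habove R₂ h⁻¹ (hcR₂ ▸ h1) (hh'.trans inf_le_left) ?_)
        rw [hR₂, map_conj_inv_cancel]; exact inf_le_left
      have e : y = h⁻¹ * ((h * y * h⁻¹) * h) := by group
      have hDS : D ≤ (S : Subgroup G) := hD.trans inf_le_left
      rw [e]
      refine hP.comp hDS ?_ (hP.comp hDS (hD1.trans (hh'.trans inf_le_left)) p1 p2) ?_
      · rw [map_conj_mul, himg]; exact hD2.trans (hh'.trans inf_le_left)
      · rwa [map_conj_mul, himg]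
  intro D h _ hD hh
  by_cases hbot : D = ⊥
  · subst hbot
    exact hP.congr (fun a ha => by rw [Subgroup.mem_bot] at ha; subst ha; group) (hP.one hD)
  · exact hfam 1 le_rfl (fun U hne hU _ => claim _ U (Nat.lt_succ_self _) hne hU) D h
      (D.one_lt_card_iff_ne_bot.2 hbot) hD hh

end CfsgLib.Techniques.Fusion
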