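import Cfsg.Agent.Lib.Techniques.SThreeTransfer
import Cfsg.Agent.Lib.LocalEven.LLemma
import Cfsg.Agent.Lib.LocalEven.InvolvesFour
import Cfsg.Prelude.Def_LocalEven

/-!
A group without a section `S₃` and without nontrivial normal 2-subgroups has no quadratic offender on a
faithful elementary abelian 2-module.
-/

set_option autoImplicit false
set_option linter.unusedSectionVars false

namespace CfsgLib.Techniques.SThree

open Subgroup CfsgLib.Techniques CfsgLib.LLemma

universe u v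

section Best

variable {X : Type u} [Group X] {V : Type v} [AddCommGroup V] {ρ : X →* AddMonoid.End V}

theorem fixedPts_anti (ρ : X →* AddMonoid.End V) {A B : Subgroup X} (h : B ≤ A) :
    fixedPts ρ A ≤ fixedPts ρ B := fun _ hv b hb => hv b (h hb)

theorem Quad.mono {A B : Subgroup X} (hq : Quad ρ A) (h : B ≤ A) : Quad ρ B :=
  fun b hb v => fixedPts_anti ρ h (hq b (h hb) v)

theorem fixedPts_comp {Y : Type u} [Group Y] (ρ : X →* AddMonoid.End V) (f : Y →* X) (B : Subgroup Y) :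
    fixedPts (ρ.comp f) B = fixedPts ρ (B.map f) := by
  ext v
  constructor
  · rintro hv _ ⟨b, hb, rfl⟩; exact hv b hb
  · exact fun hv b hb => hv (f b) ⟨b, hb, rfl⟩

theorem Quad.comp {Y : Type u} [Group Y] (f : Y →* X) {B : Subgroup Y} (hq : Quad ρ (B.map f)) :
    Quad (ρ.comp f) B := fun b hb v => by rw [fixedPts_comp]; exact hq (f b) ⟨b, hb, rfl⟩ v

/-- An element moving every vector to a vector it fixes squares to the identity. -/
theorem act_mul_self (hV2 : ∀ v : V, v + v = 0) {a : X} (h : ∀ v, ρ a (ρ a v - v) = ρ a v - v) :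
    ρ (a * a) = 1 := by
  refine AddMonoidHom.ext fun v => ?_
  show ρ (a * a) v = v
  have h1 := h v
  rw [map_sub] at h1
  rw [act_mul]
  calc ρ a (ρ a v) = (ρ a (ρ a v) - ρ a v) + ρ a v := by abel
    _ = (ρ a v - v) + ρ a v := by rw [h1]
    _ = (ρ a v + ρ a v) - v := by abel
    _ = v := by rw [hV2, zero_sub, neg_eq_of_add_eq_zero_left (hV2 v)]

/-- A quadratic subgroup is a 2-group in a faithful action. -/
theorem isPGroup_of_quad (hρ : ∀ x, ρ x = 1 → x = 1) (hV2 : ∀ v : V, v + v = 0) {A : Subgroup X}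
    (hq : Quad ρ A) : IsPGroup 2 A := fun a => by
  refine ⟨1, Subtype.ext ?_⟩
  show (a : X) ^ (2 ^ 1) = 1
  rw [pow_one, pow_two]
  exact hρ _ (act_mul_self hV2 fun v => hq a a.2 v a a.2)

theorem card_fixedPts_conj (ρ : X →* AddMonoid.End V) (A : Subgroup X) (g : X) :
    Nat.card (fixedPts ρ (A.map (MulAut.conj g).toMonoidHom)) = Nat.card (fixedPts ρ A) := by
  refine (Nat.card_congr (α := fixedPts ρ A) (β := fixedPts ρ (A.map (MulAut.conj g).toMonoidHom))
    ⟨fun v => ⟨ρ g v, (act_mem_fixedPts_conj ρ A g).2 v.2⟩,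
      fun w => ⟨ρ g⁻¹ w, (act_mem_fixedPts_conj ρ A g).1 (by rw [act_cancel_inv]; exact w.2)⟩,
      fun v => ?_, fun w => ?_⟩).symm
  · exact Subtype.ext (act_inv_cancel ρ g v)
  · exact Subtype.ext (act_cancel_inv ρ g w)

/-- A quadratic offender of best measure among its subgroups. -/
structure Best (ρ : X →* AddMonoid.End V) (A : Subgroup X) : Prop where
  ne_bot : A ≠ ⊥
  quad : Quad ρ A
  offends : Nat.card V ≤ Nat.card A * Nat.card (fixedPts ρ A)
  best : ∀ B ≤ A, Nat.card B * Nat.card (fixedPts ρ B) ≤ Nat.card A * Nat.card (fixedPts ρ A)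

theorem fixedPts_bot (ρ : X →* AddMonoid.End V) : fixedPts ρ (⊥ : Subgroup X) = ⊤ := by
  refine eq_top_iff.2 fun v _ a ha => ?_
  rw [Subgroup.mem_bot.1 ha, act_one]

theorem exists_best [Finite X] [Finite V] {A : Subgroup X} (hA : A ≠ ⊥) (hq : Quad ρ A)
    (hoff : (fixedPts ρ A).index ≤ Nat.card A) : ∃ B ≤ A, Best ρ B := by
  have hV : Nat.card V ≤ Nat.card A * Nat.card (fixedPts ρ A) := by
    rw [← (fixedPts ρ A).card_mul_index, mul_comm]; exact Nat.mul_le_mul_right _ hoff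
  obtain ⟨B, hB, hmax⟩ := Set.exists_max_image {B : Subgroup X | B ≤ A}
    (fun B : Subgroup X => Nat.card B * Nat.card (fixedPts ρ B)) (Set.toFinite _) ⟨A, show A ≤ A from le_rfl⟩
  by_cases hB0 : B = ⊥
  · refine ⟨A, le_rfl, hA, hq, hV, fun C hC => (hmax C hC).trans ?_⟩
    show Nat.card B * Nat.card (fixedPts ρ B) ≤ _
    rw [hB0, fixedPts_bot, Subgroup.card_bot, AddSubgroup.card_top, one_mul]
    exact hV
  · exact ⟨B, hB, hB0, hq.mono hB, hV.trans (hmax A (show A ≤ A from le_rfl)), fun C hC => hmax C (le_trans hC hB)⟩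

theorem Best.conj [Finite X] [Finite V] {A : Subgroup X} (h : Best ρ A) (g : X) :
    Best ρ (A.map (MulAut.conj g).toMonoidHom) := by
  refine ⟨fun e => h.ne_bot ((Subgroup.map_eq_bot_iff_of_injective _ (MulAut.conj g).injective).1 e),
    h.quad.conj g, by rw [card_map_conj, card_fixedPts_conj]; exact h.offends, fun B hB => ?_⟩
  have hB' : B.map (MulAut.conj g⁻¹).toMonoidHom ≤ A := by
    have := Subgroup.map_mono (f := (MulAut.conj g⁻¹).toMonoidHom) hB
    rwa [← map_conj_mul, inv_mul_cancel, map_conj_one] at this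
  have h1 := h.best _ hB'
  rwa [card_map_conj, card_fixedPts_conj, ← card_map_conj A g, ← card_fixedPts_conj ρ A g] at h1

end Best

/-- A subgroup-closed induction for the absence of quadratic offenders. -/
theorem no_offender_aux : ∀ (n : ℕ) (X : Type u) [Group X] [Finite X] (V : Type v) [AddCommGroup V]
    [Finite V] (ρ : X →* AddMonoid.End V), Nat.card X + Nat.card V ≤ n → (∀ x, ρ x = 1 → x = 1) →
    (∀ v : V, v + v = 0) → Cfsg.pCore 2 X = ⊥ → ¬ Cfsg.Involves (Equiv.Perm (Fin 3)) X →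
    ∀ A : Subgroup X, A ≠ ⊥ → Quad ρ A → (fixedPts ρ A).index ≤ Nat.card A → False := by
  intro n
  induction n with
  | zero =>
    intro X _ _ V _ _ ρ hn
    have := Nat.card_pos (α := X)
    omega
  | succ n ih =>
    intro X _ _ V _ _ ρ hn hρ hV2 hO hS3 A₀ hA₀ hq₀ hoff₀
    haveI : Fact (Nat.Prime 2) := ⟨Nat.prime_two⟩
    obtain ⟨A₁, -, hA₁⟩ := exists_best hA₀ hq₀ hoff₀
    obtain ⟨T, hT⟩ := (isPGroup_of_quad hρ hV2 hA₁.quad).exists_le_sylow
    set S : Set (Subgroup X) := {A | Best ρ A ∧ A ≤ (T : Subgroup X)} with hS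
    set J : Subgroup X := sSup S with hJ
    have hA₁J : A₁ ≤ J := le_sSup ⟨hA₁, hT⟩
    have hJT : J ≤ T := sSup_le fun A hA => hA.2
    have hJp : IsPGroup 2 J := T.2.to_le hJT
    have hNT : normalizer ((T : Subgroup X) : Set X) ≤ normalizer (J : Set X) := by
      intro t ht
      refine map_conj_eq_self_iff.1 (eq_of_le_of_card_ge ?_ (card_map_conj J t).ge)
      rw [Subgroup.map_le_iff_le_comap]
      refine sSup_le fun A hA => Subgroup.map_le_iff_le_comap.1 (le_sSup ⟨hA.1.conj t, ?_⟩)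
      exact (Subgroup.map_mono hA.2).trans (map_conj_eq_self_iff.2 ht).le
    set N := normalizer (J : Set X) with hN
    have hTN : (T : Subgroup X) ≤ N := le_normalizer.trans hNT
    -- the fixed vectors of `J`
    set W := fixedPts ρ J
    have hWN : ∀ k ∈ N, ∀ v ∈ W, ρ k v ∈ W := by
      intro k hk v hv
      have h1 := (act_mem_fixedPts_conj ρ J k).2 hv
      rwa [map_conj_eq_self_iff.2 hk] at h1
    obtain ⟨w, hw0, hw⟩ : ∃ w : V, w ≠ 0 ∧ ∀ r ∈ J, ρ r w = w := by
      obtain ⟨v₀, hv₀⟩ : ∃ v : V, v ≠ 0 := by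
        by_contra hall
        push Not at hall
        refine hA₁.ne_bot (eq_bot_iff.2 fun a _ => Subgroup.mem_bot.2 (hρ a ?_))
        exact AddMonoidHom.ext fun v => (hall _).trans (hall v).symm
      exact exists_fixed_ne_zero hV2 hJp hv₀
    obtain ⟨W₀, hW₀⟩ := Set.Finite.exists_minimal
      (s := {Y : AddSubgroup V | Y ≠ ⊥ ∧ Y ≤ W ∧ ∀ k ∈ N, ∀ v ∈ Y, ρ k v ∈ Y}) (Set.toFinite _)
      ⟨W, fun e => hw0 ((AddSubgroup.mem_bot).1 (e ▸ hw : w ∈ (⊥ : AddSubgroup V))), le_rfl, hWN⟩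
    obtain ⟨hW₀b, hW₀W, hW₀N⟩ := hW₀.prop
    set H := setStab ρ W₀
    have hNH : N ≤ H := fun k hk => hW₀N k hk
    -- the members of the class in `H` fix `W₀`
    have hfix : ∀ A, Best ρ A → A ≤ H → ∀ v ∈ W₀, v ∈ fixedPts ρ A := by
      intro A hA hAH v hv
      obtain ⟨h, hh, hle⟩ := exists_conj_le_sylow_of hAH (isPGroup_of_quad hρ hV2 hA.quad)
        (hTN.trans hNH) T.2 (not_dvd_relIndex_sylow T (hTN.trans hNH))
      exact (act_mem_fixedPts_conj ρ A h).1
        (fixedPts_anti ρ (le_sSup (show A.map (MulAut.conj h).toMonoidHom ∈ S from ⟨hA.conj h, hle⟩))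
          (hW₀W (hh v hv)))
    have hidx₁ : (fixedPts ρ A₁).index ≤ Nat.card A₁ := by
      refine Nat.le_of_mul_le_mul_left ?_ (Nat.card_pos (α := fixedPts ρ A₁))
      rw [AddSubgroup.card_mul_index, mul_comm]
      exact hA₁.offends
    by_cases hH : H = ⊤
    · -- `W₀` is invariant
      have hinv : ∀ k : X, ∀ v ∈ W₀, ρ k v ∈ W₀ := fun k => (hH ▸ mem_top k : k ∈ H)
      set K₁ := ptStab ρ W₀ with hK₁
      haveI : K₁.Normal := ⟨fun k hk g v hv => by
        rw [act_mul, act_mul, hk _ (hinv g⁻¹ v hv), act_cancel_inv]⟩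
      have hA₁K : A₁ ≤ K₁ := fun a ha v hv => hfix A₁ hA₁ (hH ▸ le_top) v hv a ha
      by_cases hK : K₁ = ⊤
      · set τ := quotRep ρ W₀ hinv
        have hτ : ∀ x, τ x = 1 → x = 1 := by
          intro x hx
          have hk : IsPGroup 2 τ.ker := by
            rintro ⟨k, hk⟩
            refine ⟨1, Subtype.ext ?_⟩
            show k ^ (2 ^ 1) = 1
            rw [pow_one, pow_two]
            refine hρ _ (act_mul_self hV2 fun v => ?_)
            have h1 : (QuotientAddGroup.mk (ρ k v) : V ⧸ W₀) = QuotientAddGroup.mk v :=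
              DFunLike.congr_fun (MonoidHom.mem_ker.1 hk) (QuotientAddGroup.mk v)
            have h2 := QuotientAddGroup.eq.1 h1.symm
            rw [neg_add_eq_sub] at h2
            exact (hK ▸ mem_top k : k ∈ K₁) _ h2
          exact Subgroup.mem_bot.1 (hO ▸ CfsgLib.PCore.le_pCore inferInstance hk (MonoidHom.mem_ker.2 hx))
        have hlt : Nat.card (V ⧸ W₀) < Nat.card V := by
          rw [W₀.card_eq_card_quotient_mul_card_addSubgroup]
          exact lt_mul_of_one_lt_right Nat.card_pos (W₀.one_lt_card_iff_ne_bot.2 hW₀b)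
        refine ih X (V ⧸ W₀) τ (by omega) hτ
          (fun v => QuotientAddGroup.induction_on v fun w => congrArg QuotientAddGroup.mk (hV2 w))
          hO hS3 A₁ hA₁.ne_bot
          (fun a ha v => QuotientAddGroup.induction_on v fun w b hb =>
            congrArg QuotientAddGroup.mk (hA₁.quad a ha w b hb)) (le_trans ?_ hidx₁)
        have hle : (fixedPts ρ A₁).map (QuotientAddGroup.mk' W₀) ≤ fixedPts τ A₁ := by
          rintro _ ⟨v, hv, rfl⟩ a ha
          exact congrArg QuotientAddGroup.mk (hv a ha)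
        exact Nat.le_of_dvd (Nat.pos_of_ne_zero AddSubgroup.index_ne_zero_of_finite)
          ((AddSubgroup.index_dvd_of_le hle).trans
            (AddSubgroup.index_map_dvd (fixedPts ρ A₁) (QuotientAddGroup.mk'_surjective W₀)))
      · have hlt : Nat.card K₁ < Nat.card X := lt_of_le_of_ne (Subgroup.card_le_card_group K₁)
          fun e => hK (eq_top_of_card_eq K₁ e)
        have hmap : (A₁.subgroupOf K₁).map K₁.subtype = A₁ := Subgroup.map_subgroupOf_eq_of_le hA₁K
        refine ih K₁ V (ρ.comp K₁.subtype) (by omega) (fun x hx => Subtype.ext (hρ _ hx)) hV2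
          (CfsgLib.PCore.pCore_eq_bot_of_normal K₁ hO)
          (fun h => hS3 (LocalEven.Involved.involves_of_subgroup h)) (A₁.subgroupOf K₁)
          (fun e => hA₁.ne_bot ?_) (Quad.comp _ (by rw [hmap]; exact hA₁.quad)) ?_
        · rw [← hmap, e, Subgroup.map_bot]
        · rw [fixedPts_comp, hmap, Nat.card_congr (subgroupOfEquivOfLe hA₁K).toEquiv]
          exact hidx₁
    -- a minimal overgroup of `T` outside `H`
    obtain ⟨P, hP⟩ := Set.Finite.exists_minimal
      (s := {Y : Subgroup X | (T : Subgroup X) ≤ Y ∧ ¬ Y ≤ H}) (Set.toFinite _)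
      ⟨⊤, le_top, fun h => hH (top_le_iff.1 h)⟩
    obtain ⟨hTP, hPH⟩ := hP.prop
    have hmaxT : ∀ Q : Subgroup X, IsPGroup 2 Q → (T : Subgroup X) ≤ Q → Q = T :=
      fun Q hQ hle => T.is_maximal' hQ hle
    have hgood : Good 2 P (P ⊓ H) (T : Subgroup X) := by
      refine ⟨lt_of_le_of_ne inf_le_left fun e => hPH (inf_eq_left.1 e), le_inf hTP (hTN.trans hNH), T.2,
        fun Q _ hQ hle => hmaxT Q hQ hle, fun Y hY hlt => le_inf hlt.le ?_, fun x hxP hx => ⟨hxP, ?_⟩⟩
      · by_contra hYH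
        exact hlt.not_ge (hP.le_of_le ⟨hY, hYH⟩ hlt.le)
      · have hTD : (T : Subgroup X) ≤ P ⊓ H := le_inf hTP (hTN.trans hNH)
        obtain ⟨y, hy, hle⟩ := exists_conj_le_sylow_of ((Subgroup.map_mono hTD).trans hx.le)
          (T.2.map _) hTD T.2 (not_dvd_relIndex_sylow T hTD)
        rw [← map_conj_mul] at hle
        have h1 : y * x ∈ normalizer ((T : Subgroup X) : Set X) :=
          map_conj_eq_self_iff.1 (eq_of_le_of_card_ge hle (card_map_conj _ _).ge)
        simpa using H.mul_mem (H.inv_mem hy.2) (hNH (hNT h1))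
    have hOT : Cfsg.pCoreOf 2 P ≤ T := pCoreOf_le_of_maximal hTP T.2 fun Q _ hQ hle => hmaxT Q hQ hle
    obtain ⟨A, hA, hAT, hAO⟩ : ∃ A, Best ρ A ∧ A ≤ T ∧ ¬ A ≤ Cfsg.pCoreOf 2 P := by
      by_contra hall
      push Not at hall
      refine hPH (le_trans (fun x hx => map_conj_eq_self_iff.1
        (eq_of_le_of_card_ge ?_ (card_map_conj J x).ge)) hNH)
      rw [Subgroup.map_le_iff_le_comap]
      refine sSup_le fun A hA => Subgroup.map_le_iff_le_comap.1 (le_sSup ⟨hA.1.conj x, le_trans ?_ hOT⟩)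
      exact (Subgroup.map_mono (hall A hA.1 hA.2)).trans
        (map_conj_eq_self_iff.2 (le_normalizer_pCoreOf P hx)).le
    obtain ⟨L, hLP, hAL, L₀, hAL₀, hL₀L, huniq, ⟨g, hgP, hgL⟩, hgen⟩ :=
      LLemma.main _ P (P ⊓ H) T A le_rfl hgood hAT hAO
    set OL := Cfsg.pCoreOf 2 L with hOL
    obtain ⟨K, hK⟩ := Set.Finite.exists_minimal
      (s := {Y : Subgroup X | A ≤ Y ∧ Y ≤ L ∧ Y ⊔ OL = L}) (Set.toFinite _)
      ⟨L, le_sup_left.trans hAL, le_rfl, sup_eq_left.2 (pCoreOf_le L)⟩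
    obtain ⟨hAK, hKL, hKO⟩ := hK.prop
    have hKL₀ : ¬ K ≤ L₀ := fun h => hL₀L.not_ge (hKO ▸ sup_le h (le_sup_right.trans hAL₀))
    have hKn : K ≤ normalizer (OL : Set X) := hKL.trans (le_normalizer_pCoreOf L)
    set A' : Subgroup K := A.subgroupOf K
    set L₀' : Subgroup K := L₀.subgroupOf K
    set R' : Subgroup K := OL.subgroupOf K
    have hA' : A'.map K.subtype = A := Subgroup.map_subgroupOf_eq_of_le hAK
    have hgen' : ∀ x, x ∉ L₀' → A' ⊔ A'.map (MulAut.conj x).toMonoidHom = ⊤ := by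
      intro x hx
      have hle : A ⊔ cg A x ≤ K := sup_le hAK ((Subgroup.map_mono hAK).trans (cg_eq_of_mem x.2).le)
      have hA'c : (A'.map (MulAut.conj x).toMonoidHom).map K.subtype = cg A (x : X) := by
        rw [Subgroup.map_map]
        show A'.map ((MulAut.conj (x : X)).toMonoidHom.comp K.subtype) = _
        rw [← Subgroup.map_map, hA']
      have h1 := hK.eq_of_le ⟨le_sup_left, hle.trans hKL, hgen x (hKL x.2) hx⟩ hle
      refine Subgroup.map_injective K.subtype_injective ?_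
      rw [Subgroup.map_sup, hA', hA'c, ← MonoidHom.range_eq_map, Subgroup.range_subtype]
      exact h1
    have hR'n : R'.Normal := ⟨fun r hr k => (Subgroup.mem_normalizer_iff.1 (hKn k.2) _).1 hr⟩
    have hU : UniqueOver A' L₀' R' := by
      refine ⟨hR'n, (isPGroup_of_quad hρ hV2 hA.quad).comap_subtype, (pCoreOf_isPGroup L).comap_subtype,
        ?_, fun h => ?_, fun k hk => ?_, fun h => hKL₀ (Subgroup.subgroupOf_eq_top.1 h),
        fun Y hY hne => ?_, fun x hx => ?_⟩
      · refine le_antisymm (CfsgLib.PCore.le_pCore hR'n (pCoreOf_isPGroup L).comap_subtype) ?_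
        set Q := Cfsg.pCoreOf 2 K
        have hQn : L ≤ normalizer ((Q ⊔ OL : Subgroup X) : Set X) := by
          rw [← hKO]
          refine sup_le (fun k hk => map_conj_eq_self_iff.1 ?_) (le_sup_right.trans le_normalizer)
          rw [Subgroup.map_sup, map_conj_eq_self_iff.2 (le_normalizer_pCoreOf K hk),
            map_conj_eq_self_iff.2 (hKn hk)]
        have h1 : Q ⊔ OL ≤ OL := le_pCoreOf (sup_le ((pCoreOf_le K).trans hKL) (pCoreOf_le L)) hQn
          (isPGroup_sup (pCoreOf_isPGroup K) (pCoreOf_isPGroup L) ((pCoreOf_le K).trans hKn))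
        exact fun k hk => h1 (Subgroup.mem_sup_left ⟨k, hk, rfl⟩)
      · have h1 : A ≤ OL := fun a ha => h (show (⟨a, hAK ha⟩ : K) ∈ A' from ha)
        obtain ⟨x, hx, hx'⟩ := SetLike.exists_of_lt hL₀L
        refine hL₀L.not_ge ((hgen x hx hx').ge.trans (sup_le (sup_le ?_ ?_) ?_))
        · exact le_sup_left.trans hAL₀
        · exact (Subgroup.map_mono h1).trans ((map_conj_eq_self_iff.2 (le_normalizer_pCoreOf L hx)).le.trans
            (le_sup_right.trans hAL₀))
        · exact le_sup_right.trans hAL₀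
      · have : A' ⊔ R' ≤ L₀' := sup_le (Subgroup.comap_mono (le_sup_left.trans hAL₀))
          (Subgroup.comap_mono (le_sup_right.trans hAL₀))
        exact this hk
      · have hA'Y : A ≤ Y.map K.subtype := fun a ha => ⟨⟨a, hAK ha⟩, hY (Subgroup.mem_sup_left ha), rfl⟩
        have hne' : Y.map K.subtype ⊔ OL ≠ L := fun e => hne (eq_top_iff.2 fun k _ => by
          obtain ⟨y, hy, hyk⟩ := hK.le_of_le ⟨hA'Y, (map_subtype_le _).trans hKL, e⟩ (map_subtype_le _) k.2
          exact (Subtype.ext hyk : y = k) ▸ hy)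
        have h1 := huniq (Y.map K.subtype ⊔ OL) (sup_le_sup_right hA'Y _)
          (lt_of_le_of_ne (sup_le ((map_subtype_le _).trans hKL) (pCoreOf_le L)) hne')
        exact fun k hk => h1 (Subgroup.mem_sup_left ⟨k, hk, rfl⟩)
      · exact top_le_iff.1 ((hgen' x hx).ge.trans le_sup_left)
    -- the module
    have hgL₀ : ∀ k ∈ L₀, g⁻¹ * k * g ∈ H := fun k hk =>
      (mem_cg.1 ((hgL ▸ hk : k ∈ L ⊓ cg (P ⊓ H) g)).2).2
    set ρK := ρ.comp K.subtype
    set X₂ : AddSubgroup V := W₀.map (ρ g : V →+ V)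
    have hX₂A : X₂ ≤ fixedPts ρK A' := by
      rw [fixedPts_comp, hA']
      rintro _ ⟨v, hv, rfl⟩
      have h1 : cg A g⁻¹ ≤ H := by
        rintro _ ⟨a, ha, rfl⟩
        simpa using hgL₀ a (hAL₀ (Subgroup.mem_sup_left ha))
      have h2 : v ∈ fixedPts ρ (cg A g⁻¹) := hfix _ (hA.conj g⁻¹) h1 v hv
      show ρ g v ∈ fixedPts ρ A
      rw [← act_inv_cancel ρ g v] at h2
      exact (act_mem_fixedPts_conj ρ A g⁻¹).1 h2
    have hX₂i : ∀ k ∈ L₀', ∀ v ∈ X₂, ρK k v ∈ X₂ := by
      rintro k hk _ ⟨v, hv, rfl⟩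
      refine ⟨ρ (g⁻¹ * k * g) v, hgL₀ k hk v hv, ?_⟩
      show ρ g (ρ (g⁻¹ * k * g) v) = ρ k (ρ g v)
      rw [← act_mul, ← act_mul]; group
    obtain ⟨O₁, hO₁R, hO₁F, hO₁c⟩ := transfer ρK hV2 hU hgen' (Quad.comp _ (by rw [hA']; exact hA.quad))
      (fun B' hB' => by
        rw [fixedPts_comp, fixedPts_comp, hA', ← card_map_of_injective K.subtype_injective,
          Nat.card_congr (subgroupOfEquivOfLe hAK).toEquiv]
        exact hA.best _ (hA' ▸ Subgroup.map_mono hB'))
      (fun H' φ hφ => hS3 (LocalEven.Involved.involves_of_subgroup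
        (LocalEven.Involved.involves_of_hom H' φ hφ)))
      X₂ hX₂A hX₂i
    set FK := fixedPts ρK (⊤ : Subgroup K)
    have hX₂F : ¬ X₂ ≤ FK := by
      intro hle
      refine hKL₀ fun k hk => ?_
      rw [hgL]
      refine ⟨hKL hk, mem_cg.2 ⟨P.mul_mem (P.mul_mem (P.inv_mem hgP) (hLP (hKL hk))) hgP, fun v hv => ?_⟩⟩
      have h1 : ρ k (ρ g v) = ρ g v := hle ⟨v, hv, rfl⟩ ⟨k, hk⟩ (mem_top _)
      rw [act_mul, act_mul, h1, act_inv_cancel]
      exact hv
    -- the acting group on `W₀`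
    let σ : H →* AddMonoid.End W₀ := subRep (ρ.comp H.subtype) W₀ fun h v hv => h.2 v hv
    let σb : H ⧸ σ.ker →* AddMonoid.End W₀ := QuotientGroup.lift σ.ker σ fun x hx => hx
    have hσb : ∀ x, σb x = 1 → x = 1 := fun x => QuotientGroup.induction_on x fun h hh =>
      (QuotientGroup.eq_one_iff _).2 (MonoidHom.mem_ker.2 hh)
    have hW2 : ∀ v : W₀, v + v = 0 := fun v => Subtype.ext (hV2 v)
    have hbarO : Cfsg.pCore 2 (H ⧸ σ.ker) = ⊥ := by
      set Q := Cfsg.pCore 2 (H ⧸ σ.ker) with hQ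
      haveI : Q.Normal := Cfsg.pCore_normal 2 _
      obtain ⟨v₀, hv₀, hv₀'⟩ : ∃ v ∈ W₀, v ≠ (0 : V) := by
        by_contra hall
        push Not at hall
        exact hW₀b (eq_bot_iff.2 fun v hv => AddSubgroup.mem_bot.2 (hall v hv))
      obtain ⟨v, hv0, hv⟩ := exists_fixed_ne_zero (ρ := σb) hW2 (R := Q) CfsgLib.PCore.pCore_isPGroup
        (v₀ := ⟨v₀, hv₀⟩) fun e => hv₀' (congrArg Subtype.val e)
      have hmem : ((fixedPts σb Q).map W₀.subtype) ∈
          {Y : AddSubgroup V | Y ≠ ⊥ ∧ Y ≤ W ∧ ∀ k ∈ N, ∀ v ∈ Y, ρ k v ∈ Y} := by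
        refine ⟨fun e => hv0 (Subtype.ext (AddSubgroup.mem_bot.1
            (e ▸ ⟨v, hv, rfl⟩ : (v : V) ∈ (⊥ : AddSubgroup V)))),
          (by rintro _ ⟨u, -, rfl⟩; exact hW₀W u.2), ?_⟩
        rintro k hk _ ⟨u, hu, rfl⟩
        have h1 := (act_mem_fixedPts_conj σb Q (QuotientGroup.mk ⟨k, hNH hk⟩)).2 hu
        rw [map_conj_eq_self_iff.2 (normalizer_eq_top Q ▸ mem_top _)] at h1
        exact ⟨_, h1, rfl⟩
      refine eq_bot_iff.2 fun q hq => Subgroup.mem_bot.2 (hσb q (AddMonoidHom.ext fun u => ?_))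
      obtain ⟨u', hu', e⟩ := hW₀.le_of_le hmem (by rintro _ ⟨u, -, rfl⟩; exact u.2) u.2
      exact (Subtype.ext e : u' = u) ▸ hu' q hq
    have hbarS : ¬ Cfsg.Involves (Equiv.Perm (Fin 3)) (H ⧸ σ.ker) := fun h =>
      hS3 (LocalEven.Involved.involves_of_subgroup
        (LocalEven.Involved.involves_of_surjective _ (QuotientGroup.mk'_surjective σ.ker) h))
    have hmemH : ∀ r : O₁, g⁻¹ * ((r : K) : X) * g ∈ H := fun r =>
      hgL₀ _ (hU.le (Subgroup.mem_sup_right (hO₁R r.2)))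
    let f₀ : O₁ →* H :=
      { toFun := fun r => ⟨g⁻¹ * ((r : K) : X) * g, hmemH r⟩
        map_one' := Subtype.ext (by show g⁻¹ * (1 : X) * g = 1; group)
        map_mul' := fun a b => Subtype.ext (by
          show g⁻¹ * (((a : K) : X) * ((b : K) : X)) * g = g⁻¹ * ((a : K) : X) * g * (g⁻¹ * ((b : K) : X) * g)
          group) }
    let f : O₁ →* H ⧸ σ.ker := (QuotientGroup.mk' σ.ker).comp f₀
    have hfv : ∀ (r : O₁) (v : W₀), (σb (f r) v : V) = ρ g⁻¹ (ρK r (ρ g v)) := fun r v => by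
      show ρ (g⁻¹ * ((r : K) : X) * g) (v : V) = _
      rw [act_mul, act_mul]; rfl
    have hmove : ∀ (r : O₁) (v : W₀), ρK r (ρ g v) - ρ g v ∈ FK := fun r v =>
      hO₁F r r.2 _ ⟨v, v.2, rfl⟩
    have hker : Nat.card f.ker ≤ Nat.card (O₁ ⊓ ptStab ρK X₂ : Subgroup K) := by
      have p1 : ∀ r : f.ker, ((r.1 : O₁) : K) ∈ O₁ ⊓ ptStab ρK X₂ := fun r => ⟨r.1.2, by
        rintro _ ⟨v, hv, rfl⟩
        have h1 : (σb (f r.1) ⟨v, hv⟩ : V) = v := by rw [MonoidHom.mem_ker.1 r.2, map_one]; rfl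
        rw [hfv] at h1
        have h2 := congrArg (ρ g) h1
        rwa [act_cancel_inv] at h2⟩
      exact Nat.card_le_card_of_injective (fun r => (⟨_, p1 r⟩ : (O₁ ⊓ ptStab ρK X₂ : Subgroup K)))
        fun a b e => Subtype.ext (Subtype.ext
          (congrArg (fun z : (O₁ ⊓ ptStab ρK X₂ : Subgroup K) => (z : K)) e))
    have hDcard : Nat.card f.range * Nat.card f.ker = Nat.card O₁ := by
      rw [← index_ker, mul_comm]; exact f.ker.card_mul_index
    have hX₂c : Nat.card X₂ = Nat.card W₀ :=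
      (Nat.card_congr (W₀.equivMapOfInjective (ρ g : V →+ V)
        fun a b e => (act_inv_cancel ρ g a).symm.trans
          ((congrArg (ρ g⁻¹) e).trans (act_inv_cancel ρ g b))).toEquiv).symm
    have hfixc : Nat.card (X₂ ⊓ FK : AddSubgroup V) ≤ Nat.card (fixedPts σb f.range) := by
      have p1 : ∀ x : (X₂ ⊓ FK : AddSubgroup V), ρ g⁻¹ x ∈ W₀ := by
        rintro ⟨_, ⟨v, hv, rfl⟩, -⟩
        show ρ g⁻¹ (ρ g v) ∈ W₀
        rw [act_inv_cancel]; exact hv
      have p2 : ∀ x : (X₂ ⊓ FK : AddSubgroup V), (⟨_, p1 x⟩ : W₀) ∈ fixedPts σb f.range := by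
        rintro x _ ⟨r, rfl⟩
        refine Subtype.ext ?_
        rw [hfv, act_cancel_inv, x.2.2 (r : K) (mem_top _)]
      exact Nat.card_le_card_of_injective (fun x => (⟨_, p2 x⟩ : fixedPts σb f.range)) fun a b e =>
        Subtype.ext (by
          simpa [act_cancel_inv] using congrArg (ρ g) (congrArg (fun z : fixedPts σb f.range => ((z : W₀) : V)) e))
    have hXB : Nat.card (H ⧸ σ.ker) + Nat.card W₀ ≤ n := by
      have h1 : Nat.card (H ⧸ σ.ker) ≤ Nat.card H :=
        Nat.card_le_card_of_surjective _ (QuotientGroup.mk'_surjective σ.ker)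
      have h2 : Nat.card H < Nat.card X := lt_of_le_of_ne (Subgroup.card_le_card_group H)
        fun e => hH (eq_top_of_card_eq H e)
      have h3 : Nat.card W₀ ≤ Nat.card V := Nat.card_le_card_of_injective _ Subtype.val_injective
      omega
    refine ih (H ⧸ σ.ker) W₀ σb hXB hσb hW2 hbarO hbarS f.range (fun e => hX₂F ?_) ?_ ?_
    · -- a trivial image would fix `X₂`
      rw [e, Subgroup.card_bot, one_mul] at hDcard
      have h1 : Nat.card X₂ ≤ Nat.card (X₂ ⊓ FK : AddSubgroup V) :=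
        Nat.le_of_mul_le_mul_right
          ((Nat.mul_le_mul_left _ (hDcard ▸ hker)).trans hO₁c) (Nat.card_pos (α := O₁))
      intro x hx
      have h2 : (X₂ ⊓ FK : AddSubgroup V) = X₂ :=
        SetLike.ext' (Set.eq_of_subset_of_ncard_le (SetLike.coe_subset_coe.2 inf_le_left)
          (by rw [← Nat.card_coe_set_eq, ← Nat.card_coe_set_eq]; exact h1))
      exact (h2.ge hx).2
    · rintro _ ⟨r, rfl⟩ v _ ⟨s, rfl⟩
      refine Subtype.ext ?_
      rw [hfv]
      have h1 : ((σb (f r) v - v : W₀) : V) = ρ g⁻¹ (ρK r (ρ g v) - ρ g v) := by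
        rw [map_sub, act_inv_cancel, ← hfv]; rfl
      rw [h1, act_cancel_inv, hmove r v (s : K) (mem_top _)]
    · refine Nat.le_of_mul_le_mul_right ?_ (Nat.mul_pos (Nat.card_pos (α := (X₂ ⊓ FK : AddSubgroup V)))
        (Nat.card_pos (α := f.ker)))
      calc (fixedPts σb f.range).index * (Nat.card (X₂ ⊓ FK : AddSubgroup V) * Nat.card f.ker)
          ≤ (fixedPts σb f.range).index * (Nat.card (fixedPts σb f.range) *
            Nat.card (O₁ ⊓ ptStab ρK X₂ : Subgroup K)) :=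
            Nat.mul_le_mul_left _ (Nat.mul_le_mul hfixc hker)
        _ = Nat.card X₂ * Nat.card (O₁ ⊓ ptStab ρK X₂ : Subgroup K) := by
            rw [hX₂c, ← mul_assoc, mul_comm (AddSubgroup.index _), AddSubgroup.card_mul_index]
        _ ≤ Nat.card (X₂ ⊓ FK : AddSubgroup V) * Nat.card O₁ := hO₁c
        _ = _ := by rw [← hDcard]; ring

/-- A group without a section `S₃` and without nontrivial normal 2-subgroups has no quadratic offender. -/
theorem no_quadratic_offender {X : Type u} [Group X] [Finite X] {V : Type v} [AddCommGroup V] [Finite V]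
    (ρ : X →* AddMonoid.End V) (hρ : ∀ x, ρ x = 1 → x = 1) (hV2 : ∀ v : V, v + v = 0)
    (hO : Cfsg.pCore 2 X = ⊥) (hS3 : ¬ Cfsg.Involves (Equiv.Perm (Fin 3)) X) {A : Subgroup X}
    (hA : A ≠ ⊥) (hq : Quad ρ A) (hoff : (fixedPts ρ A).index ≤ Nat.card A) : False :=
  no_offender_aux _ X V ρ le_rfl hρ hV2 hO hS3 A hA hq hoff

end CfsgLib.Techniques.SThree
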