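import Cfsg.Agent.Lib.Techniques.JeClassTwo
import Cfsg.Agent.Lib.PLocal.Constraint

/-!
For groups without section `S₄` the product `C(Z(S)) N(J_e(S))` collapses to `N(J_e(S))` when the
Sylow 2-subgroup has class at most two.
-/

set_option autoImplicit false
set_option linter.unusedSectionVars false

open scoped commutatorElement

namespace CfsgLib.Techniques.JeTwo

open Cfsg Subgroup

universe u

/-- The factorization `G = C(Z(S)) N(J_e(S))` of groups without section `S₄`. -/
def HasFactor : Prop :=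
  ∀ (X : Type u) [Group X] [Finite X], centralizer (pCore 2 X : Set X) ≤ pCore 2 X →
    ¬ Involves (Equiv.Perm (Fin 4)) X → ∀ (S : Sylow 2 X) (g : X),
      ∃ c ∈ centralizer (((S : Subgroup X) ⊓ centralizer ((S : Subgroup X) : Set X) : Subgroup X) : Set X),
        ∃ n ∈ normalizer (CfsgLib.PLocal.thompson 2 (S : Subgroup X) : Set X), g = c * n

variable {X : Type u} [Group X] [Finite X]

/-- With class at most two, `C(Z(S))` normalizes `S`. -/
theorem centralizer_center_le_normalizer (hC : centralizer (pCore 2 X : Set X) ≤ pCore 2 X) (S : Sylow 2 X)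
    (hcl : ∀ a ∈ (S : Subgroup X), ∀ b ∈ (S : Subgroup X), ∀ c ∈ (S : Subgroup X),
      ⁅a, b⁆ * c = c * ⁅a, b⁆) :
    centralizer (((S : Subgroup X) ⊓ centralizer ((S : Subgroup X) : Set X) : Subgroup X) : Set X) ≤
      normalizer ((S : Subgroup X) : Set X) := by
  haveI := Fact.mk Nat.prime_two
  set Z := (S : Subgroup X) ⊓ centralizer ((S : Subgroup X) : Set X) with hZ
  set C := centralizer (Z : Set X) with hCdef
  have hSC : (S : Subgroup X) ≤ C := fun s hs => mem_centralizer_iff.2 fun z hz =>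
    (mem_centralizer_iff.1 (mem_inf.1 hz).2 s hs).symm
  have hQS : pCore 2 X ≤ (S : Subgroup X) := CfsgLib.PCore.pCore_le_sylow S
  let S' : Sylow 2 ↥C := S.subtype hSC
  set R := pCore 2 ↥C with hR
  have hRS : R ≤ (S' : Subgroup ↥C) := CfsgLib.PCore.pCore_le_sylow S'
  haveI hRn : R.Normal := inferInstance
  have hQR : (pCore 2 X).subgroupOf C ≤ R :=
    CfsgLib.PCore.le_pCore inferInstance CfsgLib.PCore.pCore_isPGroup.comap_subtype
  -- the elements acting trivially on `R / (R ∩ Z)`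
  let K : Subgroup ↥C :=
    { carrier := {c | ∀ r ∈ R, ((⁅c, r⁆ : ↥C) : X) ∈ Z}
      one_mem' := fun r _ => by simp
      mul_mem' := fun {c d} hc hd r hr => by
        have e : ⁅c * d, r⁆ = c * ⁅d, r⁆ * c⁻¹ * ⁅c, r⁆ := by simp only [commutatorElement_def]; group
        rw [e, Subgroup.coe_mul, Subgroup.coe_mul, Subgroup.coe_mul, Subgroup.coe_inv,
          ← mem_centralizer_iff.1 c.2 _ (hd r hr), mul_inv_cancel_right]
        exact mul_mem (hd r hr) (hc r hr)
      inv_mem' := fun {c} hc r hr => by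
        have e : ⁅c⁻¹, r⁆ = c⁻¹ * ⁅c, r⁆⁻¹ * c := by simp only [commutatorElement_def]; group
        rw [e, Subgroup.coe_mul, Subgroup.coe_mul, Subgroup.coe_inv, Subgroup.coe_inv,
          mul_assoc, mem_centralizer_iff.1 c.2 _ (inv_mem (hc r hr)), ← mul_assoc, inv_mul_cancel, one_mul]
        exact inv_mem (hc r hr) }
  haveI hKn : K.Normal := ⟨fun c hc g r hr => by
    have e : ⁅g * c * g⁻¹, r⁆ = g * ⁅c, g⁻¹ * r * g⁆ * g⁻¹ := by
      simp only [commutatorElement_def]; group
    have h1 := hc _ (hRn.conj_mem' r hr g)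
    rw [e, Subgroup.coe_mul, Subgroup.coe_mul, Subgroup.coe_inv, ← mem_centralizer_iff.1 g.2 _ h1,
      mul_inv_cancel_right]
    exact h1⟩
  have hSK : (S' : Subgroup ↥C) ≤ K := fun s hs r hr => by
    rw [Sylow.coe_subtype, mem_subgroupOf] at hs
    have hrS : (r : X) ∈ (S : Subgroup X) := by
      have := hRS hr
      rwa [Sylow.coe_subtype, mem_subgroupOf] at this
    rw [show ((⁅s, r⁆ : ↥C) : X) = ⁅(s : X), (r : X)⁆ from rfl]
    exact mem_inf.2 ⟨mul_mem (mul_mem (mul_mem hs hrS) (inv_mem hs)) (inv_mem hrS),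
      mem_centralizer_iff.2 fun w hw => (hcl _ hs _ hrS w hw).symm⟩
  have hKp : IsPGroup 2 ↥K := by
    intro k
    obtain ⟨j, hj⟩ := exists_odd_power ((k : ↥C) : X)
    refine ⟨j, Subtype.ext (Subtype.ext ?_)⟩
    obtain ⟨hodd, -⟩ := hj
    have hy : (((k : ↥C) : X) ^ 2 ^ j) ∈ pCore 2 X := by
      refine hC (mem_centralizer_iff.2 fun v hv => ?_)
      set c : ↥C := (k : ↥C) ^ 2 ^ j with hc
      have hvC : v ∈ C := hSC (hQS hv)
      have hvR : (⟨v, hvC⟩ : ↥C) ∈ R := hQR (mem_subgroupOf.2 hv)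
      have hz := pow_mem k.2 (2 ^ j) _ hvR
      set z : X := ((⁅c, (⟨v, hvC⟩ : ↥C)⁆ : ↥C) : X) with hzdef
      have hcz : Commute (c : X) z := (mem_centralizer_iff.1 c.2 z hz).symm
      have hconj : ∀ m : ℕ, (c : X) ^ m * v * ((c : X) ^ m)⁻¹ = z ^ m * v := by
        intro m
        induction m with
        | zero => simp
        | succ m ih =>
          have h1 : (c : X) * v * (c : X)⁻¹ = z * v := by
            rw [hzdef, show ((⁅c, (⟨v, hvC⟩ : ↥C)⁆ : ↥C) : X) = (c : X) * v * (c : X)⁻¹ * v⁻¹ from rfl,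
              inv_mul_cancel_right]
          calc (c : X) ^ (m + 1) * v * ((c : X) ^ (m + 1))⁻¹
              = (c : X) * ((c : X) ^ m * v * ((c : X) ^ m)⁻¹) * (c : X)⁻¹ := by
                rw [pow_succ', mul_inv_rev]; group
            _ = (c : X) * z ^ m * (v * (c : X)⁻¹) := by rw [ih]; group
            _ = z ^ m * ((c : X) * v * (c : X)⁻¹) := by rw [(hcz.pow_right m).eq]; group
            _ = z ^ (m + 1) * v := by rw [h1, pow_succ, mul_assoc]
      have hz1 : z = 1 := by
        have h1 := hconj (orderOf (c : X))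
        rw [pow_orderOf_eq_one, one_mul, inv_one, mul_one, eq_comm, mul_eq_right] at h1
        obtain ⟨i, hi⟩ := IsPGroup.iff_orderOf.1 S.2 ⟨z, (mem_inf.1 hz).1⟩
        rw [Subgroup.orderOf_mk] at hi
        have hco : (orderOf (c : X)).Coprime 2 := by
          rw [hc, SubmonoidClass.coe_pow]
          exact Nat.coprime_two_right.2 hodd
        exact orderOf_eq_one_iff.1 (Nat.eq_one_of_dvd_coprimes (hco.pow_right i)
          (orderOf_dvd_of_pow_eq_one h1) (dvd_of_eq hi))
      have h2 : (c : X) * v * (c : X)⁻¹ = v := by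
        have := hconj 1
        rwa [pow_one, pow_one, hz1, one_mul] at this
      have h3 := mul_inv_eq_iff_eq_mul.1 h2
      rw [hc, SubmonoidClass.coe_pow] at h3
      exact h3.symm
    obtain ⟨i, hi⟩ := IsPGroup.iff_orderOf.1 CfsgLib.PCore.pCore_isPGroup (⟨_, hy⟩ : ↥(pCore 2 X))
    rw [Subgroup.orderOf_mk] at hi
    have : orderOf (((k : ↥C) : X) ^ 2 ^ j) = 1 :=
      Nat.eq_one_of_dvd_coprimes ((Nat.coprime_two_right.2 hodd).pow_right i) dvd_rfl (dvd_of_eq hi)
    simpa using orderOf_eq_one_iff.1 this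
  have hSR : (S' : Subgroup ↥C) = R := le_antisymm (hSK.trans (CfsgLib.PCore.le_pCore hKn hKp)) hRS
  haveI : ((S : Subgroup X).subgroupOf C).Normal := by rw [← Sylow.coe_subtype S hSC, hSR]; exact hRn
  exact (normal_subgroupOf_iff_le_normalizer hSC).1 inferInstance

/-- `G = N(J_e(S)) O_{2'}(G)` for 2-constrained groups without section `S₄` and class at most two. -/
theorem sup_normalizer_thompson_of_factor (hfac : HasFactor.{u}) {G : Type u} [Group G] [Finite G]
    (hcon : IsPConstrained 2 G) (hS4 : ¬ Involves (Equiv.Perm (Fin 4)) G)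
    (S : Sylow 2 G) (hcl : Subgroup.lowerCentralSeries (S : Subgroup G) 2 = ⊥) :
    normalizer (CfsgLib.PLocal.thompson 2 (S : Subgroup G) : Set G) ⊔ pPrimeCore 2 G = ⊤ := by
  haveI := Fact.mk Nat.prime_two
  set O := pPrimeCore 2 G with hOdef
  refine sup_normalizer_eq_top_of_quotient O CfsgLib.PCore.pPrimeCore_coprime S ?_
  set Sb : Sylow 2 (G ⧸ O) := S.mapSurjective (QuotientGroup.mk'_surjective O) with hSb
  have hSbeq : (Sb : Subgroup (G ⧸ O)) = (S : Subgroup G).map (QuotientGroup.mk' O) := rfl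
  rw [← hSbeq]
  have hC : centralizer (pCore 2 (G ⧸ O) : Set (G ⧸ O)) ≤ pCore 2 (G ⧸ O) :=
    CfsgLib.PLocal.isPConstrained_iff.1 hcon
  have hS4' : ¬ Involves (Equiv.Perm (Fin 4)) (G ⧸ O) := fun h =>
    hS4 (CfsgLib.LocalEven.Involved.involves_of_surjective _ (QuotientGroup.mk'_surjective O) h)
  have hcl' : ∀ a ∈ (Sb : Subgroup (G ⧸ O)), ∀ b ∈ (Sb : Subgroup (G ⧸ O)),
      ∀ c ∈ (Sb : Subgroup (G ⧸ O)), ⁅a, b⁆ * c = c * ⁅a, b⁆ := by
    rw [hSbeq]
    rintro _ ⟨a, ha, rfl⟩ _ ⟨b, hb, rfl⟩ _ ⟨c, hc, rfl⟩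
    rw [← map_commutatorElement, ← map_mul, ← map_mul]
    congr 1
    have h1 : ⁅⁅a, b⁆, c⁆ ∈ Subgroup.lowerCentralSeries (S : Subgroup G) 2 :=
      commutator_mem_commutator (commutator_mem_commutator ha hb) hc
    rw [hcl, mem_bot, commutatorElement_eq_one_iff_mul_comm] at h1
    exact h1
  refine normalizer_eq_top_iff.1 (top_le_iff.1 fun g _ => ?_)
  obtain ⟨c, hc, n, hn, rfl⟩ := hfac (G ⧸ O) hC hS4' Sb g
  exact mul_mem (CfsgLib.PLocal.normalizer_le_normalizer_thompson _ _
    (centralizer_center_le_normalizer hC Sb hcl' hc)) hn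

end CfsgLib.Techniques.JeTwo
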