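import Cfsg.Agent.Lib.Techniques.SThreeNoOffender
import Cfsg.Agent.Lib.Techniques.ClassTwoFactor
import Cfsg.Agent.Lib.PLocal.FFReduce
import Cfsg.Agent.Lib.PLocal5.MaxOffender
import Cfsg.Agent.S2759
import Mathlib.Algebra.Group.TypeTags.Hom

/-!
`G = C(Z(S)) N(J_e(S))` for a finite group without section `S₄` with `C(O₂(G)) ≤ O₂(G)`.
-/

set_option autoImplicit false
set_option linter.unusedSectionVars false

namespace CfsgLib.Techniques.SThree

open Cfsg Subgroup CfsgLib.Techniques
open scoped commutatorElement IsMulCommutative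

universe u

variable {G : Type u} [Group G] [Finite G]

/-- An element of odd order that fixes the involutions of an abelian 2-group it normalizes centralizes it. -/
theorem commute_of_fix_involutions {W : Subgroup G} [IsMulCommutative W] (hW : IsPGroup 2 W) {x : G}
    (hx : Odd (orderOf x)) (hxW : ∀ w ∈ W, x * w * x⁻¹ ∈ W)
    (hfix : ∀ w ∈ W, w ^ 2 = 1 → x * w * x⁻¹ = w) : ∀ w ∈ W, x * w * x⁻¹ = w := by
  have hc : ∀ a ∈ W, ∀ b ∈ W, a * b = b * a := fun a ha b hb => setLike_mul_comm ha hb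
  suffices H : ∀ k, ∀ w ∈ W, w ^ 2 ^ k = 1 → x * w * x⁻¹ = w by
    intro w hw
    obtain ⟨k, hk⟩ := hW ⟨w, hw⟩
    exact H k w hw (congrArg Subtype.val hk)
  intro k
  induction k with
  | zero => intro w _ hw; rw [pow_zero, pow_one] at hw; subst hw; simp
  | succ k ih =>
    intro w hw hwk
    set d := x * w * x⁻¹ * w⁻¹ with hd
    have hdW : d ∈ W := W.mul_mem (hxW w hw) (W.inv_mem hw)
    have hd2 : d ^ 2 = 1 := by
      have h1 : x * w ^ 2 * x⁻¹ = w ^ 2 := ih _ (W.pow_mem hw 2) (by rw [← pow_mul, ← pow_succ']; exact hwk)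
      have h2 : Commute (x * w * x⁻¹) w⁻¹ := hc _ (hxW w hw) _ (W.inv_mem hw)
      rw [hd, h2.mul_pow, conj_pow, h1, inv_pow, mul_inv_cancel]
    have hxd : x * d * x⁻¹ = d := hfix d hdW hd2
    have hn : ∀ n : ℕ, x ^ n * w * (x ^ n)⁻¹ = d ^ n * w := by
      intro n
      induction n with
      | zero => simp
      | succ n ihn =>
        calc x ^ (n + 1) * w * (x ^ (n + 1))⁻¹ = x * (x ^ n * w * (x ^ n)⁻¹) * x⁻¹ := by
              rw [pow_succ']; group
          _ = x * (d ^ n * w) * x⁻¹ := by rw [ihn]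
          _ = (x * d * x⁻¹) ^ n * (x * w * x⁻¹) := by rw [conj_pow]; group
          _ = d ^ n * (d * w) := by rw [hxd, hd]; group
          _ = d ^ (n + 1) * w := by rw [pow_succ]; group
    obtain ⟨m, hm⟩ := hx
    have h3 := hn (orderOf x)
    rw [pow_orderOf_eq_one, one_mul, inv_one, mul_one, hm, pow_succ, pow_mul, hd2, one_pow, one_mul] at h3
    calc x * w * x⁻¹ = d * w := by rw [hd]; group
      _ = w := h3.symm

/-- The action of an automorphism as an endomorphism of the additive group. -/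
def mulAutToEnd (V : Type u) [CommGroup V] : MulAut V →* AddMonoid.End (Additive V) where
  toFun f := MonoidHom.toAdditive f.toMonoidHom
  map_one' := rfl
  map_mul' _ _ := rfl

/-- In a group without section `S₄`, the maximal elementary abelian subgroups centralize a normal elementary
abelian subgroup `V` with `O₂(G / C(V)) = 1`. -/
theorem le_centralizer_of_isMaxElem (hS4 : ¬ Involves (Equiv.Perm (Fin 4)) G) (V : Subgroup G) [V.Normal]
    (hV : IsElementaryAbelian 2 V) (hO : pCore 2 (G ⧸ centralizer (V : Set G)) = ⊥) {A : Subgroup G}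
    (hA : A ∈ maxElementaryAbelianSubgroups 2 G) : A ≤ centralizer (V : Set G) := by
  haveI : Fact (Nat.Prime 2) := ⟨Nat.prime_two⟩
  by_contra hAV
  have hne : ⁅V, A⁆ ≠ ⊥ := fun h => hAV
    (Subgroup.commutator_eq_bot_iff_le_centralizer.1 (by rwa [Subgroup.commutator_comm]))
  obtain ⟨hA', hquad, hne'⟩ := CfsgLib.MaxOffender.replacement hV hA
  set A' := ⁅V, A⁆ ⊔ (A ⊓ centralizer ((⁅V, A⁆ : Subgroup G) : Set G))
  have hA'V : ¬ A' ≤ centralizer (V : Set G) := fun h => hne' hne (by
    rw [Subgroup.commutator_comm]; exact Subgroup.commutator_eq_bot_iff_le_centralizer.2 h)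
  haveI := hV.1
  set C := centralizer (V : Set G) with hC
  let ρ : G ⧸ C →* AddMonoid.End (Additive V) := (mulAutToEnd V).comp (CfsgLib.PLocal.conjQuot V)
  have hρv : ∀ (g : G) (v : V), ((Additive.toMul (ρ (QuotientGroup.mk g) (Additive.ofMul v)) : V) : G) =
      g * v * g⁻¹ := fun g v => MulAut.conjNormal_apply g v
  have hρ : ∀ x, ρ x = 1 → x = 1 := fun x => QuotientGroup.induction_on x fun g hg => by
    rw [QuotientGroup.eq_one_iff, hC, mem_centralizer_iff]
    intro v hv
    have h1 := hρv g ⟨v, hv⟩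
    rw [hg] at h1
    exact (mul_inv_eq_iff_eq_mul.1 h1.symm).symm
  have hV2 : ∀ v : Additive V, v + v = 0 := fun v => Additive.toMul.injective (Subtype.ext (by
    have h := hV.2 _ (Additive.toMul v).2
    rwa [pow_two] at h))
  have hS3 : ¬ Involves (Equiv.Perm (Fin 3)) (G ⧸ C) := by
    intro h
    refine hS4 (Cfsg.Agent.S2759.backward V (CfsgLib.PLocal.elemAb_isPGroup hV) ?_)
    have hle : (C.subgroupOf (normalizer (V : Set G))) ≤
        C.comap (normalizer (V : Set G)).subtype := le_rfl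
    refine LocalEven.Involved.involves_of_surjective
      (QuotientGroup.map (C.subgroupOf (normalizer (V : Set G))) C (normalizer (V : Set G)).subtype hle) ?_ h
    intro y
    obtain ⟨g, rfl⟩ := QuotientGroup.mk_surjective y
    exact ⟨QuotientGroup.mk ⟨g, normalizer_eq_top V ▸ mem_top g⟩, rfl⟩
  set D := A'.map (QuotientGroup.mk' C)
  have hfix : ∀ v : Additive V, v ∈ fixedPts ρ D ↔
      ((Additive.toMul v : V) : G) ∈ centralizer (A' : Set G) := by
    intro v
    rw [mem_centralizer_iff]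
    constructor
    · intro h a ha
      have h1 := hρv a (Additive.toMul v)
      rw [ofMul_toMul, h (QuotientGroup.mk a) ⟨a, ha, rfl⟩] at h1
      exact (mul_inv_eq_iff_eq_mul.1 h1.symm)
    · rintro h _ ⟨a, ha, rfl⟩
      refine Additive.toMul.injective (Subtype.ext ?_)
      show ((Additive.toMul (ρ (QuotientGroup.mk a) (Additive.ofMul (Additive.toMul v))) : V) : G) = _
      rw [hρv, mul_inv_eq_iff_eq_mul]
      exact h a ha
  have hq : Quad ρ D := by
    rintro _ ⟨a, ha, rfl⟩ v
    rw [hfix, mem_centralizer_iff]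
    intro b hb
    set v' : V := Additive.toMul v
    have h2 : a * (v' : G) * a⁻¹ * (v' : G)⁻¹ = ⁅(v' : G), a⁆⁻¹ := by
      simp only [commutatorElement_def]; group
    have h3 := Subgroup.commutator_eq_bot_iff_le_centralizer.1 hquad
      (Subgroup.inv_mem _ (Subgroup.commutator_mem_commutator v'.2 ha))
    rw [mem_centralizer_iff] at h3
    have h4 : ((Additive.toMul (ρ (QuotientGroup.mk a) v - v) : V) : G) = a * v' * a⁻¹ * (v' : G)⁻¹ := by
      rw [toMul_sub, div_eq_mul_inv, Subgroup.coe_mul, Subgroup.coe_inv]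
      exact congrArg (· * (v' : G)⁻¹) (hρv a v')
    show b * ((Additive.toMul (ρ (QuotientGroup.mk a) v - v) : V) : G) =
      ((Additive.toMul (ρ (QuotientGroup.mk a) v - v) : V) : G) * b
    rw [h4, h2]
    exact h3 b hb
  have hbest := (CfsgLib.MaxOffender.isBestOffenderOn hV hA').1 (A' ⊓ C) inf_le_left
  have hVB : V ⊓ centralizer ((A' ⊓ C : Subgroup G) : Set G) = V := inf_eq_left.2 fun v hv =>
    mem_centralizer_iff.2 fun b hb => (mem_centralizer_iff.1 hb.2 v hv).symm
  have hDc : Nat.card A' = Nat.card D * Nat.card (A' ⊓ C : Subgroup G) := by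
    have h := Subgroup.relIndex_mul_relIndex (⊥ : Subgroup G) (A' ⊓ C) A' bot_le inf_le_left
    rw [Subgroup.relIndex_bot_left, Subgroup.relIndex_bot_left, Subgroup.inf_relIndex_left] at h
    rw [show Nat.card D = C.relIndex A' from CfsgLib.PCore.card_map_mk' C A', mul_comm]
    exact h.symm
  have hfixc : Nat.card (fixedPts ρ D) = Nat.card (V ⊓ centralizer (A' : Set G) : Subgroup G) :=
    Nat.card_congr ⟨fun v => ⟨((Additive.toMul v.1 : V) : G), (Additive.toMul v.1).2, (hfix v.1).1 v.2⟩,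
      fun w => ⟨Additive.ofMul ⟨w.1, w.2.1⟩, (hfix _).2 w.2.2⟩, fun _ => rfl, fun _ => rfl⟩
  refine no_quadratic_offender ρ hρ hV2 hO hS3 (A := D) (fun e => hA'V fun a ha => ?_) hq ?_
  · have h1 : QuotientGroup.mk' C a ∈ D := ⟨a, ha, rfl⟩
    rwa [e, Subgroup.mem_bot, QuotientGroup.mk'_apply, QuotientGroup.eq_one_iff] at h1
  · refine Nat.le_of_mul_le_mul_left ?_ (Nat.card_pos (α := fixedPts ρ D))
    rw [AddSubgroup.card_mul_index, hfixc, mul_comm, Nat.card_congr (Additive.toMul)]
    rw [hVB, hDc] at hbest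
    refine Nat.le_of_mul_le_mul_right ?_ (Nat.card_pos (α := (A' ⊓ C : Subgroup G)))
    calc Nat.card V * Nat.card (A' ⊓ C : Subgroup G) = Nat.card (A' ⊓ C : Subgroup G) * Nat.card V :=
          mul_comm _ _
      _ ≤ _ := hbest
      _ = _ := by ring

/-- `G = C(Z(S)) N(J_e(S))` for a group without section `S₄` with `C(O₂(G)) ≤ O₂(G)`. -/
theorem exists_factor (hC : centralizer (pCore 2 G : Set G) ≤ pCore 2 G)
    (hS4 : ¬ Involves (Equiv.Perm (Fin 4)) G) (S : Sylow 2 G) (g : G) :
    ∃ c ∈ centralizer (((S : Subgroup G) ⊓ centralizer ((S : Subgroup G) : Set G) : Subgroup G) : Set G),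
      ∃ n ∈ normalizer (CfsgLib.PLocal.thompson 2 (S : Subgroup G) : Set G), g = c * n := by
  haveI : Fact (Nat.Prime 2) := ⟨Nat.prime_two⟩
  set Z := (S : Subgroup G) ⊓ centralizer ((S : Subgroup G) : Set G)
  set ZQ := pCore 2 G ⊓ centralizer (pCore 2 G : Set G)
  haveI : (pCore 2 G).Normal := pCore_normal 2 G
  haveI hZQn : ZQ.Normal := inferInstance
  have hZc : Z ≤ centralizer (pCore 2 G : Set G) :=
    inf_le_right.trans (centralizer_le (SetLike.coe_subset_coe.2 (CfsgLib.PCore.pCore_le_sylow S)))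
  have hZZQ : Z ≤ ZQ := le_inf (hZc.trans hC) hZc
  set W := normalClosure (Z : Set G)
  have hWZQ : W ≤ ZQ := normalClosure_le_normal hZZQ
  haveI hWc : IsMulCommutative W := CfsgLib.PLocal.isMulCommutative_of_forall fun a ha b hb =>
    mem_centralizer_iff.1 (hWZQ hb).2 a (hWZQ ha).1
  have hWp : IsPGroup 2 W := CfsgLib.PCore.pCore_isPGroup.to_le (hWZQ.trans inf_le_left)
  set C := centralizer (W : Set G)
  haveI hCn : C.Normal := inferInstance
  -- `G / C` has no normal 2-subgroup
  have hOC : pCore 2 (G ⧸ C) = ⊥ := by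
    set M := (pCore 2 (G ⧸ C)).comap (QuotientGroup.mk' C) with hM
    haveI : M.Normal := (pCore_normal 2 _).comap _
    have hMsup : ∀ m ∈ M, ∃ c ∈ C, ∃ s ∈ (S : Subgroup G) ⊓ M, c * s = m := by
      intro m hm
      have h1 := CfsgLib.PCore.pCore_le_sylow (S.mapSurjective (QuotientGroup.mk'_surjective C)) hm
      rw [Sylow.coe_mapSurjective] at h1
      obtain ⟨s, hs, hsm⟩ := h1
      have h2 : m * s⁻¹ ∈ C := by
        rw [← QuotientGroup.eq_one_iff (N := C), QuotientGroup.mk_mul, QuotientGroup.mk_inv,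
          mul_inv_eq_one]
        exact hsm.symm
      refine ⟨m * s⁻¹, h2, s, ⟨hs, ?_⟩, by group⟩
      show QuotientGroup.mk' C s ∈ pCore 2 (G ⧸ C)
      rw [hsm]; exact hm
    suffices hMC : M ≤ C by
      refine eq_bot_iff.2 fun x hx => ?_
      obtain ⟨g, rfl⟩ := QuotientGroup.mk_surjective x
      exact Subgroup.mem_bot.2 ((QuotientGroup.eq_one_iff g).2 (hMC hx))
    have hSMC : (S : Subgroup G) ⊓ M ≤ C := by
      intro t ht
      have : W ≤ centralizer {t} := by
        refine (Subgroup.closure_le _).2 ?_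
        intro y hy
        obtain ⟨z, hz, hzy⟩ := Group.mem_conjugatesOfSet_iff.1 hy
        obtain ⟨x, rfl⟩ := isConj_iff.1 hzy
        obtain ⟨m, hm, n, hn, rfl⟩ := exists_eq_mul_normalizer_inf S M x
        -- the conjugate by `n` is centralized by `S ⊓ M`
        have h1 : ∀ s ∈ (S : Subgroup G) ⊓ M, s * (n * z * n⁻¹) = (n * z * n⁻¹) * s := by
          intro s hs
          have h2 : n⁻¹ * s * n ∈ (S : Subgroup G) ⊓ M := by
            simpa using (mem_normalizer_iff.1 (inv_mem hn) s).1 hs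
          have h3 := mem_centralizer_iff.1 hz.2 _ h2.1
          calc s * (n * z * n⁻¹) = n * (n⁻¹ * s * n * z) * n⁻¹ := by group
            _ = n * (z * (n⁻¹ * s * n)) * n⁻¹ := by rw [h3]
            _ = n * z * n⁻¹ * s := by group
        obtain ⟨c, hc, s, hs, rfl⟩ := hMsup m hm
        have hzW : n * z * n⁻¹ ∈ W :=
          (normalClosure_normal (s := (Z : Set G))).conj_mem _ (subset_normalClosure hz) n
        have h4 : c * s * n * z * (c * s * n)⁻¹ = n * z * n⁻¹ := by
          calc c * s * n * z * (c * s * n)⁻¹ = c * (s * (n * z * n⁻¹) * s⁻¹) * c⁻¹ := by group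
            _ = c * (n * z * n⁻¹) * c⁻¹ := by rw [h1 s hs, mul_inv_cancel_right]
            _ = _ := by rw [← mem_centralizer_iff.1 hc _ hzW, mul_inv_cancel_right]
        rw [SetLike.mem_coe, h4, mem_centralizer_iff]
        rintro _ rfl
        exact h1 _ ht
      exact mem_centralizer_iff.2 fun w hw => (mem_centralizer_iff.1 (this hw) t rfl).symm
    intro m hm
    obtain ⟨c, hc, s, hs, rfl⟩ := hMsup m hm
    exact C.mul_mem hc (hSMC hs)
  -- the involutions of `W`
  set V := omegaOne 2 W with hVdef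
  have hVW : V ≤ W := CfsgLib.PLocal.omegaOne_le 2 W
  have hV : IsElementaryAbelian 2 V := CfsgLib.PLocal.omegaOne_elemAb 2 W
  haveI hVn : V.Normal := normalizer_eq_top_iff.1 (top_le_iff.1
    ((normalizer_eq_top W).ge.trans (CfsgLib.PLocal.normalizer_le_normalizer_omegaOne 2 W)))
  have hCV : centralizer (V : Set G) = C := by
    refine le_antisymm ?_ (centralizer_le (SetLike.coe_subset_coe.2 hVW))
    set CV := centralizer (V : Set G) with hCVd
    haveI : CV.Normal := inferInstance
    have hp : IsPGroup 2 (CV.map (QuotientGroup.mk' C)) := by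
      rintro ⟨_, y, hy, rfl⟩
      obtain ⟨k, hodd, -⟩ := JeTwo.exists_odd_power y
      refine ⟨k, Subtype.ext ?_⟩
      show (QuotientGroup.mk' C y) ^ 2 ^ k = 1
      rw [← map_pow, QuotientGroup.mk'_apply, QuotientGroup.eq_one_iff, mem_centralizer_iff]
      intro w hw
      have hyk := CV.pow_mem hy (2 ^ k)
      have h := commute_of_fix_involutions hWp hodd
        (fun w hw => (normalClosure_normal (s := (Z : Set G))).conj_mem w hw _)
        (fun w hw hw2 => by
          rw [← mem_centralizer_iff.1 hyk w (CfsgLib.PLocal.mem_omegaOne hw hw2), mul_inv_cancel_right]) w hw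
      exact (mul_inv_eq_iff_eq_mul.1 h).symm
    have h1 := hOC ▸ CfsgLib.PCore.le_pCore
      ((inferInstance : CV.Normal).map _ (QuotientGroup.mk'_surjective C)) hp
    rwa [le_bot_iff, Subgroup.map_eq_bot_iff, QuotientGroup.ker_mk'] at h1
  have hOV : pCore 2 (G ⧸ centralizer (V : Set G)) = ⊥ :=
    CfsgLib.PCore.pCore_eq_bot_of_equiv (QuotientGroup.quotientMulEquivOfEq hCV.symm) hOC
  have hJC : CfsgLib.PLocal.thompson 2 (S : Subgroup G) ≤ C := by
    rw [CfsgLib.PLocal.thompson_le_iff]
    intro A hA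
    refine (le_centralizer_of_isMaxElem hS4 V hV hOV ⟨hA.elem, fun B hB => ?_⟩).trans hCV.le
    obtain ⟨T, hT⟩ := (CfsgLib.PLocal.elemAb_isPGroup hB).exists_le_sylow
    obtain ⟨x, hx⟩ := MulAction.exists_smul_eq G T S
    have hB₁ : B.map (MulAut.conj x).toMonoidHom ≤ (S : Subgroup G) := by
      rw [← hx, Sylow.coe_subgroup_smul]
      exact Subgroup.map_mono hT
    have := hA.2.2 _ hB₁ (CfsgLib.PLocal.elemAb_map _ hB)
    rwa [card_map_conj] at this
  have he : CfsgLib.PLocal.thompson 2 ((S : Subgroup G) ⊓ C) = CfsgLib.PLocal.thompson 2 (S : Subgroup G) :=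
    CfsgLib.PLocal.thompson_eq_of_le inf_le_left (le_inf (CfsgLib.PLocal.thompson_le _ _) hJC)
  obtain ⟨c, hc, n, hn, rfl⟩ := exists_eq_mul_normalizer_inf S C g
  exact ⟨c, centralizer_le (fun z hz => subset_normalClosure hz) hc, n,
    he ▸ CfsgLib.PLocal.normalizer_le_normalizer_thompson 2 _ hn, rfl⟩

/-- The factorization, in the form used for Sylow subgroups of class two. -/
theorem hasFactor : CfsgLib.Techniques.JeTwo.HasFactor.{u} :=
  fun _ _ _ hC hS4 S g => exists_factor hC hS4 S g

end CfsgLib.Techniques.SThree
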