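import Cfsg.Agent.Lib.Techniques.SThreeOffender
import Mathlib.GroupTheory.QuotientGroup.Defs

/-! Passing to a section of the module on which the image is not a 2-group. -/

set_option autoImplicit false
set_option linter.unusedSectionVars false

namespace CfsgLib.Techniques.SThree

open Subgroup CfsgLib.Techniques

universe u v

variable {L : Type u} [Group L] {V : Type v} [AddCommGroup V]

/-- The action on an invariant subgroup. -/
def subRep (ρ : L →* AddMonoid.End V) (N : AddSubgroup V) (hN : ∀ x : L, ∀ v ∈ N, ρ x v ∈ N) :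
    L →* AddMonoid.End N where
  toFun x :=
    { toFun := fun v => ⟨ρ x v, hN x v v.2⟩
      map_zero' := Subtype.ext (map_zero (ρ x))
      map_add' := fun v w => Subtype.ext (map_add (ρ x) v.1 w.1) }
  map_one' := by ext v; exact act_one ρ _
  map_mul' x y := by ext v; exact act_mul ρ x y _

/-- The action on the quotient by an invariant subgroup. -/
def quotRep (ρ : L →* AddMonoid.End V) (N : AddSubgroup V) (hN : ∀ x : L, ∀ v ∈ N, ρ x v ∈ N) :
    L →* AddMonoid.End (V ⧸ N) where
  toFun x := QuotientAddGroup.map N N (ρ x) (fun v hv => hN x v hv)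
  map_one' := by
    refine AddMonoidHom.ext fun q => QuotientAddGroup.induction_on q fun v => ?_
    show QuotientAddGroup.mk (ρ 1 v) = QuotientAddGroup.mk v
    rw [act_one]
  map_mul' x y := by
    refine AddMonoidHom.ext fun q => QuotientAddGroup.induction_on q fun v => ?_
    show QuotientAddGroup.mk (ρ (x * y) v) = QuotientAddGroup.mk (ρ x (ρ y v))
    rw [act_mul]

variable [Finite L]

/-- A quadratic offender in a unique maximal subgroup gives the symmetric group of degree three. -/
theorem exists_hom_perm_three_of_offender {A L₀ R : Subgroup L} (h : UniqueOver A L₀ R) :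
    ∀ (V : Type v) [AddCommGroup V] [Finite V] (ρ : L →* AddMonoid.End V), (∀ v : V, v + v = 0) →
      (∀ r ∈ R, ρ r = 1) → Quad ρ A →
      (fixedPts ρ A).index * Nat.card (A ⊓ R : Subgroup L) ≤ Nat.card A → ¬ TwoImage ρ →
      ∃ (H : Subgroup L) (φ : H →* Equiv.Perm (Fin 3)),
        Function.Surjective φ ∧ ∀ x : H, ρ x = 1 → φ x = 1 := by
  suffices H : ∀ (n : ℕ) (V : Type v) [AddCommGroup V] [Finite V] (ρ : L →* AddMonoid.End V),
      Nat.card V < n → (∀ v : V, v + v = 0) → (∀ r ∈ R, ρ r = 1) → Quad ρ A →
      (fixedPts ρ A).index * Nat.card (A ⊓ R : Subgroup L) ≤ Nat.card A → ¬ TwoImage ρ →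
      ∃ (H : Subgroup L) (φ : H →* Equiv.Perm (Fin 3)),
        Function.Surjective φ ∧ ∀ x : H, ρ x = 1 → φ x = 1 from
    fun V _ _ ρ => H (Nat.card V + 1) V ρ (Nat.lt_succ_self _)
  intro n
  induction n with
  | zero => intro V _ _ ρ hn; omega
  | succ n ih =>
    intro V _ _ ρ hn hV2 hR hq hoff hno
    by_cases hirr : ∀ N : AddSubgroup V, (∀ x : L, ∀ v ∈ N, ρ x v ∈ N) → N = ⊥ ∨ N = ⊤
    · exact exists_hom_of_irreducible h ρ hV2 hR hq hoff hno hirr
    push Not at hirr
    obtain ⟨N, hN, hNb, hNt⟩ := hirr
    set σ := subRep ρ N hN with hσ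
    set τ := quotRep ρ N hN with hτ
    by_cases hσ2 : TwoImage σ
    · -- the quotient
      have hτ2 : ¬ TwoImage τ := by
        intro hτ2; apply hno
        intro x
        obtain ⟨k, hk⟩ := hσ2 x
        obtain ⟨l, hl⟩ := hτ2 x
        have hk' : σ (x ^ 2 ^ (k + l)) = 1 := by rw [pow_add, pow_mul, map_pow, hk, one_pow]
        have hl' : τ (x ^ 2 ^ (k + l)) = 1 := by rw [add_comm, pow_add, pow_mul, map_pow, hl, one_pow]
        refine ⟨k + l + 1, ?_⟩
        rw [pow_succ, pow_mul, pow_two]
        set y := x ^ 2 ^ (k + l)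
        ext v
        show ρ (y * y) v = v
        have hd : ρ y v - v ∈ N := by
          have h1 : (QuotientAddGroup.mk (ρ y v) : V ⧸ N) = QuotientAddGroup.mk v :=
            DFunLike.congr_fun hl' (QuotientAddGroup.mk v)
          have h2 := QuotientAddGroup.eq.1 h1.symm
          rwa [neg_add_eq_sub] at h2
        have h3 : ρ y (ρ y v - v) = ρ y v - v :=
          congrArg Subtype.val (DFunLike.congr_fun hk' (⟨ρ y v - v, hd⟩ : N))
        rw [act_mul]
        rw [map_sub] at h3
        calc ρ y (ρ y v) = (ρ y (ρ y v) - ρ y v) + ρ y v := by abel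
          _ = (ρ y v - v) + ρ y v := by rw [h3]
          _ = (ρ y v + ρ y v) - v := by abel
          _ = 0 - v := by rw [hV2]
          _ = v := by rw [zero_sub, neg_eq_of_add_eq_zero_left (hV2 v)]
      have hcard : Nat.card (V ⧸ N) < n := by
        have h1 := N.card_eq_card_quotient_mul_card_addSubgroup
        have h2 : 1 < Nat.card N := N.one_lt_card_iff_ne_bot.2 hNb
        have h3 : 0 < Nat.card (V ⧸ N) := Nat.card_pos
        have h4 : Nat.card (V ⧸ N) < Nat.card V := h1.symm ▸ lt_mul_of_one_lt_right h3 h2
        omega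
      obtain ⟨H, φ, hφ, hker⟩ := ih (V ⧸ N) τ hcard
        (fun v => QuotientAddGroup.induction_on v fun w => congrArg QuotientAddGroup.mk (hV2 w))
        (fun r hr => AddMonoidHom.ext fun q => QuotientAddGroup.induction_on q fun v => by
          show QuotientAddGroup.mk (ρ r v) = _; rw [hR r hr]; rfl)
        (fun a ha v => QuotientAddGroup.induction_on v fun w b hb =>
          congrArg QuotientAddGroup.mk (hq a ha w b hb))
        (by
          refine le_trans (Nat.mul_le_mul_right _ ?_) hoff
          have hle : (fixedPts ρ A).map (QuotientAddGroup.mk' N) ≤ fixedPts τ A := by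
            rintro _ ⟨v, hv, rfl⟩ a ha
            exact congrArg QuotientAddGroup.mk (hv a ha)
          have hd := (AddSubgroup.index_dvd_of_le hle).trans
            (AddSubgroup.index_map_dvd (fixedPts ρ A) (QuotientAddGroup.mk'_surjective N))
          exact Nat.le_of_dvd (Nat.pos_of_ne_zero AddSubgroup.index_ne_zero_of_finite) hd)
        hτ2
      exact ⟨H, φ, hφ, fun x hx => hker x (AddMonoidHom.ext fun q => QuotientAddGroup.induction_on q fun v => by
        show QuotientAddGroup.mk (ρ x v) = _; rw [hx]; rfl)⟩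
    · have hcard : Nat.card N < n := by
        have h1 : Nat.card N < Nat.card V :=
          lt_of_le_of_ne (Nat.card_le_card_of_injective _ Subtype.val_injective) fun e => hNt (N.eq_top_of_card_eq e)
        omega
      obtain ⟨H, φ, hφ, hker⟩ := ih N σ hcard (fun v => Subtype.ext (hV2 v))
        (fun r hr => by ext v; show ρ r v = _; rw [hR r hr]; rfl)
        (fun a ha v b hb => Subtype.ext (hq a ha v b hb))
        (by
          refine le_trans (Nat.mul_le_mul_right _ ?_) hoff
          have hle : (fixedPts ρ A).addSubgroupOf N ≤ fixedPts σ A := fun v hv a ha => Subtype.ext (hv a ha)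
          refine le_trans (Nat.le_of_dvd (Nat.pos_of_ne_zero AddSubgroup.index_ne_zero_of_finite)
            (AddSubgroup.index_dvd_of_le hle)) ?_
          have h0 : AddSubgroup.relIndex (fixedPts ρ A) ⊤ = (fixedPts ρ A).index := AddSubgroup.relIndex_top_right _
          rw [← h0]
          exact AddSubgroup.relIndex_le_of_le_right le_top AddSubgroup.index_ne_zero_of_finite)
        hσ2
      exact ⟨H, φ, hφ, fun x hx => hker x (by ext v; show ρ x v = _; rw [hx]; rfl)⟩

end CfsgLib.Techniques.SThree
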