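import Cfsg.Prelude.Def_LocalEven
import Cfsg.Prelude.Def_PLocal
import Cfsg.Agent.Lib.PCore.Basic

/-! Chief factors and iterated commutators under homomorphisms. -/

set_option autoImplicit false

namespace CfsgLib.Techniques.Fusion

open Cfsg Subgroup

variable {G H : Type*} [Group G] [Group H]

theorem iterCommutator_map (f : G →* H) (A B : Subgroup G) :
    ∀ k, (iterCommutator A B k).map f = iterCommutator (A.map f) (B.map f) k
  | 0 => rfl
  | k + 1 => by
    show (⁅iterCommutator A B k, B⁆).map f = ⁅iterCommutator (A.map f) (B.map f) k, B.map f⁆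
    rw [map_commutator, iterCommutator_map f A B k]

theorem iterCommutator_mono {A A' B B' : Subgroup G} (hA : A ≤ A') (hB : B ≤ B') :
    ∀ k, iterCommutator A B k ≤ iterCommutator A' B' k
  | 0 => hA
  | k + 1 => commutator_mono (iterCommutator_mono hA hB k) hB

theorem isChiefFactor_map_equiv (e : G ≃* H) {U V : Subgroup G} (h : IsChiefFactor U V) :
    IsChiefFactor (U.map e.toMonoidHom) (V.map e.toMonoidHom) := by
  obtain ⟨hlt, hU, hV, hmax⟩ := h
  have hinj : Function.Injective e.toMonoidHom := e.injective
  refine ⟨(map_lt_map_iff_of_injective hinj).2 hlt, hU.map _ e.surjective, hV.map _ e.surjective,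
    fun N hN hVN hNU => ?_⟩
  have hNe : N = (N.comap e.toMonoidHom).map e.toMonoidHom :=
    (map_comap_eq_self_of_surjective (f := e.toMonoidHom) e.surjective N).symm
  rcases hmax (N.comap e.toMonoidHom) (hN.comap _) (map_le_iff_le_comap.1 hVN)
      ((comap_mono hNU).trans (comap_map_eq_self_of_injective hinj U).le) with h1 | h1
  · left; rw [hNe, h1]
  · right; rw [hNe, h1]

end CfsgLib.Techniques.Fusion
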