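import Cfsg.Agent.Lib.Techniques.ChiefTools
import Cfsg.Agent.Lib.Techniques.ChiefMap
import Cfsg.Agent.Lib.ModuleTrick.Dedekind
import Cfsg.Agent.Lib.ModuleTrick.Reduced
import Cfsg.Agent.Lib.ModuleTrick.Quotient
import Cfsg.Agent.Lib.ModuleTrick.Invariant
import Cfsg.Agent.Lib.Transfer.Basic

/-!
The abelian case of Hall and Higman's theorem B on a chief factor: in a group which is an abelian
`p'`-group by a `p`-group above `O_p`, a `p`-element with `(g - 1) ^ (p - 1) = 0` on a chief factor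
below `O_p` centralises it.
-/

set_option autoImplicit false
set_option linter.unusedSectionVars false
set_option linter.style.haveILetI false

namespace CfsgLib.Techniques.AbelianHH

open Cfsg Subgroup CfsgLib.Techniques CfsgLib.Techniques.Fusion
open scoped commutatorElement IsMulCommutative

universe u

/-- `1 + s + ⋯ + s^(p^n - 1) = 0` when `(s - 1)^(p - 1) = 0` in characteristic `p`. -/
theorem sum_pow_eq_zero {p n : ℕ} [hp : Fact p.Prime] {E : Type*} [Ring E] [Nontrivial E]
    (hE : (p : E) = 0) (s : E) (hs : (s - 1) ^ (p - 1) = 0) (hn : n ≠ 0) :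
    ∑ i ∈ Finset.range (p ^ n), s ^ i = 0 := by
  haveI : CharP E p := (CharP.charP_iff_prime_eq_zero hp.out).2 hE
  have hpos : 0 < p ^ n := pow_pos hp.out.pos n
  have key : (∑ i ∈ Finset.range (p ^ n), (Polynomial.X : Polynomial (ZMod p)) ^ i) =
      (Polynomial.X - 1) ^ (p ^ n - 1) := by
    refine mul_right_cancel₀ (Polynomial.X_sub_C_ne_zero (1 : ZMod p)) ?_
    rw [map_one, geom_sum_mul, ← pow_succ, Nat.sub_add_cancel hpos, sub_pow_char_pow, one_pow]
  let f : Polynomial (ZMod p) →+* E := Polynomial.eval₂RingHom' (ZMod.castHom dvd_rfl E) s fun a => by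
    rw [← ZMod.natCast_rightInverse a, map_natCast]
    exact Nat.cast_commute _ _
  have hfX : f Polynomial.X = s := Polynomial.eval₂_X _ _
  have h := congrArg f key
  rw [map_sum, map_pow, map_sub, map_one, hfX] at h
  simp only [map_pow, hfX] at h
  rw [h]
  refine pow_eq_zero_of_le (Nat.sub_le_sub_right ?_ 1) hs
  calc p = p ^ 1 := (pow_one p).symm
    _ ≤ p ^ n := Nat.pow_le_pow_right hp.out.pos (Nat.one_le_iff_ne_zero.2 hn)

variable {X : Type u} [Group X] [Finite X] {p : ℕ} [hp : Fact p.Prime]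

/-- The main statement. -/
theorem commutator_le_of_small_degree (O M : Subgroup X) [O.Normal] [M.Normal] (hO : IsPGroup p O)
    (hab : ⁅M, M⁆ ≤ O) (hidx : (O.relIndex M).Coprime p) (hq : IsPGroup p (X ⧸ M))
    (T : Sylow p X) {g : X} (hg : g ∈ (T : Subgroup X)) {U V : Subgroup X} (hch : IsChiefFactor U V)
    (hU : U ≤ O) (hit : iterCommutator U (zpowers g) (p - 1) ≤ V) : ⁅U, zpowers g⁆ ≤ V := by
  haveI := hch.2.1
  haveI := hch.2.2.1
  let q := QuotientGroup.mk' V
  have hqs : Function.Surjective q := QuotientGroup.mk'_surjective V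
  let W := U.map q
  haveI hWn : W.Normal := hch.2.1.map q hqs
  haveI hWc : IsMulCommutative W := by
    refine ⟨⟨fun a b => Subtype.ext ?_⟩⟩
    obtain ⟨x, hx, hxe⟩ : ∃ x ∈ U, q x = (a : X ⧸ V) := mem_map.1 a.2
    obtain ⟨y, hy, hye⟩ : ∃ y ∈ U, q y = (b : X ⧸ V) := mem_map.1 b.2
    show (a : X ⧸ V) * b = b * a
    rw [← hxe, ← hye, ← commutatorElement_eq_one_iff_mul_comm, ← map_commutatorElement]
    exact (QuotientGroup.eq_one_iff _).2 (chiefFactor_commutative hch (hO.to_le hU)
      (commutator_mem_commutator hx hy))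
  let E := AddMonoid.End (Additive W)
  let ρ : X →* E := (CfsgLib.ModuleTrick.conjEnd W).comp q
  have hρ : ∀ (x : X) (v : Additive W),
      (((ρ x) v).toMul : X ⧸ V) = q x * (v.toMul : X ⧸ V) * (q x)⁻¹ := fun x v =>
    CfsgLib.ModuleTrick.conjEnd_apply W (q x) v
  have hker : ∀ x : X, ρ x = 1 ↔ q x ∈ centralizer (W : Set (X ⧸ V)) := by
    intro x
    rw [← CfsgLib.ModuleTrick.conjEnd_ker W, MonoidHom.mem_ker]
    rfl
  have hWne : W ≠ ⊥ := by
    rw [Ne, Subgroup.map_eq_bot_iff, QuotientGroup.ker_mk']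
    exact hch.1.not_ge
  have hgoal : ρ g = 1 → ⁅U, zpowers g⁆ ≤ V := by
    intro h
    have h1 : (⁅U, zpowers g⁆).map q = ⊥ := by
      rw [map_commutator, MonoidHom.map_zpowers, commutator_comm, commutator_eq_bot_iff_le_centralizer,
        zpowers_le]
      exact (hker g).1 h
    rwa [Subgroup.map_eq_bot_iff, QuotientGroup.ker_mk'] at h1
  refine hgoal ?_
  by_contra hne
  haveI : Nontrivial W := (nontrivial_iff_ne_bot W).2 hWne
  have hE1 : (1 : E) ≠ 0 := by
    intro h
    obtain ⟨a, ha⟩ := exists_ne (1 : W)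
    have := DFunLike.congr_fun h (Additive.ofMul a)
    exact ha (congrArg Additive.toMul this)
  haveI : Nontrivial E := ⟨⟨1, 0, hE1⟩⟩
  have hEp : (p : E) = 0 := by
    refine DFunLike.ext _ _ fun v => ?_
    rw [AddMonoid.End.natCast_apply]
    show p • v = 0
    obtain ⟨u, hu, he⟩ : ∃ u ∈ U, q u = (v.toMul : X ⧸ V) := mem_map.1 v.toMul.2
    refine congrArg Additive.ofMul (Subtype.ext ?_ : v.toMul ^ p = (1 : W))
    rw [coe_pow, ← he, ← map_pow]
    exact (QuotientGroup.eq_one_iff _).2 (chiefFactor_pow_mem hch (hO.to_le hU) hu)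
  -- `O` acts trivially
  have hρO : ∀ x ∈ O, ρ x = 1 := by
    intro x hx
    rw [hker, mem_centralizer_iff]
    rintro _ ⟨u, hu, rfl⟩
    rw [← commutatorElement_eq_one_iff_mul_comm, ← map_commutatorElement]
    exact (QuotientGroup.eq_one_iff _).2
      (CfsgLib.Techniques.KInf.commutator_le_of_isPGroup hch (hO.to_le hU) inferInstance hO (commutator_mem_commutator hu hx))
  let S : Set E := ρ '' (M : Set X)
  have hScomm : ∀ a ∈ S, ∀ b ∈ S, a * b = b * a := by
    rintro _ ⟨a, ha, rfl⟩ _ ⟨b, hb, rfl⟩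
    rw [← map_mul, ← map_mul, show a * b = ⁅a, b⁆ * (b * a) by simp [commutatorElement_def, mul_assoc],
      map_mul, hρO _ (hab (commutator_mem_commutator ha hb)), one_mul]
  have hSN : ∀ a ∈ S, a ^ O.relIndex M = 1 := by
    rintro _ ⟨a, ha, rfl⟩
    rw [← map_pow]
    exact hρO _ (mem_subgroupOf.1 (Subgroup.pow_index_mem (O.subgroupOf M) ⟨a, ha⟩))
  let R := Subring.closure S
  letI : CommRing R := Subring.closureCommRingOfComm hScomm
  have hred : ∀ x : R, IsNilpotent x → x = 0 := fun x hx => Subtype.ext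
    (CfsgLib.ModuleTrick.eq_zero_of_nilpotent_mem_closure p hEp S hScomm _ hidx hSN x.2
      (hx.map R.subtype))
  have hinv : ∀ y : X, ρ y * ρ y⁻¹ = 1 := fun y => by rw [← map_mul, mul_inv_cancel, map_one]
  have hinv' : ∀ y : X, ρ y⁻¹ * ρ y = 1 := fun y => by rw [← map_mul, inv_mul_cancel, map_one]
  have hstab : ∀ x ∈ R, ρ g * x * ρ g⁻¹ ∈ R := by
    intro x hx
    induction hx using Subring.closure_induction with
    | mem z hz =>
      obtain ⟨m, hm, rfl⟩ := hz
      refine Subring.subset_closure ⟨g * m * g⁻¹, (inferInstance : M.Normal).conj_mem m hm g, ?_⟩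
      rw [map_mul, map_mul]
    | zero => rw [mul_zero, zero_mul]; exact R.zero_mem
    | one => rw [mul_one, hinv]; exact R.one_mem
    | add a b _ _ iha ihb => rw [mul_add, add_mul]; exact R.add_mem iha ihb
    | neg a _ iha =>
      have e : ρ g * -a * ρ g⁻¹ = -(ρ g * a * ρ g⁻¹) :=
        eq_neg_of_add_eq_zero_left (by rw [← add_mul, ← mul_add, neg_add_cancel, mul_zero, zero_mul])
      rw [e]; exact R.neg_mem iha
    | mul a b _ _ iha ihb =>
      have : ρ g * (a * b) * ρ g⁻¹ = (ρ g * a * ρ g⁻¹) * (ρ g * b * ρ g⁻¹) := by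
        simp only [mul_assoc]
        rw [← mul_assoc (ρ g⁻¹) (ρ g), hinv', one_mul]
      rw [this]; exact R.mul_mem iha ihb
  let φ : R →+* R :=
    { toFun := fun x => ⟨ρ g * x * ρ g⁻¹, hstab x x.2⟩
      map_one' := Subtype.ext (by show ρ g * 1 * ρ g⁻¹ = 1; rw [mul_one, hinv])
      map_mul' := fun a b => Subtype.ext (by
        show ρ g * ((a : E) * b) * ρ g⁻¹ = (ρ g * a * ρ g⁻¹) * (ρ g * b * ρ g⁻¹)
        simp only [mul_assoc]
        rw [← mul_assoc (ρ g⁻¹) (ρ g), hinv', one_mul])
      map_zero' := Subtype.ext (by show ρ g * 0 * ρ g⁻¹ = 0; rw [mul_zero, zero_mul])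
      map_add' := fun a b => Subtype.ext (by
        show ρ g * ((a : E) + b) * ρ g⁻¹ = ρ g * a * ρ g⁻¹ + ρ g * b * ρ g⁻¹
        rw [mul_add, add_mul]) }
  have hiter : ∀ (n : ℕ) (x : R), ((φ^[n] x : R) : E) = ρ (g ^ n) * x * ρ (g ^ n)⁻¹ := by
    intro n
    induction n with
    | zero => intro x; simp
    | succ n ih =>
      intro x
      rw [Function.iterate_succ_apply']
      show ρ g * ((φ^[n] x : R) : E) * ρ g⁻¹ = _
      rw [ih, pow_succ', mul_inv_rev, map_mul, map_mul]
      simp only [mul_assoc]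
  have hfix : ∃ a : R, φ a ≠ a := by
    by_contra hall
    push Not at hall
    apply hne
    -- all conjugates of `g` act as elements of `T`
    have hcomm : ∀ m ∈ M, ρ (m * g * m⁻¹) = ρ g := by
      intro m hm
      have h1 : ρ g * ρ m * ρ g⁻¹ = ρ m :=
        congrArg Subtype.val (hall ⟨ρ m, Subring.subset_closure ⟨m, hm, rfl⟩⟩)
      have h2 : ρ g * ρ m = ρ m * ρ g := by
        conv_rhs => rw [← h1, mul_assoc, hinv', mul_one]
      rw [map_mul, map_mul, ← h2, mul_assoc, hinv, mul_one]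
    let L := ((centralizer (W : Set (X ⧸ V))).comap q) ⊔ (T : Subgroup X)
    have hD : normalClosure ({g} : Set X) ≤ L := by
      refine (closure_le L).2 fun x hx => ?_
      obtain ⟨y, rfl, hy⟩ := Group.mem_conjugatesOfSet_iff.1 hx
      obtain ⟨c, rfl⟩ := isConj_iff.1 hy
      have hc : c ∈ (T : Subgroup X) ⊔ M := by
        rw [CfsgLib.Transfer.sylow_sup_eq_top T M hq]; exact mem_top c
      rw [← SetLike.mem_coe, mul_normal] at hc
      obtain ⟨t, ht, m, hm, rfl⟩ := hc
      have h1 : m * y * m⁻¹ * y⁻¹ ∈ (centralizer (W : Set (X ⧸ V))).comap q := by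
        rw [mem_comap, ← hker, map_mul, hcomm m hm, hinv]
      have h2 : m * y * m⁻¹ ∈ L := by
        have := mul_mem (mem_sup_left (T := (T : Subgroup X)) h1) (mem_sup_right hg)
        rwa [inv_mul_cancel_right] at this
      show t * m * y * (t * m)⁻¹ ∈ L
      rw [show t * m * y * (t * m)⁻¹ = t * (m * y * m⁻¹) * t⁻¹ by group]
      exact mul_mem (mul_mem (mem_sup_right ht) h2) (inv_mem (mem_sup_right ht))
    letI : MulAction (T : Subgroup X) W := MulAction.compHom W
      ((MulAut.conjNormal (H := W)).comp (q.comp (T : Subgroup X).subtype))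
    have hdvd : p ∣ Nat.card W := by
      obtain ⟨k, hk⟩ := ((hO.to_le hU).map q).exists_card_eq
      rw [hk]
      refine dvd_pow_self p fun h0 => ?_
      rw [h0, pow_zero] at hk
      exact hWne (Subgroup.card_eq_one.1 hk)
    have h1fix : (1 : W) ∈ MulAction.fixedPoints (T : Subgroup X) W := fun t =>
      map_one (MulAut.conjNormal (H := W) (q (t : X)))
    obtain ⟨b, hb, hb1⟩ := T.2.exists_fixed_point_of_prime_dvd_card_of_fixed_point W hdvd h1fix
    let C := W ⊓ centralizer (((normalClosure ({g} : Set X)).map q : Subgroup (X ⧸ V)) : Set (X ⧸ V))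
    haveI : ((normalClosure ({g} : Set X)).map q).Normal := Subgroup.normalClosure_normal.map q hqs
    have hbC : (b : X ⧸ V) ∈ C := by
      refine mem_inf.2 ⟨b.2, mem_centralizer_iff.2 ?_⟩
      have hLb : L.map q ≤ centralizer ({(b : X ⧸ V)} : Set (X ⧸ V)) := by
        rw [map_le_iff_le_comap]
        refine sup_le (fun x hx => ?_) fun t ht => ?_
        · rw [mem_comap, mem_centralizer_singleton_iff]
          exact (mem_centralizer_iff.1 hx _ b.2).symm
        · rw [mem_comap, mem_centralizer_singleton_iff]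
          have h : q t * (b : X ⧸ V) * (q t)⁻¹ = b := congrArg Subtype.val (hb ⟨t, ht⟩)
          exact mul_inv_eq_iff_eq_mul.1 h
      intro z hz
      exact mem_centralizer_singleton_iff.1 (hLb (map_mono hD hz))
    rcases hch.2.2.2 (C.comap q) (Subgroup.Normal.comap inferInstance q)
      (fun x hx => by
        show q x ∈ C
        rw [show q x = 1 from (QuotientGroup.eq_one_iff x).2 hx]; exact one_mem C)
      (fun x hx => by
        have h : q x ∈ W := (mem_inf.1 hx).1
        rw [← mem_comap, Subgroup.comap_map_eq, QuotientGroup.ker_mk', sup_eq_left.2 hch.1.le] at h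
        exact h) with h | h
    · refine absurd (Subtype.ext ?_) hb1
      obtain ⟨x, hx⟩ := hqs (b : X ⧸ V)
      have hxV : x ∈ C.comap q := by rw [mem_comap, hx]; exact hbC
      rw [h] at hxV
      show (1 : X ⧸ V) = (b : X ⧸ V)
      rw [← hx]
      exact ((QuotientGroup.eq_one_iff x).2 hxV).symm
    · rw [hker, mem_centralizer_iff]
      rintro _ ⟨u, hu, rfl⟩
      have hu' : q u ∈ C := by rw [← mem_comap, h]; exact hu
      exact (mem_centralizer_iff.1 (mem_inf.1 hu').2 (q g)
        (mem_map_of_mem q (subset_normalClosure (Set.mem_singleton g)))).symm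
  obtain ⟨k, hk⟩ := IsPGroup.iff_orderOf.1 T.2 ⟨g, hg⟩
  rw [Subgroup.orderOf_mk] at hk
  classical
  have hexn : ∃ n, ∀ x : R, φ^[p ^ n] x = x := ⟨k, fun x => Subtype.ext (by
    rw [hiter, ← hk, pow_orderOf_eq_one, inv_one, map_one, one_mul, mul_one])⟩
  have hn0 : Nat.find hexn ≠ 0 := by
    intro h0
    obtain ⟨a, ha⟩ := hfix
    have := Nat.find_spec hexn a
    rw [h0, pow_zero] at this
    exact ha this
  obtain ⟨m, hm⟩ := Nat.exists_eq_succ_of_ne_zero hn0
  have hmove : ∃ a, φ^[p ^ m] a ≠ a := by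
    have := Nat.find_min hexn (show m < Nat.find hexn by omega)
    push Not at this
    exact this
  refine CfsgLib.ModuleTrick.sum_pow_ne_zero p m hp.out R.subtype Subtype.val_injective φ (ρ g)
    (fun x => ?_) (fun x => by have := Nat.find_spec hexn x; rwa [hm] at this) hred hmove ?_
  · show ρ g * (x : E) = ρ g * x * ρ g⁻¹ * ρ g
    rw [mul_assoc _ (ρ g⁻¹), hinv', mul_one]
  refine sum_pow_eq_zero hEp (ρ g) ?_ (Nat.succ_ne_zero m)
  refine DFunLike.ext _ _ fun v => ?_
  have hmem : ∀ i, ((((ρ g - 1) ^ i) v).toMul : X ⧸ V) ∈ iterCommutator W (zpowers (q g)) i := by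
    intro i
    induction i with
    | zero => exact v.toMul.2
    | succ i ih =>
      rw [pow_succ']
      show ((ρ g (((ρ g - 1) ^ i) v) - ((ρ g - 1) ^ i) v).toMul : X ⧸ V) ∈
        ⁅iterCommutator W (zpowers (q g)) i, zpowers (q g)⁆
      rw [toMul_sub, Subgroup.coe_div, hρ, div_eq_mul_inv]
      have := inv_mem (commutator_mem_commutator ih (mem_zpowers (q g)))
      rwa [commutatorElement_inv, commutatorElement_def] at this
  have h1 := hmem (p - 1)
  have h2 : iterCommutator W (zpowers (q g)) (p - 1) = ⊥ := by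
    rw [show zpowers (q g) = (zpowers g).map q from (MonoidHom.map_zpowers q g).symm,
      ← iterCommutator_map, Subgroup.map_eq_bot_iff, QuotientGroup.ker_mk']
    exact hit
  rw [h2, mem_bot] at h1
  exact congrArg Additive.ofMul (Subtype.ext h1 : (((ρ g - 1) ^ (p - 1)) v).toMul = (1 : W))

end CfsgLib.Techniques.AbelianHH
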