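import Cfsg.Prelude.Def_ConjugacyFunctors
import Cfsg.Agent.Lib.Techniques.Basic

/-! Groups which are sections of a group, and functors induced by isomorphism-invariant functors. -/

set_option autoImplicit false

namespace CfsgLib.Techniques.Fusion

open Cfsg Subgroup CfsgLib.Techniques

universe u

/-- `X` is a section of `G`: a homomorphic image of a subgroup of `G`. -/
def IsSectionOf (X G : Type u) [Group X] [Group G] : Prop :=
  ∃ (K : Subgroup G) (f : K →* X), Function.Surjective f

variable {X Y G : Type u} [Group X] [Group Y] [Group G]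

theorem IsSectionOf.refl : IsSectionOf G G :=
  ⟨⊤, (⊤ : Subgroup G).subtype, fun g => ⟨⟨g, mem_top g⟩, rfl⟩⟩

theorem IsSectionOf.of_surjective (f : G →* X) (hf : Function.Surjective f) : IsSectionOf X G :=
  ⟨⊤, f.comp (⊤ : Subgroup G).subtype, fun x => by
    obtain ⟨g, rfl⟩ := hf x; exact ⟨⟨g, mem_top g⟩, rfl⟩⟩

theorem IsSectionOf.of_subgroup (K : Subgroup G) : IsSectionOf K G :=
  ⟨K, MonoidHom.id K, Function.surjective_id⟩

theorem IsSectionOf.trans (h : IsSectionOf Y X) (h' : IsSectionOf X G) : IsSectionOf Y G := by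
  obtain ⟨L, g, hg⟩ := h
  obtain ⟨K, f, hf⟩ := h'
  refine ⟨(L.comap f).map K.subtype,
    g.comp (((f.comp (L.comap f).subtype).codRestrict L (fun x => x.2)).comp
      ((L.comap f).equivMapOfInjective K.subtype K.subtype_injective).symm.toMonoidHom), ?_⟩
  intro y
  obtain ⟨l, rfl⟩ := hg y
  obtain ⟨k, hk⟩ := hf l
  have hk' : k ∈ L.comap f := by rw [mem_comap, hk]; exact l.2
  refine ⟨(L.comap f).equivMapOfInjective K.subtype K.subtype_injective ⟨k, hk'⟩, congrArg g ?_⟩
  simp only [MonoidHom.coe_comp, MulEquiv.coe_toMonoidHom, Function.comp_apply,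
    MulEquiv.symm_apply_apply]
  exact Subtype.ext hk

theorem IsSectionOf.finite [Finite G] (h : IsSectionOf X G) : Finite X :=
  let ⟨_, f, hf⟩ := h; Finite.of_surjective f hf

theorem IsSectionOf.quotient (K R : Subgroup G) [(R.subgroupOf K).Normal] :
    IsSectionOf (K ⧸ R.subgroupOf K) G :=
  ⟨K, QuotientGroup.mk' _, QuotientGroup.mk'_surjective _⟩

theorem IsSectionOf.exists_quotient (h : IsSectionOf X G) :
    ∃ (K R : Subgroup G) (_ : (R.subgroupOf K).Normal), Nonempty ((K ⧸ R.subgroupOf K) ≃* X) := by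
  obtain ⟨K, f, hf⟩ := h
  have e : ((f.ker).map K.subtype).subgroupOf K = f.ker :=
    comap_map_eq_self_of_injective K.subtype_injective _
  have hn : (((f.ker).map K.subtype).subgroupOf K).Normal := by rw [e]; infer_instance
  exact ⟨K, (f.ker).map K.subtype, hn,
    ⟨(QuotientGroup.quotientMulEquivOfEq e).trans (QuotientGroup.quotientKerEquivOfSurjective f hf)⟩⟩

/-- An isomorphism-invariant property holds of all sections if it holds of all quotients `K/R`. -/
theorem forall_section_of_forall_quotient (Φ : ∀ (X : Type u) [Group X], Prop)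
    (hiso : ∀ (X Y : Type u) [Group X] [Group Y], (X ≃* Y) → Φ X → Φ Y)
    (h : ∀ (K R : Subgroup G) [(R.subgroupOf K).Normal], Φ (K ⧸ R.subgroupOf K))
    (hX : IsSectionOf X G) : Φ X := by
  obtain ⟨K, R, hn, ⟨e⟩⟩ := hX.exists_quotient
  exact hiso _ _ e (h K R)

/-! ### Induced functors -/

variable {p : ℕ}

theorem inducedFunctor_le (W : ∀ (Q : Type u) [Group Q], Subgroup Q) (P : Subgroup G) :
    inducedFunctor (G := G) W P ≤ P := map_subtype_le _

/-- The induced functor commutes with homomorphisms that are injective on the `p`-subgroup. -/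
theorem inducedFunctor_map [Finite G] {W : ∀ (Q : Type u) [Group Q], Subgroup Q}
    (hW : IsCharPFunctor.{u} p W) (φ : G →* X) {P : Subgroup G} (hP : IsPGroup p P)
    (hinj : Disjoint φ.ker P) :
    inducedFunctor (G := X) W (P.map φ) = (inducedFunctor (G := G) W P).map φ := by
  have hi : Function.Injective (φ.subgroupMap P) := by
    intro a b hab
    have h1 : φ a = φ b := congrArg Subtype.val hab
    have h2 : (a : G) * (b : G)⁻¹ ∈ φ.ker ⊓ P :=
      mem_inf.2 ⟨MonoidHom.mem_ker.2 (by simp [h1]), mul_mem a.2 (inv_mem b.2)⟩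
    rw [hinj.eq_bot, mem_bot] at h2
    exact Subtype.ext (eq_of_mul_inv_eq_one h2)
  let e : P ≃* P.map φ := MulEquiv.ofBijective (φ.subgroupMap P) ⟨hi, φ.subgroupMap_surjective P⟩
  have h := hW.2 P (P.map φ) hP e
  show (W (P.map φ)).map (P.map φ).subtype = ((W P).map P.subtype).map φ
  rw [← h, Subgroup.map_map, Subgroup.map_map]
  congr 1

theorem inducedFunctor_map_injective [Finite G] {W : ∀ (Q : Type u) [Group Q], Subgroup Q}
    (hW : IsCharPFunctor.{u} p W) (φ : G →* X) (hφ : Function.Injective φ) {P : Subgroup G}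
    (hP : IsPGroup p P) :
    inducedFunctor (G := X) W (P.map φ) = (inducedFunctor (G := G) W P).map φ :=
  inducedFunctor_map hW φ hP (by rw [φ.ker_eq_bot_iff.2 hφ]; exact disjoint_bot_left)

theorem inducedFunctor_ne_bot [Finite G] {W : ∀ (Q : Type u) [Group Q], Subgroup Q}
    (hW : IsCharPFunctor.{u} p W) {P : Subgroup G} (hP : IsPGroup p P) (hne : P ≠ ⊥) :
    inducedFunctor (G := G) W P ≠ ⊥ := by
  have := P.nontrivial_iff_ne_bot.2 hne
  exact fun h => hW.1 P hP inferInstance ((map_eq_bot_iff_of_injective _ P.subtype_injective).1 h)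

theorem isConjugacyFunctor_inducedFunctor [Finite G] {W : ∀ (Q : Type u) [Group Q], Subgroup Q}
    (hW : IsCharPFunctor.{u} p W) : IsConjugacyFunctor p (inducedFunctor (G := G) W) :=
  fun P hP => ⟨inducedFunctor_le W P, inducedFunctor_ne_bot hW hP,
    fun g => inducedFunctor_map_injective hW _ (MulAut.conj g).injective hP⟩

/-- `W(P)` is normal in any subgroup in which the `p`-group `P` is normal. -/
theorem normalizer_le_normalizer_inducedFunctor [Finite G] {W : ∀ (Q : Type u) [Group Q], Subgroup Q}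
    (hW : IsCharPFunctor.{u} p W) {P : Subgroup G} (hP : IsPGroup p P) :
    normalizer (P : Set G) ≤ normalizer ((inducedFunctor (G := G) W P : Subgroup G) : Set G) := by
  intro g hg
  rw [← map_conj_eq_self_iff, ← (isConjugacyFunctor_inducedFunctor hW P hP).2.2 g,
    map_conj_eq_self_iff.2 hg]

end CfsgLib.Techniques.Fusion
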