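import Cfsg.Agent.Lib.Techniques.PStableTransport
import Cfsg.Agent.Lib.Techniques.Sections
import Cfsg.Agent.Lib.Frobenius.ZJComplement

/-! Groups with an abelian `p'`-section between a `p`-group and a `p`-group are `p`-stable, with all
their sections, for odd `p`. -/

set_option autoImplicit false
set_option linter.unusedSectionVars false

namespace CfsgLib.Techniques.KInf

open Cfsg Subgroup
open scoped commutatorElement

universe u

/-- `p`-group by abelian `p'`-group by `p`-group. -/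
def HasAbelianMiddle (p : ℕ) (Y : Type u) [Group Y] : Prop :=
  ∃ O M : Subgroup Y, O.Normal ∧ M.Normal ∧ IsPGroup p O ∧ ⁅M, M⁆ ≤ O ∧
    (∀ m ∈ M, ∃ n : ℕ, n.Coprime p ∧ m ^ n ∈ O) ∧ ∀ y : Y, ∃ k : ℕ, y ^ p ^ k ∈ M

variable {p : ℕ} [Fact p.Prime] {Y : Type u} [Group Y] [Finite Y]

theorem HasAbelianMiddle.subgroup (h : HasAbelianMiddle p Y) (H : Subgroup Y) : HasAbelianMiddle p H := by
  obtain ⟨O, M, hOn, hMn, hO, hab, hcop, hq⟩ := h
  refine ⟨O.subgroupOf H, M.subgroupOf H, inferInstance, inferInstance, hO.comap_subtype, ?_,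
    fun m hm => ?_, fun y => ?_⟩
  · rw [subgroupOf, subgroupOf, ← Subgroup.map_le_iff_le_comap, Subgroup.map_commutator]
    exact (commutator_mono (Subgroup.map_comap_le _ _) (Subgroup.map_comap_le _ _)).trans hab
  · obtain ⟨n, hn, hmn⟩ := hcop m (mem_subgroupOf.1 hm)
    exact ⟨n, hn, mem_subgroupOf.2 hmn⟩
  · obtain ⟨k, hk⟩ := hq y
    exact ⟨k, mem_subgroupOf.2 hk⟩

theorem HasAbelianMiddle.map {Z : Type u} [Group Z] (h : HasAbelianMiddle p Y) (f : Y →* Z)
    (hf : Function.Surjective f) : HasAbelianMiddle p Z := by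
  obtain ⟨O, M, hOn, hMn, hO, hab, hcop, hq⟩ := h
  refine ⟨O.map f, M.map f, hOn.map f hf, hMn.map f hf, hO.map f, ?_, ?_, fun z => ?_⟩
  · rw [← Subgroup.map_commutator]; exact Subgroup.map_mono hab
  · rintro _ ⟨m, hm, rfl⟩
    obtain ⟨n, hn, hmn⟩ := hcop m hm
    exact ⟨n, hn, m ^ n, hmn, map_pow f m n⟩
  · obtain ⟨y, rfl⟩ := hf z
    obtain ⟨k, hk⟩ := hq y
    exact ⟨k, y ^ p ^ k, hk, map_pow f y _⟩

theorem HasAbelianMiddle.isNormalizerPStable (hp : p ≠ 2) (h : HasAbelianMiddle p Y) :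
    IsNormalizerPStable p Y := by
  intro P hP g hg hquad
  set H := normalizer (P : Set Y) with hH
  obtain ⟨O, M, hOn, hMn, hO, hab, hcop, hq⟩ := h.subgroup H
  have hCn : ((centralizer (P : Set Y)).subgroupOf H).Normal := inferInstance
  have hO₂n : (pCore p H).Normal := pCore_normal p H
  have hOO₂ : O ≤ pCore p H := CfsgLib.PCore.le_pCore hOn hO
  set π := QuotientGroup.mk' (pCore p H) with hπ
  have hab₂ : ⁅M ⊔ pCore p H, M ⊔ pCore p H⁆ ≤ pCore p H := by
    have h2 : (⁅M ⊔ pCore p H, M ⊔ pCore p H⁆).map π = ⊥ := by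
      rw [Subgroup.map_commutator, Subgroup.map_sup, hπ, QuotientGroup.map_mk'_self, sup_bot_eq,
        ← Subgroup.map_commutator, Subgroup.map_eq_bot_iff, QuotientGroup.ker_mk']
      exact hab.trans hOO₂
    rwa [Subgroup.map_eq_bot_iff, hπ, QuotientGroup.ker_mk'] at h2
  have hidx : ((pCore p H).relIndex (M ⊔ pCore p H)).Coprime p := by
    rw [Nat.coprime_comm, (Fact.out : p.Prime).coprime_iff_not_dvd, ← CfsgLib.PCore.card_map_mk']
    intro hd
    obtain ⟨⟨x, hx⟩, hxo⟩ := exists_prime_orderOf_dvd_card' p hd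
    rw [← Subgroup.orderOf_coe] at hxo
    rw [Subgroup.map_sup, QuotientGroup.map_mk'_self, sup_bot_eq] at hx
    obtain ⟨m, hm, rfl⟩ := hx
    obtain ⟨n, hn, hmn⟩ := hcop m hm
    have h1 : π m ^ n = 1 := by
      rw [← map_pow]; exact (QuotientGroup.eq_one_iff _).2 (hOO₂ hmn)
    have h2 : p ∣ n := hxo ▸ orderOf_dvd_of_pow_eq_one h1
    exact (Fact.out : p.Prime).ne_one (Nat.eq_one_of_dvd_coprimes hn h2 dvd_rfl)
  have hquot : IsPGroup p (H ⧸ (M ⊔ pCore p H)) := by
    intro z
    induction z using QuotientGroup.induction_on with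
    | H y =>
      obtain ⟨k, hk⟩ := hq y
      exact ⟨k, by rw [← QuotientGroup.mk_pow, QuotientGroup.eq_one_iff]; exact mem_sup_left hk⟩
  set V := P.subgroupOf H with hV
  have hVn : V.Normal := normal_in_normalizer
  have hst := CfsgLib.Frobenius.ZJComp.isPStableOn_of_abelian_quotient hp (pCore p H) (M ⊔ pCore p H)
    CfsgLib.PCore.pCore_isPGroup hab₂ hidx hquot V
    (CfsgLib.PCore.le_pCore hVn hP.comap_subtype)
  have hPH : P ≤ H := Subgroup.le_normalizer
  have hmem := hst ⟨g, hg⟩ (by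
    rw [← map_eq_bot_iff_of_injective _ H.subtype_injective, map_commutator, map_commutator,
      MonoidHom.map_zpowers, hV, map_subgroupOf_eq_of_le hPH]
    exact hquad)
  set C := centralizer ((V : Subgroup H) : Set H) with hC
  set C' := (centralizer (P : Set Y)).subgroupOf H with hC'
  have hle : C ≤ C'.comap (MonoidHom.id H) := by
    intro x hx
    rw [mem_comap, MonoidHom.id_apply, hC', mem_subgroupOf, mem_centralizer_iff]
    intro a ha
    exact congrArg Subtype.val (mem_centralizer_iff.1 hx ⟨a, hPH ha⟩ (mem_subgroupOf.2 ha))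
  have hsur : Function.Surjective (QuotientGroup.map C C' (MonoidHom.id H) hle) := by
    intro y
    obtain ⟨y, rfl⟩ := QuotientGroup.mk'_surjective _ y
    exact ⟨QuotientGroup.mk' C y, rfl⟩
  exact CfsgLib.PCore.map_pCore_le (p := p) _ hsur (mem_map_of_mem _ hmem)

theorem HasAbelianMiddle.isNormalizerPStable_sections (hp : p ≠ 2) (h : HasAbelianMiddle p Y)
    (K R : Subgroup Y) [(R.subgroupOf K).Normal] : IsNormalizerPStable p (↥K ⧸ R.subgroupOf K) :=
  ((h.subgroup K).map _ (QuotientGroup.mk'_surjective _)).isNormalizerPStable hp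

end CfsgLib.Techniques.KInf
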