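import Cfsg.Agent.S1954
import Cfsg.Agent.Lib.Techniques.AutomizerSL2
import Cfsg.Agent.Lib.Techniques.Control
import Cfsg.Agent.Lib.Frobenius.ZJComplement
import Cfsg.Agent.Lib.OddOrder.CenterJNormal

/-!
Groups with no `SL₂(p)` section in an automizer of a `p`-subgroup: the hypothesis passes to subgroups and
quotients, and `N(Z(J(P)))` controls strong fusion.
-/

set_option autoImplicit false

open scoped MatrixGroups

namespace CfsgLib.Techniques

open Subgroup Cfsg.Agent.S1954

universe u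

/-- `SL(2, p)` is no section of `N(Q) / C(Q)` for any `p`-subgroup `Q`. -/
def AutFree (p : ℕ) (G : Type u) [Group G] : Prop :=
  ∀ Q : Subgroup G, IsPGroup p Q → ∀ H : Subgroup G, H ≤ normalizer (Q : Set G) →
    ∀ f : ↥H →* SL(2, ZMod p), Function.Surjective f →
      (∀ h : ↥H, (h : G) ∈ centralizer (Q : Set G) → f h = 1) → False

variable {G : Type u} [Group G] [Finite G] {p : ℕ} [hp : Fact p.Prime]

theorem AutFree.of_injective {K : Type u} [Group K] [Finite K] (h : AutFree p G) (i : K →* G)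
    (hi : Function.Injective i) : AutFree p K := by
  intro Q hQ H hH f hf hC
  let e := H.equivMapOfInjective i hi
  refine h (Q.map i) (hQ.map i) (H.map i) ?_ (f.comp e.symm.toMonoidHom) (hf.comp e.symm.surjective) ?_
  · exact (Subgroup.map_mono hH).trans (le_normalizer_map i)
  · intro x hx
    refine hC _ (mem_centralizer_iff.2 fun q hq => hi ?_)
    have h1 : i ((e.symm x : ↥H) : K) = (x : G) := congrArg Subtype.val (e.apply_symm_apply x)
    rw [map_mul, map_mul, show i ((e.symm.toMonoidHom x : ↥H) : K) = (x : G) from h1]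
    exact mem_centralizer_iff.1 hx (i q) (mem_map_of_mem i hq)

theorem AutFree.of_surjective {X : Type u} [Group X] [Finite X] (h : AutFree p G) (π : G →* X)
    (hπ : Function.Surjective π) : AutFree p X := by
  intro Q hQ H hH f hf hC
  set R := Q.comap π with hR
  obtain ⟨P0⟩ : Nonempty (Sylow p ↥R) := inferInstance
  set T := (P0 : Subgroup ↥R).map R.subtype with hT
  have hTR : T ≤ R := map_subtype_le _
  have hTp : IsPGroup p T := P0.isPGroup'.map _
  have hTi : ¬ p ∣ T.relIndex R := by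
    rw [relIndex, hT, subgroupOf, comap_map_eq_self_of_injective R.subtype_injective]
    exact P0.not_dvd_index
  have hTQ : T.map π = Q := by
    refine le_antisymm ((Subgroup.map_mono hTR).trans (map_comap_le _ _)) fun q hq => ?_
    obtain ⟨r, rfl⟩ := hπ q
    let ρ : ↥R →* ↥Q := (π.comp R.subtype).codRestrict Q fun a => a.2
    have hρ : Function.Surjective ρ := fun ⟨b, hb⟩ => by
      obtain ⟨a, rfl⟩ := hπ b
      exact ⟨⟨a, hb⟩, rfl⟩
    have h1 := eq_of_le_of_card_ge (le_top : (P0.mapSurjective hρ : Subgroup ↥Q) ≤ ⊤) (by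
      have := (P0.mapSurjective hρ).3 (Q := ⊤) (hQ.of_equiv Subgroup.topEquiv.symm) le_top
      rw [this])
    rw [Sylow.coe_mapSurjective] at h1
    obtain ⟨a, ha, e⟩ := h1.ge (mem_top (⟨π r, hq⟩ : ↥Q))
    exact ⟨a, ⟨a, ha, rfl⟩, congrArg Subtype.val e⟩
  set H' := H.comap π ⊓ normalizer (T : Set G) with hH'
  let g : ↥H' →* ↥H := (π.comp H'.subtype).codRestrict H fun a => (mem_inf.1 a.2).1
  have hg : Function.Surjective g := by
    rintro ⟨y, hy⟩
    obtain ⟨x, rfl⟩ := hπ y
    set M := normalizer (R : Set G)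
    have hxM : x ∈ M := by
      rw [mem_normalizer_iff]
      intro z
      simp only [hR, mem_comap, map_mul, map_inv]
      exact mem_normalizer_iff.1 (hH hy) (π z)
    obtain ⟨c, hc, m, hm, rfl⟩ := frattini le_normalizer le_rfl hTR hTp hTi hxM
    obtain ⟨t, ht, e⟩ := hTQ.ge (show π c ∈ Q from hc)
    have e' : π (t * m) = π (c * m) := by rw [map_mul, map_mul, e]
    refine ⟨⟨t * m, mem_inf.2 ⟨show π (t * m) ∈ H from e' ▸ hy,
      mul_mem (le_normalizer ht) (mem_inf.1 hm).2⟩⟩, Subtype.ext e'⟩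
  refine h T hTp H' inf_le_right (f.comp g) (hf.comp hg) fun a ha => hC _ (mem_centralizer_iff.2 ?_)
  rw [← hTQ]
  rintro _ ⟨t, ht, rfl⟩
  show π t * π (a : G) = π (a : G) * π t
  rw [← map_mul, ← map_mul, mem_centralizer_iff.1 ha t ht]

/-- `Z(J(Q))` as a functor. -/
def zJFun (p : ℕ) (Q : Type u) [Group Q] : Subgroup Q := CfsgLib.PLocal.centerJ p ⊤

theorem inducedFunctor_zJFun (p : ℕ) {G : Type u} [Group G] (P : Subgroup G) :
    Cfsg.inducedFunctor (G := G) (zJFun p) P = CfsgLib.PLocal.centerJ p P := by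
  show (CfsgLib.PLocal.centerJ p (⊤ : Subgroup P)).map P.subtype = _
  rw [← CfsgLib.PLocal.centerJ_map P.subtype_injective, CfsgLib.PLocal.map_subtype_top]

theorem isCharPFunctor_zJFun : Cfsg.IsCharPFunctor.{u} p (zJFun p) := by
  refine ⟨fun Q _ _ hQ hnt h0 => ?_, fun Q R _ _ _ _ φ => ?_⟩
  · exact CfsgLib.Frobenius.ZJComp.zj_ne_bot (Or.inr rfl) (hQ.to_subgroup ⊤) top_ne_bot
      (le_bot_iff.1 ((CfsgLib.PLocal.omegaOne_le p _).trans (le_of_eq h0)))
  · show (CfsgLib.PLocal.centerJ p ⊤).map _ = CfsgLib.PLocal.centerJ p ⊤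
    rw [← CfsgLib.PLocal.centerJ_map φ.injective, Subgroup.map_top_of_surjective _ φ.surjective]

/-- Glauberman: `N(Z(J(P)))` controls strong fusion. -/
theorem AutFree.ctrl_centerJ (hfree : AutFree p G) (hp2 : p ≠ 2) (P : Sylow p G) (A : Subgroup G)
    (hA : A ≤ (P : Subgroup G)) (g : G) (hg : A.map (MulAut.conj g).toMonoidHom ≤ (P : Subgroup G)) :
    Ctrl (CfsgLib.PLocal.centerJ p (P : Subgroup G)) A g := by
  have h𝓦 : ∀ W ∈ ({zJFun p} : Set (∀ (Q : Type u) [Group Q], Subgroup Q)),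
      Cfsg.IsCharPFunctor p W := fun W hW => by obtain rfl := hW; exact isCharPFunctor_zJFun
  have hctl := Fusion.fusCtrl_of_constrained (G := G) h𝓦 (fun X _ _ hX hc => ?_) G Fusion.IsSectionOf.refl
  swap
  · intro S D h _ hD hh
    obtain ⟨K, R, hn, ⟨e⟩⟩ := hX.exists_quotient
    have hXfree : AutFree p X := (hfree.of_injective K.subtype K.subtype_injective).of_surjective
      (e.toMonoidHom.comp (QuotientGroup.mk' (R.subgroupOf K)))
      (e.surjective.comp (QuotientGroup.mk'_surjective _))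
    have hn' := CfsgLib.OddOrder.CenterJNormal.centerJ_normal hp2 hc (fun V _ hV => by
      by_contra hns
      obtain ⟨M, f, hf, hC⟩ := exists_automizer_sl2_of_not_isPStableOn hp2 V hV hns
      exact hXfree V hV M (by rw [normalizer_eq_top V]; exact le_top) f hf hC) S
    refine Fusion.chain_step (Ms := Fusion.stepGroups {zJFun p} (S : Subgroup X))
      (M := normalizer ((Cfsg.inducedFunctor (G := X) (zJFun p) (S : Subgroup X) : Subgroup X) : Set X))
      ⟨zJFun p, rfl, rfl⟩ ?_ hh
    rw [inducedFunctor_zJFun, normalizer_eq_top (CfsgLib.PLocal.centerJ p (S : Subgroup X))]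
    exact mem_top _
  have hc := hctl P _ g (mem_top _) hA hg
  rw [Fusion.stepGroups, Set.image_singleton] at hc
  obtain ⟨x, hx, hx'⟩ := hc.exists_mem
  rw [inducedFunctor_zJFun] at hx
  refine ⟨x, hx, x⁻¹ * g, mem_centralizer_iff.2 fun a ha => ?_, by group⟩
  calc a * (x⁻¹ * g) = x⁻¹ * (x * a * x⁻¹) * g := by group
    _ = x⁻¹ * g * a := by rw [hx' a ha]; group

end CfsgLib.Techniques
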