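import Cfsg.Agent.Lib.Techniques.KInfControl
import Cfsg.Agent.Lib.Transfer.Basic

/-! A `p`-group automizer of a nontrivial Sylow `p`-subgroup gives a nontrivial `p`-quotient, `p ≥ 5`. -/

set_option autoImplicit false
set_option linter.unusedSectionVars false

namespace CfsgLib.Techniques.AutomizerResidual

open Cfsg Subgroup CfsgLib.Techniques

universe u

variable {p : ℕ} [Fact p.Prime]

/-- The elements of `N(S)` of order prime to `p` centralize `S`. -/
def Cond (p : ℕ) {G : Type u} [Group G] (S : Subgroup G) : Prop :=
  ∀ g ∈ normalizer (S : Set G), (orderOf g).Coprime p → g ∈ centralizer (S : Set G)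

theorem not_le_commutator_of_normal {G : Type u} [Group G] [Finite G] (S : Sylow p G)
    (hne : (S : Subgroup G) ≠ ⊥) [hn : (S : Subgroup G).Normal] (hc : Cond p (S : Subgroup G)) :
    ¬ (S : Subgroup G) ≤ commutator G := by
  intro hle
  have htop : Cfsg.pResidual p G ≤ centralizer ((S : Subgroup G) : Set G) :=
    CfsgLib.Transfer.pResidual_le_iff.2 fun g hg =>
      hc g (by rw [normalizer_eq_top]; exact mem_top g) hg
  have hsup : (S : Subgroup G) ⊔ centralizer ((S : Subgroup G) : Set G) = ⊤ :=
    top_le_iff.1 ((CfsgLib.Transfer.sylow_sup_pResidual S).ge.trans (sup_le_sup_left htop _))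
  have hfoc : (S : Subgroup G).focalSubgroup ≤ ⁅(S : Subgroup G), (S : Subgroup G)⁆ := by
    refine CfsgLib.Transfer.focalSubgroup_le_of_controls fun x hx g _ => ?_
    have hg : g ∈ (S : Subgroup G) ⊔ centralizer ((S : Subgroup G) : Set G) := hsup ▸ mem_top g
    rw [← SetLike.mem_coe, mul_normal] at hg
    obtain ⟨s, hs, c, hc', rfl⟩ := hg
    refine ⟨s, hs, ?_⟩
    have h1 : c * x * c⁻¹ = x := by
      rw [← mem_centralizer_iff.1 hc' x hx, mul_inv_cancel_right]
    calc s * x * s⁻¹ = s * (c * x * c⁻¹) * s⁻¹ := by rw [h1]
      _ = s * c * x * (s * c)⁻¹ := by group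
  have h2 : (S : Subgroup G) ≤ ⁅(S : Subgroup G), (S : Subgroup G)⁆ := by
    refine le_trans (le_inf hle le_rfl) ?_
    rw [commutator_inf_eq_focalSubgroup S]
    exact hfoc
  have : Group.IsNilpotent (S : Subgroup G) := S.2.isNilpotent
  have : Nontrivial (S : Subgroup G) := (nontrivial_iff_ne_bot _).2 hne
  refine (Group.IsSolvable.commutator_lt_top_of_nontrivial (S : Subgroup G)).ne ?_
  apply map_injective (S : Subgroup G).subtype_injective
  rw [map_subtype_commutator, ← MonoidHom.range_eq_map, range_subtype]
  exact le_antisymm (commutator_le_self _) h2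

theorem not_le_commutator (hp : 5 ≤ p) : ∀ (n : ℕ) {G : Type u} [Group G] [Finite G],
    Nat.card G < n → ∀ S : Sylow p G, (S : Subgroup G) ≠ ⊥ → Cond p (S : Subgroup G) →
      ¬ (S : Subgroup G) ≤ commutator G := by
  intro n
  induction n with
  | zero => intro G _ _ h; omega
  | succ n ih =>
    intro G _ _ hn S hne hc hle
    set W : ∀ (Q : Type u) [Group Q], Subgroup Q := @Cfsg.kInfUpper.{u}
    have hW : CfsgLib.Techniques.KInf.IsKInf.{u} W := Or.inr rfl
    have h := CfsgLib.Techniques.Fusion.transfer_eq_of_transCtrl
      (hW.transCtrl hp G CfsgLib.Techniques.Fusion.IsSectionOf.refl) S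
    unfold CfsgLib.Techniques.Fusion.transferTarget CfsgLib.Techniques.Fusion.stepGroups at h
    simp only [Set.image_singleton, iSup_singleton] at h
    set K := inducedFunctor (G := G) W (S : Subgroup G) with hK
    set M := normalizer (K : Set G) with hM
    have hSM' : (S : Subgroup G) ≤ ⁅M, M⁆ := by
      rw [inf_eq_left.2 hle] at h
      exact h.le.trans inf_le_right
    have hNM : normalizer ((S : Subgroup G) : Set G) ≤ M :=
      CfsgLib.Techniques.Fusion.normalizer_le_normalizer_inducedFunctor hW.isCharPFunctor S.2
    have hSM : (S : Subgroup G) ≤ M := le_normalizer.trans hNM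
    by_cases hMt : M = ⊤
    · have hKn : K.Normal := normalizer_eq_top_iff.1 hMt
      have hKne : K ≠ ⊥ :=
        CfsgLib.Techniques.Fusion.inducedFunctor_ne_bot hW.isCharPFunctor S.2 hne
      by_cases hKS : K = S
      · have : (S : Subgroup G).Normal := hKS ▸ hKn
        exact not_le_commutator_of_normal S hne hc hle
      have hKle : K ≤ (S : Subgroup G) := CfsgLib.Techniques.Fusion.inducedFunctor_le W _
      have hlt : Nat.card (G ⧸ K) < n := by
        have := CfsgLib.Techniques.Fusion.card_quotient_lt K hKne
        omega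
      set π := QuotientGroup.mk' K
      let Sb : Sylow p (G ⧸ K) := S.mapSurjective (QuotientGroup.mk'_surjective K)
      refine ih hlt Sb ?_ ?_ ?_
      · intro hb
        have hb' : (S : Subgroup G).map π = ⊥ := hb
        rw [Subgroup.map_eq_bot_iff, QuotientGroup.ker_mk'] at hb'
        exact hKS (le_antisymm hKle hb')
      · intro y hy hord
        obtain ⟨x, rfl⟩ := QuotientGroup.mk'_surjective K y
        obtain ⟨i, j, hj, hm⟩ :=
          Nat.exists_eq_pow_mul_and_not_dvd (orderOf_pos x).ne' p (Fact.out : p.Prime).ne_one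
        have hN : ∀ k : ℕ, x ^ k ∈ normalizer ((S : Subgroup G) : Set G) := by
          intro k
          refine pow_mem ?_ k
          rw [show (Sb : Subgroup (G ⧸ K)) = (S : Subgroup G).map π from rfl] at hy
          have h1 : x ∈ (normalizer (((S : Subgroup G).map π : Subgroup _) : Set (G ⧸ K))).comap π := hy
          rw [comap_normalizer_eq_of_surjective _ (QuotientGroup.mk'_surjective K), comap_map_eq,
            QuotientGroup.ker_mk', sup_eq_left.2 hKle] at h1
          exact h1
        have hxc : x ^ p ^ i ∈ centralizer ((S : Subgroup G) : Set G) := by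
          refine hc _ (hN _) ?_
          rw [orderOf_pow, hm, Nat.gcd_mul_right_left,
            Nat.mul_div_cancel_left _ (pow_pos (Fact.out : p.Prime).pos i)]
          exact ((Fact.out : p.Prime).coprime_iff_not_dvd.2 hj).symm
        obtain ⟨m, hm'⟩ := exists_pow_eq_self_of_coprime (x := π x) (n := p ^ i)
          (hord.symm.pow_left i)
        rw [← hm', mem_centralizer_iff]
        rintro _ ⟨s, hs, rfl⟩
        have hc2 : Commute (π s) (π (x ^ p ^ i)) :=
          (show Commute s (x ^ p ^ i) from mem_centralizer_iff.1 hxc s hs).map π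
        rw [map_pow] at hc2
        exact (hc2.pow_right m).eq
      · calc (Sb : Subgroup (G ⧸ K)) ≤ (commutator G).map π := map_mono hle
          _ ≤ commutator (G ⧸ K) := by
            rw [_root_.commutator_def, map_commutator, _root_.commutator_def]
            exact commutator_mono le_top le_top
    · refine ih (G := M) ?_ (S.subtype hSM) ?_ ?_ ?_
      · have := CfsgLib.Techniques.Fusion.card_lt_of_ne_top hMt
        omega
      · rw [Sylow.coe_subtype, Ne, subgroupOf_eq_bot]
        exact fun hd => hne (disjoint_self.1 (hd.mono_right hSM))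
      · intro y hy hord
        rw [Sylow.coe_subtype] at hy ⊢
        have hyN : (y : G) ∈ normalizer ((S : Subgroup G) : Set G) := by
          have h1 := le_normalizer_map M.subtype ⟨y, hy, rfl⟩
          rw [map_subgroupOf_eq_of_le hSM] at h1
          exact h1
        have hyc := hc (y : G) hyN (by rwa [Subgroup.orderOf_coe])
        rw [mem_centralizer_iff] at hyc ⊢
        intro z hz
        exact Subtype.ext (hyc z hz)
      · rw [Sylow.coe_subtype]
        intro z hz
        have h1 : (z : G) ∈ ⁅M, M⁆ := hSM' hz
        rw [← map_subtype_commutator] at h1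
        exact (mem_map_iff_mem M.subtype_injective).1 h1

/-- The statement for the residual. -/
theorem pResidual_ne_top (hp : 5 ≤ p) {G : Type u} [Group G] [Finite G] (S : Sylow p G)
    (hne : (S : Subgroup G) ≠ ⊥) (hc : Cond p (S : Subgroup G)) : Cfsg.pResidual p G ≠ ⊤ := by
  intro h
  refine not_le_commutator hp (Nat.card G + 1) (Nat.lt_succ_self _) S hne hc ?_
  have := CfsgLib.Transfer.inf_pResidual_le_commutator S
  rw [h, inf_top_eq] at this
  exact this.trans inf_le_left

end CfsgLib.Techniques.AutomizerResidual
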