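import Cfsg.Agent.Lib.Techniques.WellPlacedControl
import Mathlib.Data.List.OfFn

/-!
Local-to-global theorem for one conjugacy functor containing the centres, where the local hypothesis is
only available at subgroups containing the centre of the Sylow subgroup, and the translation between
chains and factorizations written for conjugation on the right.
-/

set_option autoImplicit false
set_option linter.unusedSectionVars false

namespace CfsgLib.Techniques.Fusion

open Cfsg Subgroup CfsgLib.Techniques

variable {G : Type*} [Group G]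

/-- Every conjugate of `R` inside `S` contains the centre of `S`. -/
def IsZGood (S R : Subgroup G) : Prop :=
  ∀ g : G, R.map (MulAut.conj g).toMonoidHom ≤ S →
    S ⊓ centralizer (S : Set G) ≤ R.map (MulAut.conj g).toMonoidHom

theorem IsZGood.mono {S R R' : Subgroup G} (h : IsZGood S R) (hle : R ≤ R') : IsZGood S R' :=
  fun g hg => (h g ((Subgroup.map_mono hle).trans hg)).trans (Subgroup.map_mono hle)

theorem IsZGood.map_conj {S R : Subgroup G} (h : IsZGood S R) (x : G) :
    IsZGood S (R.map (MulAut.conj x).toMonoidHom) := by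
  intro g hg
  rw [← map_conj_mul] at hg ⊢
  exact h _ hg

theorem center_le_center_of_le {S R : Subgroup G} (hZR : S ⊓ centralizer (S : Set G) ≤ R)
    (hRS : R ≤ S) : S ⊓ centralizer (S : Set G) ≤ R ⊓ centralizer (R : Set G) :=
  le_inf hZR (inf_le_right.trans (centralizer_le hRS))

variable [Finite G] {p : ℕ} [Fact p.Prime]

theorem not_dvd_relIndex_inf_of_normalized {R N C : Subgroup G} (hRN : R ≤ N) (hR : IsPGroup p R)
    (hi : ¬ p ∣ R.relIndex N) (hCN : C ≤ N) (hn : N ≤ normalizer (C : Set G)) :
    ¬ p ∣ (R ⊓ C).relIndex C := by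
  haveI : (C.subgroupOf N).Normal := (normal_subgroupOf_iff_le_normalizer hCN).2 hn
  let T : Sylow p N := (hR.of_equiv (subgroupOfEquivOfLe hRN).symm).toSylow (P := R.subgroupOf N) hi
  have h := not_dvd_relIndex_inf_normal T (C.subgroupOf N)
  rwa [show (T : Subgroup N) ⊓ C.subgroupOf N = (R ⊓ C).subgroupOf N from rfl,
    relIndex_subgroupOf hCN] at h

/-- Frattini's argument inside `N`, moving `C ⊓ R`. -/
theorem exists_eq_mul_preserving_inf {R N C : Subgroup G} (hRN : R ≤ N) (hR : IsPGroup p R)
    (hi : ¬ p ∣ R.relIndex N) (hCN : C ≤ N) (hn : N ≤ normalizer (C : Set G)) {x : G} (hx : x ∈ N) :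
    ∃ c ∈ C, ∃ z ∈ N, (∀ a ∈ R ⊓ C, z * a * z⁻¹ ∈ R ⊓ C) ∧ c * z = x := by
  haveI : (C.subgroupOf N).Normal := (normal_subgroupOf_iff_le_normalizer hCN).2 hn
  let T : Sylow p N := (hR.of_equiv (subgroupOfEquivOfLe hRN).symm).toSylow (P := R.subgroupOf N) hi
  obtain ⟨c, hc, z, hz, hcz⟩ := exists_eq_mul_normalizer_inf T (C.subgroupOf N) ⟨x, hx⟩
  refine ⟨c, hc, z, z.2, fun a ha => ?_, congrArg Subtype.val hcz⟩
  exact (mem_normalizer_iff.1 hz ⟨a, hRN ha.1⟩).1 ha

theorem isFN_not_dvd_centralizer {S U : Subgroup G} (hS : IsPGroup p S) (hU : IsFN p S U) :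
    ¬ p ∣ (S ⊓ centralizer (U : Set G)).relIndex (centralizer (U : Set G)) := by
  have hCN : centralizer (U : Set G) ≤ normalizer (U : Set G) := centralizer_le_normalizer (U : Set G)
  have e : (S ⊓ normalizer (U : Set G)) ⊓ centralizer (U : Set G) = S ⊓ centralizer (U : Set G) := by
    rw [inf_assoc, inf_eq_right.2 hCN]
  rw [← e]
  exact not_dvd_relIndex_inf_of_normalized inf_le_right (hS.to_le inf_le_left) hU.2 hCN
    (normalizer_le_normalizer_centralizer U)

theorem isZGood_of_isFN {S U : Subgroup G} (hS : IsPGroup p S) (hU : IsFN p S U)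
    (hc : S ⊓ centralizer (U : Set G) ≤ U) : IsZGood S U := by
  intro g hg z hz
  set y := g⁻¹ * z * g with hy
  have hyC : y ∈ centralizer (U : Set G) := by
    rw [mem_centralizer_iff]
    intro u hu
    have h1 := mem_centralizer_iff.1 hz.2 _ (hg (conj_mem_map_conj g hu))
    calc u * y = g⁻¹ * ((g * u * g⁻¹) * z) * g := by rw [hy]; group
      _ = g⁻¹ * (z * (g * u * g⁻¹)) * g := by rw [h1]
      _ = y * u := by rw [hy]; group
  have hp : IsPGroup p (zpowers y) := by
    have h1 : zpowers y = (zpowers z).map (MulAut.conj g⁻¹).toMonoidHom := by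
      rw [MonoidHom.map_zpowers]; congr 1; simp [hy]
    rw [h1]
    exact isPGroup_map_conj (hS.to_le (zpowers_le.2 hz.1)) _
  obtain ⟨x, hx, hxy⟩ := exists_conj_le_sylow_of (zpowers_le.2 hyC) hp inf_le_right
    (hS.to_le inf_le_left) (isFN_not_dvd_centralizer hS hU)
  have hw : x * y * x⁻¹ ∈ U := hc (hxy (conj_mem_map_conj x (mem_zpowers y)))
  have h2 := mem_centralizer_iff.1 hx _ hw
  have h3 : y = x * y * x⁻¹ := by
    calc y = x⁻¹ * (x * y * x⁻¹ * x) := by group
      _ = x⁻¹ * (x * (x * y * x⁻¹)) := by rw [h2]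
      _ = x * y * x⁻¹ := by group
  rw [← h3] at hw
  exact mem_map_conj.2 hw

/-- Local-to-global theorem for a functor containing centres, with local hypotheses only at subgroups
containing `Z(S)`. -/
theorem local_to_global_center (S : Sylow p G) {P : Subgroup G → G → Prop}
    (hP : IsMapClosed (S : Subgroup G) P) (W : Subgroup G → Subgroup G)
    (hW : IsConjugacyFunctor p W)
    (hWZ : ∀ R : Subgroup G, IsPGroup p R → R ⊓ centralizer (R : Set G) ≤ W R)
    (hstep : HoldsOn (S : Subgroup G) P (normalizer ((W (S : Subgroup G) : Subgroup G) : Set G)))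
    (hloc : ∀ U : Subgroup G, (S : Subgroup G) ⊓ centralizer ((S : Subgroup G) : Set G) ≤ U →
      IsFN p (S : Subgroup G) U →
      HoldsOn ((S : Subgroup G) ⊓ normalizer (U : Set G)) P
        (normalizer (U : Set G) ⊓
          normalizer ((W ((S : Subgroup G) ⊓ normalizer (U : Set G)) : Subgroup G) : Set G)) →
      HoldsOn ((S : Subgroup G) ⊓ normalizer (U : Set G)) P (normalizer (U : Set G))) :
    HoldsOn (S : Subgroup G) P ⊤ := by
  set Z := (S : Subgroup G) ⊓ centralizer ((S : Subgroup G) : Set G) with hZ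
  have hfam : ∀ k : ℕ,
      (∀ U : Subgroup G, Z ≤ U → IsFN p (S : Subgroup G) U →
        IsZGood (S : Subgroup G) ((S : Subgroup G) ⊓ normalizer (U : Set G)) →
        k < Nat.card ((S : Subgroup G) ⊓ normalizer (U : Set G) : Subgroup G) →
        HoldsOn ((S : Subgroup G) ⊓ normalizer (U : Set G)) P (normalizer (U : Set G))) →
      HoldsAbove (S : Subgroup G) P k := by
    intro k hclaim
    suffices H : ∀ (m k' : ℕ), k ≤ k' → Nat.card (S : Subgroup G) ≤ k' + m →
        HoldsAbove (S : Subgroup G) P k' from H _ k le_rfl (Nat.le_add_left _ _)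
    intro m
    induction m with
    | zero =>
      intro k' _ hle D h hlt hD _
      have := card_le_of_le hD
      omega
    | succ m ih =>
      intro k' hk' hle
      refine holdsAbove_of_family S hP.toIsFusionClosed {U | IsFN p (S : Subgroup G) U} k'
        (fun T hT _ => ?_) (fun U hU hkU _ x hx => ?_)
      · obtain ⟨g, hg⟩ := exists_isFN_conj S (S.2.to_le hT)
        exact ⟨_, hg, ⟨g, rfl⟩, hg⟩
      · have hUle : U ≤ (S : Subgroup G) ⊓ normalizer (U : Set G) :=
          le_inf hU.1 Subgroup.le_normalizer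
        set A := (S : Subgroup G) ⊓ centralizer (U : Set G) with hA
        by_cases hc : A ≤ U
        · refine hclaim U (fun z hz => hc ⟨hz.1, centralizer_le hU.1 hz.2⟩) hU
            ((isZGood_of_isFN S.2 hU hc).mono hUle) ?_ U x hx hUle ?_
          · have := card_le_of_le hUle
            omega
          · rw [map_conj_eq_self_iff.2 hx]; exact hUle
        · have hCN : centralizer (U : Set G) ≤ normalizer (U : Set G) := centralizer_le_normalizer (U : Set G)
          obtain ⟨c, hc', z, hz, hzA, hcz⟩ := exists_eq_mul_preserving_inf inf_le_right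
            (S.2.to_le inf_le_left) hU.2 hCN (normalizer_le_normalizer_centralizer U) hx
          have hAeq : ((S : Subgroup G) ⊓ normalizer (U : Set G)) ⊓ centralizer (U : Set G) = A := by
            rw [hA, inf_assoc, inf_eq_right.2 hCN]
          rw [hAeq] at hzA
          have hlt : Nat.card U < Nat.card (U ⊔ A : Subgroup G) :=
            card_lt_of_lt (lt_of_le_of_ne le_sup_left fun e => hc (le_sup_right.trans_eq e.symm))
          have hUS : U ⊔ A ≤ (S : Subgroup G) := sup_le hU.1 inf_le_left
          have hmap : (U ⊔ A).map (MulAut.conj z).toMonoidHom ≤ (S : Subgroup G) := by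
            rw [Subgroup.map_sup]
            exact sup_le ((map_conj_eq_self_iff.2 hz).le.trans hU.1)
              (map_conj_le_iff.2 fun a ha => (hzA a ha).1)
          have p1 : P U z := hP.mono le_sup_left
            (ih (k' + 1) (by omega) (by omega) _ z (by omega) hUS hmap)
          refine hP.congr (fun a ha => ?_) p1
          have h1 : z * a * z⁻¹ ∈ U := (mem_normalizer_iff.1 hz a).1 ha
          rw [← hcz]
          calc z * a * z⁻¹ = (z * a * z⁻¹) * c * c⁻¹ := by group
            _ = c * (z * a * z⁻¹) * c⁻¹ := by rw [mem_centralizer_iff.1 hc' _ h1]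
            _ = c * z * a * (c * z)⁻¹ := by group
  have claim : ∀ (m : ℕ) (U : Subgroup G),
      Nat.card (S : Subgroup G) - Nat.card ((S : Subgroup G) ⊓ normalizer (U : Set G) : Subgroup G) < m →
      Z ≤ U → IsFN p (S : Subgroup G) U →
      IsZGood (S : Subgroup G) ((S : Subgroup G) ⊓ normalizer (U : Set G)) →
      HoldsOn ((S : Subgroup G) ⊓ normalizer (U : Set G)) P (normalizer (U : Set G)) := by
    intro m
    induction m with
    | zero => intro U h; omega
    | succ m ih =>
      intro U hlt hZU hU hgood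
      refine hloc U hZU hU ?_
      set R := (S : Subgroup G) ⊓ normalizer (U : Set G) with hR
      by_cases hRS : R = S
      · rw [hRS]
        exact hstep.mono le_rfl inf_le_right
      intro D y hy hD hyD
      set V := W R with hV
      have hRp : IsPGroup p R := S.2.to_le inf_le_left
      have hVR : V ≤ R := (hW R hRp).1
      obtain ⟨g0, hU'⟩ := exists_isFN_conj S (S.2.to_le (hVR.trans inf_le_left))
      obtain ⟨h, hh, hh'⟩ := exists_conj_into S.2 hU' rfl
      set V' := V.map (MulAut.conj g0).toMonoidHom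
      set R' := (S : Subgroup G) ⊓ normalizer (V : Set G) with hR'
      have hRR' : R ≤ R' :=
        le_inf inf_le_left (Subgroup.le_normalizer.trans (IsConjugacyFunctor.le_normalizer hW hRp))
      have hRh : R.map (MulAut.conj h).toMonoidHom ≤
          (S : Subgroup G) ⊓ normalizer (V' : Set G) := (Subgroup.map_mono hRR').trans hh'
      have hZV' : Z ≤ V' := by
        rw [← hh, hV, ← functor_conj hW hRp h]
        exact (center_le_center_of_le (hgood h (hRh.trans inf_le_left)) (hRh.trans inf_le_left)).trans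
          (hWZ _ (isPGroup_map_conj hRp h))
      have h1 : Nat.card R < Nat.card R' :=
        lt_of_lt_of_le (card_lt_card_inf_normalizer (H := R) S.2 inf_le_left hRS) (card_le_of_le
          (inf_le_inf_left _ (IsConjugacyFunctor.le_normalizer hW hRp)))
      have habove : HoldsAbove (S : Subgroup G) P (Nat.card R) := by
        refine hfam _ fun U₂ hZ₂ hU₂ hg₂ hlt₂ => ih U₂ ?_ hZ₂ hU₂ hg₂
        have := card_le_of_le (inf_le_left : (S : Subgroup G) ⊓ normalizer (U₂ : Set G) ≤ S)
        omega
      set R₂ := R'.map (MulAut.conj h).toMonoidHom with hR₂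
      have hcR₂ : Nat.card R₂ = Nat.card R' := card_map_conj R' h
      have hlocV' := ih V' (by
        have := card_le_of_le hh'
        have := card_le_of_le (inf_le_left : (S : Subgroup G) ⊓ normalizer (V' : Set G) ≤ S)
        omega) hZV' hU' ((hgood.map_conj h).mono hRh)
      have hD1 : D.map (MulAut.conj h).toMonoidHom ≤ R₂ := Subgroup.map_mono (hD.trans hRR')
      set D' := D.map (MulAut.conj y).toMonoidHom with hD'
      have hD2 : D'.map (MulAut.conj h).toMonoidHom ≤ R₂ := Subgroup.map_mono (hyD.trans hRR')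
      have p1 : P D h := hP.mono (hD.trans hRR')
        (habove R' h h1 inf_le_left (hh'.trans inf_le_left))
      have hy' : h * y * h⁻¹ ∈ normalizer (V' : Set G) := by
        rw [← map_conj_eq_self_iff, map_conj_mul, map_conj_mul, ← hh, map_conj_inv_cancel,
          map_conj_eq_self_iff.2 hy.2]
      have himg : (D.map (MulAut.conj h).toMonoidHom).map (MulAut.conj (h * y * h⁻¹)).toMonoidHom =
          D'.map (MulAut.conj h).toMonoidHom := by
        rw [← map_conj_mul, inv_mul_cancel_right, map_conj_mul]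
      have p2 : P (D.map (MulAut.conj h).toMonoidHom) (h * y * h⁻¹) :=
        hlocV' _ _ hy' (hD1.trans hh') (himg.le.trans (hD2.trans hh'))
      have p3 : P (D'.map (MulAut.conj h).toMonoidHom) h⁻¹ := by
        refine hP.mono hD2 (habove R₂ h⁻¹ (hcR₂ ▸ h1) (hh'.trans inf_le_left) ?_)
        rw [hR₂, map_conj_inv_cancel]; exact inf_le_left
      have e : y = h⁻¹ * ((h * y * h⁻¹) * h) := by group
      have hDS : D ≤ (S : Subgroup G) := hD.trans inf_le_left
      rw [e]
      refine hP.comp hDS ?_ (hP.comp hDS (hD1.trans (hh'.trans inf_le_left)) p1 p2) ?_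
      · rw [map_conj_mul, himg]; exact hD2.trans (hh'.trans inf_le_left)
      · rwa [map_conj_mul, himg]
  intro D h _ hD hh
  exact hfam 0 (fun U hZU hU hg _ => claim _ U (Nat.lt_succ_self _) hZU hU hg) D h Nat.card_pos hD hh

/-! ### Factorizations for conjugation on the right -/

section Right

variable {T : Subgroup G} {Ms : Set (Subgroup G)} {D : Subgroup G} {h : G}

theorem chain_of_right {c : G} (hc : c ∈ centralizer (D : Set G)) {n : ℕ} (b : Fin n → G)
    (hb : ∀ i, ∃ M ∈ Ms, b i ∈ M) (he : h⁻¹ = c * (List.ofFn b).prod)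
    (hk : ∀ k ≤ n, ∀ d ∈ D,
      (((List.ofFn b).take k).prod)⁻¹ * d * ((List.ofFn b).take k).prod ∈ T) : Chain T Ms D h := by
  refine chain_of_fin (n := n) (fun i => (((List.ofFn b).take i).prod)⁻¹) (by simp) (fun i => ?_)
    (fun i d hd => ?_) (fun d hd => ?_)
  · obtain ⟨M, hM, hm⟩ := hb i
    refine ⟨M, hM, ?_⟩
    have hi : (i : ℕ) < (List.ofFn b).length := by simp
    simp only [Fin.val_succ, Fin.val_castSucc, List.prod_take_succ _ (i : ℕ) hi, mul_inv_rev, inv_inv,
      inv_mul_cancel_right, List.getElem_ofFn]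
    exact inv_mem hm
  · simpa using hk i (Nat.lt_succ_iff.1 i.2) d hd
  · have e : ((List.ofFn b).take n).prod = c⁻¹ * h⁻¹ := by
      rw [List.take_of_length_le (by simp), he]; group
    simp only [Fin.val_last, e, mul_inv_rev, inv_inv]
    calc h * c * d * (c⁻¹ * h⁻¹) = h * (c * d) * c⁻¹ * h⁻¹ := by group
      _ = h * (d * c) * c⁻¹ * h⁻¹ := by rw [mem_centralizer_iff.1 hc d hd]
      _ = h * d * h⁻¹ := by group

theorem Chain.toRight (hD : D ≤ T) (hch : Chain T Ms D h) :
    ∃ c ∈ centralizer (D : Set G), ∃ (n : ℕ) (b : Fin n → G), (∀ i, ∃ M ∈ Ms, b i ∈ M) ∧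
      h⁻¹ = c * (List.ofFn b).prod ∧ ∀ k ≤ n, ∀ d ∈ D,
        (((List.ofFn b).take k).prod)⁻¹ * d * ((List.ofFn b).take k).prod ∈ T := by
  obtain ⟨n, c, h0, h1, h2, h3⟩ := hch.toFin hD
  set b : Fin n → G := fun i => c i.castSucc * (c i.succ)⁻¹ with hb
  have key : ∀ k (hk : k < n + 1), ((List.ofFn b).take k).prod = (c ⟨k, hk⟩)⁻¹ := by
    intro k
    induction k with
    | zero => intro hk; simp [show (⟨0, hk⟩ : Fin (n + 1)) = 0 from rfl, h0]
    | succ k ih =>
      intro hk
      have hi : k < (List.ofFn b).length := by simp; omega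
      rw [List.prod_take_succ _ k hi, ih (by omega), List.getElem_ofFn]
      simp [hb]
  have hlast : (List.ofFn b).prod = (c (Fin.last n))⁻¹ := by
    have := key n (Nat.lt_succ_self n)
    rwa [List.take_of_length_le (by simp)] at this
  refine ⟨h⁻¹ * c (Fin.last n), ?_, n, b, fun i => ?_, ?_, fun k hk d hd => ?_⟩
  · rw [mem_centralizer_iff]
    intro d hd
    have := h3 d hd
    calc d * (h⁻¹ * c (Fin.last n)) = h⁻¹ * (h * d * h⁻¹) * c (Fin.last n) := by group
      _ = h⁻¹ * (c (Fin.last n) * d * (c (Fin.last n))⁻¹) * c (Fin.last n) := by rw [this]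
      _ = h⁻¹ * c (Fin.last n) * d := by group
  · obtain ⟨M, hM, hm⟩ := h1 i
    exact ⟨M, hM, by simpa [hb] using inv_mem hm⟩
  · rw [hlast, mul_inv_cancel_right]
  · rw [key k (Nat.lt_succ_iff.2 hk), inv_inv]
    exact h2 _ d hd

end Right

/-- Conjugate subgroups have conjugate centralizers. -/
theorem map_conj_centralizer_le (U : Subgroup G) (g : G) :
    (centralizer (U : Set G)).map (MulAut.conj g).toMonoidHom ≤
      centralizer ((U.map (MulAut.conj g).toMonoidHom : Subgroup G) : Set G) := by
  rintro _ ⟨c, hc, rfl⟩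
  rw [mem_centralizer_iff]
  rintro _ ⟨u, hu, rfl⟩
  rw [← map_mul, ← map_mul, mem_centralizer_iff.1 hc u hu]

end CfsgLib.Techniques.Fusion
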