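import Cfsg.Agent.Lib.Techniques.LocalToGlobal
import Mathlib.GroupTheory.Focal
import Mathlib.Logic.Relation

/-! Chains of conjugations and focal differences as map-closed properties of conjugations. -/

set_option autoImplicit false
set_option linter.unusedSectionVars false

namespace CfsgLib.Techniques.Fusion

open Cfsg Subgroup CfsgLib.Techniques
open scoped commutatorElement

variable {G H : Type*} [Group G] [Group H] {p : ℕ}

/-- One step of a chain moving `D` inside `T` by an element of a member of `Ms`. -/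
def Step (T : Subgroup G) (Ms : Set (Subgroup G)) (D : Subgroup G) (c d : G) : Prop :=
  (∃ M ∈ Ms, d * c⁻¹ ∈ M) ∧ ∀ a ∈ D, d * a * d⁻¹ ∈ T

/-- The conjugation by `h` of `D` is realized by a chain of conjugations inside `T` by elements of the
members of `Ms`. -/
def Chain (T : Subgroup G) (Ms : Set (Subgroup G)) (D : Subgroup G) (h : G) : Prop :=
  ∃ c : G, Relation.ReflTransGen (Step T Ms D) 1 c ∧ ∀ a ∈ D, c * a * c⁻¹ = h * a * h⁻¹

theorem isMapClosed_chain (T : Subgroup G) (Ms : Set (Subgroup G)) : IsMapClosed T (Chain T Ms) where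
  one _ := ⟨1, Relation.ReflTransGen.refl, fun _ _ => rfl⟩
  congr := fun hh ⟨c, hc, hc'⟩ => ⟨c, hc, fun a ha => (hc' a ha).trans (hh a ha)⟩
  mono := fun hDD ⟨c, hc, hc'⟩ => ⟨c, Relation.ReflTransGen.mono
    (fun _ _ hs => ⟨hs.1, fun a ha => hs.2 a (hDD ha)⟩) _ _ hc, fun a ha => hc' a (hDD ha)⟩
  comp := by
    rintro D h h' - - ⟨c, hc, hc'⟩ ⟨d, hd, hd'⟩
    have hlift : ∀ e, Relation.ReflTransGen (Step T Ms (D.map (MulAut.conj h).toMonoidHom)) 1 e →
        Relation.ReflTransGen (Step T Ms D) 1 (e * c) := by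
      intro e he
      induction he with
      | refl => simpa using hc
      | @tail u v _ huv ih =>
        refine ih.tail ⟨?_, fun a ha => ?_⟩
        · obtain ⟨⟨M, hM, hm⟩, -⟩ := huv
          exact ⟨M, hM, by rwa [mul_inv_rev, mul_assoc, mul_inv_cancel_left]⟩
        · have h1 := huv.2 (c * a * c⁻¹) (by rw [hc' a ha]; exact conj_mem_map_conj h ha)
          simpa [mul_assoc] using h1
    refine ⟨d * c, hlift d hd, fun a ha => ?_⟩
    have h1 := hd' (h * a * h⁻¹) (conj_mem_map_conj h ha)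
    calc d * c * a * (d * c)⁻¹ = d * (c * a * c⁻¹) * d⁻¹ := by group
      _ = d * (h * a * h⁻¹) * d⁻¹ := by rw [hc' a ha]
      _ = h' * (h * a * h⁻¹) * h'⁻¹ := h1
      _ = h' * h * a * (h' * h)⁻¹ := by group

theorem chain_step {T : Subgroup G} {Ms : Set (Subgroup G)} {M D : Subgroup G} (hM : M ∈ Ms) {x : G}
    (hx : x ∈ M) (hxD : D.map (MulAut.conj x).toMonoidHom ≤ T) : Chain T Ms D x :=
  ⟨x, Relation.ReflTransGen.single ⟨⟨M, hM, by simpa using hx⟩,
    fun _ ha => hxD (conj_mem_map_conj x ha)⟩, fun _ _ => rfl⟩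

/-- A chain proves a map-closed property that holds for its steps. -/
theorem Chain.elim {T S : Subgroup G} {Ms : Set (Subgroup G)} {Q : Subgroup G → G → Prop}
    (hQ : IsMapClosed S Q) (hTS : T ≤ S) (hsteps : ∀ M ∈ Ms, HoldsOn T Q M) {D : Subgroup G} {h : G}
    (hD : D ≤ T) (hc : Chain T Ms D h) : Q D h := by
  obtain ⟨c, hc, hc'⟩ := hc
  suffices H : ∀ e, Relation.ReflTransGen (Step T Ms D) 1 e →
      Q D e ∧ D.map (MulAut.conj e).toMonoidHom ≤ T from hQ.congr hc' (H c hc).1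
  intro e he
  induction he with
  | refl => exact ⟨hQ.one (hD.trans hTS), by rwa [map_conj_one]⟩
  | @tail u v _ huv ih =>
    obtain ⟨⟨M, hM, hm⟩, hv⟩ := huv
    have hvD : D.map (MulAut.conj v).toMonoidHom ≤ T := by
      rintro _ ⟨a, ha, rfl⟩
      exact hv a ha
    have e : (D.map (MulAut.conj u).toMonoidHom).map (MulAut.conj (v * u⁻¹)).toMonoidHom =
        D.map (MulAut.conj v).toMonoidHom := by rw [← map_conj_mul, inv_mul_cancel_right]
    refine ⟨?_, hvD⟩
    have h1 := hQ.comp (hD.trans hTS) (ih.2.trans hTS) ih.1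
      (hsteps M hM _ _ hm ih.2 (e ▸ hvD))
    rwa [inv_mul_cancel_right] at h1

/-- Chains push forward along homomorphisms. -/
theorem Chain.map (φ : G →* H) {T : Subgroup G} {Ms : Set (Subgroup G)} {T' : Subgroup H}
    {Ms' : Set (Subgroup H)} (hT : T.map φ ≤ T') (hMs : ∀ M ∈ Ms, ∃ M' ∈ Ms', M.map φ ≤ M')
    {D : Subgroup G} {h : G} (hc : Chain T Ms D h) : Chain T' Ms' (D.map φ) (φ h) := by
  obtain ⟨c, hc, hc'⟩ := hc
  refine ⟨φ c, ?_, ?_⟩
  · have H : ∀ e, Relation.ReflTransGen (Step T Ms D) 1 e →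
        Relation.ReflTransGen (Step T' Ms' (D.map φ)) 1 (φ e) := by
      intro e he
      induction he with
      | refl => rw [map_one]
      | @tail u v _ huv ih =>
        obtain ⟨⟨M, hM, hm⟩, hv⟩ := huv
        obtain ⟨M', hM', hle⟩ := hMs M hM
        refine ih.tail ⟨⟨M', hM', ?_⟩, ?_⟩
        · rw [← map_inv, ← map_mul]; exact hle (mem_map_of_mem φ hm)
        · rintro _ ⟨a, ha, rfl⟩
          rw [← map_inv, ← map_mul, ← map_mul]
          exact hT (mem_map_of_mem φ (hv a ha))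
    exact H c hc
  · rintro _ ⟨a, ha, rfl⟩
    rw [← map_inv, ← map_mul, ← map_mul, hc' a ha, map_mul, map_mul, map_inv]

theorem Chain.mono_steps {T : Subgroup G} {Ms Ms' : Set (Subgroup G)}
    (hMs : ∀ M ∈ Ms, ∃ M' ∈ Ms', M ≤ M') {D : Subgroup G} {h : G} (hc : Chain T Ms D h) :
    Chain T Ms' D h := by
  obtain ⟨c, hc, hc'⟩ := hc
  refine ⟨c, Relation.ReflTransGen.mono (fun _ _ hs => ⟨?_, hs.2⟩) _ _ hc, hc'⟩
  obtain ⟨⟨M, hM, hm⟩, -⟩ := hs
  obtain ⟨M', hM', hle⟩ := hMs M hM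
  exact ⟨M', hM', hle hm⟩

/-- With a single step subgroup, a chain is realized by one element of it. -/
theorem Chain.exists_mem {T M D : Subgroup G} {h : G} (hc : Chain T {M} D h) :
    ∃ x ∈ M, ∀ a ∈ D, x * a * x⁻¹ = h * a * h⁻¹ := by
  obtain ⟨c, hc, hc'⟩ := hc
  refine ⟨c, ?_, hc'⟩
  clear hc'
  induction hc with
  | refl => exact one_mem M
  | @tail u v _ huv ih =>
    obtain ⟨⟨M', rfl, hm⟩, -⟩ := huv
    simpa using mul_mem hm ih

theorem Chain.toFin {T : Subgroup G} {Ms : Set (Subgroup G)} {D : Subgroup G} {h : G}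
    (hD : D ≤ T) (hc : Chain T Ms D h) :
    ∃ (n : ℕ) (c : Fin (n + 1) → G), c 0 = 1 ∧
      (∀ i : Fin n, ∃ M ∈ Ms, c i.succ * (c i.castSucc)⁻¹ ∈ M) ∧
      (∀ (i : Fin (n + 1)), ∀ a ∈ D, c i * a * (c i)⁻¹ ∈ T) ∧
      ∀ a ∈ D, c (Fin.last n) * a * (c (Fin.last n))⁻¹ = h * a * h⁻¹ := by
  obtain ⟨e, he, he'⟩ := hc
  suffices H : ∀ e, Relation.ReflTransGen (Step T Ms D) 1 e →
      ∃ (n : ℕ) (c : Fin (n + 1) → G), c 0 = 1 ∧
      (∀ i : Fin n, ∃ M ∈ Ms, c i.succ * (c i.castSucc)⁻¹ ∈ M) ∧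
      (∀ (i : Fin (n + 1)), ∀ a ∈ D, c i * a * (c i)⁻¹ ∈ T) ∧ c (Fin.last n) = e by
    obtain ⟨n, c, h0, h1, h2, h3⟩ := H e he
    exact ⟨n, c, h0, h1, h2, fun a ha => by rw [h3]; exact he' a ha⟩
  intro e he
  induction he with
  | refl =>
    exact ⟨0, fun _ => 1, rfl, fun i => i.elim0, fun _ a ha => by simpa using hD ha, rfl⟩
  | @tail u v _ huv ih =>
    obtain ⟨n, c, h0, h1, h2, h3⟩ := ih
    refine ⟨n + 1, Fin.snoc (α := fun _ => G) c v, ?_, ?_, ?_,
      Fin.snoc_last (α := fun _ => G) v c⟩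
    · rw [← Fin.castSucc_zero, Fin.snoc_castSucc]; exact h0
    · intro i
      induction i using Fin.lastCases with
      | last =>
        obtain ⟨M, hM, hm⟩ := huv.1
        refine ⟨M, hM, ?_⟩
        rw [Fin.succ_last, Fin.snoc_last, Fin.snoc_castSucc, h3]; exact hm
      | cast i =>
        obtain ⟨M, hM, hm⟩ := h1 i
        refine ⟨M, hM, ?_⟩
        rw [Fin.succ_castSucc, Fin.snoc_castSucc, Fin.snoc_castSucc]; exact hm
    · intro i
      induction i using Fin.lastCases with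
      | last => intro a ha; rw [Fin.snoc_last]; exact huv.2 a ha
      | cast i => intro a ha; rw [Fin.snoc_castSucc]; exact h2 i a ha

theorem chain_of_fin {T : Subgroup G} {Ms : Set (Subgroup G)} {D : Subgroup G} {h : G}
    {n : ℕ} (c : Fin (n + 1) → G) (h0 : c 0 = 1)
    (h1 : ∀ i : Fin n, ∃ M ∈ Ms, c i.succ * (c i.castSucc)⁻¹ ∈ M)
    (h2 : ∀ (i : Fin (n + 1)), ∀ a ∈ D, c i * a * (c i)⁻¹ ∈ T)
    (h3 : ∀ a ∈ D, c (Fin.last n) * a * (c (Fin.last n))⁻¹ = h * a * h⁻¹) : Chain T Ms D h := by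
  refine ⟨c (Fin.last n), ?_, h3⟩
  suffices H : ∀ i, Relation.ReflTransGen (Step T Ms D) 1 (c i) from H _
  intro i
  induction i using Fin.induction with
  | zero => rw [h0]
  | succ i ih => exact ih.tail ⟨h1 i, h2 i.succ⟩

/-- The displacement of every element of `D` under `h` lies in `τ`. -/
def FocalIn (τ D : Subgroup G) (h : G) : Prop := ∀ a ∈ D, h * a * h⁻¹ * a⁻¹ ∈ τ

theorem isMapClosed_focalIn (S τ : Subgroup G) : IsMapClosed S (FocalIn τ) where
  one _ a _ := by simp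
  congr := fun hh hf a ha => by rw [← hh a ha]; exact hf a ha
  mono := fun hDD hf a ha => hf a (hDD ha)
  comp := by
    intro D h h' _ _ hf hf' a ha
    have e : h' * h * a * (h' * h)⁻¹ * a⁻¹ =
        (h' * (h * a * h⁻¹) * h'⁻¹ * (h * a * h⁻¹)⁻¹) * (h * a * h⁻¹ * a⁻¹) := by group
    rw [e]
    exact mul_mem (hf' _ (conj_mem_map_conj h ha)) (hf a ha)

theorem focalIn_of_inf_commutator_le {T M τ : Subgroup G} (hTM : T ≤ M) (h : T ⊓ ⁅M, M⁆ ≤ τ) :
    HoldsOn T (FocalIn τ) M := by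
  intro D x hx hD hxD a ha
  refine h (mem_inf.2 ⟨mul_mem (hxD (conj_mem_map_conj x ha)) (inv_mem (hD ha)), ?_⟩)
  have e : x * a * x⁻¹ * a⁻¹ = ⁅x, a⁆ := (commutatorElement_def x a).symm
  rw [e]
  exact commutator_mem_commutator hx (hTM (hD ha))

variable [Finite G] [Fact p.Prime]

/-- The focal subgroup theorem inside a subgroup `M`. -/
theorem inf_commutator_le_of_focalIn {T M τ : Subgroup G} (hTM : T ≤ M) (hT : IsPGroup p T)
    (hi : ¬ p ∣ T.relIndex M) (h : HoldsOn T (FocalIn τ) M) : T ⊓ ⁅M, M⁆ ≤ τ := by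
  let P : Sylow p M := (hT.of_equiv (subgroupOfEquivOfLe hTM).symm).toSylow (P := T.subgroupOf M) hi
  intro x hx
  obtain ⟨hxT, hxM⟩ := mem_inf.1 hx
  have hx' : (⟨x, hTM hxT⟩ : M) ∈ _root_.commutator M ⊓ (P : Subgroup M) := by
    refine mem_inf.2 ⟨?_, hxT⟩
    rw [← mem_map_iff_mem M.subtype_injective, _root_.commutator_def, map_commutator,
      ← MonoidHom.range_eq_map, M.range_subtype]
    exact hxM
  rw [commutator_inf_eq_focalSubgroup] at hx'
  suffices H : (P : Subgroup M).focalSubgroup.map M.subtype ≤ τ from H ⟨_, hx', rfl⟩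
  rw [focalSubgroup_def, MonoidHom.map_closure, closure_le]
  rintro _ ⟨_, ⟨hg, a, ha, u, rfl⟩, rfl⟩
  have hg' : (a : G) * u * (a : G)⁻¹ * (u : G)⁻¹ ∈ T := by
    simpa [commutatorElement_def, mem_subgroupOf] using (show ⁅a, u⁆ ∈ T.subgroupOf M from hg)
  have ha' : (a : G) ∈ T := ha
  have hua : (u : G) * a * (u : G)⁻¹ ∈ T := by
    have h1 := mul_mem (inv_mem hg') ha'
    simpa [mul_assoc] using h1
  have h2 := h (zpowers (a : G)) u u.2 (zpowers_le.2 ha') (by
    rw [MonoidHom.map_zpowers, zpowers_le]; exact hua) a (mem_zpowers _)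
  have e : M.subtype ⁅a, u⁆ = ((u : G) * a * (u : G)⁻¹ * (a : G)⁻¹)⁻¹ := by
    simp [commutatorElement_def, mul_assoc]
  rw [e]
  exact inv_mem h2

end CfsgLib.Techniques.Fusion
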