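import Cfsg.Prelude.Def_LocalEven
import Cfsg.Prelude.Def_PLocal
import Cfsg.Agent.Lib.Techniques.Basic
import Mathlib.Data.ZMod.Basic
import Mathlib.Algebra.CharP.Lemmas
import Mathlib.Algebra.Polynomial.Div
import Mathlib.GroupTheory.Solvable
import Mathlib.Algebra.Polynomial.AlgebraMap

/-! Chief factors below a normal `p`-subgroup, and norms of elements acting with small degree. -/

set_option autoImplicit false

namespace CfsgLib.Techniques.Fusion

open Cfsg Subgroup CfsgLib.Techniques
open scoped commutatorElement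

variable {p : ℕ}

/-- Modulo `p` one has `1 + X + ... + X ^ (p - 1) = (X - 1) ^ (p - 1)`. -/
theorem exists_geom_sum_eq [Fact p.Prime] :
    ∃ Q : Polynomial ℤ, ∑ j ∈ Finset.range p, (Polynomial.X : Polynomial ℤ) ^ j =
      (Polynomial.X - 1) ^ (p - 1) + Polynomial.C (p : ℤ) * Q := by
  have hp : p - 1 + 1 = p := Nat.succ_pred_eq_of_pos (Fact.out : p.Prime).pos
  have key : (∑ j ∈ Finset.range p, (Polynomial.X : Polynomial (ZMod p)) ^ j) =
      (Polynomial.X - 1) ^ (p - 1) := by
    refine mul_right_cancel₀ (Polynomial.X_sub_C_ne_zero (1 : ZMod p)) ?_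
    rw [map_one, geom_sum_mul, ← pow_succ, hp, sub_pow_char, one_pow]
  obtain ⟨Q, hQ⟩ : Polynomial.C (p : ℤ) ∣
      (∑ j ∈ Finset.range p, (Polynomial.X : Polynomial ℤ) ^ j) - (Polynomial.X - 1) ^ (p - 1) := by
    rw [Polynomial.C_dvd_iff_dvd_coeff]
    intro i
    rw [← ZMod.intCast_zmod_eq_zero_iff_dvd, ← eq_intCast (Int.castRingHom (ZMod p)),
      ← Polynomial.coeff_map, Polynomial.map_sub, Polynomial.map_sum, Polynomial.map_pow,
      Polynomial.map_sub, Polynomial.map_X, Polynomial.map_one]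
    simp only [Polynomial.map_pow, Polynomial.map_X, key, sub_self, Polynomial.coeff_zero]
  exact ⟨Q, by rw [← hQ]; ring⟩

/-- A `(θ - 1) ^ (p - 1) = 0` operator on an abelian group of exponent `p` has norm one. -/
theorem prod_pow_apply_eq_one [Fact p.Prime] {M : Type*} [CommGroup M] (hexp : ∀ a : M, a ^ p = 1)
    (θ : M →* M) (hθ : ∀ a : M, (fun y => θ y / y)^[p - 1] a = 1) (a : M) :
    ∏ j ∈ Finset.range p, θ^[j] a = 1 := by
  obtain ⟨Q, hQ⟩ := exists_geom_sum_eq (p := p)
  let T : AddMonoid.End (Additive M) := θ.toAdditive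
  have hTj : ∀ (j : ℕ) (b : M), (T ^ j) (Additive.ofMul b) = Additive.ofMul (θ^[j] b) := by
    intro j
    induction j with
    | zero => intro b; rfl
    | succ j ih =>
      intro b
      rw [pow_succ', AddMonoid.End.coe_mul, Function.comp_apply, ih, Function.iterate_succ_apply']
      rfl
  have hdk : ∀ (k : ℕ) (b : M),
      ((T - 1) ^ k) (Additive.ofMul b) = Additive.ofMul ((fun y => θ y / y)^[k] b) := by
    intro k
    induction k with
    | zero => intro b; rfl
    | succ k ih =>
      intro b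
      rw [pow_succ', AddMonoid.End.coe_mul, Function.comp_apply, ih, Function.iterate_succ_apply']
      rfl
  have hzero : ((p : ℤ) : AddMonoid.End (Additive M)) = 0 := by
    ext x
    rw [Int.cast_natCast]
    show p • x = 0
    exact congrArg Additive.ofMul (hexp x.toMul)
  have h1 := congrArg (Polynomial.aeval T) hQ
  simp only [map_sum, map_pow, map_sub, map_add, map_mul, map_one, Polynomial.aeval_X, map_natCast] at h1
  have hz' : (p : AddMonoid.End (Additive M)) = 0 := by rw [← Int.cast_natCast]; exact hzero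
  rw [hz', zero_mul, add_zero] at h1
  have hsum : ∀ (f : ℕ → AddMonoid.End (Additive M)) (n : ℕ) (x : Additive M),
      (∑ j ∈ Finset.range n, f j) x = ∑ j ∈ Finset.range n, f j x := by
    intro f n x
    induction n with
    | zero => rfl
    | succ n ih =>
      rw [Finset.sum_range_succ, Finset.sum_range_succ, ← ih]
      rfl
  have h1' := congrArg (fun L : AddMonoid.End (Additive M) => L (Additive.ofMul a)) h1
  simp only [hsum, hTj, hdk, hθ] at h1'
  have h2 := congrArg Additive.toMul h1'
  simpa [toMul_sum] using h2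

variable {G : Type*} [Group G]

theorem iterCommutator_mem_of_iterate {U : Subgroup G} (u : G) (a : G) (ha : a ∈ U) (k : ℕ) :
    (fun y => (⁅y, u⁆)⁻¹)^[k] a ∈ iterCommutator U (zpowers u) k := by
  induction k with
  | zero => exact ha
  | succ k ih =>
    rw [Function.iterate_succ_apply']
    exact inv_mem (commutator_mem_commutator ih (mem_zpowers u))

variable [Finite G] [Fact p.Prime]

theorem chiefFactor_commutative {U V : Subgroup G} (h : IsChiefFactor U V) (hU : IsPGroup p U) :
    ⁅U, U⁆ ≤ V := by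
  obtain ⟨hlt, hUn, hVn, hmax⟩ := h
  rcases hmax (V ⊔ ⁅U, U⁆) inferInstance le_sup_left (sup_le hlt.le (commutator_le_self U)) with h1 | h1
  · exact h1 ▸ le_sup_right
  exfalso
  have hn : (V.subgroupOf U).Normal := inferInstance
  have hQ : IsPGroup p (U ⧸ V.subgroupOf U) := hU.to_quotient _
  have : Nontrivial (U ⧸ V.subgroupOf U) :=
    QuotientGroup.nontrivial_iff.2 fun e => hlt.not_ge (subgroupOf_eq_top.1 e)
  have : Group.IsNilpotent (U ⧸ V.subgroupOf U) := hQ.isNilpotent
  apply (Group.IsSolvable.commutator_lt_top_of_nontrivial (U ⧸ V.subgroupOf U)).ne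
  rw [eq_top_iff]
  intro y _
  obtain ⟨x, rfl⟩ := QuotientGroup.mk'_surjective _ y
  have hx : (x : G) ∈ ((V.subgroupOf U) ⊔ _root_.commutator U).map U.subtype := by
    rw [Subgroup.map_sup, map_subgroupOf_eq_of_le hlt.le, _root_.commutator_def, map_commutator,
      ← MonoidHom.range_eq_map, range_subtype, h1]
    exact x.2
  replace hx : x ∈ (V.subgroupOf U) ⊔ _root_.commutator U :=
    (mem_map_iff_mem (f := U.subtype) U.subtype_injective).1 hx
  have h2 := mem_map_of_mem (QuotientGroup.mk' (V.subgroupOf U)) hx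
  rw [Subgroup.map_sup, QuotientGroup.map_mk'_self, bot_sup_eq, _root_.commutator_def, map_commutator,
    map_top_of_surjective _ (QuotientGroup.mk'_surjective _), ← _root_.commutator_def] at h2
  exact h2

theorem chiefFactor_pow_mem {U V : Subgroup G} (h : IsChiefFactor U V) (hU : IsPGroup p U) {a : G}
    (ha : a ∈ U) : a ^ p ∈ V := by
  have hcomm := chiefFactor_commutative h hU
  obtain ⟨hlt, hUn, hVn, hmax⟩ := h
  set K := V ⊔ closure ((fun x : G => x ^ p) '' (U : Set G)) with hK
  have hcn : (closure ((fun x : G => x ^ p) '' (U : Set G))).Normal := by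
    refine normalizer_eq_top_iff.1 (top_le_iff.1 fun g _ => ?_)
    rw [mem_normalizer_iff_map_conj_eq, MonoidHom.map_closure]
    congr 1
    ext y
    constructor
    · rintro ⟨_, ⟨x, hx, rfl⟩, rfl⟩
      exact ⟨g * x * g⁻¹, hUn.conj_mem x hx g, by simp [conj_pow]⟩
    · rintro ⟨x, hx, rfl⟩
      refine ⟨_, ⟨g⁻¹ * x * g, hUn.conj_mem' x hx g, rfl⟩, ?_⟩
      show g * (g⁻¹ * x * g) ^ p * g⁻¹ = x ^ p
      rw [← conj_pow]
      congr 1
      group
  have hKU : K ≤ U := sup_le hlt.le ((closure_le _).2 (by rintro _ ⟨x, hx, rfl⟩; exact pow_mem hx p))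
  rcases hmax K inferInstance le_sup_left hKU with h1 | h1
  · exact h1 ▸ mem_sup_right (subset_closure ⟨a, ha, rfl⟩)
  exfalso
  have hn : (V.subgroupOf U).Normal := inferInstance
  let _ : CommGroup (U ⧸ V.subgroupOf U) :=
    { (inferInstance : Group (U ⧸ V.subgroupOf U)) with
      mul_comm := fun x y => by
        obtain ⟨x, rfl⟩ := QuotientGroup.mk'_surjective _ x
        obtain ⟨y, rfl⟩ := QuotientGroup.mk'_surjective _ y
        rw [← commutatorElement_eq_one_iff_mul_comm, ← map_commutatorElement]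
        exact (QuotientGroup.eq_one_iff (G := U) _).2 (hcomm (commutator_mem_commutator x.2 y.2)) }
  have hQ : IsPGroup p (U ⧸ V.subgroupOf U) := hU.to_quotient _
  have : Nontrivial (U ⧸ V.subgroupOf U) :=
    QuotientGroup.nontrivial_iff.2 fun e => hlt.not_ge (subgroupOf_eq_top.1 e)
  let f : U ⧸ V.subgroupOf U →* U ⧸ V.subgroupOf U := powMonoidHom p
  have hrange : (⊤ : Subgroup (U ⧸ V.subgroupOf U)) ≤ f.range := by
    intro y _
    obtain ⟨x, rfl⟩ := QuotientGroup.mk'_surjective _ y
    have hle : K.subgroupOf U ≤ f.range.comap (QuotientGroup.mk' (V.subgroupOf U)) := by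
      rw [← map_le_map_iff_of_injective U.subtype_injective, map_subgroupOf_eq_of_le hKU, hK]
      refine sup_le (fun v hv => ⟨⟨v, hlt.le hv⟩, ?_, rfl⟩) ((closure_le _).2 ?_)
      · exact ⟨1, by rw [map_one]; exact ((QuotientGroup.eq_one_iff (G := U) _).2 hv).symm⟩
      · rintro _ ⟨z, hz, rfl⟩
        exact ⟨(⟨z, hz⟩ : U) ^ p, ⟨QuotientGroup.mk' _ ⟨z, hz⟩, (map_pow _ _ _).symm⟩, rfl⟩
    exact hle (show x ∈ K.subgroupOf U by rw [h1, mem_subgroupOf]; exact x.2)
  have hsur : Function.Surjective f := fun y => hrange (mem_top y)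
  have hinj := Finite.injective_iff_surjective.2 hsur
  obtain ⟨z, hz⟩ := hQ.bot_lt_center.ne'.symm |> fun _ =>
    exists_prime_orderOf_dvd_card' p (G := U ⧸ V.subgroupOf U) (by
      obtain ⟨n, hn0, hn⟩ := hQ.nontrivial_iff_card.1 inferInstance
      rw [hn]; exact dvd_pow_self p hn0.ne')
  have h2 : z = 1 := hinj (show z ^ p = (1 : U ⧸ V.subgroupOf U) ^ p by
    rw [one_pow, ← hz]; exact pow_orderOf_eq_one z)
  rw [h2, orderOf_one] at hz
  exact (Fact.out : p.Prime).ne_one hz.symm

/-- If `u` acts on the chief factor `U/V` with `[U, u; p-1] ≤ V`, homomorphisms of `U` trivial on `V`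
have trivial norm under `u`. -/
theorem prod_conj_eq_one_of_iterCommutator {U V : Subgroup G} (h : IsChiefFactor U V)
    (hU : IsPGroup p U) {u : G} (hu : iterCommutator U (zpowers u) (p - 1) ≤ V) {A : Type*}
    [CommGroup A] (w : U →* A) (hw : ∀ x : U, (x : G) ∈ V → w x = 1) (a : U) :
    ∏ j ∈ Finset.range p, w ⟨u ^ j * a * (u ^ j)⁻¹, h.2.1.conj_mem a a.2 (u ^ j)⟩ = 1 := by
  have hUn := h.2.1
  have hVn := h.2.2.1
  have hn : (V.subgroupOf U).Normal := inferInstance
  have hcomm := chiefFactor_commutative h hU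
  let _ : CommGroup (U ⧸ V.subgroupOf U) :=
    { (inferInstance : Group (U ⧸ V.subgroupOf U)) with
      mul_comm := fun x y => by
        obtain ⟨x, rfl⟩ := QuotientGroup.mk'_surjective _ x
        obtain ⟨y, rfl⟩ := QuotientGroup.mk'_surjective _ y
        rw [← commutatorElement_eq_one_iff_mul_comm, ← map_commutatorElement]
        exact (QuotientGroup.eq_one_iff (G := U) _).2 (hcomm (commutator_mem_commutator x.2 y.2)) }
  set π := QuotientGroup.mk' (V.subgroupOf U) with hπ
  let c : U →* U := (MulAut.conjNormal u).toMonoidHom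
  let θ : U ⧸ V.subgroupOf U →* U ⧸ V.subgroupOf U :=
    QuotientGroup.map _ _ c (fun x hx => by
      rw [mem_comap, mem_subgroupOf]; exact hVn.conj_mem _ hx u)
  have hθ : ∀ x : U, θ (π x) = π (c x) := fun _ => rfl
  have hexp : ∀ b : U ⧸ V.subgroupOf U, b ^ p = 1 := by
    intro b
    obtain ⟨x, rfl⟩ := QuotientGroup.mk'_surjective _ b
    rw [← map_pow]
    exact (QuotientGroup.eq_one_iff _).2 (by
      rw [mem_subgroupOf, coe_pow]; exact chiefFactor_pow_mem h hU x.2)
  have hiter : ∀ (k : ℕ) (x : U), ∃ y : U, (fun b => θ b / b)^[k] (π x) = π y ∧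
      (y : G) ∈ iterCommutator U (zpowers u) k := by
    intro k
    induction k with
    | zero => intro x; exact ⟨x, rfl, x.2⟩
    | succ k ih =>
      intro x
      obtain ⟨y, hy, hy'⟩ := ih x
      refine ⟨y⁻¹ * c y, ?_, ?_⟩
      · rw [Function.iterate_succ_apply', hy, hθ, map_mul, map_inv, div_eq_mul_inv, mul_comm]
      · have e : ((y⁻¹ * c y : U) : G) = ⁅(y : G)⁻¹, u⁆ := by
          simp [c, MulAut.conjNormal_apply, commutatorElement_def, mul_assoc]
        rw [e]
        exact commutator_mem_commutator (inv_mem hy') (mem_zpowers u)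
  have hnorm := prod_pow_apply_eq_one hexp θ (fun b => by
    obtain ⟨x, rfl⟩ := QuotientGroup.mk'_surjective _ b
    obtain ⟨y, hy, hy'⟩ := hiter (p - 1) x
    rw [hy]
    exact (QuotientGroup.eq_one_iff _).2 (hu hy')) (π a)
  let wb : U ⧸ V.subgroupOf U →* A := QuotientGroup.lift _ w fun x hx => hw x hx
  have hj : ∀ j : ℕ, θ^[j] (π a) = π ⟨u ^ j * a * (u ^ j)⁻¹, hUn.conj_mem a a.2 (u ^ j)⟩ := by
    intro j
    induction j with
    | zero => simp
    | succ j ih =>
      rw [Function.iterate_succ_apply', ih, hθ]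
      congr 1
      apply Subtype.ext
      simp [c, MulAut.conjNormal_apply, pow_succ', mul_assoc]
  have h3 := congrArg wb hnorm
  rw [map_prod, map_one] at h3
  rw [← h3]
  exact Finset.prod_congr rfl fun j _ => by rw [hj]; rfl

end CfsgLib.Techniques.Fusion
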