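import Cfsg.Agent.Lib.Techniques.ChiefTools
import Cfsg.Agent.Lib.Techniques.ChiefMap

/-! Chief factors and normal subgroups. -/

set_option autoImplicit false
set_option linter.unusedSectionVars false

namespace CfsgLib.Techniques.KInf

open Cfsg Subgroup CfsgLib.Techniques
open scoped commutatorElement

variable {G : Type*} [Group G]

theorem iterCommutator_sup_le {V W B : Subgroup G} (hV : V.Normal) (k : ℕ) :
    iterCommutator (V ⊔ W) B k ≤ V ⊔ iterCommutator W B k := by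
  have h : (iterCommutator (V ⊔ W) B k).map (QuotientGroup.mk' V) =
      (iterCommutator W B k).map (QuotientGroup.mk' V) := by
    rw [Fusion.iterCommutator_map, Fusion.iterCommutator_map, Subgroup.map_sup,
      QuotientGroup.map_mk'_self, bot_sup_eq]
  refine (Subgroup.le_comap_map (QuotientGroup.mk' V) _).trans (le_of_eq ?_)
  rw [h, comap_map_eq, QuotientGroup.ker_mk', sup_comm]

theorem commutator_sup_le {V W B : Subgroup G} (hV : V.Normal) (h : ⁅W, B⁆ ≤ V) :
    ⁅V ⊔ W, B⁆ ≤ V :=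
  (iterCommutator_sup_le (W := W) (B := B) hV 1).trans (sup_le le_rfl h)

theorem isChiefFactor_inf {U V N : Subgroup G} (h : IsChiefFactor U V) (hN : N.Normal)
    (hnot : ¬ U ⊓ N ≤ V) : IsChiefFactor (U ⊓ N) (V ⊓ N) ∧ (U ⊓ N) ⊔ V = U := by
  obtain ⟨hlt, hUn, hVn, hmax⟩ := h
  have hsup : (U ⊓ N) ⊔ V = U := by
    rcases hmax ((U ⊓ N) ⊔ V) inferInstance le_sup_right (sup_le inf_le_left hlt.le) with h1 | h1
    · exact absurd (le_sup_left.trans h1.le) hnot
    · exact h1
  refine ⟨⟨lt_of_le_of_ne (inf_le_inf_right _ hlt.le) fun e => hnot (e.ge.trans inf_le_left),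
    inferInstance, inferInstance, fun M hM h1 h2 => ?_⟩, hsup⟩
  rcases hmax (V ⊔ M) inferInstance le_sup_left (sup_le hlt.le (h2.trans inf_le_left)) with h3 | h3
  · exact Or.inl (le_antisymm (le_inf (le_sup_right.trans h3.le) (h2.trans inf_le_right)) h1)
  · refine Or.inr (le_antisymm h2 fun w hw => ?_)
    obtain ⟨v, hv, m, hm, rfl⟩ := exists_mul_of_mem_sup
      (le_top.trans (normalizer_eq_top_iff.2 hM).ge) (h3.symm ▸ (mem_inf.1 hw).1 : w ∈ V ⊔ M)
    have hvN : v ∈ N := by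
      simpa using mul_mem (mem_inf.1 hw).2 (inv_mem (mem_inf.1 (h2 hm)).2)
    exact mul_mem (h1 (mem_inf.2 ⟨hv, hvN⟩)) hm

theorem isChiefFactor_sup {U V N : Subgroup G} (h : IsChiefFactor U V) (hN : N.Normal)
    (hle : U ⊓ N ≤ V) : IsChiefFactor (U ⊔ N) (V ⊔ N) ∧ U ⊓ (V ⊔ N) = V := by
  obtain ⟨hlt, hUn, hVn, hmax⟩ := h
  have hinf : U ⊓ (V ⊔ N) = V := by
    refine le_antisymm (fun u hu => ?_) (le_inf hlt.le le_sup_left)
    obtain ⟨hu1, hu2⟩ := mem_inf.1 hu
    obtain ⟨v, hv, n, hn, rfl⟩ := exists_mul_of_mem_sup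
      (le_top.trans (normalizer_eq_top_iff.2 hN).ge) hu2
    have hnU : n ∈ U := by simpa using mul_mem (inv_mem (hlt.le hv)) hu1
    exact mul_mem hv (hle (mem_inf.2 ⟨hnU, hn⟩))
  refine ⟨⟨lt_of_le_of_ne (sup_le_sup_right hlt.le _) fun e => hlt.not_ge ?_, inferInstance, inferInstance,
    fun M hM h1 h2 => ?_⟩, hinf⟩
  · calc U ≤ U ⊓ (V ⊔ N) := le_inf le_rfl (le_sup_left.trans e.ge)
      _ = V := hinf
  have key : M ≤ (U ⊓ M) ⊔ N := fun m hm => by
    obtain ⟨u, hu, n, hn, rfl⟩ := exists_mul_of_mem_sup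
      (le_top.trans (normalizer_eq_top_iff.2 hN).ge) (h2 hm)
    have huM : u ∈ M := by simpa using mul_mem hm (inv_mem (h1 (mem_sup_right hn)))
    exact mul_mem (mem_sup_left (mem_inf.2 ⟨hu, huM⟩)) (mem_sup_right hn)
  rcases hmax (U ⊓ M) inferInstance (le_inf hlt.le (le_sup_left.trans h1)) inf_le_left with h3 | h3
  · exact Or.inl (le_antisymm (key.trans (sup_le_sup_right h3.le _)) h1)
  · exact Or.inr (le_antisymm h2 (sup_le (inf_eq_left.1 h3) (le_sup_right.trans h1)))

/-- A subgroup centralising the chief factors within a normal subgroup `N` centralises the sections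
`(U ⊓ N) V / V`. -/
theorem commutator_le_of_factors_below {U V N B : Subgroup G} (h : IsChiefFactor U V) (hN : N.Normal)
    (hB : ∀ X Y : Subgroup G, IsChiefFactor X Y → X ≤ N → ⁅X, B⁆ ≤ Y) (hnot : ¬ U ⊓ N ≤ V) :
    ⁅U, B⁆ ≤ V := by
  obtain ⟨h1, h2⟩ := isChiefFactor_inf h hN hnot
  rw [← h2, sup_comm]
  exact commutator_sup_le h.2.2.1 ((hB _ _ h1 inf_le_right).trans inf_le_left)

/-- A subgroup centralising the chief factors within `N` and all chief factors of the group between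
`N` and `M` centralises all chief factors within `M`. -/
theorem commutator_le_of_factors {U V N M B : Subgroup G} (h : IsChiefFactor U V) (hN : N.Normal)
    (hNM : N ≤ M) (hUM : U ≤ M)
    (hB : ∀ X Y : Subgroup G, IsChiefFactor X Y → X ≤ N → ⁅X, B⁆ ≤ Y)
    (hB' : ∀ X Y : Subgroup G, IsChiefFactor X Y → N ≤ Y → X ≤ M → ⁅X, B⁆ ≤ Y) : ⁅U, B⁆ ≤ V := by
  by_cases hle : U ⊓ N ≤ V
  · obtain ⟨h1, h2⟩ := isChiefFactor_sup h hN hle
    rw [← h2]
    exact le_inf ((commutator_mono le_rfl le_top).trans (by have := h.2.1; exact commutator_le_left U ⊤))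
      ((commutator_mono le_sup_left le_rfl).trans (hB' _ _ h1 le_sup_right (sup_le hUM hNM)))
  · exact commutator_le_of_factors_below h hN hB hle

end CfsgLib.Techniques.KInf
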