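import Cfsg.Agent.Lib.Techniques.Control

/-! Transfer in a constrained group, given that all proper sections are controlled. -/

set_option autoImplicit false
set_option linter.unusedSectionVars false

namespace CfsgLib.Techniques.Fusion

open Cfsg Subgroup CfsgLib.Techniques

universe u

variable {p : ℕ} [Fact p.Prime] {𝓦 : Set (∀ (Q : Type u) [Group Q], Subgroup Q)}
  {X : Type u} [Group X] [Finite X]

/-- If all proper sections of `X` are controlled, `S ∩ H' ≤ τ` for all proper subgroups `H ≥ S`. -/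
theorem inf_commutator_le_target_of_proper (h𝓦 : ∀ W ∈ 𝓦, IsCharPFunctor.{u} p W) (S : Sylow p X)
    {H : Subgroup X} (hSH : (S : Subgroup X) ≤ H) (hctl : TransCtrl p 𝓦 H) :
    (S : Subgroup X) ⊓ ⁅H, H⁆ ≤ transferTarget 𝓦 (S : Subgroup X) := by
  refine inf_commutator_le_of_focalIn hSH S.2 (not_dvd_relIndex_sylow S hSH)
    (holdsOn_of_transCtrl h𝓦 hSH S.2 (not_dvd_relIndex_sylow S hSH) hctl fun W hW => ?_)
  refine (focalIn_of_inf_commutator_le (T := (S : Subgroup X))
    (Subgroup.le_normalizer.trans (normalizer_le_normalizer_inducedFunctor (h𝓦 W hW) S.2))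
    (le_iSup₂_of_le _ ⟨W, hW, rfl⟩ le_rfl)).mono le_rfl inf_le_right

/-- If all proper sections are controlled, then `S ∩ X'` is generated modulo `O_p(X) ∩ X'` by the
transfer target. -/
theorem inf_commutator_le_target_sup (h𝓦 : ∀ W ∈ 𝓦, IsCharPFunctor.{u} p W) (S : Sylow p X)
    (hP0 : pCore p X ≠ ⊥)
    (hind : ∀ (Y : Type u) [Group Y] [Finite Y], IsSectionOf Y X → Nat.card Y < Nat.card X →
      TransCtrl p 𝓦 Y) :
    (S : Subgroup X) ⊓ _root_.commutator X ≤
      transferTarget 𝓦 (S : Subgroup X) ⊔ (pCore p X ⊓ _root_.commutator X) := by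
  have hPn : (pCore p X).Normal := pCore_normal p X
  intro s hs
  obtain ⟨hsS, hsX⟩ := mem_inf.1 hs
  by_cases hPS : pCore p X = (S : Subgroup X)
  · exact mem_sup_right (mem_inf.2 ⟨hPS ▸ hsS, hsX⟩)
  set τ := transferTarget 𝓦 (S : Subgroup X) with hτ
  set π := QuotientGroup.mk' (pCore p X) with hπ
  have hPle : pCore p X ≤ (S : Subgroup X) := CfsgLib.PCore.pCore_le_sylow S
  let Sb : Sylow p (X ⧸ pCore p X) := S.mapSurjective (QuotientGroup.mk'_surjective _)
  have hSb : (Sb : Subgroup (X ⧸ pCore p X)) = (S : Subgroup X).map π := rfl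
  have hcomap : ((S : Subgroup X).map π).comap π = (S : Subgroup X) := by
    rw [hπ, comap_map_eq, QuotientGroup.ker_mk', sup_eq_left.2 hPle]
  have hτX : τ ≤ _root_.commutator X := iSup₂_le fun M _ => inf_le_right.trans (by
    rw [_root_.commutator_def]; exact commutator_mono le_top le_top)
  have h4 : transferTarget 𝓦 ((S : Subgroup X).map π) ≤ τ.map π := by
    refine iSup₂_le fun M hM => ?_
    obtain ⟨hne, hSM⟩ := comap_stepGroup_facts h𝓦 S (pCore p X) rfl hPS hM
    have h2 : (S : Subgroup X) ⊓ ⁅M.comap π, M.comap π⁆ ≤ τ :=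
      inf_commutator_le_target_of_proper h𝓦 S hSM
        (hind _ (IsSectionOf.of_subgroup _) (card_lt_of_ne_top hne))
    intro y hy
    obtain ⟨hy1, hy2⟩ := mem_inf.1 hy
    rw [← map_comap_eq_self_of_surjective (QuotientGroup.mk'_surjective _) M, ← map_commutator] at hy2
    obtain ⟨m, hm, rfl⟩ := hy2
    exact mem_map_of_mem π (h2 (mem_inf.2
      ⟨hcomap ▸ (show m ∈ ((S : Subgroup X).map π).comap π from hy1), hm⟩))
  obtain ⟨t, ht, hts⟩ : π s ∈ τ.map π := by
    refine h4 (hind _ (IsSectionOf.of_surjective _ (QuotientGroup.mk'_surjective _))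
      (card_quotient_lt _ hP0) Sb (mem_inf.2 ⟨hSb ▸ mem_map_of_mem π hsS, ?_⟩))
    have := mem_map_of_mem π hsX
    rwa [_root_.commutator_def, map_commutator,
      map_top_of_surjective π (QuotientGroup.mk'_surjective _), ← _root_.commutator_def] at this
  have h6 : t⁻¹ * s ∈ pCore p X ⊓ _root_.commutator X :=
    mem_inf.2 ⟨QuotientGroup.eq.1 hts, mul_mem (inv_mem (hτX ht)) hsX⟩
  simpa using mul_mem (mem_sup_left ht) (mem_sup_right (S := τ) h6)

theorem sylow_eq_bot_of_pCore_eq_bot (S : Sylow p X) (h : pCore p X = ⊥)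
    (hc : centralizer (pCore p X : Set X) ≤ pCore p X) : (S : Subgroup X) = ⊥ := by
  refine le_bot_iff.1 (le_trans ?_ (hc.trans h.le))
  intro x _
  rw [h, mem_centralizer_iff]
  intro y hy
  rw [SetLike.mem_coe, mem_bot] at hy
  simp [hy]

/-- Transfer in a constrained group is controlled if `O_p(X) ∩ X' ≤ τ` and proper sections are
controlled. -/
theorem transCtrl_of_core (h𝓦 : ∀ W ∈ 𝓦, IsCharPFunctor.{u} p W)
    (hc : centralizer (pCore p X : Set X) ≤ pCore p X)
    (hind : ∀ (Y : Type u) [Group Y] [Finite Y], IsSectionOf Y X → Nat.card Y < Nat.card X →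
      TransCtrl p 𝓦 Y)
    (hcore : ∀ S : Sylow p X,
      pCore p X ⊓ _root_.commutator X ≤ transferTarget 𝓦 (S : Subgroup X)) : TransCtrl p 𝓦 X := by
  intro S
  by_cases hP0 : pCore p X = ⊥
  · rw [sylow_eq_bot_of_pCore_eq_bot S hP0 hc, bot_inf_eq]; exact bot_le
  · exact (inf_commutator_le_target_sup h𝓦 S hP0 hind).trans (sup_le le_rfl (hcore S))

end CfsgLib.Techniques.Fusion
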