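import Cfsg.Agent.Lib.Techniques.KInfGlauberman
import Cfsg.Agent.Lib.Techniques.Sections
import Cfsg.Agent.Lib.Frobenius.ZJComplement

/-! The lower K-infinity subgroup and normal `p`-complements. -/

set_option autoImplicit false
set_option linter.unusedSectionVars false

namespace CfsgLib.Techniques.KInf

open Cfsg Subgroup CfsgLib.Techniques
open scoped commutatorElement Classical

universe u

/-- A quadratic nontrivial action on a chief factor below `O_p` when a K-infinity subgroup is not
normal. -/
theorem exists_quadratic_factor {G : Type u} [Group G] [Finite G] {p : ℕ} [Fact p.Prime]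
    (S : Sylow p G) (hc : centralizer (pCore p G : Set G) ≤ pCore p G)
    (hK : ¬ (inducedFunctor kInfLower (S : Subgroup G)).Normal ∨
      ¬ (inducedFunctor kInfUpper (S : Subgroup G)).Normal) :
    ∃ g ∈ (S : Subgroup G), ∃ U V : Subgroup G, IsChiefFactor U V ∧ U ≤ pCore p G ∧
      ⁅⁅U, zpowers g⁆, zpowers g⁆ ≤ V ∧ ¬ ⁅U, zpowers g⁆ ≤ V := by
  obtain ⟨A, hd, -⟩ := exists_criticalData (G := G) (p := p)
  obtain ⟨g, hgS, -, -, -, h3⟩ := exists_goodElement S hd hK
  obtain ⟨U, V, hUV, hUA, hq, hne⟩ := h3 hc
  exact ⟨g, hgS, U, V, hUV, hUA.trans hd.le, hq, hne⟩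

/-- An element acting quadratically on a `p`-stable chief factor acts trivially. -/
theorem commutator_le_of_isPStableOn {G : Type u} [Group G] [Finite G] {p : ℕ} [Fact p.Prime]
    {U V : Subgroup G} [V.Normal] (hUV : IsChiefFactor U V) (hU : IsPGroup p U)
    [(U.map (QuotientGroup.mk' V)).Normal] (hst : IsPStableOn p (U.map (QuotientGroup.mk' V)))
    {g : G} (hq : ⁅⁅U, zpowers g⁆, zpowers g⁆ ≤ V) : ⁅U, zpowers g⁆ ≤ V := by
  set π := QuotientGroup.mk' V
  have hmem := hst (π g) (by
    rw [← MonoidHom.map_zpowers, ← map_commutator, ← map_commutator, Subgroup.map_eq_bot_iff,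
      QuotientGroup.ker_mk']
    exact hq)
  let φ : G →* (G ⧸ V) ⧸ centralizer ((U.map π : Subgroup (G ⧸ V)) : Set (G ⧸ V)) :=
    (QuotientGroup.mk' _).comp π
  have hD : ((pCore p ((G ⧸ V) ⧸ centralizer ((U.map π : Subgroup (G ⧸ V)) : Set (G ⧸ V)))).comap φ).Normal :=
    (pCore_normal p _).comap φ
  rw [← le_sectionKernel_iff, zpowers_le]
  refine le_sectionKernel_of_coprime hUV hU hD (fun x hx hxc => ?_) hmem
  have h5 : φ x = 1 := eq_one_of_coprime_of_mem CfsgLib.PCore.pCore_isPGroup hx
    (hxc.coprime_dvd_left (orderOf_map_dvd φ x))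
  exact (QuotientGroup.eq_one_iff (π x)).1 h5

theorem isZFunctor_kInfLower {p : ℕ} [hp : Fact p.Prime] (hp2 : p ≠ 2) :
    CfsgLib.Frobenius.ZJComp.IsZFunctor.{u} p
      (fun {G} [Group G] P => if IsPGroup p P then inducedFunctor (G := G) kInfLower P else ⊥) where
  ne_bot P hP hne := by
    simp only [if_pos hP]
    exact Fusion.inducedFunctor_ne_bot isCharPFunctor_kInfLower hP hne
  le P := by
    split
    · exact Fusion.inducedFunctor_le _ P
    · exact bot_le
  map := by
    intro G H _ _ _ f P hf
    by_cases hP : IsPGroup p P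
    · rw [if_pos hP, if_pos (hP.map f)]
      refine Fusion.inducedFunctor_map isCharPFunctor_kInfLower f hP ?_
      rw [disjoint_def]
      intro x hx hxP
      have h1 : (f.comp P.subtype) ⟨x, hxP⟩ = (f.comp P.subtype) 1 := by
        rw [map_one]; exact hx
      exact congrArg Subtype.val (hf h1)
    · rw [if_neg hP, if_neg, Subgroup.map_bot]
      intro h
      refine hP (h.of_injective ((f.comp P.subtype).codRestrict (P.map f)
        fun x => mem_map_of_mem f x.2) ?_)
      intro a b hab
      exact hf (congrArg Subtype.val hab)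
  normal := by
    intro G _ _ P M _ hOM hab hidx hq hc _
    rw [if_pos P.2]
    by_contra hn
    obtain ⟨g, -, U, V, hUV, hUO, hquad, hne⟩ := exists_quadratic_factor P hc (Or.inl hn)
    have hUn := hUV.2.1
    have hVn := hUV.2.2.1
    have hOn : (pCore p G).Normal := pCore_normal p G
    set π := QuotientGroup.mk' V
    have hsur : Function.Surjective π := QuotientGroup.mk'_surjective V
    have hVM : V ≤ M := hUV.1.le.trans (hUO.trans hOM)
    have : (U.map π).Normal := hUn.map π hsur
    have : ((pCore p G).map π).Normal := hOn.map π hsur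
    have : (M.map π).Normal := (inferInstance : M.Normal).map π hsur
    refine hne (commutator_le_of_isPStableOn hUV (CfsgLib.PCore.pCore_isPGroup.to_le hUO) ?_ hquad)
    refine CfsgLib.Frobenius.ZJComp.isPStableOn_of_abelian_quotient hp2 ((pCore p G).map π) (M.map π)
      (CfsgLib.PCore.pCore_isPGroup.map π) ?_ ?_ ?_ (U.map π) (map_mono hUO)
    · rw [← map_commutator]; exact map_mono hab
    · refine hidx.coprime_dvd_left ?_
      have hOV : V ≤ pCore p G := hUV.1.le.trans hUO
      rw [← relIndex_comap, comap_map_eq, QuotientGroup.ker_mk', sup_eq_left.2 hOV]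
    · exact hq.of_equiv (QuotientGroup.quotientQuotientEquivQuotient V M hVM).symm

end CfsgLib.Techniques.KInf
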