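import Cfsg.Agent.Lib.Techniques.KInfMain

/-! Non-normal K-infinity subgroups give good elements. -/

set_option autoImplicit false
set_option linter.unusedSectionVars false

namespace CfsgLib.Techniques.KInf

open Cfsg Subgroup CfsgLib.Techniques
open scoped commutatorElement

universe u

variable {G : Type u} [Group G] [Finite G] {p : ℕ} [Fact p.Prime]

/-- The data from the description of a critical subgroup by automorphisms. -/
theorem criticalData_pCore {A : Subgroup G} (hAT : A ≤ pCore p G)
    (hAchar : (A.subgroupOf (pCore p G)).Characteristic)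
    (hA2 : ⁅A, A⁆ ≤ centralizer (A : Set G))
    (hA3 : ⁅pCore p G, A⁆ ≤ A ⊓ centralizer (A : Set G))
    (hA5 : ∀ φ : MulAut ↥(pCore p G), (orderOf φ).Coprime p →
      (∀ a : ↥(pCore p G), (a : G) ∈ A → φ a = a) → φ = 1) : CriticalData p (pCore p G) A where
  le := hAT
  normal := by
    have hn : (pCore p G).Normal := pCore_normal p G
    have h : ((A.subgroupOf (pCore p G)).map (pCore p G).subtype).Normal := inferInstance
    rwa [map_subgroupOf_eq_of_le hAT] at h
  pgroup := CfsgLib.PCore.pCore_isPGroup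
  normalT := pCore_normal p G
  le_pCore := fun N hN hp => CfsgLib.PCore.le_pCore hN hp
  abelianQuot := hA2
  commT := hA3
  fixing := fun x hx hxA => by
    have hn : (pCore p G).Normal := pCore_normal p G
    let φ : MulAut ↥(pCore p G) := MulAut.conjNormal x
    have h1 : φ = 1 := hA5 φ (hx.coprime_dvd_left (orderOf_map_dvd _ x)) fun a ha => by
      apply Subtype.ext
      show x * (a : G) * x⁻¹ = a
      rw [← mem_centralizer_iff.1 hxA a ha, mul_inv_cancel_right]
    rw [mem_centralizer_iff]
    intro t ht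
    let t' : ↥(pCore p G) := ⟨t, ht⟩
    have h2 : x * t * x⁻¹ = t := congrArg Subtype.val (DFunLike.congr_fun h1 t')
    exact (mul_inv_eq_iff_eq_mul.1 h2).symm

theorem exists_goodElement (S : Sylow p G) {A : Subgroup G} (hd : CriticalData p (pCore p G) A)
    (hK : ¬ (inducedFunctor kInfLower (S : Subgroup G)).Normal ∨
      ¬ (inducedFunctor kInfUpper (S : Subgroup G)).Normal) :
    ∃ g ∈ (S : Subgroup G), g ∉ pCore p G ∧ GoodElement (pCore p G) A g := by
  by_contra hcon
  push Not at hcon
  set T := pCore p G with hTdef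
  have hTS : T ≤ (S : Subgroup G) := CfsgLib.PCore.pCore_le_sylow S
  have hAS : A ≤ (S : Subgroup G) := hd.le.trans hTS
  set f := (S : Subgroup G).subtype with hf
  have hinj : Function.Injective f := (S : Subgroup G).subtype_injective
  set T' := T.subgroupOf (S : Subgroup G) with hT'
  set A' := A.subgroupOf (S : Subgroup G) with hA'
  have mapA : A'.map f = A := map_subgroupOf_eq_of_le hAS
  have mapT : T'.map f = T := map_subgroupOf_eq_of_le hTS
  have hAn := hd.normal
  have hle : ∀ {B : Subgroup ↥(S : Subgroup G)} {C : Subgroup G}, B.map f ≤ C → C ≤ (S : Subgroup G) →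
      B ≤ C.subgroupOf (S : Subgroup G) := fun {B C} h _ => map_le_iff_le_comap.1 h
  have hA'two : A' ∈ classTwoSubgroups ↥(S : Subgroup G) := by
    rw [← mem_classTwo_map f hinj, mapA]; exact hd.abelianQuot
  have hBmap : ∀ B : Subgroup ↥(S : Subgroup G), B.map f ≤ (S : Subgroup G) := fun B => map_subtype_le B
  have key : ∀ n, A' ≤ kSeqOdd ↥(S : Subgroup G) n ∧ kSeqEven ↥(S : Subgroup G) n ≤ T' := by
    intro n
    induction n with
    | zero =>
      refine ⟨le_top, ?_⟩
      refine sSup_le fun B hB => hle (hd.lower_le hcon S.2 (hBmap B) ?_ ?_ fun A₀ hA₀n hA₀A h1 h2 => ?_) hTS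
      · exact ((mem_classTwo_map f hinj B).2 hB.1 : _)
      · rw [← mapA]; exact (le_normalizer_map_iff f hinj A' B).2 (le_top.trans hB.2.1)
      · exact test_apply f hinj hA₀n ((hA₀A.trans hAS).trans (range_subtype _).ge) hd.abelianQuot hA₀A hB le_top h1 h2
    | succ n ih =>
      have hA'up : A' ∈ kUpperStarFamily (kSeqEven ↥(S : Subgroup G) n) := by
        refine ⟨hA'two, ?_⟩
        rw [← map_le_map_iff_of_injective hinj, map_commutator, map_inf_centralizer f hinj, mapA]
        rw [commutator_comm]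
        exact (commutator_mono ((map_mono ih.2).trans mapT.le) le_rfl).trans hd.commT
      have hodd : A' ≤ kSeqOdd ↥(S : Subgroup G) (n + 1) := le_sSup hA'up
      refine ⟨hodd, sSup_le fun B hB => hle
        (hd.lower_le hcon S.2 (hBmap B) ?_ ?_ fun A₀ hA₀n hA₀A h1 h2 => ?_) hTS⟩
      · exact ((mem_classTwo_map f hinj B).2 hB.1 : _)
      · rw [← mapA]; exact (le_normalizer_map_iff f hinj A' B).2 (hodd.trans hB.2.1)
      · refine test_apply f hinj hA₀n ((hA₀A.trans hAS).trans (range_subtype _).ge) hd.abelianQuot hA₀A hB ?_ h1 h2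
        exact (comap_mono hA₀A).trans hodd
  have hodd : ∀ n, kSeqOdd ↥(S : Subgroup G) (n + 1) ≤ T' := fun n => by
    have hA'low : A' ≤ kSeqEven ↥(S : Subgroup G) n := by
      refine le_sSup ⟨hA'two, ?_, fun A₂ _ _ hN h1 h2 => ?_⟩
      · rw [normalizer_eq_top_iff.2 (inferInstance : A'.Normal)]; exact le_top
      · rw [← map_le_map_iff_of_injective hinj, map_commutator, map_inf_centralizer f hinj, mapA]
        refine hd.test_commutator_le hcon (hBmap A₂) ?_ ?_ ?_
        · rw [← mapA]; exact (le_normalizer_map_iff f hinj A' A₂).2 hN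
        · rw [← mapA, ← map_commutator, ← map_commutator, h1, Subgroup.map_bot]
        · rw [← mapA, ← map_inf_centralizer f hinj, ← map_commutator, ← map_commutator, h2,
            Subgroup.map_bot]
    refine sSup_le fun B hB => hle (hd.upper_le hcon (hBmap B) ?_) hTS
    rw [← mapA, ← map_commutator, ← map_inf_centralizer f hinj, map_le_map_iff_of_injective hinj]
    exact (commutator_mono le_rfl hA'low).trans hB.2
  obtain ⟨hL, hU⟩ := kInf_eq_of_terms_le T' fun n => ⟨(key n).2, hodd n⟩
  have hTn : T.Normal := pCore_normal p G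
  have hnorm : ∀ (W : ∀ (Q : Type u) [Group Q], Subgroup Q), IsCharPFunctor.{u} p W →
      (W T').map T'.subtype = W ↥(S : Subgroup G) →
      (∀ (Q R : Type u) [Group Q] [Group R] (e : Q ≃* R), (W Q).map e.toMonoidHom = W R) →
      (inducedFunctor W (S : Subgroup G)).Normal := by
    intro W hW hWT hmap
    have h1 : inducedFunctor W (S : Subgroup G) = inducedFunctor W T := by
      show (W ↥(S : Subgroup G)).map f = (W ↥T).map T.subtype
      rw [← hWT, ← hmap T' T (subgroupOfEquivOfLe hTS), Subgroup.map_map, Subgroup.map_map]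
      congr 1
    rw [h1]
    exact normalizer_eq_top_iff.1 (top_le_iff.1 ((normalizer_eq_top_iff.2 hTn).ge.trans
      (Fusion.normalizer_le_normalizer_inducedFunctor hW CfsgLib.PCore.pCore_isPGroup)))
  rcases hK with h | h
  · exact h (hnorm _ isCharPFunctor_kInfLower hL fun Q R _ _ e => map_kInfLower_equiv e)
  · exact h (hnorm _ isCharPFunctor_kInfUpper hU fun Q R _ _ e => map_kInfUpper_equiv e)
where
  test_apply {P : Type u} [Group P] (f : P →* G) (hinj : Function.Injective f) {A A₀ : Subgroup G}
      (hn : A₀.Normal) (hle : A₀ ≤ f.range) (hA : ⁅A, A⁆ ≤ centralizer (A : Set G)) (hA₀ : A₀ ≤ A)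
      {Q B : Subgroup P} (hB : B ∈ kLowerStarFamily Q) (hQ : A₀.comap f ≤ Q)
      (h1 : ⁅B.map f, ⁅A₀, A₀⁆⁆ = ⊥)
      (h2 : ⁅⁅B.map f ⊓ centralizer ((B.map f : Subgroup G) : Set G), A₀⁆, A₀⁆ = ⊥) :
      ⁅B.map f, A₀⁆ ≤ B.map f ⊓ centralizer ((B.map f : Subgroup G) : Set G) := by
    have e : (A₀.comap f).map f = A₀ := map_comap_eq_self hle
    rw [← e, ← map_commutator, ← map_inf_centralizer f hinj, map_le_map_iff_of_injective hinj]
    refine hB.2.2 _ ?_ hQ ?_ ?_ ?_
    · rw [← mem_classTwo_map f hinj, e]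
      exact (commutator_mono hA₀ hA₀).trans (hA.trans (centralizer_le (SetLike.coe_subset_coe.2 hA₀)))
    · rw [normalizer_eq_top_iff.2 (hn.comap f)]; exact le_top
    · rw [← map_eq_bot_iff_of_injective _ hinj, map_commutator, map_commutator, e, h1]
    · rw [← map_eq_bot_iff_of_injective _ hinj, map_commutator, map_commutator,
        map_inf_centralizer f hinj, e, h2]

end CfsgLib.Techniques.KInf
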