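import Cfsg.Agent.Lib.Techniques.KInfGlauberman
import Cfsg.Prelude.Def_Amalgam

/-! The quadratic element attached to the lower K-infinity subgroup, inside a subgroup. -/

set_option autoImplicit false
set_option linter.unusedSectionVars false

namespace CfsgLib.Techniques.KInf

open Cfsg Subgroup CfsgLib.Techniques

universe u

variable {G : Type u} [Group G] [Finite G] {p : ℕ} [Fact p.Prime]

theorem inf_centralizer_le_inducedFunctor_kInfLower {P : Subgroup G} (hP : IsPGroup p P) :
    P ⊓ centralizer (P : Set G) ≤ inducedFunctor (G := G) kInfLower P := by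
  intro x hx
  obtain ⟨hxP, hxC⟩ := mem_inf.1 hx
  exact ⟨⟨x, hxP⟩, center_le_kInfLower hP (mem_center_iff.2 fun y =>
    Subtype.ext (mem_centralizer_iff.1 hxC y y.2)), rfl⟩

theorem exists_quadratic_local (H T : Subgroup G) (hTH : T ≤ H) (hT : IsPGroup p T)
    (hi : ¬ p ∣ T.relIndex H)
    (hne : ¬ H ≤ normalizer ((inducedFunctor (G := G) kInfLower T : Subgroup G) : Set G)) :
    ∃ g : G, g ∈ T ∧ g ∉ pCoreOf p H ∧
      ⁅⁅pCoreOf p H ⊓ centralizer ((pCoreOf p H : Subgroup G) : Set G), zpowers g⁆, zpowers g⁆ = ⊥ := by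
  let S : Sylow p H := (hT.of_equiv (subgroupOfEquivOfLe hTH).symm).toSylow hi
  have hS : (S : Subgroup H).map H.subtype = T := map_subgroupOf_eq_of_le hTH
  have hinj : Function.Injective H.subtype := H.subtype_injective
  have hnn : ¬ (inducedFunctor (G := H) kInfLower (S : Subgroup H)).Normal := fun hn => hne (by
    have h1 := le_normalizer_map H.subtype (H := inducedFunctor (G := H) kInfLower (S : Subgroup H))
    rw [normalizer_eq_top_iff.2 hn, ← Fusion.inducedFunctor_map_injective isCharPFunctor_kInfLower _ hinj S.2,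
      hS, ← MonoidHom.range_eq_map, range_subtype] at h1
    exact h1)
  obtain ⟨g, hgS, hgP, -, hq, -⟩ := exists_element S (Or.inl hnn)
  refine ⟨g, hS ▸ mem_map_of_mem H.subtype hgS, fun h => hgP ?_, ?_⟩
  · obtain ⟨y, hy, hyg⟩ := h
    rwa [← hinj hyg]
  · have h2 := congrArg (Subgroup.map H.subtype) hq
    rw [map_commutator, map_commutator, map_inf_centralizer _ hinj, MonoidHom.map_zpowers,
      Subgroup.map_bot] at h2
    exact h2

end CfsgLib.Techniques.KInf
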