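import Cfsg.Agent.Lib.Techniques.KInfBasic

/-! Transport of the K-sequence along injective homomorphisms and to subgroups containing all terms. -/

set_option autoImplicit false

namespace CfsgLib.Techniques.KInf

open Cfsg

universe u

variable {P Q : Type*} [Group P] [Group Q] (f : Q →* P)

theorem map_inf_centralizer (hf : Function.Injective f) (B : Subgroup Q) :
    (B ⊓ Subgroup.centralizer (B : Set Q)).map f =
      B.map f ⊓ Subgroup.centralizer ((B.map f : Subgroup P) : Set P) := by
  ext y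
  simp only [Subgroup.mem_map, Subgroup.mem_inf, Subgroup.mem_centralizer_iff, SetLike.mem_coe]
  constructor
  · rintro ⟨x, ⟨hx, hc⟩, rfl⟩
    exact ⟨⟨x, hx, rfl⟩, by rintro _ ⟨b, hb, rfl⟩; rw [← map_mul, hc b hb, map_mul]⟩
  · rintro ⟨⟨x, hx, rfl⟩, hc⟩
    exact ⟨x, ⟨hx, fun b hb => hf (by rw [map_mul, map_mul]; exact hc _ ⟨b, hb, rfl⟩)⟩, rfl⟩

theorem commutator_le_iff_inf (B : Subgroup P) :
    B ∈ classTwoSubgroups P ↔ ⁅B, B⁆ ≤ B ⊓ Subgroup.centralizer (B : Set P) :=
  ⟨fun h => le_inf (Subgroup.commutator_le_self B) h, fun h => h.trans inf_le_right⟩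

theorem mem_classTwo_map (hf : Function.Injective f) (B : Subgroup Q) :
    B.map f ∈ classTwoSubgroups P ↔ B ∈ classTwoSubgroups Q := by
  rw [commutator_le_iff_inf, commutator_le_iff_inf, ← Subgroup.map_commutator,
    ← map_inf_centralizer f hf, Subgroup.map_le_map_iff_of_injective hf]

theorem mem_upper_map (hf : Function.Injective f) (R B : Subgroup Q) :
    B.map f ∈ kUpperStarFamily (R.map f) ↔ B ∈ kUpperStarFamily R := by
  refine and_congr (mem_classTwo_map f hf B) ?_
  rw [← Subgroup.map_commutator, ← map_inf_centralizer f hf,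
    Subgroup.map_le_map_iff_of_injective hf]

theorem le_normalizer_map_iff (hf : Function.Injective f) (R B : Subgroup Q) :
    R.map f ≤ Subgroup.normalizer ((B.map f : Subgroup P) : Set P) ↔
      R ≤ Subgroup.normalizer (B : Set Q) := by
  constructor
  · intro h r hr
    rw [Subgroup.mem_normalizer_iff]
    intro b
    have h1 := Subgroup.mem_normalizer_iff.1 (h (Subgroup.mem_map_of_mem f hr)) (f b)
    rw [← map_inv, ← map_mul, ← map_mul, Subgroup.mem_map_iff_mem hf,
      Subgroup.mem_map_iff_mem hf] at h1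
    exact h1
  · exact fun h => (Subgroup.map_mono h).trans (Subgroup.le_normalizer_map f)

theorem mem_lower_map (hf : Function.Injective f) (R B : Subgroup Q) :
    B.map f ∈ kLowerStarFamily (R.map f) ↔ B ∈ kLowerStarFamily R := by
  refine and_congr (mem_classTwo_map f hf B) (and_congr (le_normalizer_map_iff f hf R B) ?_)
  constructor
  · intro h A hA hAR hBA h1 h2
    rw [← Subgroup.map_le_map_iff_of_injective hf, Subgroup.map_commutator,
      map_inf_centralizer f hf]
    refine h (A.map f) ((mem_classTwo_map f hf A).2 hA) (Subgroup.map_mono hAR)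
      ((le_normalizer_map_iff f hf B A).2 hBA) ?_ ?_
    · rw [← Subgroup.map_commutator, ← Subgroup.map_commutator, h1, Subgroup.map_bot]
    · rw [← map_inf_centralizer f hf, ← Subgroup.map_commutator, ← Subgroup.map_commutator, h2,
        Subgroup.map_bot]
  · intro h A hA hAR hBA h1 h2
    obtain ⟨A, rfl⟩ : ∃ A₀ : Subgroup Q, A₀.map f = A :=
      ⟨A.comap f, Subgroup.map_comap_eq_self (hAR.trans (Subgroup.map_le_range f R))⟩
    rw [Subgroup.map_le_map_iff_of_injective hf] at hAR
    rw [← Subgroup.map_commutator, ← map_inf_centralizer f hf,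
      Subgroup.map_le_map_iff_of_injective hf]
    refine h A ((mem_classTwo_map f hf A).1 hA) hAR ((le_normalizer_map_iff f hf B A).1 hBA) ?_ ?_
    · rw [← Subgroup.map_commutator, ← Subgroup.map_commutator,
        Subgroup.map_eq_bot_iff_of_injective _ hf] at h1
      exact h1
    · rw [← map_inf_centralizer f hf, ← Subgroup.map_commutator, ← Subgroup.map_commutator,
        Subgroup.map_eq_bot_iff_of_injective _ hf] at h2
      exact h2

theorem map_sSup' (S : Set (Subgroup Q)) : (sSup S).map f = sSup ((Subgroup.map f) '' S) := by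
  rw [sSup_eq_iSup, Subgroup.map_iSup, sSup_image]
  exact iSup_congr fun _ => Subgroup.map_iSup _ _

theorem map_kSeqEven_of_bijective (hf : Function.Bijective f) {n : ℕ}
    (h : (kSeqOdd Q n).map f = kSeqOdd P n) : (kSeqEven Q n).map f = kSeqEven P n := by
  show (sSup (kLowerStarFamily (kSeqOdd Q n))).map f = sSup (kLowerStarFamily (kSeqOdd P n))
  rw [map_sSup', ← h]
  refine congrArg sSup (Set.ext fun B => ⟨?_, fun hB => ⟨B.comap f, ?_, ?_⟩⟩)
  · rintro ⟨C, hC, rfl⟩; exact (mem_lower_map f hf.1 _ C).2 hC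
  · exact (mem_lower_map f hf.1 _ _).1 (by rwa [Subgroup.map_comap_eq_self_of_surjective hf.2])
  · exact Subgroup.map_comap_eq_self_of_surjective hf.2 B

theorem map_kSeqOdd_of_bijective (hf : Function.Bijective f) :
    ∀ n, (kSeqOdd Q n).map f = kSeqOdd P n
  | 0 => Subgroup.map_top_of_surjective f hf.2
  | n + 1 => by
    show (sSup (kUpperStarFamily (kSeqEven Q n))).map f = sSup (kUpperStarFamily (kSeqEven P n))
    rw [map_sSup', ← map_kSeqEven_of_bijective f hf (map_kSeqOdd_of_bijective hf n)]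
    refine congrArg sSup (Set.ext fun B => ⟨?_, fun hB => ⟨B.comap f, ?_, ?_⟩⟩)
    · rintro ⟨C, hC, rfl⟩; exact (mem_upper_map f hf.1 _ C).2 hC
    · exact (mem_upper_map f hf.1 _ _).1 (by rwa [Subgroup.map_comap_eq_self_of_surjective hf.2])
    · exact Subgroup.map_comap_eq_self_of_surjective hf.2 B

theorem map_kInfLower_equiv {Q R : Type u} [Group Q] [Group R] (e : Q ≃* R) :
    (kInfLower Q).map e.toMonoidHom = kInfLower R := by
  rw [kInfLower, Subgroup.map_iSup]
  exact iSup_congr fun n => map_kSeqEven_of_bijective _ e.bijective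
    (map_kSeqOdd_of_bijective _ e.bijective n)

theorem map_kInfUpper_equiv {Q R : Type u} [Group Q] [Group R] (e : Q ≃* R) :
    (kInfUpper Q).map e.toMonoidHom = kInfUpper R := by
  rw [kInfUpper, Subgroup.map_iInf _ e.injective]
  exact iInf_congr fun n => map_kSeqOdd_of_bijective _ e.bijective n

theorem kInfLower_ne_bot {Q : Type u} [Group Q] [Finite Q] {p : ℕ} [Fact p.Prime] (hQ : IsPGroup p Q)
    [Nontrivial Q] : kInfLower Q ≠ ⊥ := fun h =>
  (hQ.bot_lt_center).ne' (le_bot_iff.1 ((center_le_kInfLower hQ).trans h.le))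

theorem kInfUpper_ne_bot {Q : Type u} [Group Q] [Finite Q] {p : ℕ} [Fact p.Prime] (hQ : IsPGroup p Q)
    [Nontrivial Q] : kInfUpper Q ≠ ⊥ := fun h =>
  (hQ.bot_lt_center).ne' (le_bot_iff.1 ((center_le_kInfUpper hQ).trans h.le))

theorem isCharPFunctor_kInfLower {p : ℕ} [Fact p.Prime] : IsCharPFunctor.{u} p kInfLower :=
  ⟨fun _ _ _ hQ _ => kInfLower_ne_bot hQ, fun _ _ _ _ _ _ e => map_kInfLower_equiv e⟩

theorem isCharPFunctor_kInfUpper {p : ℕ} [Fact p.Prime] : IsCharPFunctor.{u} p kInfUpper :=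
  ⟨fun _ _ _ hQ _ => kInfUpper_ne_bot hQ, fun _ _ _ _ _ _ e => map_kInfUpper_equiv e⟩

/-! ### A subgroup containing all terms has the same K-infinity subgroups -/

theorem kSeq_interleave (R : Subgroup P)
    (hR : ∀ n : ℕ, kSeqEven P n ≤ R ∧ kSeqOdd P (n + 1) ≤ R) (n : ℕ) :
    kSeqOdd P (n + 1) ≤ (kSeqOdd R n).map R.subtype ∧
    (kSeqOdd R (n + 1)).map R.subtype ≤ kSeqOdd P (n + 1) ∧
    (kSeqEven R n).map R.subtype ≤ kSeqEven P (n + 1) ∧
    kSeqEven P n ≤ (kSeqEven R n).map R.subtype := by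
  have hinj : Function.Injective R.subtype := R.subtype_injective
  have lift : ∀ B : Subgroup P, B ≤ R → (B.comap R.subtype).map R.subtype = B := fun B hB =>
    Subgroup.map_comap_eq_self (hB.trans (le_of_eq R.range_subtype.symm))
  -- an even term of `R` is below the next even term of `P`
  have step1 : ∀ k, kSeqOdd P (k + 1) ≤ (kSeqOdd R k).map R.subtype →
      (kSeqEven R k).map R.subtype ≤ kSeqEven P (k + 1) := by
    intro k hk
    show (sSup (kLowerStarFamily (kSeqOdd R k))).map R.subtype ≤ _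
    rw [map_sSup']
    refine sSup_le ?_
    rintro _ ⟨B, hB, rfl⟩
    exact le_sSup (kLowerStar_anti hk ((mem_lower_map _ hinj _ B).2 hB))
  have step2 : ∀ k, (kSeqOdd R k).map R.subtype ≤ kSeqOdd P k →
      kSeqEven P k ≤ (kSeqEven R k).map R.subtype := by
    intro k hk
    refine sSup_le fun B hB => ?_
    have hBR : B ≤ R := (le_sSup hB).trans (hR k).1
    rw [← lift B hBR]
    refine Subgroup.map_mono (le_sSup ((mem_lower_map _ hinj _ _).1 ?_))
    rw [lift B hBR]
    exact kLowerStar_anti hk hB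
  have step3 : ∀ k, kSeqEven P k ≤ (kSeqEven R k).map R.subtype →
      (kSeqOdd R (k + 1)).map R.subtype ≤ kSeqOdd P (k + 1) := by
    intro k hk
    show (sSup (kUpperStarFamily (kSeqEven R k))).map R.subtype ≤ _
    rw [map_sSup']
    refine sSup_le ?_
    rintro _ ⟨B, hB, rfl⟩
    exact le_sSup (kUpperStar_anti hk ((mem_upper_map _ hinj _ B).2 hB))
  have step4 : ∀ k, (kSeqEven R k).map R.subtype ≤ kSeqEven P (k + 1) →
      kSeqOdd P (k + 2) ≤ (kSeqOdd R (k + 1)).map R.subtype := by
    intro k hk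
    refine sSup_le fun B hB => ?_
    have hBR : B ≤ R := (le_sSup hB).trans (hR (k + 1)).2
    rw [← lift B hBR]
    refine Subgroup.map_mono (le_sSup ((mem_upper_map _ hinj _ _).1 ?_))
    rw [lift B hBR]
    exact kUpperStar_anti hk hB
  induction n with
  | zero =>
    have h1 : kSeqOdd P 1 ≤ (kSeqOdd R 0).map R.subtype := by
      show kSeqOdd P 1 ≤ (⊤ : Subgroup R).map R.subtype
      rw [← MonoidHom.range_eq_map, R.range_subtype]
      exact (hR 0).2
    have h4 := step2 0 le_top
    exact ⟨h1, step3 0 h4, step1 0 h1, h4⟩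
  | succ k ih =>
    obtain ⟨-, h2, h3, -⟩ := ih
    have h1 := step4 k h3
    have h4 := step2 (k + 1) h2
    exact ⟨h1, step3 (k + 1) h4, step1 (k + 1) h1, h4⟩

theorem kInf_eq_of_terms_le {P : Type u} [Group P] [Finite P] (R : Subgroup P)
    (hR : ∀ n : ℕ, kSeqEven P n ≤ R ∧ kSeqOdd P (n + 1) ≤ R) :
    (kInfLower R).map R.subtype = kInfLower P ∧ (kInfUpper R).map R.subtype = kInfUpper P := by
  refine ⟨?_, ?_⟩
  · rw [kInfLower, Subgroup.map_iSup, kInfLower]
    exact le_antisymm
      (iSup_le fun n => ((kSeq_interleave R hR n).2.2.1).trans (le_iSup (kSeqEven P) (n + 1)))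
      (iSup_le fun n => ((kSeq_interleave R hR n).2.2.2).trans
        (le_iSup (fun k => (kSeqEven R k).map R.subtype) n))
  · rw [kInfUpper, Subgroup.map_iInf _ R.subtype_injective, kInfUpper]
    refine le_antisymm (le_iInf fun n => ?_) (le_iInf fun n => ?_)
    · exact (iInf_le (fun k => (kSeqOdd R k).map R.subtype) (n + 1)).trans
        ((kSeq_interleave R hR n).2.1.trans (kSeqOdd_succ_le n))
    · exact (iInf_le (kSeqOdd P) (n + 1)).trans (kSeq_interleave R hR n).1

end CfsgLib.Techniques.KInf
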