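import Cfsg.Agent.Lib.Techniques.InvCompl
import Cfsg.Agent.Lib.Techniques.ChiefLattice
import Cfsg.Agent.Lib.Techniques.KInfMap
import Cfsg.Agent.Lib.Techniques.Sections

/-!
If a K-infinity subgroup of a Sylow subgroup is not normal, some element outside `O_p(G)` acts with
small degree on a critical subgroup of `O_p(G)` (Glauberman).
-/

set_option autoImplicit false
set_option linter.unusedSectionVars false

namespace CfsgLib.Techniques.KInf

open Cfsg Subgroup CfsgLib.Techniques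
open scoped commutatorElement

section Elementary

variable {G : Type*} [Group G]

theorem bilin_left {A : Subgroup G} (hA : ⁅A, A⁆ ≤ centralizer (A : Set G)) {x y z : G} (hx : x ∈ A)
    (hy : y ∈ A) (hz : z ∈ A) : ⁅x * y, z⁆ = ⁅x, z⁆ * ⁅y, z⁆ := by
  rw [commutatorElement_mul_left_eq_conj_mul,
    mem_centralizer_iff.1 (hA (commutator_mem_commutator hy hz)) x hx, mul_inv_cancel_right]
  exact mem_centralizer_iff.1 (hA (commutator_mem_commutator hx hz)) _
    (commutator_le_self A (commutator_mem_commutator hy hz))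

theorem bilin_right {A : Subgroup G} (hA : ⁅A, A⁆ ≤ centralizer (A : Set G)) {x y z : G} (hx : x ∈ A)
    (hy : y ∈ A) (hz : z ∈ A) : ⁅x, y * z⁆ = ⁅x, y⁆ * ⁅x, z⁆ := by
  rw [commutatorElement_mul_right_eq_mul_conj, mul_assoc, mul_assoc,
    ← mul_assoc y ⁅x, z⁆, mem_centralizer_iff.1 (hA (commutator_mem_commutator hx hz)) y hy,
    mul_inv_cancel_right]

end Elementary

variable {G : Type*} [Group G] [Finite G] {p : ℕ} [Fact p.Prime]

/-- The properties of a critical subgroup `A` of `T = O_p(G)` that are used. -/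
structure CriticalData (p : ℕ) (T A : Subgroup G) : Prop where
  le : A ≤ T
  normal : A.Normal
  pgroup : IsPGroup p T
  normalT : T.Normal
  le_pCore : ∀ N : Subgroup G, N.Normal → IsPGroup p N → N ≤ T
  abelianQuot : ⁅A, A⁆ ≤ centralizer (A : Set G)
  commT : ⁅T, A⁆ ≤ A ⊓ centralizer (A : Set G)
  fixing : ∀ x : G, (orderOf x).Coprime p → x ∈ centralizer (A : Set G) → x ∈ centralizer (T : Set G)

/-- The element sought: it lies outside `T` and acts on `A` with small degree. -/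
def GoodElement (T A : Subgroup G) (g : G) : Prop :=
  iterCommutator A (zpowers g) 3 ≤ A ⊓ centralizer (A : Set G) ∧
    ⁅⁅A ⊓ centralizer (A : Set G), zpowers g⁆, zpowers g⁆ = ⊥ ∧
    (centralizer (T : Set G) ≤ T → ∃ U V : Subgroup G, IsChiefFactor U V ∧ U ≤ A ∧
      ⁅⁅U, zpowers g⁆, zpowers g⁆ ≤ V ∧ ¬ ⁅U, zpowers g⁆ ≤ V)

variable {T A : Subgroup G} (hd : CriticalData p T A)
include hd

theorem CriticalData.center_normal : (A ⊓ centralizer (A : Set G)).Normal := by
  have := hd.normal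
  infer_instance

theorem CriticalData.not_central {g : G} (hgT : g ∉ T) (hC : centralizer (T : Set G) ≤ T) :
    ∃ U V : Subgroup G, IsChiefFactor U V ∧ U ≤ A ∧ ¬ ⁅U, zpowers g⁆ ≤ V := by
  by_contra hcon
  push Not at hcon
  have hNp : IsPGroup p (normalClosure {g} : Subgroup G) := isPGroup_of_coprime_eq_one fun x hx hc => by
    have h1 : x ∈ centralizer (A : Set G) := by
      refine mem_centralizer_of_forall_chiefFactor hd.normal (hd.pgroup.to_le hd.le) hc
        fun X Y hXY hXA => ?_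
      have := hXY.2.1
      have := hXY.2.2.1
      rw [← le_sectionKernel_iff, zpowers_le]
      have hn : (sectionKernel X Y).Normal := sectionKernel_normal
      refine normalClosure_le_normal (Set.singleton_subset_iff.2 ?_) hx
      exact zpowers_le.1 (le_sectionKernel_iff.2 (hcon X Y hXY hXA))
    exact eq_one_of_coprime_of_mem hd.pgroup (hC (hd.fixing x hc h1)) hc
  exact hgT (hd.le_pCore _ normalClosure_normal hNp (subset_normalClosure rfl))

theorem CriticalData.quad_factor {H : Subgroup G}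
    (h1 : ⁅⁅A, H⁆, H⁆ ≤ A ⊓ centralizer (A : Set G))
    (h2 : ⁅⁅A ⊓ centralizer (A : Set G), H⁆, H⁆ = ⊥) {U V : Subgroup G} (h : IsChiefFactor U V)
    (hUA : U ≤ A) : ⁅⁅U, H⁆, H⁆ ≤ V := by
  have hUn := h.2.1
  have hZn := hd.center_normal
  by_cases hle : U ⊓ (A ⊓ centralizer (A : Set G)) ≤ V
  · exact (le_inf ((commutator_mono (commutator_le_left U H) le_rfl).trans (commutator_le_left U H))
      ((commutator_mono (commutator_mono hUA le_rfl) le_rfl).trans h1)).trans hle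
  · obtain ⟨-, h4⟩ := isChiefFactor_inf h hZn hle
    rw [← h4, sup_comm]
    refine (iterCommutator_sup_le (B := H) h.2.2.1 2).trans (sup_le le_rfl ?_)
    exact ((commutator_mono (commutator_mono inf_le_right le_rfl) le_rfl).trans h2.le).trans bot_le

/-- A fully quadratic element outside `T` is good. -/
theorem CriticalData.good_of_quadratic {g : G} (hgT : g ∉ T)
    (h1 : ⁅⁅A, zpowers g⁆, zpowers g⁆ ≤ A ⊓ centralizer (A : Set G))
    (h2 : ⁅⁅A ⊓ centralizer (A : Set G), zpowers g⁆, zpowers g⁆ = ⊥) : GoodElement T A g := by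
  refine ⟨?_, h2, fun hC => ?_⟩
  · have := hd.center_normal
    exact (commutator_mono h1 le_rfl).trans (commutator_le_left _ _)
  · obtain ⟨U, V, hUV, hUA, hne⟩ := hd.not_central hgT hC
    exact ⟨U, V, hUV, hUA, hd.quad_factor h1 h2 hUV hUA, hne⟩

variable {S : Subgroup G} (hno : ∀ g ∈ S, g ∉ T → ¬ GoodElement T A g)
include hno

theorem CriticalData.test_commutator_le {A₂ : Subgroup G} (hA₂S : A₂ ≤ S)
    (hN : A ≤ normalizer (A₂ : Set G)) (h1 : ⁅A, ⁅A₂, A₂⁆⁆ = ⊥)
    (h2 : ⁅⁅A ⊓ centralizer (A : Set G), A₂⁆, A₂⁆ = ⊥) : ⁅A, A₂⁆ ≤ A ⊓ centralizer (A : Set G) := by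
  have := hd.normal
  have hcomm : ⁅A, A₂⁆ ≤ A₂ := commutator_le.2 fun a ha x hx => by
    rw [commutatorElement_def]
    exact mul_mem ((mem_normalizer_iff.1 (hN ha) x).1 hx) (inv_mem hx)
  have hle : A₂ ≤ T := fun g hg => by
    by_contra hgT
    have hz : zpowers g ≤ A₂ := zpowers_le.2 hg
    refine hno g (hA₂S hg) hgT (hd.good_of_quadratic hgT ?_ ?_)
    · refine (commutator_mono (commutator_mono le_rfl hz) hz).trans (le_inf ?_ ?_)
      · exact (commutator_mono (commutator_le_left A A₂) le_rfl).trans (commutator_le_left A A₂)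
      · exact (commutator_mono hcomm le_rfl).trans (le_centralizer_iff.1 (commutator_eq_bot_iff_le_centralizer.1 h1))
    · exact le_bot_iff.1 ((commutator_mono (commutator_mono le_rfl hz) hz).trans h2.le)
  rw [commutator_comm]
  exact (commutator_mono hle le_rfl).trans hd.commT

theorem CriticalData.upper_le {B : Subgroup G} (hBS : B ≤ S)
    (h : ⁅B, A⁆ ≤ B ⊓ centralizer (B : Set G)) : B ≤ T := fun g hg => by
  by_contra hgT
  have hz : zpowers g ≤ B := zpowers_le.2 hg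
  have h0 : ⁅⁅A, zpowers g⁆, zpowers g⁆ = ⊥ := by
    refine le_bot_iff.1 ((commutator_mono (commutator_mono le_rfl hz) hz).trans (le_of_eq ?_))
    rw [commutator_comm A B, commutator_eq_bot_iff_le_centralizer]
    exact h.trans inf_le_right
  refine hno g (hBS hg) hgT (hd.good_of_quadratic hgT (h0.le.trans bot_le) ?_)
  exact le_bot_iff.1 ((commutator_mono (commutator_mono inf_le_left le_rfl) le_rfl).trans h0.le)

theorem CriticalData.lower_le (hS : IsPGroup p S) {B : Subgroup G} (hBS : B ≤ S)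
    (hBc : ⁅B, B⁆ ≤ centralizer (B : Set G)) (hAB : A ≤ normalizer (B : Set G))
    (htest : ∀ A₀ : Subgroup G, A₀.Normal → A₀ ≤ A → ⁅B, ⁅A₀, A₀⁆⁆ = ⊥ →
      ⁅⁅B ⊓ centralizer (B : Set G), A₀⁆, A₀⁆ = ⊥ → ⁅B, A₀⁆ ≤ B ⊓ centralizer (B : Set G)) :
    B ≤ T := by
  classical
  by_contra hBT
  have hAn := hd.normal
  set Z := A ⊓ centralizer (A : Set G) with hZdef
  have hZn : Z.Normal := hd.center_normal
  have hZA : ⁅Z, A⁆ = ⊥ := commutator_eq_bot_iff_le_centralizer.2 inf_le_right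
  have hAAZ : ⁅A, A⁆ ≤ Z := le_inf (commutator_le_self A) hd.abelianQuot
  have hcomm : ⁅A, B⁆ ≤ B := commutator_le.2 fun a ha x hx => by
    rw [commutatorElement_def]
    exact mul_mem ((mem_normalizer_iff.1 (hAB ha) x).1 hx) (inv_mem hx)
  have hBBc : ⁅⁅B, B⁆, B⁆ = ⊥ := commutator_eq_bot_iff_le_centralizer.2 hBc
  have hABB : ⁅⁅⁅A, B⁆, B⁆, B⁆ = ⊥ :=
    le_bot_iff.1 ((commutator_mono (commutator_mono hcomm le_rfl) le_rfl).trans hBBc.le)
  have hcond1 : ∀ b ∈ B, iterCommutator A (zpowers b) 3 ≤ Z := fun b hb =>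
    ((commutator_mono (commutator_mono (commutator_mono le_rfl (zpowers_le.2 hb)) (zpowers_le.2 hb))
      (zpowers_le.2 hb)).trans hABB.le).trans bot_le
  have hBZ : ⁅⁅Z, B⁆, B⁆ = ⊥ := by
    have hZZ : ⁅Z, Z⁆ = ⊥ := le_bot_iff.1 ((commutator_mono le_rfl inf_le_left).trans hZA.le)
    have h1 := htest Z hZn inf_le_left (by rw [hZZ, commutator_bot_right])
      (le_bot_iff.1 ((commutator_mono (commutator_le_right _ Z) le_rfl).trans hZZ.le))
    rw [commutator_comm Z B, commutator_eq_bot_iff_le_centralizer]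
    exact h1.trans inf_le_right
  have hcond2 : ∀ b ∈ B, ⁅⁅Z, zpowers b⁆, zpowers b⁆ = ⊥ := fun b hb =>
    le_bot_iff.1 ((commutator_mono (commutator_mono le_rfl (zpowers_le.2 hb)) (zpowers_le.2 hb)).trans
      hBZ.le)
  by_cases hC : centralizer (T : Set G) ≤ T
  swap
  · obtain ⟨g, hg, hgT⟩ := SetLike.not_le_iff_exists.1 hBT
    exact hno g (hBS hg) hgT ⟨hcond1 g hg, hcond2 g hg, fun h => absurd h hC⟩
  have hnoquad : ∀ b ∈ B, ∀ U V : Subgroup G, IsChiefFactor U V → U ≤ A →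
      ⁅⁅U, zpowers b⁆, zpowers b⁆ ≤ V → ⁅U, zpowers b⁆ ≤ V := by
    intro b hb U V hUV hUA hq
    by_contra hne
    by_cases hbT : b ∈ T
    · exact hne ((commutator_mono le_rfl (zpowers_le.2 hbT)).trans
        (commutator_le_of_isPGroup hUV (hd.pgroup.to_le (hUA.trans hd.le)) hd.normalT hd.pgroup))
    · exact hno b (hBS hb) hbT ⟨hcond1 b hb, hcond2 b hb, fun _ => ⟨U, V, hUV, hUA, hq, hne⟩⟩
  rcases (Fact.out : p.Prime).eq_two_or_odd with hp2 | hodd
  · -- an element whose square lies in `T`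
    obtain ⟨g, hg, hgT⟩ := SetLike.not_le_iff_exists.1 hBT
    obtain ⟨k, hk⟩ := hS ⟨g, hBS hg⟩
    have hk' : g ^ p ^ k ∈ T := by
      have : g ^ p ^ k = 1 := congrArg Subtype.val hk
      rw [this]; exact one_mem _
    obtain ⟨m, hm, hmin⟩ : ∃ m, g ^ p ^ m ∈ T ∧ ∀ i < m, g ^ p ^ i ∉ T :=
      ⟨Nat.find ⟨k, hk'⟩, Nat.find_spec (⟨k, hk'⟩ : ∃ m, g ^ p ^ m ∈ T), fun i hi => Nat.find_min _ hi⟩
    obtain ⟨m, rfl⟩ : ∃ n, m = n + 1 := by
      rcases m with - | n
      · exact absurd (by simpa using hm) hgT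
      · exact ⟨n, rfl⟩
    set b := g ^ p ^ m with hb
    have hbB : b ∈ B := pow_mem hg _
    have hb2 : b ^ 2 ∈ T := by
      rw [hb, ← pow_mul]
      convert hm using 2
      rw [pow_succ, hp2]
    obtain ⟨U, V, hUV, hUA, hne⟩ := hd.not_central (hmin m (Nat.lt_succ_self m)) hC
    refine hne (hnoquad b hbB U V hUV hUA ?_)
    have hUp : IsPGroup p U := hd.pgroup.to_le (hUA.trans hd.le)
    have hUn := hUV.2.1
    have hVn := hUV.2.2.1
    have htriv : ∀ t ∈ T, ∀ u ∈ U, ⁅u, t⁆ ∈ V := fun t ht u hu =>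
      commutator_le_of_isPGroup hUV hUp hd.normalT hd.pgroup (commutator_mem_commutator hu ht)
    set π := QuotientGroup.mk' V
    have hV1 : ∀ {x : G}, x ∈ V → π x = 1 := fun {x} hx => (QuotientGroup.eq_one_iff x).2 hx
    have hkey : ∀ u ∈ U, π b * π ⁅u, b⁆ = π ⁅u, b⁆ * π b := by
      intro u hu
      have hsq : π u * π u = 1 := by
        rw [← map_mul]
        refine hV1 ?_
        have := Fusion.chiefFactor_pow_mem hUV hUp hu
        rwa [hp2, pow_two] at this
      have hab : Commute (π u) (π b * π u * (π b)⁻¹) := by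
        rw [← map_inv, ← map_mul, ← map_mul, Commute, SemiconjBy,
          ← commutatorElement_eq_one_iff_mul_comm, ← map_commutatorElement]
        exact hV1 (Fusion.chiefFactor_commutative hUV hUp
          (commutator_mem_commutator hu (hUn.conj_mem u hu b)))
      have hb2u : π b * π b * π u = π u * (π b * π b) := by
        rw [← map_mul π b b]
        refine ((commutatorElement_eq_one_iff_mul_comm).1 ?_).symm
        rw [← map_commutatorElement]
        exact hV1 (htriv _ (by simpa [pow_two] using hb2) u hu)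
      have hinv : (π u)⁻¹ = π u := inv_eq_of_mul_eq_one_left hsq
      have hw : π ⁅u, b⁆ = π u * (π b * π u * (π b)⁻¹) := by
        rw [map_commutatorElement, commutatorElement_def, hinv]; group
      rw [hw]
      calc π b * (π u * (π b * π u * (π b)⁻¹))
          = (π b * π u * (π b)⁻¹) * (π b * π b * π u * (π b)⁻¹) := by group
        _ = (π b * π u * (π b)⁻¹) * π u * π b := by rw [hb2u]; group
        _ = π u * (π b * π u * (π b)⁻¹) * π b := by rw [hab.eq]
    rw [commutator_le]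
    intro w hw c hc
    rw [← QuotientGroup.eq_one_iff (N := V)]
    show π ⁅w, c⁆ = 1
    rw [map_commutatorElement, commutatorElement_eq_one_iff_mul_comm]
    refine Eq.symm (mem_centralizer_iff.1 (?_ : π w ∈ centralizer ((zpowers b).map π : Set (G ⧸ V)))
      (π c) (mem_map_of_mem π hc))
    refine (?_ : ⁅U, zpowers b⁆ ≤ (centralizer ((zpowers b).map π : Set (G ⧸ V))).comap π) hw
    rw [commutator_le]
    rintro u hu _ ⟨n, rfl⟩
    rw [mem_comap, MonoidHom.map_zpowers, mem_centralizer_iff]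
    rintro _ ⟨i, rfl⟩
    refine Commute.zpow_left ?_ i
    obtain ⟨j, rfl | rfl⟩ : ∃ j, n = 2 * j ∨ n = 2 * j + 1 := ⟨n / 2, by omega⟩
    · have h1 : π ⁅u, b ^ (2 * j)⁆ = 1 := by
        refine hV1 (htriv _ ?_ u hu)
        rw [zpow_mul]
        exact zpow_mem (by simpa using hb2) j
      rw [show b ^ (2 * j) = (fun x => b ^ x) (2 * j) from rfl] at h1
      rw [h1]
      exact Commute.one_right _
    · have h1 : π ⁅u, b ^ (2 * j + 1)⁆ = π ⁅u, b⁆ := by
        rw [add_comm, zpow_add, zpow_one, commutatorElement_mul_right_eq_mul_conj,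
          map_mul, map_mul, map_mul, hV1 (htriv (b ^ (2 * j)) ?_ u hu)]
        · simp
        · rw [zpow_mul]; exact zpow_mem (by simpa using hb2) j
      rw [show b ^ (2 * j + 1) = (fun x => b ^ x) (2 * j + 1) from rfl] at h1
      rw [h1]
      exact hkey u hu
  -- `p` odd
  set ZB := B ⊓ centralizer (B : Set G) with hZBdef
  have hZBA : ⁅⁅ZB, A⁆, A⁆ = ⊥ := by
    have hle : ZB ≤ T := fun z hz => by
      by_contra hzT
      have h0 : ⁅⁅A, zpowers z⁆, zpowers z⁆ = ⊥ := by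
        refine le_bot_iff.1 ((commutator_mono
          ((commutator_mono le_rfl (zpowers_le.2 (mem_inf.1 hz).1)).trans hcomm)
          (zpowers_le.2 (mem_inf.1 hz).2)).trans (le_of_eq ?_))
        exact commutator_eq_bot_iff_le_centralizer.2 (le_centralizer_iff.1 le_rfl)
      exact hno z (hBS (mem_inf.1 hz).1) hzT
        (hd.good_of_quadratic hzT (h0.le.trans bot_le) (hcond2 z (mem_inf.1 hz).1))
    exact le_bot_iff.1 ((commutator_mono ((commutator_mono hle le_rfl).trans hd.commT) le_rfl).trans hZA.le)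
  have hPZ : ∀ U V : Subgroup G, IsChiefFactor U V → U ≤ Z → ⁅U, B⁆ ≤ V := by
    intro U V hUV hUZ
    refine commutator_le.2 fun u hu b hb => hnoquad b hb U V hUV (hUZ.trans inf_le_left) ?_
      (commutator_mem_commutator hu (mem_zpowers b))
    exact ((commutator_mono (commutator_mono hUZ le_rfl) le_rfl).trans (hcond2 b hb).le).trans bot_le
  obtain ⟨g, hg, hgT⟩ := SetLike.not_le_iff_exists.1 hBT
  obtain ⟨U₀, V₀, hUV₀, hUA₀, hne₀⟩ := hd.not_central hgT hC
  set 𝒳 := {X : Subgroup G | Z ≤ X ∧ X ≤ A ∧ ∃ Y, IsChiefFactor X Y ∧ Z ≤ Y ∧ ¬ ⁅X, B⁆ ≤ Y} with h𝒳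
  have hlift : ∀ U V : Subgroup G, IsChiefFactor U V → U ≤ A → ¬ ⁅U, B⁆ ≤ V → U ⊔ Z ∈ 𝒳 := by
    intro U V hUV hUA hne
    by_cases hle : U ⊓ Z ≤ V
    · obtain ⟨h1, h2⟩ := isChiefFactor_sup hUV hZn hle
      refine ⟨le_sup_right, sup_le hUA inf_le_left, V ⊔ Z, h1, le_sup_right, fun h => hne ?_⟩
      have := hUV.2.1
      exact (le_inf (commutator_le_left U B) ((commutator_mono le_sup_left le_rfl).trans h)).trans h2.le
    · exact absurd (commutator_le_of_factors_below hUV hZn hPZ hle) hne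
  obtain ⟨X, ⟨hZX, hXA, Y, hXY, hZY, hne⟩, hXmin⟩ := (Set.toFinite 𝒳).exists_minimal
    ⟨U₀ ⊔ Z, hlift U₀ V₀ hUV₀ hUA₀
      fun h => hne₀ ((commutator_mono le_rfl (zpowers_le.2 hg)).trans h)⟩
  have hXn := hXY.2.1
  have hYn := hXY.2.2.1
  have hYX := hXY.1.le
  have hPY : ∀ U V : Subgroup G, IsChiefFactor U V → U ≤ Y → ⁅U, B⁆ ≤ V := by
    intro U V hUV hUY
    by_contra h
    exact hXY.1.not_ge ((hXmin (hlift U V hUV (hUY.trans (hYX.trans hXA)) h)
      (sup_le (hUY.trans hYX) hZX)).trans (sup_le hUY hZY))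
  set D := normalClosure (B : Set G) with hDdef
  have hDn : D.Normal := normalClosure_normal
  have hBD : B ≤ D := subset_normalClosure
  have hYp : IsPGroup p Y := hd.pgroup.to_le (hYX.trans (hXA.trans hd.le))
  have hcop : ∀ x ∈ D, (orderOf x).Coprime p → x ∈ centralizer (Y : Set G) := fun x hx hc => by
    refine mem_centralizer_of_forall_chiefFactor hYn hYp hc fun U V hUV hUY => ?_
    have := hUV.2.1
    have := hUV.2.2.1
    have hn : (sectionKernel U V).Normal := sectionKernel_normal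
    rw [← le_sectionKernel_iff, zpowers_le]
    exact normalClosure_le_normal (le_sectionKernel_iff.2 (hPY U V hUV hUY)) hx
  set L := centralizer (Y : Set G) ⊓ D with hLdef
  have hLn : L.Normal := inferInstance
  have hLY : ⁅L, Y⁆ = ⊥ := commutator_eq_bot_iff_le_centralizer.2 inf_le_left
  have hLne : ¬ ⁅X, L⁆ ≤ Y := fun h => hne <| by
    refine le_sectionKernel_iff.1 (hBD.trans (le_sectionKernel_of_coprime hXY
      (hd.pgroup.to_le (hXA.trans hd.le)) hDn fun x hx hc => ?_))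
    exact le_sectionKernel_iff.2 h (mem_inf.2 ⟨hcop x hx hc, hx⟩)
  have hXgen : X ≤ ⁅X, L⁆ ⊔ Z := by
    set X' := ⁅X, L⁆ ⊔ Z with hX'
    have hX'X : X' ≤ X := sup_le (commutator_le_left X L) hZX
    have hX'Y : ¬ X ⊓ X' ≤ Y := fun h => hLne ((le_inf (commutator_le_left X L) le_sup_left).trans h)
    obtain ⟨h1, h2⟩ := isChiefFactor_inf hXY inferInstance hX'Y
    rw [inf_eq_right.2 hX'X] at h1 h2
    refine hXmin ⟨le_sup_right, hX'X.trans hXA, Y ⊓ X', h1, le_inf hZY le_sup_right, fun h => hne ?_⟩ hX'X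
    rw [← h2, sup_comm]
    exact commutator_sup_le hYn (h.trans inf_le_left)
  have hXXA : ⁅X, X⁆ ≤ Z := (commutator_mono hXA hXA).trans hAAZ
  have hXYc : ⁅X, Y⁆ = ⊥ := by
    rw [commutator_eq_bot_iff_le_centralizer]
    refine hXgen.trans (sup_le ?_ ?_)
    · rw [← commutator_eq_bot_iff_le_centralizer]
      refine commutator_commutator_eq_bot_of_rotate ?_ ?_
      · rw [hLY, commutator_bot_left]
      · refine le_bot_iff.1 ((commutator_mono
          ((commutator_mono (hYX.trans hXA) hXA).trans (hAAZ.trans hZY)) le_rfl).trans ?_)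
        rw [commutator_comm, hLY]
    · exact inf_le_right.trans (centralizer_le (SetLike.coe_subset_coe.2 (hYX.trans hXA)))
  have hXab : ⁅X, X⁆ ≤ Y := hXXA.trans hZY
  by_cases hcase : ⁅B, ⁅X, X⁆⁆ = ⊥
  · have h1 := htest X hXn hXA hcase (le_bot_iff.1
      ((commutator_mono (commutator_mono le_rfl hXA) hXA).trans hZBA.le))
    refine hne (commutator_le.2 fun x hx b hb => hnoquad b hb X Y hXY hXA ?_
      (commutator_mem_commutator hx (mem_zpowers b)))
    refine ((commutator_mono (commutator_mono le_rfl (zpowers_le.2 hb)) (zpowers_le.2 hb)).trans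
      (le_of_eq ?_)).trans bot_le
    rw [commutator_comm X B, commutator_eq_bot_iff_le_centralizer]
    exact h1.trans inf_le_right
  rw [commutator_eq_bot_iff_le_centralizer] at hcase
  obtain ⟨b, hb, hbC⟩ := SetLike.not_le_iff_exists.1 hcase
  apply hbC
  -- everything below is inside `A`
  set H := L ⊔ zpowers b with hHdef
  have hHD : H ≤ D := sup_le inf_le_right (zpowers_le.2 (hBD hb))
  have hc := invCompl_of_isChiefFactor hXY hXab hLn hDn
    (fun x hx hc => mem_inf.2 ⟨hcop x hx hc, hx⟩) H le_sup_left hHD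
  have hfix : ∀ {x y : G}, x ∈ Y → y ∈ X → ⁅x, y⁆ = 1 := fun {x y} hx hy => by
    have h1 : ⁅y, x⁆ = 1 := mem_bot.1 (hXYc ▸ commutator_mem_commutator hy hx)
    rw [← commutatorElement_inv, h1, inv_one]
  let R₀ : Subgroup G :=
    { carrier := {x | x ∈ X ∧ ∀ y ∈ X, Commute b ⁅x, y⁆}
      one_mem' := ⟨one_mem _, fun y _ => by rw [commutatorElement_one_left]; exact Commute.one_right b⟩
      mul_mem' := by
        rintro u v ⟨hu, hu'⟩ ⟨hv, hv'⟩
        refine ⟨mul_mem hu hv, fun y hy => ?_⟩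
        rw [bilin_left hd.abelianQuot (hXA hu) (hXA hv) (hXA hy)]
        exact (hu' y hy).mul_right (hv' y hy)
      inv_mem' := by
        rintro u ⟨hu, hu'⟩
        refine ⟨inv_mem hu, fun y hy => ?_⟩
        have h1 := bilin_left hd.abelianQuot (hXA (inv_mem hu)) (hXA hu) (hXA hy)
        rw [inv_mul_cancel, commutatorElement_one_left] at h1
        rw [eq_inv_of_mul_eq_one_left h1.symm]
        exact (hu' y hy).inv_right }
  have hR₀X : R₀ ≤ X := fun x hx => hx.1
  have hYR₀ : Y ≤ R₀ := fun y hy =>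
    ⟨hYX hy, fun x hx => by rw [hfix hy hx]; exact Commute.one_right b⟩
  have hR₀N : H ≤ normalizer (R₀ : Set G) := by
    refine sup_le (le_normalizer_of_forall_map_le ?_) (le_normalizer_of_forall_map_le ?_)
    all_goals
      rintro h hh _ ⟨x, ⟨hx, hx'⟩, rfl⟩
      refine ⟨hXn.conj_mem x hx h, fun y hy => ?_⟩
      have hy' : h⁻¹ * y * h ∈ X := hXn.conj_mem' y hy h
      have e : ⁅(MulAut.conj h).toMonoidHom x, y⁆ = h * ⁅x, h⁻¹ * y * h⁆ * h⁻¹ := by
        simp [commutatorElement_def, mul_assoc]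
      rw [e]
    · rw [← mem_centralizer_iff.1 (mem_inf.1 hh).1 _ (hXab (commutator_mem_commutator hx hy')),
        mul_inv_cancel_right]
      exact hx' _ hy'
    · obtain ⟨i, rfl⟩ := hh
      rw [((hx' _ hy').zpow_left i).eq, mul_inv_cancel_right]
      exact hx' _ hy'
  obtain ⟨W, hYW, hWX, hWN, hsup, hinf⟩ := hc R₀ hYR₀ hR₀X hR₀N
  -- the operator `u ↦ ⁅b, u⁆`
  have hcX : ∀ {u}, u ∈ X → ⁅b, u⁆ ∈ X := fun {u} hu => by
    rw [commutatorElement_def]
    exact mul_mem (hXn.conj_mem u hu b) (inv_mem hu)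
  have hcW : ∀ {u}, u ∈ W → ⁅b, u⁆ ∈ W := fun {u} hu => by
    rw [commutatorElement_def]
    exact mul_mem ((mem_normalizer_iff.1 (hWN (mem_sup_right (mem_zpowers b))) u).1 hu) (inv_mem hu)
  have hflip : ∀ u : G, u * b * u⁻¹ * b⁻¹ = ⁅b, u⁆⁻¹ := fun u => by
    rw [commutatorElement_inv, commutatorElement_def]
  have hcB : ∀ {u}, u ∈ X → ⁅b, u⁆ ∈ B := fun {u} hu => by
    have h1 := hcomm (commutator_mem_commutator (hXA hu) hb)
    rw [← commutatorElement_inv]
    exact inv_mem h1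
  have hccB : ∀ {u}, u ∈ X → ⁅b, ⁅b, u⁆⁆ ∈ ZB := fun {u} hu =>
    mem_inf.2 ⟨commutator_le_self B (commutator_mem_commutator hb (hcB hu)),
      hBc (commutator_mem_commutator hb (hcB hu))⟩
  have hccc : ∀ {u}, u ∈ X → Commute b ⁅b, ⁅b, u⁆⁆ := fun {u} hu =>
    mem_centralizer_iff.1 (mem_inf.1 (hccB hu)).2 b hb
  have hZ2 : ∀ {z}, z ∈ Z → Commute b ⁅b, z⁆ := fun {z} hz => by
    have h1 : ⁅⁅z, b⁆, b⁆ = 1 := mem_bot.1 (hcond2 b hb ▸
      commutator_mem_commutator (commutator_mem_commutator hz (mem_zpowers b)) (mem_zpowers b))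
    rw [commutatorElement_eq_one_iff_mul_comm] at h1
    rw [← commutatorElement_inv z b]
    exact (Commute.symm (show Commute ⁅z, b⁆ b from h1)).inv_right
  have hconj : ∀ {u}, b * u * b⁻¹ = ⁅b, u⁆ * u := fun {u} => by
    rw [commutatorElement_def, inv_mul_cancel_right]
  have hE : ∀ {u v}, u ∈ X → v ∈ X → b * ⁅u, v⁆ * b⁻¹ =
      ⁅⁅b, u⁆, ⁅b, v⁆⁆ * ⁅⁅b, u⁆, v⁆ * (⁅u, ⁅b, v⁆⁆ * ⁅u, v⁆) := fun {u v} hu hv => by
    have e : b * ⁅u, v⁆ * b⁻¹ = ⁅b * u * b⁻¹, b * v * b⁻¹⁆ := by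
      simp only [commutatorElement_def]; group
    rw [e, hconj, hconj, bilin_left hd.abelianQuot (hXA (hcX hu)) (hXA hu)
      (hXA (mul_mem (hcX hv) hv)), bilin_right hd.abelianQuot (hXA (hcX hu)) (hXA (hcX hv)) (hXA hv),
      bilin_right hd.abelianQuot (hXA hu) (hXA (hcX hv)) (hXA hv)]
  have hcomm_of_eq : ∀ {z : G}, b * z * b⁻¹ = z → Commute b z := fun {z} h => mul_inv_eq_iff_eq_mul.1 h
  have heq_of_comm : ∀ {z : G}, Commute b z → b * z * b⁻¹ = z := fun {z} h => by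
    rw [h.eq, mul_inv_cancel_right]
  have hcc2 : ∀ {u v}, u ∈ X → v ∈ X → ⁅⁅b, ⁅b, u⁆⁆, ⁅b, v⁆⁆ = 1 := fun {u v} hu hv =>
    commutatorElement_eq_one_iff_mul_comm.2
      (mem_centralizer_iff.1 (mem_inf.1 (hccB hu)).2 _ (hcB hv)).symm
  have hccR : ∀ {u}, u ∈ X → ⁅b, ⁅b, u⁆⁆ ∈ R₀ := fun {u} hu =>
    ⟨hcX (hcX hu), fun y hy => hcomm_of_eq (by
      rw [hE (hcX (hcX hu)) hy, (commutatorElement_eq_one_iff_mul_comm.2 (hccc hu).eq), hcc2 hu hy,
        commutatorElement_one_left, commutatorElement_one_left, one_mul, one_mul, one_mul])⟩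
  have hccY : ∀ {u}, u ∈ W → ⁅b, ⁅b, u⁆⁆ ∈ Y := fun {u} hu =>
    hinf.le (mem_inf.2 ⟨hccR (hWX hu), hcW (hcW hu)⟩)
  have hfix' : ∀ {x y : G}, y ∈ Y → x ∈ X → ⁅x, y⁆ = 1 := fun {x y} hy hx =>
    mem_bot.1 (hXYc ▸ commutator_mem_commutator hx hy)
  have hsame : ∀ {u v}, u ∈ W → v ∈ W → ⁅⁅b, u⁆, ⁅b, v⁆⁆ = 1 := fun {u v} hu hv => by
    have hu' := hWX hu
    have hv' := hWX hv
    set m := ⁅⁅b, u⁆, ⁅b, v⁆⁆ with hm
    set m₁ := ⁅⁅b, u⁆, v⁆
    set m₂ := ⁅u, ⁅b, v⁆⁆
    have hmA : ∀ {x y}, x ∈ X → y ∈ X → ⁅x, y⁆ ∈ Z := fun {x y} hx hy =>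
      hXXA (commutator_mem_commutator hx hy)
    have hc1 : b * m * b⁻¹ = m := by
      rw [hm, hE (hcX hu') (hcX hv'), hfix (hccY hu) (hcX (hcX hv')), hfix (hccY hu) (hcX hv'),
        hfix' (hccY hv) (hcX hu'), one_mul, one_mul, one_mul]
    have hc2 : b * m₁ * b⁻¹ = m * m₁ := by
      rw [hE (hcX hu') hv', hfix (hccY hu) (hcX hv'), hfix (hccY hu) hv', one_mul, one_mul]
    have hc3 : b * m₂ * b⁻¹ = m * m₂ := by
      rw [hE hu' (hcX hv'), hfix' (hccY hv) (hcX hu'), hfix' (hccY hv) hu', one_mul, one_mul]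
    have hw : ⁅b, ⁅u, v⁆⁆ = m * m₁ * m₂ := by
      rw [commutatorElement_def b, hE hu' hv']; simp only [mul_assoc, mul_inv_cancel, mul_one]; rfl
    have h2 := heq_of_comm (hZ2 (hmA hu' hv'))
    rw [hw, show b * (m * m₁ * m₂) * b⁻¹ = b * m * b⁻¹ * (b * m₁ * b⁻¹) * (b * m₂ * b⁻¹) by group,
      hc1, hc2, hc3] at h2
    have hcm : Commute m₁ m := (mem_centralizer_iff.1
      (mem_inf.1 (hmA (hcX hu') hv')).2 m (inf_le_left (b := centralizer (A : Set G))
        (hmA (hcX hu') (hcX hv')))).symm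
    have h3 : m * m = 1 := by
      have h4 : m * m * (m * m₁ * m₂) = 1 * (m * m₁ * m₂) := by
        rw [one_mul]
        refine Eq.trans ?_ h2
        calc m * m * (m * m₁ * m₂) = m * m * (m * m₁) * m₂ := by group
          _ = m * (m * (m₁ * m)) * m₂ := by rw [hcm.eq]; group
          _ = m * (m * m₁) * (m * m₂) := by group
      exact mul_right_cancel h4
    obtain ⟨k, hk⟩ := (hd.pgroup.to_le (inf_le_left.trans hd.le) : IsPGroup p Z) ⟨m, hmA (hcX hu') (hcX hv')⟩
    have hk' : m ^ p ^ k = 1 := congrArg Subtype.val hk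
    exact orderOf_eq_one_iff.1 (Nat.eq_one_of_dvd_coprimes
      (((Nat.coprime_primes Nat.prime_two (Fact.out : p.Prime)).2 (by omega)).pow_right k)
      (orderOf_dvd_of_pow_eq_one (by rw [pow_two]; exact h3)) (orderOf_dvd_of_pow_eq_one hk'))
  have hsplit : ∀ {y}, y ∈ X → ∃ w ∈ W, ∃ r ∈ R₀, w * r = y := fun {y} hy => by
    refine exists_mul_of_mem_sup (le_normalizer_of_forall_map_le fun x hx => ?_) (by rw [sup_comm, hsup]; exact hy)
    rintro _ ⟨a, ha, rfl⟩
    have h1 : ⁅x, a⁆ * a ∈ R₀ :=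
      mul_mem (hYR₀ (hXab (commutator_mem_commutator (hWX hx) (hR₀X ha)))) ha
    simpa [commutatorElement_def] using h1
  have hcR : ∀ {u}, u ∈ W → ⁅b, u⁆ ∈ Y := fun {u} hu => by
    refine hinf.le (mem_inf.2 ⟨⟨hcX (hWX hu), fun y hy => ?_⟩, hcW hu⟩)
    obtain ⟨w, hw, r, hr, rfl⟩ := hsplit hy
    rw [bilin_right hd.abelianQuot (hXA (hcX (hWX hu))) (hXA (hWX hw)) (hXA hr.1)]
    refine Commute.mul_right (hcomm_of_eq ?_) ?_
    · rw [hE (hcX (hWX hu)) (hWX hw), hfix (hccY hu) (hcX (hWX hw)), hfix (hccY hu) (hWX hw),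
        hsame hu hw, one_mul, one_mul, one_mul]
    · rw [← commutatorElement_inv r]
      exact (hr.2 _ (hcX (hWX hu))).inv_right
  have hall : ∀ {x y}, x ∈ X → y ∈ X → Commute b ⁅x, y⁆ := fun {x y} hx hy => by
    obtain ⟨w, hw, r, hr, rfl⟩ := hsplit hx
    rw [bilin_left hd.abelianQuot (hXA (hWX hw)) (hXA hr.1) (hXA hy)]
    refine Commute.mul_right ?_ (hr.2 y hy)
    obtain ⟨w', hw', r', hr', rfl⟩ := hsplit hy
    rw [bilin_right hd.abelianQuot (hXA (hWX hw)) (hXA (hWX hw')) (hXA hr'.1)]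
    refine Commute.mul_right (hcomm_of_eq ?_) ?_
    · rw [hE (hWX hw) (hWX hw'), hfix (hcR hw) (hcX (hWX hw')), hfix (hcR hw) (hWX hw'),
        hfix' (hcR hw') (hWX hw), one_mul, one_mul, one_mul]
    · rw [← commutatorElement_inv r']
      exact (hr'.2 _ (hWX hw)).inv_right
  have hgen : ⁅X, X⁆ ≤ centralizer ({b} : Set G) := commutator_le.2 fun x hx y hy =>
    mem_centralizer_iff.2 fun c hc => by rw [Set.mem_singleton_iff.1 hc]; exact (hall hx hy).eq
  rw [mem_centralizer_iff]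
  intro m hm
  exact ((mem_centralizer_iff.1 (hgen hm)) b rfl).symm

end CfsgLib.Techniques.KInf
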