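import Cfsg.Agent.Lib.Techniques.FusionInduction
import Mathlib.GroupTheory.GroupAction.Quotient

/-!
An equivariant family on a finite set acted on by a `p`-group has product one, if every point is
moved by a group element whose norm kills the values.
-/

set_option autoImplicit false
set_option linter.unusedSectionVars false

namespace CfsgLib.Techniques.Fusion

open Subgroup MulAction Finset

variable {G : Type*} [Group G] [Finite G] {p : ℕ} [Fact p.Prime]
  {Ω : Type*} [MulAction G Ω] [Fintype Ω] [DecidableEq Ω] {W : Type*} [CommGroup W]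

/-- Abstract orbit lemma behind Glauberman's transfer argument. -/
theorem prod_eq_one_of_moved {S : Subgroup G} (hS : IsPGroup p S) (Good : Set G)
    (W₀ : Subgroup W) (f : Ω → W) (hf₀ : ∀ ω, f ω ∈ W₀) (ρ : G → W →* W)
    (hf : ∀ s ∈ S, ∀ ω, f (s • ω) = ρ s (f ω))
    (hgood : ∀ u ∈ Good, u ∈ S → ∀ w ∈ W₀, ∏ j ∈ range p, ρ (u ^ j) w = 1)
    (O : Finset Ω) (hO : ∀ s ∈ S, ∀ ω ∈ O, s • ω ∈ O)
    (hmoved : ∀ ω ∈ O, ∃ u ∈ Good, u ∈ S ∧ u • ω ≠ ω) : ∏ ω ∈ O, f ω = 1 := by
  classical
  suffices H : ∀ (n : ℕ) (R : Subgroup G), R ≤ S → Nat.card R < n → ∀ O : Finset Ω,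
      (∀ s ∈ R, ∀ ω ∈ O, s • ω ∈ O) → (∀ ω ∈ O, ∃ u ∈ Good, u ∈ R ∧ u • ω ≠ ω) →
      ∏ ω ∈ O, f ω = 1 from H _ S le_rfl (Nat.lt_succ_self _) O hO hmoved
  intro n
  induction n with
  | zero => intro R _ h; omega
  | succ n ih =>
    intro R hRS hRn O
    induction O using Finset.strongInduction with
    | H O ihO =>
      intro hO hmoved
      rcases O.eq_empty_or_nonempty with rfl | ⟨ω, hω⟩
      · simp
      -- split off the orbit of `ω`
      set O₁ := O.filter (fun x => ∃ r ∈ R, r • ω = x) with hO₁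
      set O₂ := O.filter (fun x => ¬ ∃ r ∈ R, r • ω = x) with hO₂
      rw [← prod_filter_mul_prod_filter_not O (fun x => ∃ r ∈ R, r • ω = x)]
      have h2 : ∏ x ∈ O₂, f x = 1 := by
        refine ihO O₂ ?_ ?_ (fun x hx => hmoved x (mem_of_mem_filter x hx))
        · refine Finset.ssubset_iff_subset_ne.2 ⟨filter_subset _ _, fun e => ?_⟩
          have : ω ∈ O₂ := by rw [e]; exact hω
          exact (Finset.mem_filter.1 this).2 ⟨1, one_mem _, one_smul _ _⟩
        · intro s hs x hx
          obtain ⟨hxO, hxn⟩ := Finset.mem_filter.1 hx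
          refine Finset.mem_filter.2 ⟨hO s hs x hxO, ?_⟩
          rintro ⟨r, hr, hrx⟩
          exact hxn ⟨s⁻¹ * r, mul_mem (inv_mem hs) hr, by rw [mul_smul, hrx, inv_smul_smul]⟩
      rw [← hO₁, ← hO₂, h2, mul_one]
      -- the orbit of `ω`
      have hO₁mem : ∀ x, x ∈ O₁ ↔ ∃ r ∈ R, r • ω = x := fun x => by
        rw [hO₁, Finset.mem_filter]
        exact ⟨fun h => h.2, fun h => ⟨by obtain ⟨r, hr, rfl⟩ := h; exact hO r hr ω hω, h⟩⟩
      have hRp : IsPGroup p R := hS.to_le hRS
      set Rω := R ⊓ stabilizer G ω with hRω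
      have hlt : Rω < R := by
        refine lt_of_le_of_ne inf_le_left fun e => ?_
        obtain ⟨u, -, hu, hmove⟩ := hmoved ω hω
        rw [← e] at hu
        exact hmove (mem_inf.1 hu).2
      -- a maximal subgroup above the stabilizer, normal of index `p`
      obtain ⟨R₀, ⟨hle₀, hlt₀⟩, hmax₀⟩ := (Set.toFinite {K : Subgroup G | Rω ≤ K ∧ K < R}).exists_maximal
        ⟨Rω, le_rfl, hlt⟩
      have hnorm : R ≤ normalizer (R₀ : Set G) := by
        have h3 := lt_inf_normalizer (p := p) hRp hlt₀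
        by_contra hnot
        have h4 : R ⊓ normalizer (R₀ : Set G) < R :=
          lt_of_le_of_ne inf_le_left fun e => hnot (inf_eq_left.1 e)
        exact h3.not_ge (hmax₀ ⟨hle₀.trans (le_of_lt h3), h4⟩ h3.le)
      by_cases hA : ∀ u ∈ Good, u ∈ R → u ∈ R₀
      · refine ih R₀ (hlt₀.le.trans hRS) ?_ O₁ ?_ ?_
        · have h5 := CfsgLib.Techniques.Fusion.card_lt_of_lt hlt₀
          omega
        · intro s hs x hx
          obtain ⟨r, hr, rfl⟩ := (hO₁mem x).1 hx
          exact (hO₁mem _).2 ⟨s * r, mul_mem (hlt₀.le hs) hr, mul_smul _ _ _⟩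
        · intro x hx
          obtain ⟨u, hu, huR, hux⟩ := hmoved x (mem_of_mem_filter x hx)
          exact ⟨u, hu, hA u hu huR, hux⟩
      push Not at hA
      obtain ⟨u, huG, huR, huR₀⟩ := hA
      have hRtop : R₀ ⊔ zpowers u = R := by
        by_contra hne
        have hle : R₀ ⊔ zpowers u ≤ R := sup_le hlt₀.le (zpowers_le.2 huR)
        exact huR₀ (hmax₀ ⟨hle₀.trans le_sup_left, lt_of_le_of_ne hle hne⟩ le_sup_left
          (mem_sup_right (mem_zpowers u)))
      -- `R / R₀` has order `p`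
      have hn0 : (R₀.subgroupOf R).Normal := normal_subgroupOf_iff_le_normalizer hlt₀.le |>.2 hnorm
      set ū : R ⧸ R₀.subgroupOf R := QuotientGroup.mk' _ ⟨u, huR⟩ with hū
      have hgen : ∀ r ∈ R, ∃ i : ℤ, ∃ r₀ ∈ R₀, r = u ^ i * r₀ := by
        intro r hr
        rw [← hRtop] at hr
        obtain ⟨a, ⟨i, rfl⟩, b, hb, hab⟩ := CfsgLib.Techniques.exists_mul_of_mem_sup
          ((zpowers_le.2 huR).trans hnorm) (sup_comm R₀ (zpowers u) ▸ hr)
        exact ⟨i, b, hb, hab.symm⟩
      have hup : u ^ p ∈ R₀ := by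
        by_contra hup
        -- otherwise `R₀⟨u ^ p⟩` would be all of `R`
        have hle : R₀ ⊔ zpowers (u ^ p) ≤ R := sup_le hlt₀.le (zpowers_le.2 (pow_mem huR p))
        have htop : R₀ ⊔ zpowers (u ^ p) = R := by
          by_contra hne
          exact hup (hmax₀ ⟨hle₀.trans le_sup_left, lt_of_le_of_ne hle hne⟩ le_sup_left
            (mem_sup_right (mem_zpowers _)))
        have hu' : u ∈ zpowers (u ^ p) ⊔ R₀ := by rw [sup_comm, htop]; exact huR
        obtain ⟨a, ⟨i, rfl⟩, b, hb, hab⟩ := CfsgLib.Techniques.exists_mul_of_mem_sup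
          (((zpowers_le.2 (pow_mem huR p))).trans hnorm) hu'
        obtain ⟨e, he⟩ : ∃ e, orderOf ū = p ^ e :=
          ⟨_, (IsPGroup.iff_orderOf.1 (hRp.to_quotient _) ū).choose_spec⟩
        have h6 : ū ^ ((p : ℤ) * i - 1) = 1 := by
          rw [hū, ← map_zpow]
          refine (QuotientGroup.eq_one_iff _).2 ?_
          rw [mem_subgroupOf, Subgroup.coe_zpow]
          have h8 : u ^ ((p : ℤ) * i - 1) = (u ^ p) ^ i * u⁻¹ := by
            rw [zpow_sub, zpow_one, zpow_mul, zpow_natCast]
          rw [h8]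
          have h9 : (u ^ p) ^ i = u * b⁻¹ := eq_mul_inv_of_mul_eq hab
          rw [h9]
          exact (mem_normalizer_iff.1 (hnorm huR) b⁻¹).1 (inv_mem hb)
        have h10 : e = 0 := by
          by_contra he0
          have h7 : (p : ℤ) ∣ (p : ℤ) * i - 1 := by
            refine dvd_trans ?_ (orderOf_dvd_iff_zpow_eq_one.2 h6)
            rw [he]; exact_mod_cast dvd_pow_self p he0
          have h11 : (p : ℤ) ∣ 1 := by simpa using (dvd_sub (dvd_mul_right (p : ℤ) i) h7)
          exact (Fact.out : p.Prime).ne_one (by exact_mod_cast Int.eq_one_of_dvd_one (by positivity) h11)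
        rw [h10, pow_zero, orderOf_eq_one_iff, hū] at he
        exact huR₀ ((QuotientGroup.eq_one_iff (G := R) _).1 he)
      have hū' : ū ≠ 1 := fun h => huR₀ ((QuotientGroup.eq_one_iff (G := R) _).1 (hū ▸ h))
      have hord : orderOf ū = p := orderOf_eq_prime (by
        rw [hū, ← map_pow]; exact (QuotientGroup.eq_one_iff _).2 hup) hū'
      -- the orbit of `R₀` and its translates
      set A := O₁.filter (fun x => ∃ r ∈ R₀, r • ω = x) with hA'
      have hAmem : ∀ x, x ∈ A ↔ ∃ r ∈ R₀, r • ω = x := fun x => by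
        rw [hA', Finset.mem_filter]
        exact ⟨fun h => h.2, fun h => ⟨(hO₁mem x).2 (by
          obtain ⟨r, hr, hx⟩ := h; exact ⟨r, hlt₀.le hr, hx⟩), h⟩⟩
      have hdecomp : O₁ = (range p).biUnion (fun j => A.image (fun x => u ^ j • x)) := by
        ext x
        simp only [Finset.mem_biUnion, Finset.mem_range, Finset.mem_image]
        constructor
        · intro hx
          obtain ⟨r, hr, rfl⟩ := (hO₁mem x).1 hx
          obtain ⟨i, r₀, hr₀, rfl⟩ := hgen r hr
          have hp0 : 0 < (p : ℤ) := by exact_mod_cast (Fact.out : p.Prime).pos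
          refine ⟨(i % p).toNat, by have := Int.emod_lt_of_pos i hp0; omega,
            ((u ^ p) ^ (i / p) * r₀) • ω, ?_, ?_⟩
          · exact (hAmem _).2 ⟨_, mul_mem (zpow_mem hup _) hr₀, rfl⟩
          · rw [← mul_smul, ← zpow_natCast u (i % p).toNat,
              Int.toNat_of_nonneg (Int.emod_nonneg i hp0.ne'), ← zpow_natCast u p, ← zpow_mul,
              ← mul_assoc, ← zpow_add]
            congr 2
            rw [Int.emod_add_mul_ediv]
        · rintro ⟨j, -, y, hy, rfl⟩
          obtain ⟨r, hr, rfl⟩ := (hAmem y).1 hy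
          exact (hO₁mem _).2 ⟨u ^ j * r, mul_mem (pow_mem huR j) (hlt₀.le hr), mul_smul _ _ _⟩
      have hdisj : ((range p : Finset ℕ) : Set ℕ).PairwiseDisjoint
          (fun j => A.image (fun x => u ^ j • x)) := by
        intro i hi j hj hij
        rw [Function.onFun, Finset.disjoint_left]
        intro x hxi hxj
        obtain ⟨a, ha, rfl⟩ := Finset.mem_image.1 hxi
        obtain ⟨b, hb, hab⟩ := Finset.mem_image.1 hxj
        obtain ⟨ra, hra, rfl⟩ := (hAmem a).1 ha
        obtain ⟨rb, hrb, rfl⟩ := (hAmem b).1 hb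
        apply hij
        have hst : (u ^ i * ra)⁻¹ * (u ^ j * rb) ∈ Rω := by
          refine mem_inf.2 ⟨mul_mem (inv_mem (mul_mem (pow_mem huR i) (hlt₀.le hra)))
            (mul_mem (pow_mem huR j) (hlt₀.le hrb)), ?_⟩
          rw [MulAction.mem_stabilizer_iff, mul_smul, inv_smul_eq_iff, mul_smul, mul_smul]
          exact hab
        have h12 : (u ^ i)⁻¹ * u ^ j ∈ R₀ := by
          have h13 := mul_mem (mul_mem hra (hle₀ hst)) (inv_mem hrb)
          simpa [mul_assoc] using h13
        have h14 : ū ^ i = ū ^ j := by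
          rw [hū, ← map_pow, ← map_pow]
          exact QuotientGroup.eq.2 (by rw [mem_subgroupOf]; simpa using h12)
        exact pow_injOn_Iio_orderOf (by rw [Set.mem_Iio, hord]; exact Finset.mem_range.1 hi)
          (by rw [Set.mem_Iio, hord]; exact Finset.mem_range.1 hj) h14
      rw [hdecomp, prod_biUnion hdisj]
      have hstep : ∀ j ∈ range p, ∏ x ∈ A.image (fun x => u ^ j • x), f x =
          ρ (u ^ j) (∏ x ∈ A, f x) := by
        intro j _
        rw [prod_image (fun a _ b _ h => MulAction.injective _ h), map_prod]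
        exact prod_congr rfl fun x _ => hf _ (pow_mem (hRS huR) j) x
      rw [prod_congr rfl hstep]
      exact hgood u huG (hRS huR) _ (prod_mem fun x _ => hf₀ x)

end CfsgLib.Techniques.Fusion
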