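import Cfsg.Agent.Lib.Techniques.Focal
import Cfsg.Agent.Lib.Techniques.ChiefFactor
import Cfsg.Agent.Lib.Techniques.OrbitNorm

/-! The structure of a constrained group in which transfer is not controlled. -/

set_option autoImplicit false
set_option linter.unusedSectionVars false

namespace CfsgLib.Techniques.Fusion

open Cfsg Subgroup CfsgLib.Techniques MulAction
open scoped commutatorElement

universe u

variable {p : ℕ} [Fact p.Prime] {X : Type u} [Group X] [Finite X]

theorem commutator_inf_le_comap {M : Subgroup X} {e : X} (he : e ∈ M)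
    (h : (⟨e, he⟩ : M) ∈ _root_.commutator M) : e ∈ ⁅M, M⁆ := by
  have h5 := mem_map_of_mem M.subtype h
  rwa [_root_.commutator_def, map_commutator, ← MonoidHom.range_eq_map, range_subtype] at h5

/-- Glauberman's transfer lemma: a normal subgroup of the derived group all of whose homomorphic
images into an abelian quotient of a subgroup `M` are killed by the norms of the good elements. -/
theorem eq_one_of_orbit_norm (S : Sylow p X) (M : Subgroup X) (hSM : (S : Subgroup X) ≤ M)
    (U V : Subgroup X) [hUn : U.Normal] (hVn : V.Normal) (hUM : U ≤ M)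
    (hUX : U ≤ _root_.commutator X) {A : Type u} [CommGroup A] (ϕ : M →* A)
    (hV : ∀ (x : M), (x : X) ∈ V → ϕ x = 1) (Good : Set X)
    (hnorm : ∀ u ∈ Good, u ∈ (S : Subgroup X) → ∀ w : U →* A, (∀ x : U, (x : X) ∈ V → w x = 1) →
      ∀ a : U, ∏ j ∈ Finset.range p, w ⟨u ^ j * a * (u ^ j)⁻¹, hUn.conj_mem a a.2 (u ^ j)⟩ = 1)
    (hfix : ∀ g : X, (∀ u ∈ Good, u ∈ (S : Subgroup X) → g⁻¹ * u * g ∈ M) → g ∈ M)
    (a : U) : ϕ ⟨a, hUM a.2⟩ = 1 := by
  classical
  let Ω := X ⧸ M
  let : Fintype Ω := M.fintypeQuotientOfFiniteIndex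
  -- values at a coset
  let F : X → U → A := fun g b => ϕ ⟨g⁻¹ * b * g, hUM (hUn.conj_mem' b b.2 g)⟩
  have hFm : ∀ (g m : X) (hm : m ∈ M) (b : U), F (g * m) b = F g b := by
    intro g m hm b
    have e : (⟨(g * m)⁻¹ * b * (g * m), hUM (hUn.conj_mem' b b.2 (g * m))⟩ : M) =
        ⟨m, hm⟩⁻¹ * ⟨g⁻¹ * b * g, hUM (hUn.conj_mem' b b.2 g)⟩ * ⟨m, hm⟩ := by
      apply Subtype.ext; simp [mul_assoc]
    show ϕ _ = ϕ _
    rw [e, map_mul, map_mul, map_inv, mul_comm (ϕ ⟨m, hm⟩)⁻¹, inv_mul_cancel_right]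
  let f : Ω → (U → A) := fun q => F q.out
  have hFq : ∀ (g : X) (q : Ω), (QuotientGroup.mk g : Ω) = q → f q = F g := by
    intro g q hq
    funext b
    obtain ⟨m, hm⟩ := QuotientGroup.mk_out_eq_mul M g
    show F q.out b = F g b
    rw [← hq, hm, hFm g m m.2]
  let ρ : X → (U → A) →* (U → A) := fun r =>
    { toFun := fun w b => w ⟨r⁻¹ * b * r, hUn.conj_mem' b b.2 r⟩
      map_one' := rfl
      map_mul' := fun _ _ => rfl }
  -- the subgroup of homomorphisms killing `V`
  let W₀ : Subgroup (U → A) :=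
    { carrier := {w | (∀ b c : U, w (b * c) = w b * w c) ∧ ∀ b : U, (b : X) ∈ V → w b = 1}
      one_mem' := ⟨fun _ _ => (one_mul 1).symm, fun _ _ => rfl⟩
      mul_mem' := by
        rintro v w ⟨hv, hv'⟩ ⟨hw, hw'⟩
        exact ⟨fun b c => by simp only [Pi.mul_apply, hv, hw]; exact mul_mul_mul_comm _ _ _ _,
          fun b hb => by simp [hv' b hb, hw' b hb]⟩
      inv_mem' := by
        rintro v ⟨hv, hv'⟩
        exact ⟨fun b c => by simp only [Pi.inv_apply, hv, mul_inv], fun b hb => by simp [hv' b hb]⟩ }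
  have hf₀ : ∀ q, f q ∈ W₀ := by
    intro q
    refine ⟨fun b c => ?_, fun b hb => hV _ (hVn.conj_mem' _ hb q.out)⟩
    show ϕ _ = ϕ _ * ϕ _
    rw [← map_mul]
    congr 1
    apply Subtype.ext
    simp [mul_assoc]
  have hf : ∀ s ∈ (S : Subgroup X), ∀ q, f (s • q) = ρ s (f q) := by
    intro s _ q
    have hsq : (QuotientGroup.mk (s * q.out) : Ω) = s • q := by
      conv_rhs => rw [← QuotientGroup.out_eq' q]
      exact (MulAction.Quotient.smul_mk M s q.out).symm
    funext b
    rw [hFq (s * q.out) (s • q) hsq]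
    show ϕ _ = ϕ _
    congr 1
    apply Subtype.ext
    simp [mul_assoc]
  have hgood : ∀ u ∈ Good, u ∈ (S : Subgroup X) → ∀ w ∈ W₀,
      ∏ j ∈ Finset.range p, ρ (u ^ j) w = 1 := by
    intro u hu huS w hw
    funext b
    rw [Finset.prod_apply, Pi.one_apply]
    have hu1 := hnorm u hu huS (MonoidHom.mk' w hw.1) hw.2
    -- reverse the order of conjugation
    have hpre : ∀ c : U, ∏ j ∈ Finset.range p, ρ (u ^ j) w
        ⟨u ^ (p - 1) * c * (u ^ (p - 1))⁻¹, hUn.conj_mem c c.2 (u ^ (p - 1))⟩ = 1 := by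
      intro c
      rw [← Finset.prod_range_reflect]
      refine (Finset.prod_congr rfl fun j hj => ?_).trans (hu1 c)
      rw [Finset.mem_range] at hj
      show w _ = w _
      congr 1
      apply Subtype.ext
      have e : u ^ (p - 1) = u ^ (p - 1 - j) * u ^ j := by rw [← pow_add]; congr 1; omega
      show (u ^ (p - 1 - j))⁻¹ * (u ^ (p - 1) * c * (u ^ (p - 1))⁻¹) * u ^ (p - 1 - j) =
        u ^ j * c * (u ^ j)⁻¹
      rw [e]; group
    have := hpre ⟨(u ^ (p - 1))⁻¹ * b * u ^ (p - 1), hUn.conj_mem' b b.2 (u ^ (p - 1))⟩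
    have e2 : (⟨u ^ (p - 1) * ((u ^ (p - 1))⁻¹ * b * u ^ (p - 1)) * (u ^ (p - 1))⁻¹,
        hUn.conj_mem _ (hUn.conj_mem' b b.2 (u ^ (p - 1))) (u ^ (p - 1))⟩ : U) = b := by
      apply Subtype.ext; simp [mul_assoc]
    rwa [e2] at this
  -- all cosets other than `M` are moved by good elements
  set q₀ : Ω := QuotientGroup.mk 1 with hq₀
  have hS₀ : ∀ s ∈ (S : Subgroup X), s • q₀ = q₀ := fun s hs => by
    rw [hq₀, MulAction.Quotient.smul_mk, QuotientGroup.eq]
    simpa using hSM hs
  have hrest : ∏ q ∈ Finset.univ.erase q₀, f q = 1 := by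
    refine prod_eq_one_of_moved S.2 Good W₀ f hf₀ ρ hf hgood _ ?_ ?_
    · intro s hs q hq
      rw [Finset.mem_erase] at hq ⊢
      refine ⟨fun h => hq.1 ?_, Finset.mem_univ _⟩
      rw [← inv_smul_smul s q, h, hS₀ _ (inv_mem hs)]
    · intro q hq
      rw [Finset.mem_erase] at hq
      by_contra hcon
      push Not at hcon
      apply hq.1
      induction q using QuotientGroup.induction_on with
      | _ g =>
        rw [hq₀, QuotientGroup.eq]
        have hg : g ∈ M := hfix g fun u hu huS => by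
          have h := hcon u hu huS
          rw [MulAction.Quotient.smul_mk, QuotientGroup.eq] at h
          have h2 := inv_mem h
          simpa [mul_assoc] using h2
        simpa using inv_mem hg
  -- the transfer of `a` is trivial
  have htot : (∏ q : Ω, f q) a = 1 := by
    have h1 : MonoidHom.transfer ϕ (a : X) = 1 := Abelianization.commutator_subset_ker _ (hUX a.2)
    rw [MonoidHom.transfer_def ϕ default] at h1
    rw [Finset.prod_apply, ← h1]
    unfold Subgroup.leftTransversals.diff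
    refine Finset.prod_congr rfl fun q _ => ?_
    set g := (((default : M.LeftTransversal).2.leftQuotientEquiv q : (default : M.LeftTransversal).1) : X)
    have hgq : (QuotientGroup.mk g : Ω) = q := IsComplement.quotientGroupMk_leftQuotientEquiv _ q
    rw [hFq g q hgq]
    show ϕ _ = ϕ _
    congr 1
    apply Subtype.ext
    have hinv : (a : X)⁻¹ • q = q := by
      rw [← hgq, MulAction.Quotient.smul_mk, QuotientGroup.eq]
      have := hUM (hUn.conj_mem' a a.2 g)
      simpa [mul_assoc] using this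
    show g⁻¹ * a * g = g⁻¹ * _
    rw [smul_apply_eq_smul_apply_inv_smul, hinv, smul_eq_mul, mul_assoc]
  rw [← Finset.mul_prod_erase Finset.univ f (Finset.mem_univ q₀), hrest, mul_one,
    hFq 1 q₀ rfl] at htot
  simpa [F] using htot

variable {𝓦 : Set (∀ (Q : Type u) [Group Q], Subgroup Q)}

/-- The data of a constrained group all whose proper sections are controlled, but not itself. -/
structure IsMinimalFailure (p : ℕ) (𝓦 : Set (∀ (Q : Type u) [Group Q], Subgroup Q))
    (S : Sylow p X) : Prop where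
  functors : ∀ W ∈ 𝓦, IsCharPFunctor.{u} p W
  nonempty : 𝓦.Nonempty
  constrained : centralizer (pCore p X : Set X) ≤ pCore p X
  proper : ∀ (Y : Type u) [Group Y] [Finite Y], IsSectionOf Y X → Nat.card Y < Nat.card X →
    TransCtrl p 𝓦 Y
  fail : ¬ pCore p X ⊓ _root_.commutator X ≤ transferTarget 𝓦 (S : Subgroup X)

variable {S : Sylow p X} (hmf : IsMinimalFailure p 𝓦 S)
include hmf

theorem IsMinimalFailure.pCore_ne_sylow : pCore p X ≠ (S : Subgroup X) := by
  intro e
  obtain ⟨W, hW⟩ := hmf.nonempty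
  have hn : (pCore p X).Normal := pCore_normal p X
  rw [e] at hn
  apply hmf.fail
  rw [e]
  refine le_iSup₂_of_le _ ⟨W, hW, rfl⟩ (inf_le_inf_left _ ?_)
  have htop : normalizer ((inducedFunctor (G := X) W (S : Subgroup X) : Subgroup X) : Set X) = ⊤ :=
    top_le_iff.1 ((normalizer_eq_top_iff.2 hn).ge.trans
      (normalizer_le_normalizer_inducedFunctor (hmf.functors W hW) S.2))
  show _root_.commutator X ≤ ⁅normalizer _, normalizer _⁆
  rw [htop, _root_.commutator_def]

theorem IsMinimalFailure.sylow_not_normal : ¬ (S : Subgroup X).Normal := fun h =>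
  hmf.pCore_ne_sylow ((CfsgLib.PCore.pCore_le_sylow S).antisymm (CfsgLib.PCore.le_pCore h S.2))

theorem IsMinimalFailure.inf_commutator_le {H : Subgroup X} (hSH : (S : Subgroup X) ≤ H)
    (hH : H ≠ ⊤) : (S : Subgroup X) ⊓ ⁅H, H⁆ ≤ transferTarget 𝓦 (S : Subgroup X) :=
  inf_commutator_le_target_of_proper hmf.functors S hSH
    (hmf.proper H (IsSectionOf.of_subgroup H) (card_lt_of_ne_top hH))

theorem IsMinimalFailure.commutator_mem {H : Subgroup X} (hSH : (S : Subgroup X) ≤ H) (hH : H ≠ ⊤)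
    {a h : X} (ha : a ∈ pCore p X) (hh : h ∈ H) :
    h * a * h⁻¹ * a⁻¹ ∈ transferTarget 𝓦 (S : Subgroup X) ⊓ pCore p X := by
  have hn : (pCore p X).Normal := pCore_normal p X
  have hP : h * a * h⁻¹ * a⁻¹ ∈ pCore p X := mul_mem (hn.conj_mem a ha h) (inv_mem ha)
  refine mem_inf.2 ⟨hmf.inf_commutator_le hSH hH (mem_inf.2
    ⟨CfsgLib.PCore.pCore_le_sylow S hP, ?_⟩), hP⟩
  exact commutator_mem_commutator hh (hSH (CfsgLib.PCore.pCore_le_sylow S ha))

theorem IsMinimalFailure.le_M {H : Subgroup X} (hSH : (S : Subgroup X) ≤ H) (hH : H ≠ ⊤) :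
    H ≤ normalizer ((transferTarget 𝓦 (S : Subgroup X) ⊓ pCore p X : Subgroup X) : Set X) := by
  intro h hh
  rw [← map_conj_eq_self_iff]
  refine eq_of_le_of_card_ge ?_ (card_map_conj _ h).ge
  rintro _ ⟨t, ht, rfl⟩
  have h1 := mul_mem (hmf.commutator_mem hSH hH (mem_inf.1 ht).2 hh) ht
  simpa [mul_assoc] using h1

theorem IsMinimalFailure.M_ne_top :
    normalizer ((transferTarget 𝓦 (S : Subgroup X) ⊓ pCore p X : Subgroup X) : Set X) ≠ ⊤ := by
  intro htop
  set P := pCore p X with hPdef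
  set T := transferTarget 𝓦 (S : Subgroup X) ⊓ P with hT
  have hPn : P.Normal := pCore_normal p X
  have hTn : T.Normal := normalizer_eq_top_iff.1 htop
  set π := QuotientGroup.mk' T
  let K₀ : Subgroup X := (centralizer ((P.map π : Subgroup (X ⧸ T)) : Set (X ⧸ T))).comap π
  have hK₀n : K₀.Normal := by
    have : (P.map π).Normal := hPn.map π (QuotientGroup.mk'_surjective T)
    exact Subgroup.Normal.comap inferInstance π
  have hK₀ : ∀ H : Subgroup X, (S : Subgroup X) ≤ H → H ≠ ⊤ → H ≤ K₀ := by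
    intro H hSH hH h hh
    rw [mem_comap, mem_centralizer_iff]
    rintro _ ⟨a, ha, rfl⟩
    have h1 : π (h * a * h⁻¹ * a⁻¹) = 1 :=
      (QuotientGroup.eq_one_iff _).2 (hmf.commutator_mem hSH hH ha hh)
    rw [map_mul, map_mul, map_mul, map_inv, map_inv, mul_inv_eq_one, mul_inv_eq_iff_eq_mul] at h1
    exact h1.symm
  have hSne : (S : Subgroup X) ≠ ⊤ := sylow_ne_top S hmf.pCore_ne_sylow
  have hSK : (S : Subgroup X) ≤ K₀ := hK₀ _ le_rfl hSne
  have hK₀top : K₀ = ⊤ := by
    have h1 := sup_normalizer_inf_eq_top S K₀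
    rw [inf_eq_left.2 hSK, sup_eq_left.2 (hK₀ _ Subgroup.le_normalizer fun e =>
      hmf.sylow_not_normal (normalizer_eq_top_iff.1 e))] at h1
    exact h1
  -- transfer into `S` modulo `S' T`
  apply hmf.fail
  intro e he
  obtain ⟨heP, heX⟩ := mem_inf.1 he
  have hPS : P ≤ (S : Subgroup X) := CfsgLib.PCore.pCore_le_sylow S
  set τ := transferTarget 𝓦 (S : Subgroup X) with hτ
  have hτS : τ ≤ (S : Subgroup X) := iSup₂_le fun _ _ => inf_le_left
  have hS' : ⁅(S : Subgroup X), (S : Subgroup X)⁆ ≤ τ :=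
    (le_inf (commutator_le_self _) le_rfl).trans (hmf.inf_commutator_le le_rfl hSne)
  set N₀ := τ.subgroupOf (S : Subgroup X) with hN₀
  have hcomN : _root_.commutator (S : Subgroup X) ≤ N₀ := by
    rw [hN₀, ← map_le_map_iff_of_injective (S : Subgroup X).subtype_injective,
      map_subgroupOf_eq_of_le hτS, _root_.commutator_def, map_commutator, ← MonoidHom.range_eq_map,
      range_subtype]
    exact hS'
  have hN₀n : N₀.Normal := ⟨fun n hn g => by
    have h := mul_mem (hcomN (commutator_mem_commutator (mem_top g) (mem_top n))) hn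
    rwa [commutatorElement_def, inv_mul_cancel_right] at h⟩
  let _ : CommGroup ((S : Subgroup X) ⧸ N₀) :=
    { (inferInstance : Group ((S : Subgroup X) ⧸ N₀)) with
      mul_comm := fun x y => by
        obtain ⟨x, rfl⟩ := QuotientGroup.mk'_surjective _ x
        obtain ⟨y, rfl⟩ := QuotientGroup.mk'_surjective _ y
        rw [← commutatorElement_eq_one_iff_mul_comm, ← map_commutatorElement]
        exact (QuotientGroup.eq_one_iff _).2
          (hcomN (commutator_mem_commutator (mem_top x) (mem_top y))) }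
  let ϕ : (S : Subgroup X) →* (S : Subgroup X) ⧸ N₀ := QuotientGroup.mk' N₀
  have hconj : ∀ (y : X) (hy : y ∈ P) (g : X),
      ϕ ⟨g⁻¹ * y * g, hPS (hPn.conj_mem' y hy g)⟩ = ϕ ⟨y, hPS hy⟩ := by
    intro y hy g
    refine QuotientGroup.eq.2 ?_
    have hg : g ∈ K₀ := hK₀top ▸ mem_top g
    have hc : π g ∈ centralizer ((P.map π : Subgroup (X ⧸ T)) : Set (X ⧸ T)) := hg
    have h1 := mem_centralizer_iff.1 hc (π y) (mem_map_of_mem π hy)
    have h2 : (g⁻¹ * y * g)⁻¹ * y ∈ T := by
      rw [← QuotientGroup.eq_one_iff (N := T)]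
      show π _ = 1
      rw [map_mul, map_inv, map_mul, map_mul, map_inv, inv_mul_eq_one, mul_assoc, h1,
        inv_mul_cancel_left]
    exact (mem_inf.1 h2).1
  have h1 : MonoidHom.transfer ϕ e = 1 := Abelianization.commutator_subset_ker _ heX
  have h2 : MonoidHom.transfer ϕ e = ϕ ⟨e, hPS heP⟩ ^ (S : Subgroup X).index := by
    classical
    have : Fintype (Quotient (MulAction.orbitRel (zpowers e) (X ⧸ (S : Subgroup X)))) :=
      Fintype.ofFinite _
    rw [index_eq_sum_minimalPeriod (S : Subgroup X) e, ← Finset.prod_pow_eq_pow_sum,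
      MonoidHom.transfer_eq_prod_quotient_orbitRel_zpowers_quot]
    apply Finset.prod_congr rfl
    intro q _
    rw [← map_pow]
    refine (hconj _ (pow_mem heP _) _).trans ?_
    congr 1
  have hord : IsPGroup p ((S : Subgroup X) ⧸ N₀) := S.2.to_quotient _
  have h3 : ϕ ⟨e, hPS heP⟩ = 1 := by
    refine (hord.powEquiv' S.not_dvd_index).injective ?_
    simpa using h2.symm.trans h1
  have h4 := (QuotientGroup.eq_one_iff (N := N₀) _).1 h3
  exact h4

theorem IsMinimalFailure.inf_commutator_M :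
    ⁅pCore p X, normalizer ((transferTarget 𝓦 (S : Subgroup X) ⊓ pCore p X : Subgroup X) : Set X)⁆ ≤
        pCore p X ⊓
          ⁅normalizer ((transferTarget 𝓦 (S : Subgroup X) ⊓ pCore p X : Subgroup X) : Set X),
            normalizer ((transferTarget 𝓦 (S : Subgroup X) ⊓ pCore p X : Subgroup X) : Set X)⁆ ∧
      pCore p X ⊓
          ⁅normalizer ((transferTarget 𝓦 (S : Subgroup X) ⊓ pCore p X : Subgroup X) : Set X),
            normalizer ((transferTarget 𝓦 (S : Subgroup X) ⊓ pCore p X : Subgroup X) : Set X)⁆ ≤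
        pCore p X ⊓ transferTarget 𝓦 (S : Subgroup X) := by
  set M := normalizer ((transferTarget 𝓦 (S : Subgroup X) ⊓ pCore p X : Subgroup X) : Set X)
  have hn : (pCore p X).Normal := pCore_normal p X
  have hSne : (S : Subgroup X) ≠ ⊤ := sylow_ne_top S hmf.pCore_ne_sylow
  have hSM : (S : Subgroup X) ≤ M := hmf.le_M le_rfl hSne
  refine ⟨le_inf (commutator_le_left _ _)
    (commutator_mono ((CfsgLib.PCore.pCore_le_sylow S).trans hSM) le_rfl), le_inf inf_le_left ?_⟩
  exact (inf_le_inf_right _ (CfsgLib.PCore.pCore_le_sylow S)).trans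
    (hmf.inf_commutator_le hSM hmf.M_ne_top)

theorem IsMinimalFailure.exists_chiefFactor {u : X} (huS : u ∈ (S : Subgroup X))
    (huP : u ∉ pCore p X) : ∃ U V : Subgroup X, IsChiefFactor U V ∧ U ≤ pCore p X ∧
      ¬ iterCommutator U (zpowers u) (p - 1) ≤ V := by
  classical
  by_contra hcon
  push Not at hcon
  set τ := transferTarget 𝓦 (S : Subgroup X) with hτ
  set P := pCore p X with hPdef
  set T := τ ⊓ P with hT
  set M := normalizer (T : Set X) with hM
  have hPn : P.Normal := pCore_normal p X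
  have hPS : P ≤ (S : Subgroup X) := CfsgLib.PCore.pCore_le_sylow S
  have hSne : (S : Subgroup X) ≠ ⊤ := sylow_ne_top S hmf.pCore_ne_sylow
  have hSM : (S : Subgroup X) ≤ M := hmf.le_M le_rfl hSne
  have hPp : IsPGroup p P := CfsgLib.PCore.pCore_isPGroup
  -- a minimal normal subgroup not in `τ`
  obtain ⟨U, ⟨hUn, hUle, hUτ⟩, hUmin⟩ :=
    (Set.toFinite {U : Subgroup X | U.Normal ∧ U ≤ P ⊓ _root_.commutator X ∧ ¬ U ≤ τ}).exists_minimal
      ⟨P ⊓ _root_.commutator X, inferInstance, le_rfl, hmf.fail⟩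
  obtain ⟨V, ⟨hVn, hVU⟩, hVmax⟩ := (Set.toFinite {V : Subgroup X | V.Normal ∧ V < U}).exists_maximal
    ⟨⊥, inferInstance, lt_of_le_of_ne bot_le fun e => hUτ (e ▸ bot_le)⟩
  have hch : IsChiefFactor U V := by
    refine ⟨hVU, hUn, hVn, fun N hN hVN hNU => ?_⟩
    rcases eq_or_lt_of_le hNU with h | h
    · exact Or.inr h
    · exact Or.inl (le_antisymm (hVmax ⟨hN, h⟩ hVN) hVN)
  have hVτ : V ≤ τ := by
    by_contra h
    exact hVU.not_ge (hUmin ⟨hVn, hVU.le.trans hUle, h⟩ hVU.le)
  have hUP : U ≤ P := hUle.trans inf_le_left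
  have hUp : IsPGroup p U := hPp.to_le hUP
  -- the good elements
  let Good : Set X := {v | ∀ U V : Subgroup X, IsChiefFactor U V → U ≤ P →
    iterCommutator U (zpowers v) (p - 1) ≤ V}
  have hGconj : ∀ v ∈ Good, ∀ g : X, g * v * g⁻¹ ∈ Good := by
    intro v hv g U V hUV hUP'
    have key : ∀ k, (iterCommutator U (zpowers v) k).map (MulAut.conj g).toMonoidHom =
        iterCommutator U (zpowers (g * v * g⁻¹)) k := by
      intro k
      induction k with
      | zero => exact map_conj_eq_self_iff.2 (normalizer_eq_top_iff.2 hUV.2.1 ▸ mem_top g)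
      | succ k ih =>
        show (⁅iterCommutator U (zpowers v) k, zpowers v⁆).map _ = _
        rw [map_commutator, ih, MonoidHom.map_zpowers]
        rfl
    rw [← key, ← (map_conj_eq_self_iff (H := V) (g := g)).2
      (normalizer_eq_top_iff.2 hUV.2.2.1 ▸ mem_top g)]
    exact Subgroup.map_mono (hv U V hUV hUP')
  set E := closure {v | v ∈ Good ∧ v ∈ (S : Subgroup X)} with hE
  have hES : E ≤ (S : Subgroup X) := (closure_le _).2 fun v hv => hv.2
  have hEgood : ∀ g : X, E.map (MulAut.conj g).toMonoidHom ≤ (S : Subgroup X) →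
      g ∈ normalizer (E : Set X) := by
    intro g hg
    rw [← map_conj_eq_self_iff]
    refine eq_of_le_of_card_ge ?_ (card_map_conj E g).ge
    rw [hE, MonoidHom.map_closure, closure_le]
    rintro _ ⟨v, ⟨hvG, hvS⟩, rfl⟩
    exact subset_closure ⟨hGconj v hvG g, hg ⟨v, subset_closure ⟨hvG, hvS⟩, rfl⟩⟩
  have huE : u ∈ E := subset_closure ⟨hcon, huS⟩
  have hNE : normalizer (E : Set X) ≤ M := by
    refine hmf.le_M (fun s hs => hEgood s ?_) fun e => huP ?_
    · rintro _ ⟨x, hx, rfl⟩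
      exact mul_mem (mul_mem hs (hES hx)) (inv_mem hs)
    · exact CfsgLib.PCore.le_pCore (normalizer_eq_top_iff.1 e) (S.2.to_le hES) huE
  -- the homomorphism
  have hTn : (T.subgroupOf M).Normal := normal_in_normalizer
  let ϕ₀ : M →* (M ⧸ T.subgroupOf M) := QuotientGroup.mk' _
  let ϕ : M →* Abelianization (M ⧸ T.subgroupOf M) := Abelianization.of.comp ϕ₀
  have hkill : ∀ a : U, ϕ ⟨a, (hUP.trans (hPS.trans hSM)) a.2⟩ = 1 := by
    refine eq_one_of_orbit_norm S M hSM U V hVn (hUP.trans (hPS.trans hSM))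
      (hUle.trans inf_le_right) ϕ (fun x hx => ?_) Good (fun v hv _ w hw a =>
        prod_conj_eq_one_of_iterCommutator hch hUp (hv U V hch hUP) w hw a) (fun g hg => ?_)
    · show Abelianization.of (ϕ₀ x) = 1
      rw [show ϕ₀ x = 1 from (QuotientGroup.eq_one_iff x).2
        (mem_inf.2 ⟨hVτ hx, hUP (hVU.le hx)⟩), map_one]
    · have hle : E.map (MulAut.conj g⁻¹).toMonoidHom ≤ M := by
        rw [hE, MonoidHom.map_closure, closure_le]
        rintro _ ⟨v, ⟨hvG, hvS⟩, rfl⟩
        simpa using hg v hvG hvS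
      obtain ⟨m, hm, hmE⟩ := exists_conj_le_sylow_of hle (isPGroup_map_conj (S.2.to_le hES) g⁻¹) hSM S.2
        (not_dvd_relIndex_sylow S hSM)
      rw [← map_conj_mul] at hmE
      have h3 := hNE (hEgood _ hmE)
      have h4 := mul_mem (inv_mem h3) hm
      simpa using h4
  -- conclude `U ≤ τ`
  apply hUτ
  intro a ha
  have h0 := hkill ⟨a, ha⟩
  have hmem : ϕ₀ ⟨a, (hUP.trans (hPS.trans hSM)) ha⟩ ∈ _root_.commutator (M ⧸ T.subgroupOf M) := by
    rw [← Abelianization.ker_of]; exact h0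
  rw [_root_.commutator_def, ← map_top_of_surjective ϕ₀ (QuotientGroup.mk'_surjective _),
    ← map_commutator, ← _root_.commutator_def] at hmem
  obtain ⟨m, hm, hma⟩ := hmem
  have hmT : (m : X)⁻¹ * a ∈ T := by
    have := QuotientGroup.eq.1 hma
    rwa [mem_subgroupOf] at this
  have hmP : (m : X) ∈ P := by
    have h1 := mul_mem (hUP ha) (inv_mem (mem_inf.1 hmT).2)
    simpa using h1
  have hmc : (m : X) ∈ ⁅M, M⁆ := commutator_inf_le_comap m.2 hm
  have h2 := hmf.inf_commutator_M.2 (mem_inf.2 ⟨hmP, hmc⟩)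
  simpa using mul_mem (mem_inf.1 h2).2 (mem_inf.1 hmT).1

end CfsgLib.Techniques.Fusion
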