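import Cfsg.Agent.Lib.Techniques.OddSCNCore

/-!
# A normal abelian invariant subgroup on whose socle an odd automorphism is fixed-point-free
-/

set_option autoImplicit false
set_option linter.style.haveILetI false

namespace CfsgLib.Techniques.OddSCN

open Subgroup
open scoped commutatorElement

variable {X : Type*} [Group X] [Finite X]

namespace Setting

/-- A normal abelian invariant subgroup `U ≥ Ω₁(Z)` and an element `φ` of `A` moving `Ω₁(Z)`. -/
structure Frame (S : Setting X) where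
  U : Subgroup X
  good : S.Good U
  le : omegaCenter X ≤ U
  φ : MulAut X
  mem : φ ∈ S.A
  move : ∃ w ∈ omegaCenter X, φ w ≠ w
  /-- an element with non-trivial square -/
  v : X
  v_mem : v ∈ U
  v_sq : v ^ 2 ≠ 1

variable {S : Setting X} (F : Frame S)

namespace Frame

include F

theorem nontriv : Nontrivial X := ⟨⟨F.v, 1, fun h => F.v_sq (by rw [h, one_pow])⟩⟩

theorem action : Nat.card (omegaCenter X) = 4 ∧
      (∀ w ∈ omegaCenter X, F.φ w = w → w = 1) ∧
      ∀ w ∈ omegaCenter X, w ≠ 1 → F.φ (F.φ w) = w * F.φ w ∧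
        ∀ v ∈ omegaCenter X, v = 1 ∨ v = w ∨ v = F.φ w ∨ v = w * F.φ w := by
  haveI := F.nontriv
  exact S.omega_action F.mem F.move

theorem omega_of_sq {u : X} (hu : u ∈ F.U) (h : u ^ 2 = 1) : u ∈ omegaCenter X :=
  haveI := F.nontriv; S.mem_omega_of_good F.good hu h

theorem comm {a b : X} (ha : a ∈ F.U) (hb : b ∈ F.U) : Commute a b := S.good_comm F.good ha hb

theorem φ_mem {u : X} (hu : u ∈ F.U) : F.φ u ∈ F.U := F.good.2.1 F.φ F.mem u hu

/-- Every element of the socle is the square of an element of order dividing four. -/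
theorem exists_sq {w : X} (hw : w ∈ omegaCenter X) : ∃ m ∈ F.U, m ^ 4 = 1 ∧ m ^ 2 = w := by
  obtain ⟨n, h1, h2⟩ := exists_pow_four S.isP F.v_sq
  set m := F.v ^ n with hm
  have hmU : m ∈ F.U := pow_mem F.v_mem n
  have hw0 : m ^ 2 ∈ omegaCenter X := F.omega_of_sq (pow_mem hmU 2) (by rw [← pow_mul]; exact h2)
  obtain ⟨-, hall⟩ := F.action.2.2 _ hw0 h1
  rcases hall w hw with rfl | rfl | rfl | rfl
  · exact ⟨1, one_mem _, one_pow _, one_pow _⟩
  · exact ⟨m, hmU, h2, rfl⟩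
  · exact ⟨F.φ m, F.φ_mem hmU, by rw [← map_pow, h2, map_one], (map_pow F.φ m 2).symm⟩
  · refine ⟨m * F.φ m, mul_mem hmU (F.φ_mem hmU), ?_, ?_⟩
    · rw [(F.comm hmU (F.φ_mem hmU)).mul_pow, ← map_pow, h2, map_one, one_mul]
    · rw [(F.comm hmU (F.φ_mem hmU)).mul_pow, ← map_pow]

theorem eq_one_of_fixed {u : X} (hu : u ∈ F.U) (h : F.φ u = u) : u = 1 := by
  by_contra hne
  obtain ⟨n, h1, h2⟩ := exists_pow_involution S.isP hne
  exact h1 (F.action.2.1 _ (F.omega_of_sq (pow_mem hu n) h2) (by rw [map_pow, h]))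

/-- An element of `U` fixed modulo squares is a square. -/
theorem sq_of_fixed_mod {u y : X} (hu : u ∈ F.U) (hy : y ∈ F.U) (h : u⁻¹ * F.φ u = y ^ 2) :
    ∃ z ∈ F.U, z ^ 2 = u := by
  have hφu : F.φ u = u * y ^ 2 := by rw [← h, mul_inv_cancel_left]
  let s : ℕ → X := fun n => Nat.rec 1 (fun _ t => u * F.φ t) n
  have hs : ∀ n, s n ∈ F.U := by
    intro n
    induction n with
    | zero => exact one_mem _
    | succ n ih => exact mul_mem hu (F.φ_mem ih)
  have htel : ∀ n, s (n + 1) = s n * (F.φ ^ n) u := by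
    intro n
    induction n with
    | zero => simp [s]
    | succ n ih =>
      show u * F.φ (s (n + 1)) = s (n + 1) * (F.φ ^ (n + 1)) u
      rw [ih, map_mul, ← mul_assoc, ← MulAut.mul_apply, ← pow_succ', ← ih]
  have hcong : ∀ n, ∃ z ∈ F.U, s n = u ^ n * z ^ 2 := by
    intro n
    induction n with
    | zero => exact ⟨1, one_mem _, by simp [s]⟩
    | succ n ih =>
      obtain ⟨z, hz, hzs⟩ := ih
      refine ⟨y ^ n * F.φ z, mul_mem (pow_mem hy n) (F.φ_mem hz), ?_⟩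
      show u * F.φ (s n) = _
      rw [hzs, map_mul, map_pow, map_pow, hφu, (F.comm hu (pow_mem hy 2)).mul_pow, ← pow_mul,
        (F.comm (pow_mem hy n) (F.φ_mem hz)).mul_pow, ← pow_mul, Nat.mul_comm 2 n, pow_succ' u]
      simp only [mul_assoc]
  have hfix : s (orderOf F.φ) = 1 := by
    apply F.eq_one_of_fixed (hs _)
    have h1 : s (orderOf F.φ + 1) = s (orderOf F.φ) * u := by
      rw [htel, pow_orderOf_eq_one, MulAut.one_apply]
    have h2 : u * F.φ (s (orderOf F.φ)) = u * s (orderOf F.φ) := by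
      rw [(F.comm hu (hs _)).eq]; exact h1
    exact mul_left_cancel h2
  obtain ⟨z, hz, hzs⟩ := hcong (orderOf F.φ)
  obtain ⟨m, hm⟩ := S.odd_orderOf F.mem
  refine ⟨z⁻¹ * u⁻¹ ^ m, mul_mem (inv_mem hz) (pow_mem (inv_mem hu) m), ?_⟩
  rw [hfix, hm, pow_succ', mul_assoc, eq_comm, mul_eq_one_iff_eq_inv] at hzs
  calc (z⁻¹ * u⁻¹ ^ m) ^ 2 = (z ^ 2)⁻¹ * (u ^ (2 * m))⁻¹ := by
        rw [(F.comm (inv_mem hz) (pow_mem (inv_mem hu) m)).mul_pow, inv_pow, ← pow_mul, inv_pow,
          Nat.mul_comm m 2]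
    _ = u := by rw [← mul_inv_rev]; exact hzs.symm

/-- Being a square in `U`. -/
def IsSq (u : X) : Prop := ∃ z ∈ F.U, z ^ 2 = u

theorem isSq_mem {u : X} (h : F.IsSq u) : u ∈ F.U := by
  obtain ⟨z, hz, rfl⟩ := h; exact pow_mem hz 2

theorem isSq_mul {a b : X} (ha : F.IsSq a) (hb : F.IsSq b) : F.IsSq (a * b) := by
  obtain ⟨y, hy, rfl⟩ := ha
  obtain ⟨z, hz, rfl⟩ := hb
  exact ⟨y * z, mul_mem hy hz, (F.comm hy hz).mul_pow 2⟩

theorem isSq_inv {a : X} (ha : F.IsSq a) : F.IsSq a⁻¹ := by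
  obtain ⟨y, hy, rfl⟩ := ha
  exact ⟨y⁻¹, inv_mem hy, inv_pow y 2⟩

theorem isSq_sq {a : X} (ha : a ∈ F.U) : F.IsSq (a ^ 2) := ⟨a, ha, rfl⟩

theorem isSq_omega {w : X} (hw : w ∈ omegaCenter X) : F.IsSq w :=
  let ⟨m, hm, _, h⟩ := F.exists_sq hw; ⟨m, hm, h⟩

/-- The four classes of `U` modulo squares. -/
theorem classes {u : X} (hu : u ∈ F.U) (hns : ¬ F.IsSq u) :
    ¬ F.IsSq (F.φ u) ∧ ¬ F.IsSq (u * F.φ u) ∧
      ∀ x ∈ F.U, F.IsSq x ∨ F.IsSq (u⁻¹ * x) ∨ F.IsSq ((F.φ u)⁻¹ * x) ∨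
        F.IsSq ((u * F.φ u)⁻¹ * x) := by
  classical
  have h1 : ¬ F.IsSq (F.φ u) := by
    rintro ⟨z, hz, h⟩
    refine hns ⟨F.φ⁻¹ z, F.good.2.1 _ (inv_mem F.mem) z hz, ?_⟩
    rw [← map_pow, h]
    exact F.φ.symm_apply_apply u
  have h2 : ¬ F.IsSq (u⁻¹ * F.φ u) := by
    rintro ⟨y, hy, h⟩
    exact hns (F.sq_of_fixed_mod hu hy h.symm)
  have h3 : ¬ F.IsSq (u * F.φ u) := by
    intro h
    refine h2 ?_
    have := F.isSq_mul (F.isSq_inv (F.isSq_sq hu)) h
    rwa [pow_two, mul_inv_rev, mul_assoc, inv_mul_cancel_left] at this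
  refine ⟨h1, h3, fun x hx => ?_⟩
  let sq : F.U →* F.U := MonoidHom.mk' (fun a => a ^ 2) fun a b =>
    (show Commute a b from Subtype.ext (F.comm a.2 b.2).eq).mul_pow 2
  have hrange : ∀ a : F.U, a ∈ sq.range ↔ F.IsSq a := by
    intro a
    constructor
    · rintro ⟨b, rfl⟩; exact ⟨b, b.2, rfl⟩
    · rintro ⟨b, hb, h⟩; exact ⟨⟨b, hb⟩, Subtype.ext h⟩
  haveI : sq.range.Normal := ⟨fun n hn g => by
    rwa [(show Commute g n from Subtype.ext (F.comm g.2 n.2).eq).eq, mul_inv_cancel_right]⟩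
  have hker : Nat.card sq.ker = 4 := by
    rw [← F.action.1]
    refine Nat.card_congr
      { toFun := fun a => ⟨(a.1 : X), F.omega_of_sq a.1.2 (congrArg Subtype.val a.2)⟩
        invFun := fun w => ⟨⟨(w : X), F.le w.2⟩, Subtype.ext w.2.2⟩
        left_inv := fun a => rfl
        right_inv := fun w => rfl }
  have hidx : Nat.card (F.U ⧸ sq.range) = 4 := by
    have e1 := Subgroup.card_eq_card_quotient_mul_card_subgroup sq.range
    have e2 := Subgroup.card_eq_card_quotient_mul_card_subgroup sq.ker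
    rw [Nat.card_congr (QuotientGroup.quotientKerEquivRange sq).toEquiv, hker, e1, mul_comm] at e2
    exact Nat.eq_of_mul_eq_mul_left (Nat.card_pos (α := sq.range)) e2
  let q : X → F.U ⧸ sq.range := fun a => if h : a ∈ F.U then ((⟨a, h⟩ : F.U) : F.U ⧸ sq.range) else 1
  have hq : ∀ a b : X, a ∈ F.U → b ∈ F.U → (q a = q b ↔ F.IsSq (a⁻¹ * b)) := by
    intro a b ha hb
    simp only [q, dif_pos ha, dif_pos hb, QuotientGroup.eq, hrange]
    rfl
  have hφu := F.φ_mem hu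
  have hne : ∀ a b : X, a ∈ F.U → b ∈ F.U → ¬ F.IsSq (a⁻¹ * b) → q a ≠ q b :=
    fun a b ha hb h e => h ((hq a b ha hb).1 e)
  let T : Finset (F.U ⧸ sq.range) := {q 1, q u, q (F.φ u), q (u * F.φ u)}
  have hT : T.card = 4 := by
    simp only [T]
    rw [Finset.card_insert_of_notMem, Finset.card_insert_of_notMem, Finset.card_pair]
    · refine hne _ _ hφu (mul_mem hu hφu) ?_
      rw [(F.comm hu hφu).eq, inv_mul_cancel_left]; exact hns
    · simp only [Finset.mem_insert, Finset.mem_singleton]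
      rintro (h | h)
      · exact hne _ _ hu hφu h2 h
      · refine hne _ _ hu (mul_mem hu hφu) ?_ h
        rw [inv_mul_cancel_left]; exact h1
    · simp only [Finset.mem_insert, Finset.mem_singleton]
      rintro (h | h | h)
      · exact hne _ _ (one_mem _) hu (by rwa [inv_one, one_mul]) h
      · exact hne _ _ (one_mem _) hφu (by rwa [inv_one, one_mul]) h
      · exact hne _ _ (one_mem _) (mul_mem hu hφu) (by rwa [inv_one, one_mul]) h
  haveI := Fintype.ofFinite (F.U ⧸ sq.range)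
  have htop : T = Finset.univ := Finset.eq_univ_of_card _ (by rw [hT, ← Nat.card_eq_fintype_card, hidx])
  have hx' : q x ∈ T := htop ▸ Finset.mem_univ _
  simp only [T, Finset.mem_insert, Finset.mem_singleton] at hx'
  rcases hx' with h | h | h | h
  · left
    have := (hq 1 x (one_mem _) hx).1 h.symm
    rwa [inv_one, one_mul] at this
  · exact Or.inr (Or.inl ((hq _ x hu hx).1 h.symm))
  · exact Or.inr (Or.inr (Or.inl ((hq _ x hφu hx).1 h.symm)))
  · exact Or.inr (Or.inr (Or.inr ((hq _ x (mul_mem hu hφu) hx).1 h.symm)))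

end Frame

end Setting

end CfsgLib.Techniques.OddSCN
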