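import Cfsg.Prelude.Def_Transfer
import Cfsg.Agent.Lib.PGroup.Class2
import Cfsg.Agent.Lib.PLocal5.PGroupBasic
import Cfsg.Agent.Lib.MacWilliams.OmegaCentral
import Cfsg.Agent.Lib.FusionNormal.SmallChar

/-!
# Two-groups without normal elementary abelian subgroups of order 8, with an odd group of automorphisms

Generalities on a 2-group `X` without normal elementary abelian subgroups of order 8 and a group `A` of
automorphisms of odd order with `[X, A] = X`.
-/

set_option autoImplicit false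
set_option linter.style.haveILetI false

namespace CfsgLib.Techniques.OddSCN

open Subgroup
open scoped commutatorElement

variable {X : Type*} [Group X]

/-- A 2-group without normal elementary abelian subgroup of order 8 and an odd group of automorphisms
with `[X, A] = X`. -/
structure Setting (X : Type*) [Group X] where
  A : Subgroup (MulAut X)
  isP : IsPGroup 2 X
  odd : Odd (Nat.card A)
  gen : Subgroup.closure {g : X | ∃ φ ∈ A, ∃ x : X, g = x⁻¹ * φ x} = ⊤
  eight : ∀ E : Subgroup X, E.Normal → IsMulCommutative E → (∀ e ∈ E, e ^ 2 = 1) → Nat.card E ≤ 4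

/-- The involutions of the centre, with the identity. -/
def omegaCenter (X : Type*) [Group X] : Subgroup X where
  carrier := {x | x ∈ center X ∧ x ^ 2 = 1}
  one_mem' := ⟨one_mem _, one_pow _⟩
  mul_mem' := fun {a b} ha hb => ⟨mul_mem ha.1 hb.1, by
    rw [(show Commute a b from (mem_center_iff.1 ha.1 b).symm).mul_pow, ha.2, hb.2, one_mul]⟩
  inv_mem' := fun {a} ha => ⟨inv_mem ha.1, by rw [inv_pow, ha.2, inv_one]⟩

theorem mem_omegaCenter {x : X} : x ∈ omegaCenter X ↔ x ∈ center X ∧ x ^ 2 = 1 := Iff.rfl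

theorem comm_eq_commutator_sq (x y : X) :
    ⁅y, x⁆ = (y * x) ^ 2 * (x⁻¹) ^ 2 * (x * y⁻¹ * x⁻¹) ^ 2 := by
  simp only [commutatorElement_def, sq]; group

theorem inv_of_sq_eq_one {w : X} (h : w ^ 2 = 1) : w⁻¹ = w :=
  inv_eq_of_mul_eq_one_right (by rwa [← pow_two])

/-- A non-identity element of a 2-group has a power which is an involution. -/
theorem exists_pow_involution (hX : IsPGroup 2 X) {u : X} (hu : u ≠ 1) :
    ∃ n : ℕ, u ^ n ≠ 1 ∧ (u ^ n) ^ 2 = 1 := by
  classical
  obtain ⟨k, hk⟩ := hX u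
  let n := Nat.find (p := fun n => u ^ 2 ^ n = 1) ⟨k, hk⟩
  have hn : u ^ 2 ^ n = 1 := Nat.find_spec (p := fun n => u ^ 2 ^ n = 1) ⟨k, hk⟩
  rcases Nat.eq_zero_or_eq_succ_pred n with h0 | h0
  · rw [h0, pow_zero, pow_one] at hn; exact absurd hn hu
  · refine ⟨2 ^ n.pred, Nat.find_min (p := fun n => u ^ 2 ^ n = 1) ⟨k, hk⟩
      (show n.pred < n by omega), ?_⟩
    rw [← pow_mul, ← pow_succ, show n.pred + 1 = n from h0.symm]
    exact hn

/-- An element with non-trivial square has a power with square an involution. -/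
theorem exists_pow_four (hX : IsPGroup 2 X) {u : X} (hu : u ^ 2 ≠ 1) :
    ∃ n : ℕ, (u ^ n) ^ 2 ≠ 1 ∧ (u ^ n) ^ 4 = 1 := by
  obtain ⟨n, h1, h2⟩ := exists_pow_involution hX hu
  refine ⟨n, by rwa [← pow_mul, mul_comm, pow_mul], ?_⟩
  rw [← h2]
  simp only [← pow_mul]
  congr 1
  ring

/-- If every element of `K` lies in `U`, `kU`, `lU` or `klU`, with `U` commuting with `K` and central
commutators, then all commutators in `K` are powers of `⁅k, l⁆`. -/
theorem comm_two {K U : Subgroup X} {k l : X} (hk : k ∈ K) (hl : l ∈ K) (hUK : U ≤ K)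
    (hcomm : ∀ u ∈ U, ∀ m ∈ K, Commute u m) (hcen : ∀ m ∈ K, ∀ n ∈ K, ⁅m, n⁆ ∈ center X)
    (hcov : ∀ m ∈ K, ∃ u ∈ U, m = u ∨ m = k * u ∨ m = l * u ∨ m = k * l * u) :
    ∀ m ∈ K, ∀ n ∈ K, ⁅m, n⁆ ∈ zpowers ⁅k, l⁆ := by
  set S := zpowers ⁅k, l⁆
  have hkl : ⁅k, l⁆ ∈ S := mem_zpowers _
  have hlk : ⁅l, k⁆ ∈ S := by rw [← commutatorElement_inv k l]; exact inv_mem hkl
  have hU : ∀ u ∈ U, ∀ m ∈ K, ⁅u, m⁆ = 1 ∧ ⁅m, u⁆ = 1 := fun u hu m hm =>
    ⟨commutatorElement_eq_one_iff_commute.2 (hcomm u hu m hm),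
      commutatorElement_eq_one_iff_commute.2 (hcomm u hu m hm).symm⟩
  have hR : ∀ a ∈ K, ⁅a, k⁆ ∈ S → ⁅a, l⁆ ∈ S → ∀ n ∈ K, ⁅a, n⁆ ∈ S := by
    intro a ha hak hal n hn
    obtain ⟨u, hu, h⟩ := hcov n hn
    have e : ∀ b ∈ K, ⁅a, b * u⁆ = ⁅a, b⁆ := fun b _ => by
      rw [CfsgLib.PGroup.commutatorElement_mul_right_of_central _ _ _ (hcen a ha u (hUK hu)),
        (hU u hu a ha).2, mul_one]
    rcases h with rfl | rfl | rfl | rfl
    · rw [(hU n hu a ha).2]; exact one_mem _
    · rw [e k hk]; exact hak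
    · rw [e l hl]; exact hal
    · rw [e _ (mul_mem hk hl),
        CfsgLib.PGroup.commutatorElement_mul_right_of_central _ _ _ (hcen a ha l hl)]
      exact mul_mem hak hal
  have hK : ∀ n ∈ K, ⁅k, n⁆ ∈ S := hR k hk (by simp) hkl
  have hL : ∀ n ∈ K, ⁅l, n⁆ ∈ S := hR l hl hlk (by simp)
  intro m hm n hn
  obtain ⟨u, hu, h⟩ := hcov m hm
  have e : ∀ b ∈ K, ⁅b * u, n⁆ = ⁅b, n⁆ := fun b _ => by
    rw [CfsgLib.PGroup.commutatorElement_mul_left_of_central _ _ _ (hcen u (hUK hu) n hn),
      (hU u hu n hn).1, mul_one]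
  rcases h with rfl | rfl | rfl | rfl
  · rw [(hU m hu n hn).1]; exact one_mem _
  · rw [e k hk]; exact hK n hn
  · rw [e l hl]; exact hL n hn
  · rw [e _ (mul_mem hk hl),
      CfsgLib.PGroup.commutatorElement_mul_left_of_central _ _ _ (hcen l hl n hn)]
    exact mul_mem (hK n hn) (hL n hn)

variable [Finite X]

/-- A normal subgroup `C` strictly above a normal subgroup `U` of a 2-group contains an element
outside `U` which is central of order two modulo `U`. -/
theorem exists_layer (hX : IsPGroup 2 X) (U C : Subgroup X) [U.Normal] [C.Normal] (h : ¬ C ≤ U) :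
    ∃ k ∈ C ⊔ U, k ∉ U ∧ (∀ g : X, ⁅k, g⁆ ∈ U) ∧ k ^ 2 ∈ U := by
  haveI : Fact (Nat.Prime 2) := ⟨Nat.prime_two⟩
  set f := QuotientGroup.mk' U with hf
  haveI : (C.map f).Normal := Subgroup.Normal.map inferInstance f (QuotientGroup.mk'_surjective U)
  have hne : C.map f ≠ ⊥ := by rwa [Ne, Subgroup.map_eq_bot_iff, QuotientGroup.ker_mk']
  obtain ⟨z, hz, hzc, hzo⟩ := CfsgLib.PGroupBasic.exists_central_orderOf_eq (hX.to_quotient U) _ hne
  obtain ⟨k, hk, rfl⟩ := hz
  refine ⟨k, mem_sup_left hk, fun hkU => ?_, fun g => ?_, ?_⟩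
  · rw [hf, QuotientGroup.mk'_apply, (QuotientGroup.eq_one_iff k).2 hkU, orderOf_one] at hzo
    omega
  · rw [← QuotientGroup.eq_one_iff, ← QuotientGroup.mk'_apply, map_commutatorElement,
      commutatorElement_eq_one_iff_mul_comm]
    exact (mem_center_iff.1 hzc _).symm
  · rw [← QuotientGroup.eq_one_iff, ← QuotientGroup.mk'_apply, map_pow, ← hzo]
    exact pow_orderOf_eq_one _

namespace Setting

variable (S : Setting X)

/-- Invariance under `A`. -/
def Inv (N : Subgroup X) : Prop := ∀ φ ∈ S.A, ∀ x ∈ N, φ x ∈ N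

/-- Normal abelian `A`-invariant subgroups. -/
def Good (U : Subgroup X) : Prop := U.Normal ∧ S.Inv U ∧ IsMulCommutative U

omit [Finite X] in
theorem good_comm {U : Subgroup X} (hU : S.Good U) {a b : X} (ha : a ∈ U) (hb : b ∈ U) :
    Commute a b := congrArg Subtype.val (hU.2.2.is_comm.comm ⟨a, ha⟩ ⟨b, hb⟩)

omit [Finite X] in
theorem inv_of_characteristic (N : Subgroup X) [hN : N.Characteristic] : S.Inv N := fun φ _ _ hx =>
  (Subgroup.characteristic_iff_le_comap.1 hN φ) hx

omit [Finite X] in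
theorem inv_omega : S.Inv (omegaCenter X) := fun φ hφ x hx =>
  ⟨S.inv_of_characteristic (center X) φ hφ x hx.1, by rw [← map_pow, hx.2, map_one]⟩

omit [Finite X] in
theorem normal_omega : (omegaCenter X).Normal := ⟨fun w hw g => by
  rwa [mem_center_iff.1 hw.1 g, mul_inv_cancel_right]⟩

omit [Finite X] in
theorem good_closure (s : Set X) (hconj : ∀ g : X, ∀ a ∈ s, g * a * g⁻¹ ∈ closure s)
    (hinv : ∀ φ ∈ S.A, ∀ a ∈ s, φ a ∈ closure s) (hcomm : ∀ a ∈ s, ∀ b ∈ s, a * b = b * a) :
    S.Good (closure s) := by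
  refine ⟨⟨fun x hx g => ?_⟩, fun φ hφ x hx => ?_, Subgroup.isMulCommutative_closure hcomm⟩
  · have : closure s ≤ (closure s).comap (MulAut.conj g).toMonoidHom := by
      rw [closure_le]
      intro a ha
      simpa using hconj g a ha
    simpa using this hx
  · have : closure s ≤ (closure s).comap φ.toMonoidHom := by
      rw [closure_le]
      intro a ha
      simpa using hinv φ hφ a ha
    simpa using this hx

omit [Finite X] in
theorem sq_eq_one_closure (s : Set X) (hcomm : ∀ a ∈ s, ∀ b ∈ s, a * b = b * a)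
    (hs : ∀ a ∈ s, a ^ 2 = 1) : ∀ x ∈ closure s, x ^ 2 = 1 := by
  intro x hx
  have hc := Subgroup.isMulCommutative_closure hcomm
  induction hx using Subgroup.closure_induction with
  | mem a ha => exact hs a ha
  | one => exact one_pow 2
  | mul a b ha hb iha ihb =>
    rw [(show Commute a b from congrArg Subtype.val (hc.is_comm.comm ⟨a, ha⟩ ⟨b, hb⟩)).mul_pow,
      iha, ihb, one_mul]
  | inv a ha iha => rw [inv_pow, iha, inv_one]

omit [Finite X] in
/-- An invariant homomorphism is trivial. -/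
theorem hom_trivial {H : Type*} [Group H] (f : X →* H) (hf : ∀ φ ∈ S.A, ∀ x, f (φ x) = f x) (x : X) :
    f x = 1 := by
  have : (⊤ : Subgroup X) ≤ f.ker := by
    rw [← S.gen, closure_le]
    rintro _ ⟨φ, hφ, y, rfl⟩
    simp [hf φ hφ y]
  exact this (mem_top x)

/-- An element fixed modulo a normal subgroup containing all squares lies in it. -/
theorem mem_of_fixed_mod (N : Subgroup X) [N.Normal] (hsq : ∀ x : X, x ^ 2 ∈ N) {x0 : X}
    (h : ∀ φ ∈ S.A, x0⁻¹ * φ x0 ∈ N) : x0 ∈ N := by
  classical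
  have hq : ∀ v : X ⧸ N, v ^ 2 = 1 := by
    intro v
    obtain ⟨a, rfl⟩ := QuotientGroup.mk_surjective v
    exact (QuotientGroup.eq_one_iff (a ^ 2)).2 (hsq a)
  letI : CommGroup (X ⧸ N) :=
    { (inferInstance : Group (X ⧸ N)) with
      mul_comm := fun a b => by
        have h1 := inv_of_sq_eq_one (hq (a * b))
        rw [mul_inv_rev, inv_of_sq_eq_one (hq a), inv_of_sq_eq_one (hq b)] at h1
        exact h1.symm }
  haveI : Finite (MulAut X) :=
    Finite.of_injective (fun f : MulAut X => (f : X → X)) DFunLike.coe_injective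
  letI : Fintype S.A := Fintype.ofFinite _
  let g : X →* X ⧸ N := MonoidHom.mk' (fun x => ∏ φ : S.A, ((((φ : MulAut X) x) : X) : X ⧸ N))
    fun a b => by simp only [map_mul, QuotientGroup.mk_mul, Finset.prod_mul_distrib]
  have hg : ∀ ψ ∈ S.A, ∀ x, g (ψ x) = g x := by
    intro ψ hψ x
    show ∏ φ : S.A, ((((φ : MulAut X) (ψ x)) : X) : X ⧸ N) = ∏ φ : S.A, _
    exact Fintype.prod_equiv (Equiv.mulRight ⟨ψ, hψ⟩) _ _ fun φ => rfl
  have h1 := S.hom_trivial g hg x0
  have h2 : g x0 = (x0 : X ⧸ N) ^ Fintype.card S.A := by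
    show ∏ φ : S.A, ((((φ : MulAut X) x0) : X) : X ⧸ N) = _
    rw [Finset.prod_congr rfl (fun (φ : S.A) _ =>
      (QuotientGroup.eq.2 (h φ φ.2)).symm)]
    simp
  rw [← Nat.card_eq_fintype_card] at h2
  obtain ⟨m, hm⟩ := S.odd
  rw [h1, hm, pow_succ, pow_mul, hq, one_pow, one_mul, eq_comm, QuotientGroup.eq_one_iff] at h2
  exact h2

omit [Finite X] in
/-- A normal subgroup fixed by `A` is central. -/
theorem le_center_of_fixed (K : Subgroup X) [hK : K.Normal] (h : ∀ φ ∈ S.A, ∀ k ∈ K, φ k = k) :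
    K ≤ center X := by
  have : (⊤ : Subgroup X) ≤ centralizer (K : Set X) := by
    rw [← S.gen, closure_le]
    rintro _ ⟨φ, hφ, x, rfl⟩
    rw [SetLike.mem_coe, mem_centralizer_iff]
    intro k hk
    have h1 := h φ hφ _ (hK.conj_mem k hk x)
    rw [map_mul, map_mul, map_inv, h φ hφ k hk] at h1
    calc k * (x⁻¹ * φ x) = x⁻¹ * (x * k * x⁻¹) * φ x := by group
      _ = x⁻¹ * (φ x * k * (φ x)⁻¹) * φ x := by rw [h1]
      _ = x⁻¹ * φ x * k := by group
  intro k hk
  exact mem_center_iff.2 fun g => (mem_centralizer_iff.1 (this (mem_top g)) k hk).symm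

theorem odd_orderOf {φ : MulAut X} (hφ : φ ∈ S.A) : Odd (orderOf φ) := by
  exact Odd.of_dvd_nat S.odd (Subgroup.orderOf_dvd_natCard S.A hφ)

/-- An element of `A` fixing the involutions of an invariant abelian subgroup fixes the subgroup. -/
theorem fixed_of_fixed_involutions {φ : MulAut X} (hφ : φ ∈ S.A) {K : Subgroup X}
    (hK : ∀ a ∈ K, ∀ b ∈ K, Commute a b) (hinv : ∀ k ∈ K, φ k ∈ K)
    (h : ∀ k ∈ K, k ^ 2 = 1 → φ k = k) : ∀ k ∈ K, φ k = k := by
  haveI : Fact (Nat.Prime 2) := ⟨Nat.prime_two⟩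
  suffices key : ∀ n : ℕ, ∀ k ∈ K, k ^ 2 ^ n = 1 → φ k = k from fun k hk =>
    let ⟨n, hn⟩ := S.isP k; key n k hk hn
  intro n
  induction n with
  | zero => intro k _ hk; rw [pow_zero, pow_one] at hk; rw [hk, map_one]
  | succ n ih =>
    intro k hk hkn
    have h2 : φ (k ^ 2) = k ^ 2 := ih _ (pow_mem hk 2) (by rw [← pow_mul, ← pow_succ']; exact hkn)
    refine CfsgLib.FusionNormal.fix_of_step S.isP φ (S.odd_orderOf hφ).coprime_two_right
      (h _ (mul_mem (inv_mem hk) (hinv k hk)) ?_)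
    rw [(hK _ (inv_mem hk) _ (hinv k hk)).mul_pow, inv_pow, ← map_pow, h2, inv_mul_cancel]

/-- An element of `A` fixing a non-identity element of an invariant subgroup of order at most 4
fixes the subgroup. -/
theorem fixed_of_card_le_four {φ : MulAut X} (hφ : φ ∈ S.A) {E : Subgroup X}
    (hE4 : Nat.card E ≤ 4) (hinv : ∀ e ∈ E, φ e ∈ E) {a : X} (ha : a ∈ E) (ha1 : a ≠ 1)
    (hfix : φ a = a) : ∀ u ∈ E, φ u = u := by
  classical
  intro u hu
  by_contra hne
  have hu1 : u ≠ 1 := by rintro rfl; exact hne (map_one φ)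
  have hua : u ≠ a := by rintro rfl; exact hne hfix
  have hφu1 : φ u ≠ 1 := fun h => hu1 (φ.injective (by rw [h, map_one]))
  have hφua : φ u ≠ a := fun h => hua (φ.injective (by rw [h, hfix]))
  have hφ2 : φ (φ u) = u := by
    by_contra hne2
    have hφφu1 : φ (φ u) ≠ 1 := fun h => hφu1 (φ.injective (by rw [h, map_one]))
    have hφφua : φ (φ u) ≠ a := fun h => hφua (φ.injective (by rw [h, hfix]))
    have hne3 : φ (φ u) ≠ φ u := fun h => hne (φ.injective h)
    let s : Finset X := {1, a, u, φ u, φ (φ u)}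
    have hs : s.card = 5 := by
      simp only [s]
      rw [Finset.card_insert_of_notMem, Finset.card_insert_of_notMem, Finset.card_insert_of_notMem,
        Finset.card_pair]
      · exact hne3.symm
      · simp only [Finset.mem_insert, Finset.mem_singleton]
        exact fun h => h.elim (fun h => hne h.symm) (fun h => hne2 h.symm)
      · simp only [Finset.mem_insert, Finset.mem_singleton]
        rintro (h | h | h)
        · exact hua h.symm
        · exact hφua h.symm
        · exact hφφua h.symm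
      · simp only [Finset.mem_insert, Finset.mem_singleton]
        rintro (h | h | h | h)
        · exact ha1 h.symm
        · exact hu1 h.symm
        · exact hφu1 h.symm
        · exact hφφu1 h.symm
    have hsE : (s : Set X) ⊆ E := by
      intro x hx
      simp only [s, Finset.coe_insert, Finset.coe_singleton, Set.mem_insert_iff, Set.mem_singleton_iff] at hx
      rcases hx with rfl | rfl | rfl | rfl | rfl
      · exact one_mem _
      · exact ha
      · exact hu
      · exact hinv u hu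
      · exact hinv _ (hinv u hu)
    have := Nat.card_mono (Set.toFinite (E : Set X)) hsE
    rw [Nat.card_coe_set_eq, Nat.card_coe_set_eq, Set.ncard_coe_finset, hs] at this
    have h5 : (5 : ℕ) ≤ Nat.card E := by rwa [← Nat.card_coe_set_eq] at this
    omega
  obtain ⟨m, hm⟩ := S.odd_orderOf hφ
  have hiter : ∀ i : ℕ, (φ ^ (2 * i)) u = u := by
    intro i
    induction i with
    | zero => simp
    | succ i ih =>
      rw [show 2 * (i + 1) = 2 * i + 1 + 1 by ring, pow_succ, pow_succ, MulAut.mul_apply,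
        MulAut.mul_apply, hφ2, ih]
  have h1 : φ ((φ ^ (2 * m)) u) = u := by
    rw [← MulAut.mul_apply, ← pow_succ', ← hm, pow_orderOf_eq_one, MulAut.one_apply]
  rw [hiter] at h1
  exact hne h1

include S

theorem nontrivial_omega [Nontrivial X] : omegaCenter X ≠ ⊥ := by
  haveI : Fact (Nat.Prime 2) := ⟨Nat.prime_two⟩
  obtain ⟨z, -, hzc, hzo⟩ := CfsgLib.PGroupBasic.exists_central_orderOf_eq S.isP (⊤ : Subgroup X)
    (by exact fun h => bot_ne_top h.symm)
  intro h
  have : z ∈ omegaCenter X := ⟨hzc, by rw [← hzo]; exact pow_orderOf_eq_one z⟩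
  rw [h, mem_bot] at this
  rw [this, orderOf_one] at hzo
  omega

theorem card_omega [Nontrivial X] : Nat.card (omegaCenter X) = 2 ∨ Nat.card (omegaCenter X) = 4 := by
  haveI : Fact (Nat.Prime 2) := ⟨Nat.prime_two⟩
  have h4 : Nat.card (omegaCenter X) ≤ 4 :=
    S.eight _ normal_omega ⟨⟨fun a b => Subtype.ext (mem_center_iff.1 b.2.1 a)⟩⟩ fun e he => he.2
  obtain ⟨n, hn⟩ := IsPGroup.iff_card.1 (S.isP.to_subgroup (omegaCenter X))
  have h1 : 1 < Nat.card (omegaCenter X) :=
    (omegaCenter X).one_lt_card_iff_ne_bot.2 S.nontrivial_omega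
  have hn2 : n ≤ 2 := (Nat.pow_le_pow_iff_right one_lt_two).1 (show 2 ^ n ≤ 2 ^ 2 by omega)
  interval_cases n <;> omega

/-- Involutions of normal abelian invariant subgroups are central. -/
theorem mem_omega_of_good [Nontrivial X] {U : Subgroup X} (hU : S.Good U) {u : X} (hu : u ∈ U)
    (hu2 : u ^ 2 = 1) : u ∈ omegaCenter X := by
  set s : Set X := {a | a ∈ U ∧ a ^ 2 = 1} ∪ (omegaCenter X : Set X) with hs
  have hcomm : ∀ a ∈ s, ∀ b ∈ s, a * b = b * a := by
    rintro a (⟨ha, -⟩ | ha) b (⟨hb, -⟩ | hb)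
    · exact S.good_comm hU ha hb
    · exact mem_center_iff.1 hb.1 a
    · exact (mem_center_iff.1 ha.1 b).symm
    · exact mem_center_iff.1 hb.1 a
  have hE : S.Good (closure s) := by
    refine S.good_closure s (fun g a ha => subset_closure ?_) (fun φ hφ a ha => subset_closure ?_) hcomm
    · rcases ha with ⟨ha, ha2⟩ | ha
      · exact Or.inl ⟨hU.1.conj_mem a ha g, by rw [conj_pow, ha2]; group⟩
      · exact Or.inr (normal_omega.conj_mem a ha g)
    · rcases ha with ⟨ha, ha2⟩ | ha
      · exact Or.inl ⟨hU.2.1 φ hφ a ha, by rw [← map_pow, ha2, map_one]⟩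
      · exact Or.inr (S.inv_omega φ hφ a ha)
  have hE2 : ∀ x ∈ closure s, x ^ 2 = 1 := by
    refine sq_eq_one_closure s hcomm ?_
    rintro a (⟨-, ha⟩ | ha)
    · exact ha
    · exact ha.2
  have hE4 := S.eight _ hE.1 hE.2.2 hE2
  have hWE : omegaCenter X ≤ closure s := fun w hw => subset_closure (Or.inr hw)
  have huE : u ∈ closure s := subset_closure (Or.inl ⟨hu, hu2⟩)
  rcases S.card_omega with h2 | h4
  · haveI := hE.1
    refine ⟨S.le_center_of_fixed (closure s) (fun φ hφ => ?_) huE, hu2⟩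
    obtain ⟨⟨z, hz⟩, hz1⟩ : ∃ z : omegaCenter X, z ≠ 1 := by
      haveI : Nontrivial (omegaCenter X) := Finite.one_lt_card_iff_nontrivial.1 (by omega)
      exact exists_ne 1
    have hz1' : z ≠ 1 := fun h => hz1 (Subtype.ext h)
    refine S.fixed_of_card_le_four hφ hE4 (hE.2.1 φ hφ) (hWE hz) hz1' ?_
    by_contra hne
    have hW2 : ∀ w ∈ omegaCenter X, w = 1 ∨ w = z := by
      intro w hw
      obtain ⟨v, hv, huniv⟩ := (Nat.card_eq_two_iff' (1 : omegaCenter X)).1 h2
      by_cases h : (⟨w, hw⟩ : omegaCenter X) = 1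
      · exact Or.inl (congrArg Subtype.val h)
      · exact Or.inr (congrArg Subtype.val ((huniv _ h).trans (huniv _ hz1).symm))
    rcases hW2 _ (S.inv_omega φ hφ z hz) with h | h
    · exact hz1' (φ.injective (by rw [h, map_one]))
    · exact hne h
  · rw [Subgroup.eq_of_le_of_card_ge hWE (by omega)]
    exact huE

/-- When `Z` has rank two, an involution with all commutators in the centre's socle is central. -/
theorem mem_omega_of_comm_mem (h4 : Nat.card (omegaCenter X) = 4) {t : X} (ht : t ^ 2 = 1)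
    (hc : ∀ g : X, ⁅t, g⁆ ∈ omegaCenter X) : t ∈ omegaCenter X := by
  set s : Set X := insert t (omegaCenter X : Set X) with hs
  have hcomm : ∀ a ∈ s, ∀ b ∈ s, a * b = b * a := by
    rintro a (rfl | ha) b (rfl | hb)
    · rfl
    · exact mem_center_iff.1 hb.1 a
    · exact (mem_center_iff.1 ha.1 b).symm
    · exact mem_center_iff.1 hb.1 a
  haveI : (closure s).Normal := ⟨fun x hx g => by
    have : closure s ≤ (closure s).comap (MulAut.conj g).toMonoidHom := by
      rw [closure_le]
      rintro a (rfl | ha)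
      · show g * a * g⁻¹ ∈ closure s
        rw [show g * a * g⁻¹ = ⁅a, g⁆⁻¹ * a by simp [commutatorElement_def, mul_assoc]]
        exact mul_mem (inv_mem (subset_closure (Or.inr (hc g)))) (subset_closure (Or.inl rfl))
      · exact subset_closure (Or.inr (normal_omega.conj_mem a ha g))
    simpa using this hx⟩
  have h2 : ∀ a ∈ s, a ^ 2 = 1 := by
    rintro a (rfl | ha)
    · exact ht
    · exact ha.2
  have hE4 := S.eight _ inferInstance (Subgroup.isMulCommutative_closure hcomm)
    (sq_eq_one_closure s hcomm h2)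
  rw [Subgroup.eq_of_le_of_card_ge (fun w hw => subset_closure (Or.inr hw) : omegaCenter X ≤ closure s)
    (by omega)]
  exact subset_closure (Or.inl rfl)

/-- The shape of the action of a non-trivial element of `A` on the socle of the centre. -/
theorem omega_action {φ : MulAut X} (hφ : φ ∈ S.A) [Nontrivial X]
    (hmove : ∃ w ∈ omegaCenter X, φ w ≠ w) :
    Nat.card (omegaCenter X) = 4 ∧
      (∀ w ∈ omegaCenter X, φ w = w → w = 1) ∧
      ∀ w ∈ omegaCenter X, w ≠ 1 → φ (φ w) = w * φ w ∧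
        ∀ v ∈ omegaCenter X, v = 1 ∨ v = w ∨ v = φ w ∨ v = w * φ w := by
  classical
  obtain ⟨w0, hw0, hmv⟩ := hmove
  have hW4 : Nat.card (omegaCenter X) ≤ 4 := by rcases S.card_omega with h | h <;> omega
  have hfree : ∀ w ∈ omegaCenter X, φ w = w → w = 1 := fun w hw hfx => by
    by_contra hw1
    exact hmv (S.fixed_of_card_le_four hφ hW4 (S.inv_omega φ hφ) hw hw1 hfx w0 hw0)
  have hshape : ∀ w ∈ omegaCenter X, w ≠ 1 → ∀ s : Finset X, s = {1, w, φ w, w * φ w} →
      s.card = 4 ∧ (s : Set X) ⊆ omegaCenter X := by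
    intro w hw hw1 s hs
    have hne : φ w ≠ w := fun h => hw1 (hfree w hw h)
    have hφ1 : φ w ≠ 1 := fun h => hw1 (φ.injective (by rw [h, map_one]))
    constructor
    · rw [hs, Finset.card_insert_of_notMem, Finset.card_insert_of_notMem, Finset.card_pair]
      · intro h; exact hw1 (right_eq_mul.1 h)
      · simp only [Finset.mem_insert, Finset.mem_singleton]
        rintro (h | h)
        · exact hne h.symm
        · exact hφ1 (left_eq_mul.1 h)
      · simp only [Finset.mem_insert, Finset.mem_singleton]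
        rintro (h | h | h)
        · exact hw1 h.symm
        · exact hφ1 h.symm
        · apply hne
          rw [eq_comm, mul_eq_one_iff_inv_eq, inv_of_sq_eq_one hw.2] at h
          exact h.symm
    · intro x hx
      rw [hs] at hx
      simp only [Finset.coe_insert, Finset.coe_singleton, Set.mem_insert_iff, Set.mem_singleton_iff] at hx
      rcases hx with rfl | rfl | rfl | rfl
      · exact one_mem _
      · exact hw
      · exact S.inv_omega φ hφ w hw
      · exact mul_mem hw (S.inv_omega φ hφ w hw)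
  have hw01 : w0 ≠ 1 := by rintro rfl; exact hmv (map_one φ)
  have h4 : Nat.card (omegaCenter X) = 4 := by
    obtain ⟨hc, hsub⟩ := hshape w0 hw0 hw01 _ rfl
    have := Set.ncard_le_ncard hsub (Set.toFinite _)
    rw [Set.ncard_coe_finset, hc] at this
    rw [← Nat.card_coe_set_eq] at this
    exact le_antisymm hW4 this
  refine ⟨h4, hfree, fun w hw hw1 => ?_⟩
  obtain ⟨hc, hsub⟩ := hshape w hw hw1 _ rfl
  have hall : ∀ v ∈ omegaCenter X, v = 1 ∨ v = w ∨ v = φ w ∨ v = w * φ w := by
    intro v hv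
    have heq : (({1, w, φ w, w * φ w} : Finset X) : Set X) = omegaCenter X := by
      refine Set.eq_of_subset_of_ncard_le hsub ?_ (Set.toFinite _)
      rw [Set.ncard_coe_finset, hc, ← Nat.card_coe_set_eq]
      exact h4.le
    have hv' : v ∈ (({1, w, φ w, w * φ w} : Finset X) : Set X) := heq ▸ hv
    simpa using hv'
  refine ⟨?_, hall⟩
  have hw' := S.inv_omega φ hφ w hw
  rcases hall _ (S.inv_omega φ hφ _ hw') with h | h | h | h
  · exact absurd (φ.injective (φ.injective (by rw [h, map_one, map_one]))) hw1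
  · exfalso
    have hwc : Commute w (φ w) := (mem_center_iff.1 hw.1 (φ w)).symm
    have h1 : φ (w * φ w) = w * φ w := by rw [map_mul, h]; exact hwc.eq.symm
    have h2 := hfree _ (mul_mem hw hw') h1
    rw [mul_eq_one_iff_inv_eq, inv_of_sq_eq_one hw.2] at h2
    exact hw1 (hfree w hw h2.symm)
  · exact absurd (hfree w hw (φ.injective h)) hw1
  · exact h

end Setting

end CfsgLib.Techniques.OddSCN
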