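import Cfsg.Agent.Lib.Techniques.OddSCNBasic

/-!
# The case in which all normal abelian invariant subgroups are central
-/

set_option autoImplicit false
set_option linter.style.haveILetI false

namespace CfsgLib.Techniques.OddSCN

open Subgroup
open scoped commutatorElement

variable {X : Type*} [Group X] [Finite X]

namespace Setting

variable (S : Setting X)

omit [Finite X] in
include S in
theorem inv_centralizer {N : Subgroup X} (hN : S.Inv N) :
    S.Inv (centralizer (N : Set X)) := by
  intro φ hφ c hc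
  rw [mem_centralizer_iff]
  intro u hu
  have h1 := mem_centralizer_iff.1 hc (φ⁻¹ u) (hN φ⁻¹ (inv_mem hφ) u hu)
  have h2 := congrArg φ h1
  rwa [map_mul, map_mul, show φ (φ⁻¹ u) = u from φ.apply_symm_apply u] at h2

omit [Finite X] in
/-- Squares of a class two group with central commutators of order two, modulo the socle of the centre. -/
theorem commute_sq_of (hcl : ∀ x y : X, ⁅x, y⁆ ∈ omegaCenter X) (x y : X) :
    (x * y) ^ 2 = x ^ 2 * y ^ 2 * ⁅y, x⁆ := by
  rw [CfsgLib.PGroup.mul_pow_of_central (hcl y x).1, Nat.choose_self, pow_one]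

include S in
/-- If all normal abelian invariant subgroups are central then the squares lie in the socle of the
centre, provided `A` fixes the centre or the centre has exponent two. -/
theorem sq_mem_of_central (hU : ∀ U : Subgroup X, S.Good U → U ≤ center X)
    (hZ : (∀ φ ∈ S.A, ∀ z ∈ center X, φ z = z) ∨ center X ≤ omegaCenter X) :
    ∀ x : X, x ^ 2 ∈ omegaCenter X := by
  classical
  haveI : Fact (Nat.Prime 2) := ⟨Nat.prime_two⟩
  let K : Subgroup X := Subgroup.upperCentralSeries X 2
  haveI hKn : K.Normal := inferInstance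
  have hKc : ∀ k ∈ K, ∀ g : X, ⁅k, g⁆ ∈ center X := fun k hk g => by
    rw [← Subgroup.upperCentralSeries_one]
    exact Subgroup.mem_upperCentralSeries_succ_iff.1 hk g
  have hKc' : ∀ g : X, ∀ k ∈ K, ⁅g, k⁆ ∈ center X := fun g k hk => by
    rw [← commutatorElement_inv k g]; exact inv_mem (hKc k hk g)
  have hKinv : S.Inv K := fun φ hφ x hx => by
    have : K.Characteristic := inferInstance
    exact S.inv_of_characteristic K φ hφ x hx
  -- commutators with `K` have order two
  have hpow : ∀ m : ℕ, 1 ≤ m → (∀ k ∈ K, ∀ g : X, ⁅k, g⁆ ^ 2 ^ (m + 1) = 1) →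
      ∀ k ∈ K, ∀ g : X, ⁅k, g⁆ ^ 2 ^ m = 1 := by
    intro m hm h k hk g
    set s : Set X := {a | ∃ l ∈ K, a = l ^ 2 ^ m} with hs
    have hcomm : ∀ a ∈ s, ∀ b ∈ s, a * b = b * a := by
      rintro _ ⟨a, ha, rfl⟩ _ ⟨b, hb, rfl⟩
      rw [← commutatorElement_eq_one_iff_mul_comm,
        CfsgLib.PGroup.commutatorElement_pow_left_of_central (hKc a ha _),
        CfsgLib.PGroup.commutatorElement_pow_right_of_central (hKc a ha b), ← pow_mul, ← pow_add,
        show m + m = m + 1 + (m - 1) by omega, pow_add, pow_mul, h a ha b, one_pow]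
    have hgood : S.Good (closure s) := by
      refine S.good_closure s (fun x a ha => subset_closure ?_) (fun φ hφ a ha => subset_closure ?_) hcomm
      · obtain ⟨l, hl, rfl⟩ := ha
        exact ⟨x * l * x⁻¹, hKn.conj_mem l hl x, conj_pow.symm⟩
      · obtain ⟨l, hl, rfl⟩ := ha
        exact ⟨φ l, hKinv φ hφ l hl, map_pow φ l _⟩
    rw [← CfsgLib.PGroup.commutatorElement_pow_left_of_central (hKc k hk g),
      commutatorElement_eq_one_iff_mul_comm]
    exact (mem_center_iff.1 (hU _ hgood (subset_closure ⟨k, hk, rfl⟩)) g).symm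
  have hK2 : ∀ k ∈ K, ∀ g : X, ⁅k, g⁆ ^ 2 = 1 := by
    obtain ⟨n, hn⟩ := IsPGroup.iff_card.1 S.isP
    have h0 : ∀ k ∈ K, ∀ g : X, ⁅k, g⁆ ^ 2 ^ (n + 1) = 1 := fun k _ g => by
      rw [pow_succ, pow_mul, ← hn, pow_card_eq_one', one_pow]
    have hdown : ∀ j : ℕ, j ≤ n → ∀ k ∈ K, ∀ g : X, ⁅k, g⁆ ^ 2 ^ (n + 1 - j) = 1 := by
      intro j
      induction j with
      | zero => exact fun _ => h0
      | succ j ih =>
        intro hj
        refine hpow _ (by omega) ?_
        rw [show n + 1 - (j + 1) + 1 = n + 1 - j by omega]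
        exact ih (by omega)
    intro k hk g
    have := hdown n le_rfl k hk g
    rwa [show n + 1 - n = 1 by omega, pow_one] at this
  have hKW : ∀ k ∈ K, ∀ g : X, ⁅k, g⁆ ∈ omegaCenter X := fun k hk g => ⟨hKc k hk g, hK2 k hk g⟩
  have hZK : center X ≤ K := by
    rw [← Subgroup.upperCentralSeries_one]
    exact Subgroup.upperCentralSeries_mono X (by norm_num)
  -- `C(K)` is central
  set C := centralizer (K : Set X) with hC
  have hKC : K ⊓ C ≤ center X := by
    refine hU _ ⟨inferInstance, fun φ hφ x hx => ⟨hKinv φ hφ x hx.1,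
      S.inv_centralizer hKinv φ hφ x hx.2⟩, ⟨⟨fun a b => Subtype.ext ?_⟩⟩⟩
    exact (mem_centralizer_iff.1 a.2.2 b b.2.1).symm
  have hCZ : C ≤ center X := by
    by_contra hne
    obtain ⟨k, hk, hk1, hk2, -⟩ := exists_layer S.isP (center X) C hne
    have hkC : k ∈ C := (sup_le le_rfl (Subgroup.center_le_centralizer _) : C ⊔ center X ≤ C) hk
    have hkK : k ∈ K := by
      refine Subgroup.mem_upperCentralSeries_succ_iff.2 fun g => ?_
      rw [Subgroup.upperCentralSeries_one]
      exact hk2 g
    exact hk1 (hKC ⟨hkK, hkC⟩)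
  -- squares and commutators are central
  have hsqZ : ∀ x : X, x ^ 2 ∈ center X := by
    intro x
    refine hCZ (mem_centralizer_iff.2 fun k hk => ?_)
    rw [← commutatorElement_eq_one_iff_mul_comm,
      CfsgLib.PGroup.commutatorElement_pow_right_of_central (hKc k hk x), hK2 k hk x]
  have hcommZ : ∀ x y : X, ⁅x, y⁆ ∈ center X := fun x y => by
    rw [comm_eq_commutator_sq y x]
    exact mul_mem (mul_mem (hsqZ _) (hsqZ _)) (hsqZ _)
  have hcl : ∀ x y : X, ⁅x, y⁆ ∈ omegaCenter X := fun x y =>
    hKW x (Subgroup.mem_upperCentralSeries_succ_iff.2 fun g => by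
      rw [Subgroup.upperCentralSeries_one]; exact hcommZ x g) y
  rcases hZ with hfix | hle
  · haveI := normal_omega (X := X)
    let f : X →* X ⧸ omegaCenter X := MonoidHom.mk' (fun x => ((x ^ 2 : X) : X ⧸ omegaCenter X))
      fun x y => by
        rw [commute_sq_of hcl, QuotientGroup.mk_mul, QuotientGroup.mk_mul,
          (QuotientGroup.eq_one_iff _).2 (hcl y x), mul_one]
    intro x
    have := S.hom_trivial f (fun φ hφ y => by
      show ((φ y ^ 2 : X) : X ⧸ omegaCenter X) = ((y ^ 2 : X) : X ⧸ omegaCenter X)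
      rw [← map_pow, hfix φ hφ _ (hsqZ y)]) x
    exact (QuotientGroup.eq_one_iff _).1 this
  · exact fun x => hle (hsqZ x)

end Setting

end CfsgLib.Techniques.OddSCN
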