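import Cfsg.Agent.Lib.Techniques.OddSCNSquares
import Cfsg.Agent.Lib.Structure.TwoGroupSquares
import Cfsg.Agent.Lib.TwoGroups.OneInvolution
import Cfsg.Agent.Lib.PGroup.Frattini
import Cfsg.Agent.Lib.PGroup.Extraspecial

/-!
# The classification

A nonabelian 2-group without normal elementary abelian subgroup of order 8 with an odd group `A` of
automorphisms satisfying `[X, A] = X` is `Q₈`, special of order 64 with three involutions, or
extraspecial of order 32 with eleven involutions.
-/

set_option autoImplicit false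
set_option linter.style.haveILetI false
set_option linter.unusedSectionVars false

namespace CfsgLib.Techniques.OddSCN

open Subgroup
open scoped commutatorElement

variable {X : Type*} [Group X] [Finite X]

namespace Setting

variable (S : Setting X)
include S

theorem nontrivial_of_nonabelian (hna : ¬ IsMulCommutative X) : Nontrivial X := by
  by_contra h
  rw [not_nontrivial_iff_subsingleton] at h
  exact hna ⟨⟨fun a b => Subsingleton.elim _ _⟩⟩

variable (hna : ¬ IsMulCommutative X)
include hna

theorem comm_mem (x y : X) : ⁅x, y⁆ ∈ omegaCenter X := by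
  haveI := S.nontrivial_of_nonabelian hna
  rw [comm_eq_commutator_sq y x]
  exact mul_mem (mul_mem (S.sq_mem_omega hna _) (S.sq_mem_omega hna _)) (S.sq_mem_omega hna _)

theorem commutator_le_omega : commutator X ≤ omegaCenter X := by
  rw [_root_.commutator_def, Subgroup.commutator_le]
  exact fun x _ y _ => S.comm_mem hna x y

theorem commutator_ne_bot : commutator X ≠ ⊥ := by
  intro h
  refine hna ⟨⟨fun a b => commutatorElement_eq_one_iff_mul_comm.1 ?_⟩⟩
  rw [← mem_bot, ← h]
  exact Subgroup.commutator_mem_commutator (mem_top a) (mem_top b)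

theorem center_eq : center X = omegaCenter X := by
  haveI := S.nontrivial_of_nonabelian hna
  haveI := normal_omega (X := X)
  refine le_antisymm (fun z hz => ?_) (fun w hw => hw.1)
  by_contra hzW
  by_cases hT : ∀ φ ∈ S.A, ∀ w ∈ omegaCenter X, φ w = w
  · refine hzW (S.mem_of_fixed_mod _ (S.sq_mem_omega hna) fun φ hφ => ?_)
    rw [S.fixed_of_fixed_involutions hφ (fun a ha b _ => (mem_center_iff.1 ha b).symm)
      (S.inv_of_characteristic (center X) φ hφ) (fun k hk h2 => hT φ hφ k ⟨hk, h2⟩) z hz,
      inv_mul_cancel]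
    exact one_mem _
  · push Not at hT
    obtain ⟨φ, hφ, hmove⟩ := hT
    have hw : z ^ 2 ≠ 1 := fun h => hzW ⟨hz, h⟩
    obtain ⟨-, hall⟩ := (S.omega_action hφ hmove).2.2 _ (S.sq_mem_omega hna z) hw
    have hroot : ∀ w ∈ omegaCenter X, ∃ c ∈ center X, c ^ 2 = w := by
      have hc := S.inv_of_characteristic (center X) φ hφ z hz
      intro w hw
      rcases hall w hw with rfl | rfl | rfl | rfl
      · exact ⟨1, one_mem _, one_pow _⟩
      · exact ⟨z, hz, rfl⟩
      · exact ⟨φ z, hc, (map_pow φ z 2).symm⟩
      · exact ⟨z * φ z, mul_mem hz hc, by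
          rw [(show Commute z (φ z) from mem_center_iff.1 hc z).mul_pow, map_pow]⟩
    refine hna ⟨⟨fun a b => ?_⟩⟩
    suffices h : ∀ x : X, x ∈ center X from (mem_center_iff.1 (h b) a)
    intro x
    obtain ⟨c, hc, hcx⟩ := hroot _ (S.sq_mem_omega hna x)
    have h2 : (x * c⁻¹) ^ 2 = 1 := by
      rw [(show Commute x c⁻¹ from mem_center_iff.1 (inv_mem hc) x).mul_pow, inv_pow, hcx,
        mul_inv_cancel]
    have := S.mem_omega_of_comm_mem (S.omega_action hφ hmove).1 h2 (fun g => S.comm_mem hna _ g)
    simpa using mul_mem this.1 hc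

theorem commutator_eq : commutator X = omegaCenter X := by
  haveI := S.nontrivial_of_nonabelian hna
  haveI := normal_omega (X := X)
  refine le_antisymm (S.commutator_le_omega hna) ?_
  obtain ⟨c, hc, hc1⟩ := (Subgroup.bot_or_exists_ne_one _).resolve_left (S.commutator_ne_bot hna)
  have hcW := S.commutator_le_omega hna hc
  by_cases hT : ∀ φ ∈ S.A, ∀ w ∈ omegaCenter X, φ w = w
  · -- squares lie in the commutator subgroup
    have hsq : ∀ x : X, x ^ 2 ∈ commutator X := by
      let f : X →* X ⧸ commutator X := MonoidHom.mk' (fun x => ((x ^ 2 : X) : X ⧸ commutator X))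
        fun x y => by
          have hmem : ⁅y, x⁆ ∈ commutator X := Subgroup.commutator_mem_commutator (mem_top y) (mem_top x)
          rw [commute_sq_of (S.comm_mem hna), QuotientGroup.mk_mul, QuotientGroup.mk_mul,
            (QuotientGroup.eq_one_iff _).2 hmem, mul_one]
      intro x
      exact (QuotientGroup.eq_one_iff _).1 (S.hom_trivial f (fun φ hφ y => by
        show ((φ y ^ 2 : X) : X ⧸ commutator X) = _
        rw [← map_pow, hT φ hφ _ (S.sq_mem_omega hna y)]; rfl) x)
    intro w hw
    refine S.mem_of_fixed_mod _ hsq fun φ hφ => ?_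
    rw [hT φ hφ w hw, inv_mul_cancel]
    exact one_mem _
  · push Not at hT
    obtain ⟨φ, hφ, hmove⟩ := hT
    obtain ⟨-, hall⟩ := (S.omega_action hφ hmove).2.2 c hcW hc1
    have hφc : φ c ∈ commutator X := S.inv_of_characteristic (commutator X) φ hφ c hc
    intro w hw
    rcases hall w hw with rfl | rfl | rfl | rfl
    · exact one_mem _
    · exact hc
    · exact hφc
    · exact mul_mem hc hφc

theorem isSpecial : Cfsg.IsSpecial 2 X := by
  haveI := S.nontrivial_of_nonabelian hna
  haveI : Fact (Nat.Prime 2) := ⟨Nat.prime_two⟩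
  refine ⟨S.isP, ?_, (S.commutator_eq hna).trans (S.center_eq hna).symm⟩
  rw [S.center_eq hna]
  exact le_antisymm (CfsgLib.PGroup.frattini_le_of _ (S.commutator_le_omega hna) (S.sq_mem_omega hna))
    ((S.commutator_eq hna).ge.trans (CfsgLib.PGroup.commutator_le_frattini S.isP))

/-- A nonabelian group with `X/W` of order at most four has `|X'| ≤ 2`. -/
theorem card_omega_of_small (hX : Nat.card X ≤ 4 * Nat.card (omegaCenter X)) :
    Nat.card (omegaCenter X) ≤ 2 := by
  classical
  haveI := S.nontrivial_of_nonabelian hna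
  haveI := normal_omega (X := X)
  obtain ⟨k, l, hkl⟩ : ∃ k l : X, ⁅k, l⁆ ≠ 1 := by
    by_contra! h
    exact hna ⟨⟨fun a b => commutatorElement_eq_one_iff_mul_comm.1 (h a b)⟩⟩
  have hcen : ∀ w ∈ omegaCenter X, ∀ g : X, ⁅w, g⁆ = 1 := fun w hw g =>
    commutatorElement_eq_one_iff_mul_comm.2 (mem_center_iff.1 hw.1 g).symm
  have hidx : Nat.card (X ⧸ omegaCenter X) ≤ 4 := by
    rw [Subgroup.card_eq_card_quotient_mul_card_subgroup (omegaCenter X)] at hX
    exact Nat.le_of_mul_le_mul_right hX Nat.card_pos
  let q : X → X ⧸ omegaCenter X := fun a => (a : X ⧸ omegaCenter X)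
  have hq : ∀ a b : X, q a = q b ↔ a⁻¹ * b ∈ omegaCenter X := fun a b => QuotientGroup.eq
  have hbil : ∀ a b c : X, ⁅a * b, c⁆ = ⁅a, c⁆ * ⁅b, c⁆ := fun a b c =>
    CfsgLib.PGroup.commutatorElement_mul_left_of_central _ _ _ (S.comm_mem hna b c).1
  have hwk : ∀ a b : X, q a = q b → ∀ c : X, ⁅a, c⁆ = ⁅b, c⁆ := by
    intro a b h c
    rw [show b = a * (a⁻¹ * b) by group, hbil, hcen _ ((hq a b).1 h), mul_one]
  have h1 : ∀ c : X, ⁅(1 : X), c⁆ = 1 := fun c => commutatorElement_one_left c
  have hkk : ∀ c : X, ⁅c, c⁆ = 1 := fun c => commutatorElement_self c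
  let T : Finset (X ⧸ omegaCenter X) := {q 1, q k, q l, q (k * l)}
  have hT : T.card = 4 := by
    simp only [T]
    rw [Finset.card_insert_of_notMem, Finset.card_insert_of_notMem, Finset.card_pair]
    · intro h
      have := hwk _ _ h l
      rw [hbil, hkk, mul_one] at this
      exact hkl this.symm
    · simp only [Finset.mem_insert, Finset.mem_singleton]
      rintro (h | h)
      · have := hwk _ _ h l; rw [hkk] at this; exact hkl this
      · have := hwk _ _ h k
        rw [hbil, hkk, one_mul] at this
        exact hkl (by rw [← commutatorElement_inv l k, ← this, inv_one])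
    · simp only [Finset.mem_insert, Finset.mem_singleton]
      rintro (h | h | h)
      · have := hwk _ _ h l; rw [h1] at this; exact hkl this.symm
      · have := hwk _ _ h k; rw [h1] at this
        exact hkl (by rw [← commutatorElement_inv l k, ← this, inv_one])
      · have := hwk _ _ h l; rw [h1, hbil, hkk, mul_one] at this; exact hkl this.symm
  haveI := Fintype.ofFinite (X ⧸ omegaCenter X)
  have hcov : ∀ m ∈ (⊤ : Subgroup X), ∃ u ∈ omegaCenter X,
      m = u ∨ m = k * u ∨ m = l * u ∨ m = k * l * u := by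
    intro m _
    have htop : T = Finset.univ := Finset.eq_univ_of_card _ (le_antisymm (Finset.card_le_univ T)
      (by rw [hT, ← Nat.card_eq_fintype_card]; exact hidx))
    have hm : q m ∈ T := htop ▸ Finset.mem_univ _
    simp only [T, Finset.mem_insert, Finset.mem_singleton] at hm
    rcases hm with h | h | h | h
    · exact ⟨m, by simpa using (hq _ _).1 h.symm, Or.inl rfl⟩
    · exact ⟨k⁻¹ * m, (hq _ _).1 h.symm, Or.inr (Or.inl (by group))⟩
    · exact ⟨l⁻¹ * m, (hq _ _).1 h.symm, Or.inr (Or.inr (Or.inl (by group)))⟩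
    · exact ⟨(k * l)⁻¹ * m, (hq _ _).1 h.symm, Or.inr (Or.inr (Or.inr (by group)))⟩
  have hall := comm_two (K := ⊤) (U := omegaCenter X) (mem_top k) (mem_top l) le_top
    (fun u hu m _ => (mem_center_iff.1 hu.1 m).symm) (fun m _ n _ => (S.comm_mem hna m n).1) hcov
  have hle : commutator X ≤ zpowers ⁅k, l⁆ := by
    rw [_root_.commutator_def, Subgroup.commutator_le]
    exact fun a _ b _ => hall a (mem_top a) b (mem_top b)
  rw [S.commutator_eq hna] at hle
  have h2 := Subgroup.card_le_of_le hle
  rw [Nat.card_zpowers] at h2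
  exact h2.trans (Nat.le_of_dvd two_pos (orderOf_dvd_of_pow_eq_one (S.comm_mem hna k l).2))

/-- The case of a four-group centre: `|X| = 64`. -/
theorem card_eq_64 (h4 : Nat.card (omegaCenter X) = 4) : Nat.card X = 64 := by
  classical
  haveI := S.nontrivial_of_nonabelian hna
  haveI := normal_omega (X := X)
  haveI : Fact (Nat.Prime 2) := ⟨Nat.prime_two⟩
  set W := omegaCenter X with hWdef
  have hle : Nat.card X ≤ 4 * 4 ^ 2 := by
    rw [← h4]
    exact CfsgLib.Structure.card_le_of_squares W W (fun w hw => hw.1) (fun w hw => hw.2)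
      (S.sq_mem_omega hna) fun x =>
        ⟨fun hx => hx.2, fun hx => S.mem_omega_of_comm_mem h4 hx (S.comm_mem hna x)⟩
  obtain ⟨e, he⟩ := IsPGroup.iff_card.1 S.isP
  have h5 : 4 < e + 0 := by
    by_contra hcon
    have h16 : Nat.card X ≤ 4 * Nat.card W := by
      rw [he, h4]
      exact Nat.pow_le_pow_right two_pos (show e ≤ 4 by omega)
    have := S.card_omega_of_small hna h16
    change Nat.card W ≤ 2 at this
    omega
  have h6 : e ≤ 6 := (Nat.pow_le_pow_iff_right one_lt_two).1 (he ▸ hle : 2 ^ e ≤ 2 ^ 6)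
  rcases (show e = 5 ∨ e = 6 by omega) with rfl | rfl
  swap
  · exact he
  exfalso
  have h32 : Nat.card X = 32 := he
  by_cases hT : ∀ φ ∈ S.A, ∀ w ∈ W, φ w = w
  swap
  · -- three fibres of equal size
    push Not at hT
    obtain ⟨φ, hφ, hmove⟩ := hT
    obtain ⟨-, -, hact⟩ := S.omega_action hφ hmove
    obtain ⟨w, hw, hmw⟩ := hmove
    have hw1 : w ≠ 1 := by rintro rfl; exact hmw (map_one φ)
    obtain ⟨hφ2, hall⟩ := hact w hw hw1
    let N : X → ℕ := fun v => Nat.card {x : X // x ∉ W ∧ x ^ 2 = v}
    have hN : ∀ v, N (φ v) = N v := by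
      intro v
      refine (Nat.card_congr (φ.toEquiv.subtypeEquiv fun x => ?_)).symm
      show _ ↔ φ x ∉ W ∧ φ x ^ 2 = φ v
      rw [← map_pow, φ.injective.eq_iff]
      refine and_congr_left fun _ => not_congr ⟨fun h => S.inv_omega φ hφ x h, fun h => ?_⟩
      have := S.inv_omega φ⁻¹ (inv_mem hφ) _ h
      rwa [show φ⁻¹ (φ x) = x from φ.symm_apply_apply x] at this
    have hsq : ∀ x : X, x ∉ W ↔ (x ∉ W ∧ x ^ 2 = w) ∨
        ((x ∉ W ∧ x ^ 2 = φ w) ∨ (x ∉ W ∧ x ^ 2 = w * φ w)) := by
      intro x
      refine ⟨fun hx => ?_, fun h => by rcases h with h | h | h <;> exact h.1⟩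
      rcases hall _ (S.sq_mem_omega hna x) with h | h | h | h
      · exact absurd (S.mem_omega_of_comm_mem h4 h (S.comm_mem hna x)) hx
      · exact Or.inl ⟨hx, h⟩
      · exact Or.inr (Or.inl ⟨hx, h⟩)
      · exact Or.inr (Or.inr ⟨hx, h⟩)
    have hd1 : w ≠ φ w := fun h => hmw h.symm
    have hd2 : w ≠ w * φ w := fun h => hw1 (φ.injective (by rw [map_one]; exact left_eq_mul.1 h))
    have hd3 : φ w ≠ w * φ w := fun h => hw1 (right_eq_mul.1 h)
    have hcount : Nat.card {x : X // x ∉ W} = N w + (N (φ w) + N (w * φ w)) := by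
      have e1 := Nat.card_congr (Equiv.subtypeEquivRight hsq)
      rw [e1]
      letI := Fintype.ofFinite X
      simp only [N, Nat.card_eq_fintype_card]
      rw [Fintype.card_subtype_or_disjoint, Fintype.card_subtype_or_disjoint]
      · rw [Pi.disjoint_iff]
        exact fun x => Prop.disjoint_iff.mpr (fun h => hd3 (h.1.2.symm.trans h.2.2))
      · rw [Pi.disjoint_iff]
        exact fun x => Prop.disjoint_iff.mpr (fun h => by
          rcases h.2 with h' | h'
          · exact hd1 (h.1.2.symm.trans h'.2)
          · exact hd2 (h.1.2.symm.trans h'.2))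
    have h28 : Nat.card {x : X // x ∉ W} = 28 := by
      have := Nat.card_congr (Equiv.sumCompl fun x => x ∈ W)
      rw [Nat.card_sum, h32] at this
      change Nat.card W + _ = 32 at this
      omega
    rw [← hφ2, h28] at hcount
    have := hN w
    have := hN (φ w)
    omega
  · -- a radical vector fixed by `A`
    obtain ⟨u, hu, hu1⟩ : ∃ u ∈ W, u ≠ 1 := (Subgroup.bot_or_exists_ne_one W).resolve_left
      (fun h => by rw [h, Subgroup.card_bot] at h4; omega)
    set L := zpowers u with hL
    have hLW : L ≤ W := zpowers_le.2 hu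
    have hL2 : Nat.card L = 2 := by rw [hL, Nat.card_zpowers, orderOf_eq_prime hu.2 hu1]
    have hidx : (L.subgroupOf W).index = 2 := by
      have e := (L.subgroupOf W).card_mul_index
      rw [Nat.card_congr (Subgroup.subgroupOfEquivOfLe hLW).toEquiv, hL2, h4] at e
      omega
    have hprod : ∀ a ∈ W, ∀ b ∈ W, a ∉ L → b ∉ L → a * b ∈ L := by
      intro a ha b hb haL hbL
      have := (Subgroup.mul_mem_iff_of_index_two hidx (a := ⟨a, ha⟩) (b := ⟨b, hb⟩)).2
        (iff_of_false haL hbL)
      exact this
    have hl : ∀ a b c : X, ⁅a * b, c⁆ = ⁅a, c⁆ * ⁅b, c⁆ := fun a b c =>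
      CfsgLib.PGroup.commutatorElement_mul_left_of_central _ _ _ (S.comm_mem hna b c).1
    have hr : ∀ a b c : X, ⁅a, b * c⁆ = ⁅a, b⁆ * ⁅a, c⁆ := fun a b c =>
      CfsgLib.PGroup.commutatorElement_mul_right_of_central _ _ _ (S.comm_mem hna a c).1
    have hWc : ∀ w ∈ W, ∀ y : X, ⁅w, y⁆ = 1 := fun w hw y =>
      commutatorElement_eq_one_iff_mul_comm.2 (mem_center_iff.1 hw.1 y).symm
    let R : Subgroup X :=
      { carrier := {x | ∀ y : X, ⁅x, y⁆ ∈ L}
        one_mem' := fun y => by rw [commutatorElement_one_left]; exact one_mem _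
        mul_mem' := fun {a b} ha hb y => by rw [hl]; exact mul_mem (ha y) (hb y)
        inv_mem' := fun {a} ha y => by
          have h0 := hl a⁻¹ a y
          rw [inv_mul_cancel, commutatorElement_one_left, eq_comm, mul_eq_one_iff_eq_inv] at h0
          rw [h0]; exact inv_mem (ha y) }
    have hWR : W ≤ R := fun w hw y => by rw [hWc w hw y]; exact one_mem _
    obtain ⟨k, l, hkl⟩ : ∃ k l : X, ⁅k, l⁆ ∉ L := by
      by_contra! hcon
      have hle' : commutator X ≤ L := by
        rw [_root_.commutator_def, Subgroup.commutator_le]; exact fun a _ b _ => hcon a b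
      rw [S.commutator_eq hna] at hle'
      have := Subgroup.card_le_of_le hle'
      change Nat.card W ≤ Nat.card L at this
      omega
    have hlk : ⁅l, k⁆ ∉ L := by
      rw [← commutatorElement_inv k l]
      exact fun h => hkl (by simpa using inv_mem h)
    -- the subgroup covered by `W, kW, lW, klW` is proper
    obtain ⟨m, hm⟩ : ∃ m : X, ∀ i ∈ ({1, k, l, k * l} : Finset X), i⁻¹ * m ∉ W := by
      by_contra! hcon
      let f : ({1, k, l, k * l} : Finset X) × W → X := fun p => (p.1 : X) * p.2
      have hf : Function.Surjective f := fun x => by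
        obtain ⟨i, hi, hx⟩ := hcon x
        exact ⟨(⟨i, hi⟩, ⟨_, hx⟩), mul_inv_cancel_left _ _⟩
      have := Nat.card_le_card_of_surjective f hf
      rw [Nat.card_prod, h32, h4, Nat.card_eq_finsetCard] at this
      have : ({1, k, l, k * l} : Finset X).card ≤ 4 := Finset.card_le_four
      omega
    obtain ⟨m1, hm1, hm1k⟩ : ∃ m1, (m1 = m ∨ m1 = m * l) ∧ ⁅m1, k⁆ ∈ L := by
      by_cases h : ⁅m, k⁆ ∈ L
      · exact ⟨m, Or.inl rfl, h⟩
      · exact ⟨m * l, Or.inr rfl, by rw [hl]; exact hprod _ (S.comm_mem hna _ _) _ (S.comm_mem hna _ _) h hlk⟩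
    obtain ⟨m2, hm2, hm2k, hm2l⟩ : ∃ m2, (m2 = m1 ∨ m2 = m1 * k) ∧ ⁅m2, k⁆ ∈ L ∧ ⁅m2, l⁆ ∈ L := by
      by_cases h : ⁅m1, l⁆ ∈ L
      · exact ⟨m1, Or.inl rfl, hm1k, h⟩
      · refine ⟨m1 * k, Or.inr rfl, ?_, ?_⟩
        · rw [hl, commutatorElement_self, mul_one]; exact hm1k
        · rw [hl]; exact hprod _ (S.comm_mem hna _ _) _ (S.comm_mem hna _ _) h hkl
    have hm2W : m2 ∉ W := by
      intro h
      have key : ∀ j ∈ ({1, k, l, k * l} : Finset X), ∀ w ∈ W, m ≠ j * w := fun j hj w hw e =>
        hm j hj (by rw [e, inv_mul_cancel_left]; exact hw)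
      have hinv2 : ∀ a : X, a⁻¹ = a * (a ^ 2)⁻¹ := fun a => by rw [pow_two]; group
      rcases hm2 with rfl | rfl <;> rcases hm1 with rfl | rfl
      · exact key 1 (by simp) m2 h (one_mul _).symm
      · refine key l (by simp) ((l ^ 2)⁻¹ * (m * l)) (mul_mem (inv_mem (S.sq_mem_omega hna l)) h) ?_
        rw [← mul_assoc, ← hinv2, mem_center_iff.1 h.1 l⁻¹, mul_inv_cancel_right]
      · refine key k (by simp) ((k ^ 2)⁻¹ * (m1 * k)) (mul_mem (inv_mem (S.sq_mem_omega hna k)) h) ?_
        rw [← mul_assoc, ← hinv2, mem_center_iff.1 h.1 k⁻¹, mul_inv_cancel_right]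
      · have h' : ⁅k * l, k * l⁆ = 1 := commutatorElement_self _
        have hlkW : ((l * k) ^ 2)⁻¹ * (m * l * k) ∈ W := mul_mem (inv_mem (S.sq_mem_omega hna _)) h
        refine key (k * l) (by simp) (⁅l⁻¹, k⁻¹⁆ * (((l * k) ^ 2)⁻¹ * (m * l * k)))
          (mul_mem (S.comm_mem hna _ _) hlkW) ?_
        rw [show k * l * (⁅l⁻¹, k⁻¹⁆ * (((l * k) ^ 2)⁻¹ * (m * l * k)))
            = (l * k) * ((l * k) ^ 2)⁻¹ * (m * l * k) by
            simp [commutatorElement_def, mul_assoc],
          ← hinv2, mem_center_iff.1 h.1 (l * k)⁻¹]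
        group
    -- `m2` is in the radical
    have hm2R : m2 ∈ R := by
      let T : Subgroup X :=
        { carrier := {y | ⁅m2, y⁆ ∈ L}
          one_mem' := by show ⁅m2, (1 : X)⁆ ∈ L; rw [commutatorElement_one_right]; exact one_mem _
          mul_mem' := fun {a b} ha hb => by show ⁅m2, a * b⁆ ∈ L; rw [hr]; exact mul_mem ha hb
          inv_mem' := fun {a} ha => by
            have h0 := hr m2 a⁻¹ a
            rw [inv_mul_cancel, commutatorElement_one_right, eq_comm, mul_eq_one_iff_eq_inv] at h0
            show ⁅m2, a⁻¹⁆ ∈ L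
            rw [h0]; exact inv_mem ha }
      have hWT : W ≤ T := fun w hw => by
        show ⁅m2, w⁆ ∈ L
        rw [← commutatorElement_inv w m2, hWc w hw, inv_one]; exact one_mem _
      have hm2T : m2 ∈ T := by
        show ⁅m2, m2⁆ ∈ L; rw [commutatorElement_self]; exact one_mem _
      let f : Fin 5 × W → T := fun p =>
        ![(⟨1, one_mem _⟩ : T), ⟨k, hm2k⟩, ⟨l, hm2l⟩, ⟨k * l, mul_mem (show k ∈ T from hm2k) (show l ∈ T from hm2l)⟩,
          ⟨m2, hm2T⟩] p.1 * ⟨p.2, hWT p.2.2⟩
      have hkW : ∀ y : X, ∀ w ∈ W, ∀ v : X, ⁅y * w, v⁆ = ⁅y, v⁆ := fun y w hw v => by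
        rw [hl, hWc w hw, mul_one]
      have hmem : ∀ a b : X, a⁻¹ * b ∈ W → ∀ v : X, ⁅b, v⁆ = ⁅a, v⁆ := fun a b h v => by
        have := hkW a _ h v
        rwa [mul_inv_cancel_left] at this
      have hf : Function.Injective f := by
        rintro ⟨i, w⟩ ⟨j, w'⟩ he
        have he' := congrArg Subtype.val he
        have hij : i = j := by
          by_contra hne
          fin_cases i <;> fin_cases j <;> simp at hne <;> simp [f] at he' <;>
          first
          | (have e := congrArg (fun x => ⁅x, l⁆) he'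
             simp only [hkW _ _ w.2, hkW _ _ w'.2, hl, commutatorElement_self,
               commutatorElement_one_left, mul_one, one_mul, hWc _ w.2, hWc _ w'.2] at e
             first
             | exact hkl (by rw [e]; exact one_mem _)
             | exact hkl (by rw [← e]; exact one_mem _)
             | exact hkl (by rw [e]; exact hm2l)
             | exact hkl (by rw [← e]; exact hm2l))
          | (have e := congrArg (fun x => ⁅x, k⁆) he'
             simp only [hkW _ _ w.2, hkW _ _ w'.2, hl, commutatorElement_self,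
               commutatorElement_one_left, mul_one, one_mul, hWc _ w.2, hWc _ w'.2] at e
             first
             | exact hlk (by rw [e]; exact one_mem _)
             | exact hlk (by rw [← e]; exact one_mem _)
             | exact hlk (by rw [e]; exact hm2k)
             | exact hlk (by rw [← e]; exact hm2k))
          | exact hm2W (by rw [← he']; exact mul_mem w.2 (inv_mem w'.2))
          | (apply hm2W
             have := mul_mem w.2 (inv_mem w'.2)
             rw [he'] at this
             simpa using this)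
          | (apply hm2W
             have := mul_mem w'.2 (inv_mem w.2)
             rw [← he'] at this
             simpa using this)
        subst hij
        have : (⟨w, hWT w.2⟩ : T) = ⟨w', hWT w'.2⟩ := mul_left_cancel he
        exact Prod.ext rfl (Subtype.ext (congrArg (fun t : T => (t : X)) this))
      have h20 := Nat.card_le_card_of_injective f hf
      rw [Nat.card_prod, Nat.card_fin, h4] at h20
      obtain ⟨i, hi⟩ := IsPGroup.iff_card.1 (S.isP.to_subgroup T)
      have hT32 : Nat.card T = 32 := by
        have hd := T.card_subgroup_dvd_card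
        rw [h32] at hd
        have hle32 := Nat.le_of_dvd (by norm_num) hd
        rw [hi] at hle32 h20 ⊢
        have : i ≤ 5 := (Nat.pow_le_pow_iff_right one_lt_two).1 (hle32 : 2 ^ i ≤ 2 ^ 5)
        interval_cases i <;> omega
      have hTtop : T = ⊤ := Subgroup.eq_top_of_card_eq _ (by rw [hT32, h32])
      intro y
      exact (hTtop ▸ mem_top y : y ∈ T)
    -- `R / W` has order two, hence is fixed by `A`
    have hR8 : Nat.card R ≤ 8 := by
      obtain ⟨i, hi⟩ := IsPGroup.iff_card.1 (S.isP.to_subgroup R)
      let f : Fin 3 × R → X := fun p => ![1, k, l] p.1 * p.2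
      have hf : Function.Injective f := by
        rintro ⟨i, w⟩ ⟨j, w'⟩ he
        have hij : i = j := by
          by_contra hne
          fin_cases i <;> fin_cases j <;> simp at hne <;> simp [f] at he <;>
          first
          | (have e := congrArg (fun x => ⁅x, l⁆) he
             simp only [hl, commutatorElement_self, one_mul] at e
             first
             | exact hkl ((mul_mem_cancel_right (w.2 l)).1 (e ▸ w'.2 l))
             | exact hkl ((mul_mem_cancel_right (w'.2 l)).1 (e ▸ w.2 l)))
          | (have e := congrArg (fun x => ⁅x, k⁆) he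
             simp only [hl, commutatorElement_self, one_mul] at e
             first
             | exact hlk ((mul_mem_cancel_right (w.2 k)).1 (e ▸ w'.2 k))
             | exact hlk ((mul_mem_cancel_right (w'.2 k)).1 (e ▸ w.2 k)))
        subst hij
        exact Prod.ext rfl (Subtype.ext (mul_left_cancel he))
      have h3 := Nat.card_le_card_of_injective f hf
      rw [Nat.card_prod, Nat.card_fin, h32, hi] at h3
      rw [hi]
      have : i ≤ 3 := by
        by_contra hcon
        have : 2 ^ 4 ≤ 2 ^ i := Nat.pow_le_pow_right two_pos (by omega)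
        omega
      exact (Nat.pow_le_pow_right two_pos this : 2 ^ i ≤ 2 ^ 3)
    have hWR2 : (W.subgroupOf R).index = 2 := by
      have e := (W.subgroupOf R).card_mul_index
      rw [Nat.card_congr (Subgroup.subgroupOfEquivOfLe hWR).toEquiv, h4] at e
      have hne1 : (W.subgroupOf R).index ≠ 1 := fun h => hm2W
        (Subgroup.mem_subgroupOf.1 (Subgroup.index_eq_one.1 h ▸ mem_top (⟨m2, hm2R⟩ : R)))
      have hpos : (W.subgroupOf R).index ≠ 0 := Subgroup.index_ne_zero_of_finite
      omega
    refine hm2W (S.mem_of_fixed_mod W (S.sq_mem_omega hna) fun ψ hψ => ?_)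
    have hψR : ψ m2 ∈ R := by
      intro y
      have h' := hm2R (ψ⁻¹ y)
      obtain ⟨i, hi⟩ := mem_zpowers_iff.1 h'
      have := congrArg ψ hi
      rw [map_commutatorElement, show ψ (ψ⁻¹ y) = y from ψ.apply_symm_apply y, map_zpow, hT ψ hψ u hu] at this
      exact mem_zpowers_iff.2 ⟨i, this⟩
    have hψW : ψ m2 ∉ W := fun h => hm2W (by
      have := S.inv_omega ψ⁻¹ (inv_mem hψ) _ h
      rwa [show ψ⁻¹ (ψ m2) = m2 from ψ.symm_apply_apply m2] at this)
    exact (Subgroup.mul_mem_iff_of_index_two hWR2 (a := (⟨m2, hm2R⟩ : R)⁻¹) (b := ⟨ψ m2, hψR⟩)).2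
      (iff_of_false (fun h => hm2W (mem_subgroupOf.1 (inv_mem_iff.1 h))) hψW)

/-- The case of a centre of order two. -/
theorem small_centre (h2 : Nat.card (omegaCenter X) = 2) :
    Nonempty (X ≃* QuaternionGroup 2) ∨
      (Cfsg.IsExtraspecial 2 X ∧ Nat.card X = 32 ∧ Nat.card {x : X // orderOf x = 2} = 11) := by
  classical
  haveI := S.nontrivial_of_nonabelian hna
  haveI := normal_omega (X := X)
  haveI : Fact (Nat.Prime 2) := ⟨Nat.prime_two⟩
  set W := omegaCenter X with hWdef
  have hE : Cfsg.IsExtraspecial 2 X := ⟨S.isSpecial hna, by rw [S.center_eq hna]; exact h2⟩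
  obtain ⟨n, hn1, hn⟩ := CfsgLib.PGroup.extraspecial_card hE
  by_cases hno : ∀ x : X, x ^ 2 = 1 → x ∈ W
  · left
    have hle := CfsgLib.Structure.card_le_of_squares W W (fun w hw => hw.1) (fun w hw => hw.2)
      (S.sq_mem_omega hna) fun x => ⟨fun hx => hx.2, hno x⟩
    rw [h2, hn] at hle
    have hn1' : n = 1 := by
      have : 1 + 2 * n ≤ 3 := (Nat.pow_le_pow_iff_right one_lt_two).1 (hle : 2 ^ (1 + 2 * n) ≤ 2 ^ 3)
      omega
    subst hn1'
    have h1 : ∀ a b : X, orderOf a = 2 → orderOf b = 2 → a = b := by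
      intro a b ha hb
      obtain ⟨v, -, huniq⟩ := (Nat.card_eq_two_iff' (1 : W)).1 h2
      have key : ∀ c : X, orderOf c = 2 → c = (v : X) := fun c hc => by
        have hcW : c ∈ W := hno c (by rw [← hc]; exact pow_orderOf_eq_one c)
        exact congrArg Subtype.val (huniq ⟨c, hcW⟩ fun h => by
          rw [show c = 1 from congrArg Subtype.val h, orderOf_one] at hc; omega)
      rw [key a ha, key b hb]
    rcases CfsgLib.TwoGroups.OneInvolution.isCyclic_or_quaternion S.isP h1 with hc | ⟨j, hj, ⟨e⟩⟩
    · exact absurd (IsCyclic.isMulCommutative (α := X)) hna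
    · have := Nat.card_congr e.toEquiv
      rw [hn, Nat.card_eq_fintype_card, QuaternionGroup.card] at this
      have hj1 : 2 ^ j = 2 := by omega
      rw [hj1] at e
      exact ⟨e⟩
  right
  push Not at hno
  obtain ⟨t, ht, htW⟩ := hno
  obtain ⟨⟨z, hz⟩, hz1⟩ : ∃ z : W, z ≠ 1 := by
    haveI : Nontrivial W := Finite.one_lt_card_iff_nontrivial.1 (by omega)
    exact exists_ne 1
  have hzne : z ≠ 1 := fun h => hz1 (Subtype.ext h)
  have hW2 : ∀ w ∈ W, w = 1 ∨ w = z := by
    intro w hw
    obtain ⟨v, -, huniq⟩ := (Nat.card_eq_two_iff' (1 : W)).1 h2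
    by_cases h : (⟨w, hw⟩ : W) = 1
    · exact Or.inl (congrArg Subtype.val h)
    · exact Or.inr (congrArg Subtype.val ((huniq _ h).trans (huniq _ hz1).symm))
  have ht1 : t ≠ 1 := fun h => htW (h ▸ one_mem _)
  have htz : t ≠ z := fun h => htW (h ▸ hz)
  have hzc : ∀ g : X, Commute g z := fun g => mem_center_iff.1 hz.1 g
  set C := centralizer ({t} : Set X) with hC
  have hzC : z ∈ C := mem_centralizer_singleton_iff.2 (hzc t).symm.eq
  have htC : t ∈ C := mem_centralizer_singleton_iff.2 rfl
  -- involutions commuting with `t`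
  have hin : ∀ u ∈ C, u ^ 2 = 1 → u = 1 ∨ u = z ∨ u = t ∨ u = z * t := by
    intro u hu hu2
    by_contra hne
    push Not at hne
    obtain ⟨hn1', hnz, hnt, hnzt⟩ := hne
    set s : Set X := {z, t, u} with hs
    have hut : Commute u t := mem_centralizer_singleton_iff.1 hu
    have hcomm : ∀ a ∈ s, ∀ b ∈ s, a * b = b * a := by
      rintro a (rfl | rfl | rfl) b (rfl | rfl | rfl)
      all_goals first
        | rfl
        | exact (hzc _).eq
        | exact (hzc _).symm.eq
        | exact hut.eq
        | exact hut.symm.eq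
    have h2s : ∀ a ∈ s, a ^ 2 = 1 := by
      rintro a (rfl | rfl | rfl)
      · exact hz.2
      · exact ht
      · exact hu2
    haveI : (closure s).Normal := by
      refine Subgroup.Normal.of_commutator_le (h := ?_)
      rw [S.commutator_eq hna]
      intro w hw
      rcases hW2 w hw with rfl | rfl
      · exact one_mem _
      · exact subset_closure (by simp [hs])
    have h4 := S.eight _ inferInstance (Subgroup.isMulCommutative_closure hcomm)
      (sq_eq_one_closure s hcomm h2s)
    have hsub : ((({1, z, t, z * t, u} : Finset X)) : Set X) ⊆ (closure s : Set X) := by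
      have hz' : z ∈ closure s := subset_closure (by simp [hs])
      have ht' : t ∈ closure s := subset_closure (by simp [hs])
      intro x hx
      simp only [Finset.coe_insert, Finset.coe_singleton, Set.mem_insert_iff, Set.mem_singleton_iff] at hx
      rcases hx with rfl | rfl | rfl | rfl | rfl
      · exact one_mem _
      · exact hz'
      · exact ht'
      · exact mul_mem hz' ht'
      · exact subset_closure (by simp [hs])
    have h5 : ({1, z, t, z * t, u} : Finset X).card = 5 := by
      rw [Finset.card_insert_of_notMem, Finset.card_insert_of_notMem, Finset.card_insert_of_notMem,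
        Finset.card_pair]
      · exact fun h => hnzt h.symm
      · simp only [Finset.mem_insert, Finset.mem_singleton]
        rintro (h | h)
        · exact hzne (right_eq_mul.1 h)
        · exact hnt h.symm
      · simp only [Finset.mem_insert, Finset.mem_singleton]
        rintro (h | h | h)
        · exact htz h.symm
        · exact ht1 (left_eq_mul.1 h)
        · exact hnz h.symm
      · simp only [Finset.mem_insert, Finset.mem_singleton]
        rintro (h | h | h | h)
        · exact hzne h.symm
        · exact ht1 h.symm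
        · apply htz
          rw [eq_comm, mul_eq_one_iff_inv_eq, inv_of_sq_eq_one hz.2] at h
          exact h.symm
        · exact hn1' h.symm
    have := Set.ncard_le_ncard hsub (Set.toFinite _)
    rw [Set.ncard_coe_finset, h5, ← Nat.card_coe_set_eq] at this
    change 5 ≤ Nat.card (closure s) at this
    omega
  -- order of the centralizer
  let f : X →* W := MonoidHom.mk' (fun g => ⟨⁅g, t⁆, S.comm_mem hna g t⟩) fun a b => Subtype.ext
    (CfsgLib.PGroup.commutatorElement_mul_left_of_central _ _ _ (S.comm_mem hna b t).1)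
  have hker : f.ker = C := by
    ext g
    rw [MonoidHom.mem_ker, mem_centralizer_singleton_iff]
    exact ⟨fun h => commutatorElement_eq_one_iff_mul_comm.1 (congrArg Subtype.val h),
      fun h => Subtype.ext (commutatorElement_eq_one_iff_mul_comm.2 h)⟩
  obtain ⟨g0, hg0⟩ : ∃ g : X, g ∉ C := by
    by_contra! hcon
    exact htW ⟨mem_center_iff.2 fun g => mem_centralizer_singleton_iff.1 (hcon g), ht⟩
  have hsurj : Function.Surjective f := by
    rintro ⟨w, hw⟩
    rcases hW2 w hw with rfl | rfl
    · exact ⟨1, map_one f⟩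
    · refine ⟨g0, Subtype.ext ?_⟩
      rcases hW2 _ (S.comm_mem hna g0 t) with h | h
      · exact absurd (mem_centralizer_singleton_iff.2 (commutatorElement_eq_one_iff_mul_comm.1 h)) hg0
      · exact h
  have hidx : Nat.card X = 2 * Nat.card C := by
    have := Subgroup.card_eq_card_quotient_mul_card_subgroup f.ker
    rw [Nat.card_congr (QuotientGroup.quotientKerEquivOfSurjective f hsurj).toEquiv, h2, hker] at this
    exact this
  have hC16 : Nat.card C ≤ 16 := by
    let W' := W.subgroupOf C
    have hWC : W ≤ C := fun w hw => mem_centralizer_singleton_iff.2 (mem_center_iff.1 hw.1 t).symm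
    let E : Subgroup C :=
      { carrier := {x | x ^ 2 = 1}
        one_mem' := one_pow 2
        mul_mem' := fun {a b} ha hb => by
          have ha' := hin a a.2 (by rw [← SubgroupClass.coe_pow, ha]; rfl)
          have hab : Commute a b := Subtype.ext (by
            have hb' : Commute t (b : X) := (mem_centralizer_singleton_iff.1 b.2).symm
            show (a : X) * b = b * a
            rcases ha' with h | h | h | h <;> rw [h]
            · rw [one_mul, mul_one]
            · exact (hzc _).symm.eq
            · exact hb'.eq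
            · exact ((hzc _).symm.mul_left hb').eq)
          show (a * b) ^ 2 = 1
          rw [hab.mul_pow, ha, hb, one_mul]
        inv_mem' := fun {a} ha => by show a⁻¹ ^ 2 = 1; rw [inv_pow, ha, inv_one] }
    have hWc' : W' ≤ center C := fun w hw => mem_center_iff.2 fun g =>
      Subtype.ext (mem_center_iff.1 (mem_subgroupOf.1 hw).1 g)
    have := CfsgLib.Structure.card_le_of_squares W' E hWc' (fun w hw => Subtype.ext (mem_subgroupOf.1 hw).2)
      (fun x => mem_subgroupOf.2 (S.sq_mem_omega hna _)) (fun x => Iff.rfl)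
    rw [Nat.card_congr (Subgroup.subgroupOfEquivOfLe hWC).toEquiv, h2] at this
    have hE4 : Nat.card E ≤ 4 := by
      let g : E → ({1, z, t, z * t} : Finset X) := fun x => ⟨((x : C) : X), by
        have h := hin (x : C) (x : C).2 (by rw [← SubgroupClass.coe_pow, x.2]; rfl)
        simpa using h⟩
      have hg : Function.Injective g := fun a b h => Subtype.ext (Subtype.ext (congrArg (fun x : ({1, z, t, z * t} : Finset X) => (x : X)) h))
      have := Nat.card_le_card_of_injective g hg
      rw [Nat.card_eq_finsetCard] at this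
      exact this.trans Finset.card_le_four
    calc Nat.card C ≤ Nat.card E * 2 ^ 2 := this
      _ ≤ 4 * 2 ^ 2 := Nat.mul_le_mul_right _ hE4
      _ = 16 := by norm_num
  have hn2 : n ≤ 2 := by
    have : 2 ^ (1 + 2 * n) ≤ 2 ^ 5 := by rw [← hn, hidx]; omega
    have := (Nat.pow_le_pow_iff_right one_lt_two).1 this
    omega
  -- half of the elements outside the centralizer are involutions
  have hflip : ∀ g : X, g ∉ C → g * t ∉ C ∧ (g ^ 2 = 1 ↔ (g * t) ^ 2 ≠ 1) := by
    intro g hg
    refine ⟨fun h => hg (by simpa using mul_mem h (inv_mem htC)), ?_⟩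
    have e : (g * t) ^ 2 = g ^ 2 * z := by
      rw [commute_sq_of (S.comm_mem hna), ht, mul_one]
      rcases hW2 _ (S.comm_mem hna t g) with h | h
      · exact absurd (mem_centralizer_singleton_iff.2 (commutatorElement_eq_one_iff_mul_comm.1 h).symm) hg
      · rw [h]
    rw [e]
    rcases hW2 _ (S.sq_mem_omega hna g) with h | h <;> rw [h]
    · simpa using hzne
    · rw [← pow_two, hz.2]; simpa using hzne
  let A1 := {g : X // g ∉ C ∧ g ^ 2 = 1}
  let A2 := {g : X // g ∉ C ∧ g ^ 2 ≠ 1}
  have hA12 : Nat.card A1 = Nat.card A2 := by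
    refine Nat.card_congr
      { toFun := fun g => ⟨g.1 * t, (hflip g.1 g.2.1).1, (hflip g.1 g.2.1).2.1 g.2.2⟩
        invFun := fun g => ⟨g.1 * t, (hflip g.1 g.2.1).1, ?_⟩
        left_inv := fun g => Subtype.ext ?_
        right_inv := fun g => Subtype.ext ?_ }
    · by_contra h
      exact g.2.2 ((hflip g.1 g.2.1).2.2 h)
    · show g.1 * t * t = g.1
      rw [mul_assoc, ← pow_two, ht, mul_one]
    · show g.1 * t * t = g.1
      rw [mul_assoc, ← pow_two, ht, mul_one]
  have hout : Nat.card A1 + Nat.card A2 = Nat.card C := by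
    have h1 := Nat.card_congr (Equiv.sumCompl fun g : X => g ∈ C)
    rw [Nat.card_sum, hidx] at h1
    have h1' : Nat.card {g : X // g ∉ C} = Nat.card C := by
      change Nat.card C + _ = 2 * Nat.card C at h1
      omega
    rw [← h1', ← Nat.card_sum]
    exact Nat.card_congr ((Equiv.sumCongr (Equiv.subtypeSubtypeEquivSubtypeInter (fun g => g ∉ C) (fun g => g ^ 2 = 1)).symm
      (Equiv.subtypeSubtypeEquivSubtypeInter (fun g => g ∉ C) (fun g => g ^ 2 ≠ 1)).symm).trans
      (Equiv.sumCompl fun g : {g : X // g ∉ C} => (g : X) ^ 2 = 1))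
  rcases (show n = 1 ∨ n = 2 by omega) with rfl | rfl
  · exfalso
    have h8 : Nat.card X = 8 := hn
    have h2A : Nat.card A2 = 2 := by omega
    obtain ⟨⟨x, hxC, hx⟩⟩ : Nonempty A2 := (Nat.card_pos_iff.1 (by omega)).1
    have hC4 : ∀ c ∈ C, c ^ 2 = 1 := by
      intro c hc
      let g : ({1, z, t, z * t} : Finset X) → C := fun a => ⟨a, by
        have := a.2
        simp only [Finset.mem_insert, Finset.mem_singleton] at this
        rcases this with h | h | h | h <;> rw [h]
        exacts [one_mem _, hzC, htC, mul_mem hzC htC]⟩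
      have hg : Function.Injective g := fun a b h => Subtype.ext (congrArg (fun x : C => (x : X)) h)
      have hcard : ({1, z, t, z * t} : Finset X).card = 4 := by
        rw [Finset.card_insert_of_notMem, Finset.card_insert_of_notMem, Finset.card_pair]
        · exact fun h => hzne (right_eq_mul.1 h)
        · simp only [Finset.mem_insert, Finset.mem_singleton]
          rintro (h | h)
          · exact htz h.symm
          · exact ht1 (left_eq_mul.1 h)
        · simp only [Finset.mem_insert, Finset.mem_singleton]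
          rintro (h | h | h)
          · exact hzne h.symm
          · exact ht1 h.symm
          · apply htz
            rw [eq_comm, mul_eq_one_iff_inv_eq, inv_of_sq_eq_one hz.2] at h
            exact h.symm
      have hbij := (Nat.bijective_iff_injective_and_card g).2 ⟨hg, by
        rw [Nat.card_eq_finsetCard, hcard]; omega⟩
      obtain ⟨⟨a, ha⟩, e⟩ := hbij.2 ⟨c, hc⟩
      rw [← show a = c from congrArg Subtype.val e]
      simp only [Finset.mem_insert, Finset.mem_singleton] at ha
      rcases ha with h | h | h | h <;> rw [h]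
      · exact one_pow 2
      · exact hz.2
      · exact ht
      · rw [(hzc t).symm.mul_pow, hz.2, ht, one_mul]
    have hxW : x ∉ W := fun h => hx h.2
    refine hxW (S.mem_of_fixed_mod W (S.sq_mem_omega hna) fun ψ hψ => ?_)
    have hψx : ψ x ^ 2 ≠ 1 := by
      rw [← map_pow]; exact fun h => hx (ψ.injective (by rw [h, map_one]))
    have hψC : ψ x ∉ C := fun h => hψx (hC4 _ h)
    have hxz : x * z ∉ C ∧ (x * z) ^ 2 ≠ 1 := by
      refine ⟨fun h => hxC (by simpa using mul_mem h (inv_mem hzC)), ?_⟩
      rw [(hzc x).mul_pow, hz.2, mul_one]; exact hx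
    by_contra hne
    let a : A2 := ⟨x, hxC, hx⟩
    let b : A2 := ⟨x * z, hxz⟩
    let c : A2 := ⟨ψ x, hψC, hψx⟩
    obtain ⟨v, -, huniq⟩ := (Nat.card_eq_two_iff' a).1 h2A
    have hb : b ≠ a := fun h => hzne (by simpa [a, b] using congrArg Subtype.val h)
    have hc : c ≠ a := fun h => hne (by
      rw [show ψ x = x from congrArg Subtype.val h, inv_mul_cancel]; exact one_mem _)
    have hcb := (huniq c hc).trans (huniq b hb).symm
    apply hne
    rw [show ψ x = x * z from congrArg Subtype.val hcb, inv_mul_cancel_left]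
    exact hz
  refine ⟨hE, hn, ?_⟩
  have hC' : Nat.card C = 16 := by
    have : Nat.card X = 32 := hn
    omega
  have hA1 : Nat.card A1 = 8 := by omega
  have hsplit : ∀ x : X, orderOf x = 2 ↔ x ∈ ({z, t, z * t} : Finset X) ∨ (x ∉ C ∧ x ^ 2 = 1) := by
    intro x
    rw [orderOf_eq_prime_iff]
    constructor
    · rintro ⟨h1, hx1⟩
      by_cases hx : x ∈ C
      · left
        rcases hin x hx h1 with h | h | h | h
        · exact absurd h hx1
        all_goals simp [h]
      · exact Or.inr ⟨hx, h1⟩
    · rintro (h | ⟨hx, h1⟩)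
      · simp only [Finset.mem_insert, Finset.mem_singleton] at h
        rcases h with rfl | rfl | rfl
        · exact ⟨hz.2, hzne⟩
        · exact ⟨ht, ht1⟩
        · refine ⟨by rw [(hzc t).symm.mul_pow, hz.2, ht, one_mul], fun h => htz ?_⟩
          rw [mul_eq_one_iff_inv_eq, inv_of_sq_eq_one hz.2] at h
          exact h.symm
      · exact ⟨h1, fun h => hx (h ▸ one_mem _)⟩
  have h3 : ({z, t, z * t} : Finset X).card = 3 := by
    rw [Finset.card_insert_of_notMem, Finset.card_pair]
    · exact fun h => hzne (right_eq_mul.1 h)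
    · simp only [Finset.mem_insert, Finset.mem_singleton]
      rintro (h | h)
      · exact htz h.symm
      · exact ht1 (left_eq_mul.1 h)
  letI := Fintype.ofFinite X
  rw [Nat.card_congr (Equiv.subtypeEquivRight hsplit)]
  rw [Nat.card_eq_fintype_card, Fintype.card_subtype_or_disjoint, Fintype.card_coe, h3,
    ← Nat.card_eq_fintype_card]
  · change 3 + Nat.card A1 = 11
    omega
  · rw [Pi.disjoint_iff]
    intro x
    refine Prop.disjoint_iff.mpr ?_
    rintro ⟨h1, hx, -⟩
    simp only [Finset.mem_insert, Finset.mem_singleton] at h1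
    rcases h1 with rfl | rfl | rfl
    exacts [hx hzC, hx htC, hx (mul_mem hzC htC)]

theorem classify :
    Nonempty (X ≃* QuaternionGroup 2) ∨
      (Cfsg.IsSpecial 2 X ∧ Nat.card X = 64 ∧ Nat.card {x : X // orderOf x = 2} = 3 ∧
        ∀ x : X, orderOf x = 2 → x ∈ Subgroup.center X) ∨
      (Cfsg.IsExtraspecial 2 X ∧ Nat.card X = 32 ∧ Nat.card {x : X // orderOf x = 2} = 11) := by
  classical
  haveI := S.nontrivial_of_nonabelian hna
  haveI : Fact (Nat.Prime 2) := ⟨Nat.prime_two⟩
  rcases S.card_omega with h2 | h4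
  · exact (S.small_centre hna h2).imp_right Or.inr
  · have hiff : ∀ x : X, orderOf x = 2 ↔ x ∈ omegaCenter X ∧ x ≠ 1 := by
      intro x
      rw [orderOf_eq_prime_iff]
      exact ⟨fun h => ⟨S.mem_omega_of_comm_mem h4 h.1 (S.comm_mem hna x), h.2⟩, fun h => ⟨h.1.2, h.2⟩⟩
    refine Or.inr (Or.inl ⟨S.isSpecial hna, S.card_eq_64 hna h4, ?_, fun x hx => ((hiff x).1 hx).1.1⟩)
    letI := Fintype.ofFinite X
    letI := Fintype.ofFinite (omegaCenter X)
    rw [Nat.card_congr ((Equiv.subtypeEquivRight hiff).trans
      ((Equiv.subtypeSubtypeEquivSubtypeInter (fun x => x ∈ omegaCenter X) (fun x => x ≠ 1)).symm.trans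
        (Equiv.subtypeEquivRight (q := fun x : omegaCenter X => x ≠ 1)
          fun x => ⟨fun h h' => h (congrArg Subtype.val h'), fun h h' => h (Subtype.ext h')⟩)))]
    rw [Nat.card_eq_fintype_card, Fintype.card_subtype_compl, Fintype.card_subtype_eq,
      ← Nat.card_eq_fintype_card, h4]

end Setting

end CfsgLib.Techniques.OddSCN
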