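import Cfsg.Agent.Lib.Techniques.OddSCNAbelian

/-!
# Squares lie in the socle of the centre

The case of a maximal normal abelian invariant subgroup of exponent greater than two.
-/

set_option autoImplicit false
set_option linter.style.haveILetI false
set_option linter.unusedSectionVars false

namespace CfsgLib.Techniques.OddSCN

open Subgroup
open scoped commutatorElement

variable {X : Type*} [Group X] [Finite X]

namespace Setting

variable {S : Setting X}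

namespace Frame

variable (F : Frame S)

/-- Maximality of the abelian subgroup. -/
def Max : Prop := ∀ V : Subgroup X, S.Good V → F.U ≤ V → V ≤ F.U

/-- The elements of order dividing four of `U`. -/
def M : Subgroup X where
  carrier := {x | x ∈ F.U ∧ x ^ 4 = 1}
  one_mem' := ⟨one_mem _, one_pow _⟩
  mul_mem' := fun {a b} ha hb => ⟨mul_mem ha.1 hb.1, by
    rw [(F.comm ha.1 hb.1).mul_pow, ha.2, hb.2, one_mul]⟩
  inv_mem' := fun {a} ha => ⟨inv_mem ha.1, by rw [inv_pow, ha.2, inv_one]⟩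

theorem mem_M {x : X} : x ∈ F.M ↔ x ∈ F.U ∧ x ^ 4 = 1 := Iff.rfl

theorem M_normal : F.M.Normal := ⟨fun x hx g => ⟨F.good.1.conj_mem x hx.1 g, by
  rw [conj_pow, hx.2]; group⟩⟩

theorem inv_M : S.Inv F.M := fun ψ hψ x hx => ⟨F.good.2.1 ψ hψ x hx.1, by rw [← map_pow, hx.2, map_one]⟩

theorem comm_U {u : X} (hu : u ∈ F.U) (g : X) : ⁅u, g⁆ ∈ F.U := by
  rw [show ⁅u, g⁆ = u * (g * u⁻¹ * g⁻¹) by simp [commutatorElement_def, mul_assoc]]
  exact mul_mem hu (F.good.1.conj_mem _ (inv_mem hu) g)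

/-- An involution centralizing `Ω₂(U)` whose commutators lie in `U` is in the socle of the centre. -/
theorem no_involution {t : X} (ht : t ^ 2 = 1) (hc : ∀ g : X, ⁅t, g⁆ ∈ F.U)
    (hM : ∀ m ∈ F.M, Commute t m) : t ∈ omegaCenter X := by
  refine S.mem_omega_of_comm_mem F.action.1 ht fun g => F.omega_of_sq (hc g) ?_
  obtain ⟨k, hk⟩ := S.isP ⁅t, g⁆
  refine MacWilliams.sq_eq_one_of_inverted (x := t) k hk ?_ fun n hn => ?_
  · rw [inv_of_sq_eq_one ht, commutatorElement_def, inv_of_sq_eq_one ht]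
    calc t * (t * g * t * g⁻¹) * t = t ^ 2 * (g * t * g⁻¹ * t) := by simp [pow_two, mul_assoc]
      _ = g * t * g⁻¹ * t := by rw [ht, one_mul]
      _ = g * t⁻¹ * g⁻¹ * t⁻¹ := by rw [inv_of_sq_eq_one ht]
      _ = (t * g * t * g⁻¹)⁻¹ := by group
  · rw [(hM _ ⟨pow_mem (hc g) n, hn⟩).eq, mul_inv_cancel_right]

section

variable (hmax : F.Max)
include hmax

theorem le_of_centralizer : centralizer (F.U : Set X) ≤ F.U := by
  classical
  haveI := F.good.1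
  set C := centralizer (F.U : Set X) with hC
  have hCinv : S.Inv C := S.inv_centralizer F.good.2.1
  have hUC : F.U ≤ C := fun u hu => mem_centralizer_iff.2 fun v hv => (F.comm hv hu).eq
  by_contra hne
  obtain ⟨k0, hk0, hk0U, hk0c, hk0sq⟩ := exists_layer S.isP F.U C hne
  have hk0C : k0 ∈ C := (sup_le le_rfl hUC : C ⊔ F.U ≤ C) hk0
  let K : Subgroup X :=
    { carrier := {k | k ∈ C ∧ (∀ g : X, ⁅k, g⁆ ∈ F.U) ∧ k ^ 2 ∈ F.U}
      one_mem' := ⟨one_mem _, fun g => by simp, by simp⟩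
      mul_mem' := by
        rintro a b ⟨ha, hac, ha2⟩ ⟨hb, hbc, hb2⟩
        refine ⟨mul_mem ha hb, fun g => ?_, ?_⟩
        · rw [show ⁅a * b, g⁆ = a * ⁅b, g⁆ * a⁻¹ * ⁅a, g⁆ by simp [commutatorElement_def, mul_assoc]]
          exact mul_mem (F.good.1.conj_mem _ (hbc g) a) (hac g)
        · rw [show (a * b) ^ 2 = a ^ 2 * (⁅a⁻¹, b⁆ * b ^ 2) by
            simp [commutatorElement_def, pow_two, mul_assoc]]
          refine mul_mem ha2 (mul_mem ?_ hb2)
          rw [show ⁅a⁻¹, b⁆ = a⁻¹ * ⁅a, b⁆⁻¹ * (a⁻¹)⁻¹ by simp [commutatorElement_def, mul_assoc]]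
          exact F.good.1.conj_mem _ (inv_mem (hac b)) _
      inv_mem' := by
        rintro a ⟨ha, hac, ha2⟩
        refine ⟨inv_mem ha, fun g => ?_, by rw [inv_pow]; exact inv_mem ha2⟩
        rw [show ⁅a⁻¹, g⁆ = a⁻¹ * ⁅a, g⁆⁻¹ * (a⁻¹)⁻¹ by simp [commutatorElement_def, mul_assoc]]
        exact F.good.1.conj_mem _ (inv_mem (hac g)) _ }
  have hUK : F.U ≤ K := fun u hu => ⟨hUC hu, F.comm_U hu, pow_mem hu 2⟩
  have hcU : ∀ u ∈ F.U, ∀ m ∈ K, Commute u m := fun u hu m hm => mem_centralizer_iff.1 hm.1 u hu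
  have hKW : ∀ a ∈ K, ∀ b ∈ K, ⁅a, b⁆ ∈ omegaCenter X := by
    intro a ha b hb
    refine F.omega_of_sq (ha.2.1 b) ?_
    have hca : Commute ⁅a, b⁆ a := hcU _ (ha.2.1 b) a ha
    have e : ⁅a ^ 2, b⁆ = a * ⁅a, b⁆ * a⁻¹ * ⁅a, b⁆ := by simp [commutatorElement_def, pow_two, mul_assoc]
    rw [commutatorElement_eq_one_iff_commute.2 (hcU _ ha.2.2 b hb), ← hca.eq,
      mul_inv_cancel_right] at e
    rw [pow_two]; exact e.symm
  have haniso : ∀ k ∈ K, F.IsSq (k ^ 2) → k ∈ F.U := by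
    rintro k hk ⟨v, hv, hvk⟩
    have hkv : k * v⁻¹ ∈ K := mul_mem hk (inv_mem (hUK hv))
    have h2 : (k * v⁻¹) ^ 2 = 1 := by
      rw [((hcU v hv k hk).symm.inv_right).mul_pow, inv_pow, hvk, mul_inv_cancel]
    have := F.le (F.no_involution h2 hkv.2.1 fun m hm => (hcU m hm.1 _ hkv).symm)
    simpa using mul_mem this hv
  have hKcomm : ∀ a ∈ K, ∀ b ∈ K, a * b = b * a := by
    by_contra hcon
    push Not at hcon
    obtain ⟨k, hk, l, hl, hkl⟩ := hcon
    have hc1 : ⁅k, l⁆ ≠ 1 := fun h => hkl (commutatorElement_eq_one_iff_mul_comm.1 h)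
    have hkU : k ∉ F.U := fun h => hkl (hcU k h l hl).eq
    have hns : ¬ F.IsSq (k ^ 2) := fun h => hkU (haniso k hk h)
    obtain ⟨-, -, hcls⟩ := F.classes hk.2.2 hns
    have hfk : F.φ k ∈ K := ⟨hCinv F.φ F.mem k hk.1, fun g => by
      have := F.φ_mem (hk.2.1 (F.φ⁻¹ g))
      rwa [map_commutatorElement, show F.φ (F.φ⁻¹ g) = g from F.φ.apply_symm_apply g] at this,
      by rw [← map_pow]; exact F.φ_mem hk.2.2⟩
    have hsqmul : ∀ a ∈ K, ∀ b ∈ K, F.IsSq ((a ^ 2)⁻¹ * b ^ 2) → a⁻¹ * b ∈ F.U := by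
      intro a ha b hb h
      refine haniso _ (mul_mem (inv_mem ha) hb) ?_
      rw [CfsgLib.PGroup.mul_pow_of_central (hKW b hb a⁻¹ (inv_mem ha)).1, Nat.choose_self, pow_one,
        inv_pow]
      exact F.isSq_mul h (F.isSq_omega (hKW b hb a⁻¹ (inv_mem ha)))
    have hcov : ∀ m ∈ K, ∃ u ∈ F.U, m = u ∨ m = k * u ∨ m = F.φ k * u ∨ m = k * F.φ k * u := by
      intro m hm
      rcases hcls (m ^ 2) hm.2.2 with h | h | h | h
      · exact ⟨m, haniso m hm h, Or.inl rfl⟩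
      · exact ⟨k⁻¹ * m, hsqmul k hk m hm h, Or.inr (Or.inl (by group))⟩
      · exact ⟨(F.φ k)⁻¹ * m, hsqmul _ hfk m hm (by rw [← map_pow]; exact h),
          Or.inr (Or.inr (Or.inl (by group)))⟩
      · refine ⟨(k * F.φ k)⁻¹ * m, hsqmul _ (mul_mem hk hfk) m hm ?_, Or.inr (Or.inr (Or.inr (by group)))⟩
        rw [CfsgLib.PGroup.mul_pow_of_central (hKW _ hfk k hk).1, Nat.choose_self, pow_one, ← map_pow,
          mul_inv_rev, mul_assoc]
        exact F.isSq_mul (F.isSq_inv (F.isSq_omega (hKW _ hfk k hk))) h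
    have hall := comm_two hk hfk hUK hcU (fun a ha b hb => (hKW a ha b hb).1) hcov
    have hc : ⁅k, F.φ k⁆ ∈ omegaCenter X := hKW k hk _ hfk
    have hZ2 : ∀ x ∈ zpowers ⁅k, F.φ k⁆, x = 1 ∨ x = ⁅k, F.φ k⁆ := by
      intro x hx
      obtain ⟨i, rfl⟩ := mem_zpowers_iff.1 hx
      rcases Int.even_or_odd' i with ⟨j, rfl | rfl⟩
      · left; rw [zpow_mul, zpow_two, ← pow_two, hc.2, one_zpow]
      · right; rw [zpow_add, zpow_mul, zpow_two, ← pow_two, hc.2, one_zpow, zpow_one, one_mul]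
    have hne1 : ⁅k, F.φ k⁆ ≠ 1 := fun h => hc1 (by
      rcases hZ2 _ (hall k hk l hl) with h1 | h1
      · exact h1
      · rw [h1, h])
    have hfix : F.φ ⁅k, F.φ k⁆ = ⁅k, F.φ k⁆ := by
      have hffk : F.φ (F.φ k) ∈ K := ⟨hCinv F.φ F.mem _ hfk.1, fun g => by
        have := F.φ_mem (hfk.2.1 (F.φ⁻¹ g))
        rwa [map_commutatorElement, show F.φ (F.φ⁻¹ g) = g from F.φ.apply_symm_apply g] at this,
        by rw [← map_pow]; exact F.φ_mem hfk.2.2⟩
      rw [map_commutatorElement]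
      rcases hZ2 _ (hall _ hfk _ hffk) with h | h
      · exact absurd (F.φ.injective (by rw [map_commutatorElement, h, map_one])) hne1
      · exact h
    exact hne1 (F.action.2.1 _ hc hfix)
  have hKgood : S.Good K := by
    refine ⟨⟨fun x hx g => ⟨?_, fun h => ?_, ?_⟩⟩, fun ψ hψ x hx => ⟨hCinv ψ hψ x hx.1, fun g => ?_, ?_⟩,
      ⟨⟨fun a b => Subtype.ext (hKcomm a a.2 b b.2)⟩⟩⟩
    · exact (inferInstance : C.Normal).conj_mem x hx.1 g
    · rw [show ⁅g * x * g⁻¹, h⁆ = g * ⁅x, g⁻¹ * h * g⁆ * g⁻¹ by simp [commutatorElement_def, mul_assoc]]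
      exact F.good.1.conj_mem _ (hx.2.1 _) g
    · rw [conj_pow]; exact F.good.1.conj_mem _ hx.2.2 g
    · have := F.good.2.1 ψ hψ _ (hx.2.1 (ψ⁻¹ g))
      rwa [map_commutatorElement, show ψ (ψ⁻¹ g) = g from ψ.apply_symm_apply g] at this
    · rw [← map_pow]; exact F.good.2.1 ψ hψ _ hx.2.2
  exact hk0U (hmax K hKgood hUK ⟨hk0C, hk0c, hk0sq⟩)

/-- The subgroup `U` is the centralizer of its elements of order dividing four. -/
theorem mem_of_centralizes_M {g : X} (hg : ∀ m ∈ F.M, Commute g m) : g ∈ F.U := by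
  classical
  haveI := F.good.1
  haveI := F.M_normal
  set J := centralizer (F.M : Set X) with hJ
  have hUJ : F.U ≤ J := fun u hu => mem_centralizer_iff.2 fun m hm => (F.comm hm.1 hu).eq
  have hgJ : g ∈ J := mem_centralizer_iff.2 fun m hm => (hg m hm).eq.symm
  by_contra hgU
  have hne : ¬ J ≤ F.U := fun h => hgU (h hgJ)
  obtain ⟨k, hk0, hkU, hkc, hk2⟩ := exists_layer S.isP F.U J hne
  have hkJ : k ∈ J := (sup_le le_rfl hUJ : J ⊔ F.U ≤ J) hk0
  -- commutators of an element like `k` with `U` lie in the socle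
  have hδ : ∀ a : X, a ∈ J → (∀ x : X, ⁅a, x⁆ ∈ F.U) → a ^ 2 ∈ F.U → ∀ u ∈ F.U,
      ⁅a, u⁆ ∈ omegaCenter X := by
    intro a haJ hac ha2 u hu
    refine F.omega_of_sq (hac u) ?_
    obtain ⟨n, hn⟩ := S.isP ⁅a, u⁆
    refine MacWilliams.sq_eq_one_of_inverted (x := a) n hn ?_ fun i hi => ?_
    · have h1 : a ^ 2 * u * (a ^ 2)⁻¹ = u := by rw [(F.comm ha2 hu).eq, mul_inv_cancel_right]
      calc a * ⁅a, u⁆ * a⁻¹ = (a ^ 2 * u * (a ^ 2)⁻¹) * (a * u⁻¹ * a⁻¹) := by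
            simp [commutatorElement_def, pow_two, mul_assoc]
        _ = u * (a * u⁻¹ * a⁻¹) := by rw [h1]
        _ = ⁅a, u⁆⁻¹ := by simp [commutatorElement_def, mul_assoc]
    · rw [(show Commute a _ from (mem_centralizer_iff.1 haJ _
        ⟨pow_mem (hac u) i, hi⟩).symm).eq, mul_inv_cancel_right]
  have hsq1 : ∀ a : X, a ∈ J → (∀ x : X, ⁅a, x⁆ ∈ F.U) → a ^ 2 ∈ F.U → ∀ z : X, F.IsSq z →
      ⁅a, z⁆ = 1 := by
    intro a haJ hac ha2 z hz
    obtain ⟨y, hy, rfl⟩ := hz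
    rw [CfsgLib.PGroup.commutatorElement_pow_right_of_central (hδ a haJ hac ha2 y hy).1,
      (hδ a haJ hac ha2 y hy).2]
  have hns : ¬ F.IsSq (k ^ 2) := by
    rintro ⟨v, hv, hvk⟩
    obtain ⟨z, hz, hz4, hz2⟩ := F.exists_sq (hδ k hkJ hkc hk2 v⁻¹ (inv_mem hv))
    have hu : v⁻¹ * z ∈ F.U := mul_mem (inv_mem hv) hz
    have hc : ⁅k, v⁻¹ * z⁆ = ⁅k, v⁻¹⁆ := by
      rw [CfsgLib.PGroup.commutatorElement_mul_right_of_central _ _ _ (hδ k hkJ hkc hk2 z hz).1,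
        commutatorElement_eq_one_iff_commute.2
          (show Commute k z from (mem_centralizer_iff.1 hkJ z ⟨hz, hz4⟩).symm), mul_one]
    set u := v⁻¹ * z with hudef
    have hku : (k * u) ^ 2 = 1 := by
      have h1 : k ^ 2 * u * (k ^ 2)⁻¹ = u := by rw [(F.comm hk2 hu).eq, mul_inv_cancel_right]
      have h2 : k⁻¹ * u * k = k * u * k⁻¹ := by
        calc k⁻¹ * u * k = k⁻¹ * (k ^ 2 * u * (k ^ 2)⁻¹) * k := by rw [h1]
          _ = k * u * k⁻¹ := by rw [pow_two]; group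
      calc (k * u) ^ 2 = k ^ 2 * (k⁻¹ * u * k) * u := by rw [pow_two, pow_two]; group
        _ = k ^ 2 * (⁅k, u⁆ * u * u) := by rw [h2, commutatorElement_def]; group
        _ = v ^ 2 * (z ^ 2 * (v⁻¹ * z) * (v⁻¹ * z)) := by rw [hc, hvk, hz2]
        _ = v ^ 2 * (z ^ 2 * (v⁻¹ * z) ^ 2) := by rw [pow_two (v⁻¹ * z), mul_assoc]
        _ = v ^ 2 * (z ^ 2 * ((v ^ 2)⁻¹ * z ^ 2)) := by
          rw [(F.comm (inv_mem hv) hz).mul_pow, inv_pow]
        _ = z ^ 4 := by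
          rw [← mul_assoc (z ^ 2), ← mul_assoc, ← mul_assoc,
            (F.comm (pow_mem hv 2) (pow_mem hz 2)).eq, mul_inv_cancel_right, ← pow_add]
        _ = 1 := hz4
    have hkuU := F.le (F.no_involution hku (fun x => by
      rw [show ⁅k * u, x⁆ = k * ⁅u, x⁆ * k⁻¹ * ⁅k, x⁆ by simp [commutatorElement_def, mul_assoc]]
      exact mul_mem (F.good.1.conj_mem _ (F.comm_U hu x) k) (hkc x))
      fun m hm => (mem_centralizer_iff.1 (mul_mem hkJ (hUJ hu)) m hm).symm)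
    exact hkU (by simpa using mul_mem hkuU (inv_mem hu))
  -- the translate of `k`
  set l := F.φ k with hl
  have hlJ : l ∈ J := S.inv_centralizer F.inv_M F.φ F.mem k hkJ
  have hlc : ∀ x : X, ⁅l, x⁆ ∈ F.U := fun x => by
    have := F.φ_mem (hkc (F.φ⁻¹ x))
    rwa [map_commutatorElement, show F.φ (F.φ⁻¹ x) = x from F.φ.apply_symm_apply x] at this
  have hl2' : l ^ 2 = F.φ (k ^ 2) := (map_pow F.φ k 2).symm
  have hl2 : l ^ 2 ∈ F.U := by rw [hl2']; exact F.φ_mem hk2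
  set y := ⁅l, k⁆ with hy
  have hyU : y ∈ F.U := hlc k
  have hy2 : y ^ 4 = 1 ∧ ⁅l, k ^ 2⁆ = y ^ 2 := by
    have e1 : ⁅l, k ^ 2⁆ = y * ⁅k, y⁆ * y := by
      rw [hy]; simp [commutatorElement_def, pow_two, mul_assoc]
    have hyk := hδ k hkJ hkc hk2 y hyU
    rw [mem_center_iff.1 hyk.1 y, mul_assoc, ← pow_two] at e1
    have hy2W : y ^ 2 ∈ omegaCenter X := by
      have := mul_mem (inv_mem hyk) (hδ l hlJ hlc hl2 (k ^ 2) hk2)
      rwa [e1, inv_mul_cancel_left] at this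
    have hy4 : y ^ 4 = 1 := by rw [show (4 : ℕ) = 2 * 2 from rfl, pow_mul]; exact hy2W.2
    refine ⟨hy4, ?_⟩
    rw [e1, commutatorElement_eq_one_iff_commute.2
      (show Commute k y from (mem_centralizer_iff.1 hkJ y ⟨hyU, hy4⟩).symm), one_mul]
  have hsym : ⁅k, l ^ 2⁆ = ⁅l, k ^ 2⁆ := by
    have hly : Commute l y⁻¹ := (show Commute l y from
      (mem_centralizer_iff.1 hlJ y ⟨hyU, hy2.1⟩).symm).inv_right
    have e : ⁅k, l ^ 2⁆ = ⁅k, l⁆ * (l * ⁅k, l⁆ * l⁻¹) := by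
      simp [commutatorElement_def, pow_two, mul_assoc]
    rw [show ⁅k, l⁆ = y⁻¹ from (commutatorElement_inv l k).symm, hly.eq, mul_inv_cancel_right,
      ← pow_two, inv_pow] at e
    rw [e, hy2.2]
    exact inv_of_sq_eq_one (by rw [← pow_mul]; exact hy2.1)
  set u0 := k ^ 2 with hu0
  set w := ⁅l, u0⁆ with hw
  have hwW : w ∈ omegaCenter X := hδ l hlJ hlc hl2 u0 hk2
  obtain ⟨hns1, hns3, hcls⟩ := F.classes hk2 hns
  have hku0 : ⁅k, u0⁆ = 1 :=
    commutatorElement_eq_one_iff_commute.2 ((Commute.refl k).pow_right 2)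
  have hlu1 : ⁅l, l ^ 2⁆ = 1 :=
    commutatorElement_eq_one_iff_commute.2 ((Commute.refl l).pow_right 2)
  have hw1 : w ≠ 1 := by
    intro h
    refine hkU (F.le_of_centralizer hmax (mem_centralizer_iff.2 fun x hx => ?_))
    refine ((commutatorElement_eq_one_iff_mul_comm).1 ?_).symm
    have hmul : ∀ b ∈ F.U, ∀ c : X, ⁅k, b⁆ = 1 → F.IsSq (b⁻¹ * c) → ⁅k, c⁆ = 1 := by
      intro b hb c hkb hs
      have hsU := F.isSq_mem hs
      rw [show c = b * (b⁻¹ * c) by group,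
        CfsgLib.PGroup.commutatorElement_mul_right_of_central _ _ _ (hδ k hkJ hkc hk2 _ hsU).1, hkb,
        hsq1 k hkJ hkc hk2 _ hs, one_mul]
    have hk1 : ⁅k, F.φ u0⁆ = 1 := by rw [← hl2', hsym]; exact h
    rcases hcls x hx with h' | h' | h' | h'
    · exact hsq1 k hkJ hkc hk2 x h'
    · exact hmul u0 hk2 x hku0 h'
    · exact hmul _ (F.φ_mem hk2) x hk1 h'
    · refine hmul _ (mul_mem hk2 (F.φ_mem hk2)) x ?_ h'
      rw [CfsgLib.PGroup.commutatorElement_mul_right_of_central _ _ _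
        (hδ k hkJ hkc hk2 _ (F.φ_mem hk2)).1, hku0, hk1, one_mul]
  have hφw : F.φ w = w := by
    have hu1 := F.φ_mem hk2
    have hu2 := F.φ_mem hu1
    have h2 : F.IsSq ((u0 * F.φ u0)⁻¹ * F.φ (F.φ u0)) := by
      obtain ⟨hns2, -, -⟩ := F.classes hu1 hns1
      rcases hcls _ hu2 with h' | h' | h' | h'
      · exact absurd h' hns2
      · exfalso
        obtain ⟨r, hr, hrsq⟩ := h'
        obtain ⟨z, hz, hzs⟩ := F.sq_of_fixed_mod (u := u0 * F.φ u0) (mul_mem hk2 hu1) hr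
          (by
            rw [hrsq, map_mul, mul_inv_rev, mul_assoc, ← mul_assoc u0⁻¹,
              (F.comm (inv_mem hk2) hu1).eq, mul_assoc, inv_mul_cancel_left])
        exact hns3 ⟨z, hz, hzs⟩
      · obtain ⟨r, hr, hrsq⟩ := h'
        obtain ⟨z, hz, hzs⟩ := F.sq_of_fixed_mod (u := F.φ u0) hu1 hr hrsq.symm
        exact absurd ⟨z, hz, hzs⟩ hns1
      · exact h'
    have h3 : F.φ w = ⁅l, F.φ (F.φ u0)⁆ := by
      rw [← hsym, map_commutatorElement, ← hl, hl2']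
    rw [h3, show F.φ (F.φ u0) = u0 * F.φ u0 * ((u0 * F.φ u0)⁻¹ * F.φ (F.φ u0)) by group,
      CfsgLib.PGroup.commutatorElement_mul_right_of_central _ _ _
        (hδ l hlJ hlc hl2 _ (F.isSq_mem h2)).1,
      CfsgLib.PGroup.commutatorElement_mul_right_of_central _ _ _ (hδ l hlJ hlc hl2 _ hu1).1,
      hsq1 l hlJ hlc hl2 _ h2, ← hl2', hlu1, mul_one, mul_one]
  exact hw1 (F.action.2.1 w hwW hφw)

end

end Frame

end Setting

end CfsgLib.Techniques.OddSCN
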