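import Cfsg.Agent.Lib.Techniques.OddSCNMain

/-!
# Squares lie in the socle of the centre: conclusion
-/

set_option autoImplicit false
set_option linter.style.haveILetI false
set_option linter.unusedSectionVars false

namespace CfsgLib.Techniques.OddSCN

open Subgroup
open scoped commutatorElement

variable {X : Type*} [Group X] [Finite X]

namespace Setting

variable {S : Setting X}

namespace Frame

variable (F : Frame S)

/-- Commutators with elements of order dividing four of `U`. -/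
theorem eps_mem {g m : X} (hm : m ∈ F.M) : ⁅g, m⁆ ∈ omegaCenter X := by
  have hgm : g * m * g⁻¹ ∈ F.U := F.good.1.conj_mem m hm.1 g
  have e : ⁅g, m⁆ = (g * m * g⁻¹) * m⁻¹ := by simp [commutatorElement_def, mul_assoc]
  refine F.omega_of_sq (by rw [e]; exact mul_mem hgm (inv_mem hm.1)) ?_
  have hW : m ^ 2 ∈ omegaCenter X := F.omega_of_sq (pow_mem hm.1 2) (by rw [← pow_mul]; exact hm.2)
  rw [e, (F.comm hgm (inv_mem hm.1)).mul_pow, conj_pow, mem_center_iff.1 hW.1 g, mul_inv_cancel_right,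
    inv_pow, mul_inv_cancel]

theorem φ_cube_omega {w : X} (hw : w ∈ omegaCenter X) : F.φ (F.φ (F.φ w)) = w := by
  by_cases h1 : w = 1
  · rw [h1, map_one, map_one, map_one]
  · rw [(F.action.2.2 w hw h1).1, map_mul, (F.action.2.2 w hw h1).1,
      (mem_center_iff.1 hw.1 (F.φ w)).symm, ← mul_assoc, ← pow_two,
      (S.inv_omega F.φ F.mem w hw).2, one_mul]

variable (hmax : F.Max)
include hmax

/-- An element acting trivially on a nontrivial class of `Ω₂(U)` modulo the socle lies in `U`. -/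
theorem mem_of_eps_eq_one {g m : X} (hm : m ∈ F.M) (hm2 : m ^ 2 ≠ 1) (h : ⁅g, m⁆ = 1) : g ∈ F.U := by
  classical
  set φ := F.φ with hφ
  have hmW : m ^ 2 ∈ omegaCenter X := F.omega_of_sq (pow_mem hm.1 2) (by rw [← pow_mul]; exact hm.2)
  have hm1 : φ m ∈ F.M := F.inv_M φ F.mem m hm
  have hm2' : φ (φ m) ∈ F.M := F.inv_M φ F.mem _ hm1
  obtain ⟨hW2, hWall⟩ := F.action.2.2 _ hmW hm2
  have hεmul : ∀ a : X, ∀ x ∈ F.M, ∀ z ∈ F.M, ⁅a, x * z⁆ = ⁅a, x⁆ * ⁅a, z⁆ := fun a x _ z hz =>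
    CfsgLib.PGroup.commutatorElement_mul_right_of_central _ _ _ (F.eps_mem hz).1
  have hεW : ∀ a : X, ∀ w ∈ omegaCenter X, ⁅a, w⁆ = 1 := fun a w hw =>
    commutatorElement_eq_one_iff_commute.2 (mem_center_iff.1 hw.1 a)
  have hsame : ∀ a : X, ∀ x ∈ F.M, ∀ z ∈ F.M, x ^ 2 = z ^ 2 → ⁅a, x⁆ = ⁅a, z⁆ := by
    intro a x hx z hz he
    have hzx : z⁻¹ * x ∈ omegaCenter X := F.omega_of_sq (mul_mem (inv_mem hz.1) hx.1) (by
      rw [(F.comm (inv_mem hz.1) hx.1).mul_pow, inv_pow, he, inv_mul_cancel])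
    calc ⁅a, x⁆ = ⁅a, z * (z⁻¹ * x)⁆ := by rw [mul_inv_cancel_left]
      _ = ⁅a, z⁆ := by
        rw [hεmul a z hz _ (mul_mem (inv_mem hz) hx), hεW a _ hzx, mul_one]
  let D : X → X := fun a => ⁅a, m⁆ * φ (φ ⁅a, φ m⁆) * φ ⁅a, φ (φ m)⁆
  have hDW : ∀ a, D a ∈ omegaCenter X := fun a =>
    mul_mem (mul_mem (F.eps_mem hm) (S.inv_omega φ F.mem _ (S.inv_omega φ F.mem _ (F.eps_mem hm1))))
      (S.inv_omega φ F.mem _ (F.eps_mem hm2'))
  have hεleft : ∀ a b : X, ∀ x ∈ F.M, ⁅a * b, x⁆ = ⁅a, x⁆ * ⁅b, x⁆ := fun a b x hx =>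
    CfsgLib.PGroup.commutatorElement_mul_left_of_central _ _ _ (F.eps_mem hx).1
  have hDmul : ∀ a b, D (a * b) = D a * D b := by
    intro a b
    simp only [D]
    rw [hεleft a b m hm, hεleft a b _ hm1, hεleft a b _ hm2', map_mul, map_mul, map_mul]
    have c1 : Commute ⁅b, m⁆ (φ (φ ⁅a, φ m⁆)) :=
      (mem_center_iff.1 (F.eps_mem hm).1 _).symm
    have c2 : Commute (φ (φ ⁅b, φ m⁆)) (φ ⁅a, φ (φ m)⁆) :=
      (mem_center_iff.1 (S.inv_omega φ F.mem _ (S.inv_omega φ F.mem _ (F.eps_mem hm1))).1 _).symm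
    have c3 : Commute ⁅b, m⁆ (φ ⁅a, φ (φ m)⁆) :=
      (mem_center_iff.1 (F.eps_mem hm).1 _).symm
    calc ⁅a, m⁆ * ⁅b, m⁆ * (φ (φ ⁅a, φ m⁆) * φ (φ ⁅b, φ m⁆)) * (φ ⁅a, φ (φ m)⁆ * φ ⁅b, φ (φ m)⁆)
        = ⁅a, m⁆ * (⁅b, m⁆ * φ (φ ⁅a, φ m⁆)) * (φ (φ ⁅b, φ m⁆) * φ ⁅a, φ (φ m)⁆) * φ ⁅b, φ (φ m)⁆ := by
          simp only [mul_assoc]
      _ = ⁅a, m⁆ * φ (φ ⁅a, φ m⁆) * (⁅b, m⁆ * φ ⁅a, φ (φ m)⁆) * φ (φ ⁅b, φ m⁆) * φ ⁅b, φ (φ m)⁆ := by
          rw [c1.eq, c2.eq]; simp only [mul_assoc]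
      _ = _ := by rw [c3.eq]; simp only [mul_assoc]
  have hDφ : ∀ a, D (φ a) = D a := by
    intro a
    have e1 : ⁅φ a, φ m⁆ = φ ⁅a, m⁆ := (map_commutatorElement φ a m).symm
    have e2 : ⁅φ a, φ (φ m)⁆ = φ ⁅a, φ m⁆ := (map_commutatorElement φ a _).symm
    have hm3 : φ (φ (φ m)) ∈ F.M := F.inv_M φ F.mem _ hm2'
    have e0 : ⁅φ a, m⁆ = φ ⁅a, φ (φ m)⁆ := by
      rw [map_commutatorElement]
      exact hsame (φ a) m hm _ hm3 (by
        rw [← map_pow φ, ← map_pow φ, ← map_pow φ]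
        exact (F.φ_cube_omega hmW).symm)
    show ⁅φ a, m⁆ * φ (φ ⁅φ a, φ m⁆) * φ ⁅φ a, φ (φ m)⁆ = D a
    rw [e0, e1, e2, F.φ_cube_omega (F.eps_mem hm)]
    simp only [D]
    have c1 : Commute (φ ⁅a, φ (φ m)⁆) ⁅a, m⁆ := mem_center_iff.1 (F.eps_mem hm).1 _
    have c2 : Commute (φ ⁅a, φ (φ m)⁆) (φ (φ ⁅a, φ m⁆)) :=
      mem_center_iff.1 (S.inv_omega φ F.mem _ (S.inv_omega φ F.mem _ (F.eps_mem hm1))).1 _
    rw [c1.eq, mul_assoc, c2.eq, ← mul_assoc]
  have hDθ : ∀ θ ∈ S.A, (∀ w ∈ omegaCenter X, θ w = w) → ∀ a, D (θ a) = D a := by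
    intro θ hθ hfix a
    have he : ∀ x ∈ F.M, ⁅θ a, x⁆ = ⁅a, x⁆ := by
      intro x hx
      have hxW : x ^ 2 ∈ omegaCenter X := F.omega_of_sq (pow_mem hx.1 2) (by rw [← pow_mul]; exact hx.2)
      rw [hsame (θ a) x hx (θ x) (F.inv_M θ hθ x hx) (by rw [← map_pow, hfix _ hxW]),
        ← map_commutatorElement, hfix _ (F.eps_mem hx)]
    simp only [D, he m hm, he _ hm1, he _ hm2']
  have hψ : ∀ ψ ∈ S.A, ∀ a, D (ψ a) = D a := by
    intro ψ hψ a
    have hW4 : Nat.card (omegaCenter X) ≤ 4 := F.action.1.le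
    have hfix : ∀ θ ∈ S.A, θ (m ^ 2) = m ^ 2 → ∀ w ∈ omegaCenter X, θ w = w := fun θ hθ h =>
      S.fixed_of_card_le_four hθ hW4 (S.inv_omega θ hθ) hmW hm2 h
    rcases hWall _ (S.inv_omega ψ hψ _ hmW) with h | h | h | h
    · exact absurd (ψ.injective (by rw [h, map_one])) hm2
    · exact hDθ ψ hψ (hfix ψ hψ h) a
    · have hθ : φ⁻¹ * ψ ∈ S.A := mul_mem (inv_mem F.mem) hψ
      have h' := hDθ _ hθ (hfix _ hθ (by
        rw [MulAut.mul_apply, h]; exact φ.symm_apply_apply _)) a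
      rw [← h', ← hDφ ((φ⁻¹ * ψ) a)]
      congr 1
      exact (φ.apply_symm_apply _).symm
    · have hθ : φ⁻¹ * (φ⁻¹ * ψ) ∈ S.A := mul_mem (inv_mem F.mem) (mul_mem (inv_mem F.mem) hψ)
      have h' := hDθ _ hθ (hfix _ hθ (by
        rw [MulAut.mul_apply, MulAut.mul_apply, h, ← hW2]
        show φ.symm (φ.symm _) = _
        rw [φ.symm_apply_apply, φ.symm_apply_apply])) a
      rw [← h', ← hDφ ((φ⁻¹ * (φ⁻¹ * ψ)) a), ← hDφ (φ ((φ⁻¹ * (φ⁻¹ * ψ)) a))]
      congr 1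
      show ψ a = φ (φ (φ.symm (φ.symm (ψ a))))
      rw [φ.apply_symm_apply, φ.apply_symm_apply]
  have hD1 : ∀ a, D a = 1 := fun a => S.hom_trivial (MonoidHom.mk' D hDmul) hψ a
  -- the other classes
  have hz : ⁅g, φ (φ m)⁆ = ⁅g, φ m⁆ := by
    rw [hsame g (φ (φ m)) hm2' (m * φ m) (mul_mem hm hm1) (by
      rw [(F.comm hm.1 hm1.1).mul_pow, ← map_pow φ, ← map_pow φ]; exact hW2),
      hεmul g m hm _ hm1, h, one_mul]
  have ha : ⁅g, φ m⁆ = 1 := by
    have hd := hD1 g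
    simp only [D, h, one_mul, hz] at hd
    set a := ⁅g, φ m⁆
    have haW : a ∈ omegaCenter X := F.eps_mem hm1
    rw [← map_mul, map_eq_one_iff _ φ.injective, mul_eq_one_iff_eq_inv, inv_of_sq_eq_one haW.2] at hd
    exact F.action.2.1 a haW hd
  refine F.mem_of_centralizes_M hmax fun x hx => commutatorElement_eq_one_iff_commute.1 ?_
  have hxW : x ^ 2 ∈ omegaCenter X := F.omega_of_sq (pow_mem hx.1 2) (by rw [← pow_mul]; exact hx.2)
  rcases hWall _ hxW with h' | h' | h' | h'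
  · exact hεW g x (F.omega_of_sq hx.1 h')
  · rw [hsame g x hx m hm h', h]
  · rw [hsame g x hx _ hm1 (by rw [← map_pow φ]; exact h'), ha]
  · rw [hsame g x hx _ (mul_mem hm hm1) (by
      rw [(F.comm hm.1 hm1.1).mul_pow, ← map_pow φ]; exact h'), hεmul g m hm _ hm1, h, ha, one_mul]

/-- The main case: all squares lie in the socle of the centre. -/
theorem sq_mem (hna : ¬ IsMulCommutative X) : ∀ x : X, x ^ 2 ∈ omegaCenter X := by
  classical
  haveI := F.good.1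
  have hMW : ∀ m ∈ F.M, m ^ 2 ∈ omegaCenter X := fun m hm =>
    F.omega_of_sq (pow_mem hm.1 2) (by rw [← pow_mul]; exact hm.2)
  have hsqU : ∀ x : X, x ^ 2 ∈ F.U := by
    intro x
    refine F.mem_of_centralizes_M hmax fun m hm => commutatorElement_eq_one_iff_commute.1 ?_
    rw [CfsgLib.PGroup.commutatorElement_pow_left_of_central (F.eps_mem hm).1, (F.eps_mem hm).2]
  have hfixed : ∀ g : X, g ∉ F.U → ∀ u ∈ F.U, Commute g u → u ^ 2 = 1 := by
    intro g hg u hu hgu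
    by_contra h
    obtain ⟨n, h1, h2⟩ := exists_pow_four S.isP h
    exact hg (F.mem_of_eps_eq_one hmax (m := u ^ n) ⟨pow_mem hu n, h2⟩ h1
      (commutatorElement_eq_one_iff_commute.2 (hgu.pow_right n)))
  have hout : ∀ g : X, g ∉ F.U → g ^ 2 ∈ omegaCenter X := fun g hg =>
    F.omega_of_sq (hsqU g) (hfixed g hg _ (hsqU g) ((Commute.refl g).pow_right 2))
  have hinv : ∀ g : X, g ∉ F.U → ∀ u ∈ F.U, g * u ^ 2 * g⁻¹ = (u ^ 2)⁻¹ := by
    intro g hg u hu
    have hu' : g * u * g⁻¹ ∈ F.U := F.good.1.conj_mem u hu g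
    have hgg : g ^ 2 * u * (g ^ 2)⁻¹ = u := by rw [(F.comm (hsqU g) hu).eq, mul_inv_cancel_right]
    have hc : Commute g (u * (g * u * g⁻¹)) := by
      show g * (u * (g * u * g⁻¹)) = u * (g * u * g⁻¹) * g
      calc g * (u * (g * u * g⁻¹)) = g * u * g⁻¹ * (g ^ 2 * u * (g ^ 2)⁻¹) * g := by
            simp [pow_two, mul_assoc]
        _ = g * u * g⁻¹ * u * g := by rw [hgg]
        _ = u * (g * u * g⁻¹) * g := by rw [(F.comm hu' hu).eq]
    have h2 := hfixed g hg _ (mul_mem hu hu') hc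
    rw [(F.comm hu hu').mul_pow, conj_pow, mul_eq_one_iff_inv_eq] at h2
    exact h2.symm
  obtain ⟨g, hg⟩ : ∃ g : X, g ∉ F.U := by
    by_contra h
    push Not at h
    exact hna ⟨⟨fun a b => (F.comm (h a) (h b)).eq⟩⟩
  obtain ⟨h, hh, hgh⟩ : ∃ h : X, h ∉ F.U ∧ g * h ∉ F.U := by
    by_contra hcon
    push Not at hcon
    refine hg (S.mem_of_fixed_mod F.U hsqU fun ψ hψ => ?_)
    have hψg : ψ g ∉ F.U := fun h => hg (by
      have := F.good.2.1 ψ⁻¹ (inv_mem hψ) _ h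
      rwa [show ψ⁻¹ (ψ g) = g from ψ.symm_apply_apply g] at this)
    have := mul_mem (inv_mem (hsqU g)) (hcon _ hψg)
    rwa [show (g ^ 2)⁻¹ * (g * ψ g) = g⁻¹ * ψ g by rw [pow_two]; group] at this
  intro x
  by_cases hx : x ∈ F.U
  · refine F.omega_of_sq (pow_mem hx 2) ?_
    have h1 := hinv _ hgh x hx
    rw [show g * h * x ^ 2 * (g * h)⁻¹ = g * (h * x ^ 2 * h⁻¹) * g⁻¹ by group, hinv h hh x hx,
      ← inv_pow, hinv g hg _ (inv_mem hx), inv_pow, inv_inv] at h1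
    rw [pow_two (x ^ 2)]
    exact mul_eq_one_iff_eq_inv.2 h1
  · exact hout x hx

end Frame

variable (S)

include S in
/-- All squares lie in the socle of the centre. -/
theorem sq_mem_omega [Nontrivial X] (hna : ¬ IsMulCommutative X) : ∀ x : X, x ^ 2 ∈ omegaCenter X := by
  classical
  haveI := normal_omega (X := X)
  by_cases hT : ∀ φ ∈ S.A, ∀ w ∈ omegaCenter X, φ w = w
  · have hfix : ∀ U : Subgroup X, S.Good U → ∀ φ ∈ S.A, ∀ u ∈ U, φ u = u := fun U hU φ hφ =>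
      S.fixed_of_fixed_involutions hφ (fun a ha b hb => S.good_comm hU ha hb) (hU.2.1 φ hφ)
        fun k hk h2 => hT φ hφ k (S.mem_omega_of_good hU hk h2)
    refine S.sq_mem_of_central (fun U hU => ?_) (Or.inl (hfix _ ⟨inferInstance,
      S.inv_of_characteristic _, ⟨⟨fun a b => Subtype.ext (mem_center_iff.1 b.2 a)⟩⟩⟩))
    haveI := hU.1
    exact S.le_center_of_fixed U (hfix U hU)
  · push Not at hT
    obtain ⟨φ, hφ, hmove⟩ := hT
    by_cases hall : ∀ U : Subgroup X, S.Good U → U ≤ omegaCenter X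
    · refine S.sq_mem_of_central (fun U hU => (hall U hU).trans fun w hw => hw.1) (Or.inr ?_)
      exact hall _ ⟨inferInstance, S.inv_of_characteristic _,
        ⟨⟨fun a b => Subtype.ext (mem_center_iff.1 b.2 a)⟩⟩⟩
    push Not at hall
    obtain ⟨U0, hU0, hnot⟩ := hall
    have hcomm : ∀ a ∈ (U0 : Set X) ∪ (omegaCenter X : Set X),
        ∀ b ∈ (U0 : Set X) ∪ (omegaCenter X : Set X), a * b = b * a := by
      rintro a (ha | ha) b (hb | hb)
      · exact S.good_comm hU0 ha hb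
      · exact mem_center_iff.1 hb.1 a
      · exact (mem_center_iff.1 ha.1 b).symm
      · exact mem_center_iff.1 hb.1 a
    have hU1 : S.Good (closure ((U0 : Set X) ∪ (omegaCenter X : Set X))) := by
      refine S.good_closure _ (fun g a ha => subset_closure ?_) (fun ψ hψ a ha => subset_closure ?_) hcomm
      · rcases ha with ha | ha
        · exact Or.inl (hU0.1.conj_mem a ha g)
        · exact Or.inr (normal_omega.conj_mem a ha g)
      · rcases ha with ha | ha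
        · exact Or.inl (hU0.2.1 ψ hψ a ha)
        · exact Or.inr (S.inv_omega ψ hψ a ha)
    obtain ⟨U, hle, hUmax⟩ := Finite.exists_le_maximal (p := S.Good)
      (a := closure ((U0 : Set X) ∪ (omegaCenter X : Set X))) hU1
    obtain ⟨v, hv, hvW⟩ := SetLike.not_le_iff_exists.1 hnot
    let F : Frame S :=
      { U := U
        good := hUmax.1
        le := fun w hw => hle (subset_closure (Or.inr hw))
        φ := φ
        mem := hφ
        move := hmove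
        v := v
        v_mem := hle (subset_closure (Or.inl hv))
        v_sq := fun h => hvW (S.mem_omega_of_good hU0 hv h) }
    exact F.sq_mem (fun V hV hUV => hUmax.2 hV hUV) hna

end Setting

end CfsgLib.Techniques.OddSCN
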