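import Cfsg.Agent.Lib.Techniques.Order320Presentation
import Cfsg.Agent.Lib.PGroup.Frattini
import Cfsg.Agent.Lib.OddOrder.PuigSeries
import Mathlib.GroupTheory.SpecificGroups.KleinFour
import Mathlib.GroupTheory.Perm.Cycle.Type

/-!
# A group of order 320 with derived subgroup of order 64 whose centre is a four-group

It is generated by two elements satisfying the relations of `Order320Presentation`.
-/

set_option autoImplicit false
set_option linter.style.haveILetI false
set_option linter.unusedSectionVars false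

namespace CfsgLib.Techniques.Order320

open Subgroup
open scoped commutatorElement

section Aut

variable {T : Type*} [Group T] [Finite T] (φ : MulAut T)

omit [Finite T] in
/-- An automorphism with `φ⁵ = 1` fixes an invariant subgroup of order four pointwise. -/
theorem fix_card_four (h5 : φ ^ 5 = 1) {Z : Subgroup T} (hZ : Nat.card Z = 4)
    (hinv : ∀ z ∈ Z, φ z ∈ Z) : ∀ z ∈ Z, φ z = z := by
  classical
  intro z hz
  have e5 : φ (φ (φ (φ (φ z)))) = z := by
    have := DFunLike.congr_fun h5 z
    simpa [pow_succ, MulAut.mul_apply] using this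
  by_contra hne
  have hz1 : z ≠ 1 := fun h => hne (by rw [h, map_one])
  have h2 : φ (φ z) ≠ z := fun h => hne (by rw [h, h] at e5; exact e5)
  have h3 : φ (φ (φ z)) ≠ z := fun h => by rw [h] at e5; exact h2 e5
  let s : Finset T := {1, z, φ z, φ (φ z), φ (φ (φ z))}
  have hs : s.card = 5 := by
    simp only [s]
    rw [Finset.card_insert_of_notMem, Finset.card_insert_of_notMem, Finset.card_insert_of_notMem,
      Finset.card_pair]
    · exact fun h => hne (φ.injective (φ.injective h.symm))
    · simp only [Finset.mem_insert, Finset.mem_singleton]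
      rintro (h | h)
      · exact hne (φ.injective h.symm)
      · exact h2 (φ.injective h.symm)
    · simp only [Finset.mem_insert, Finset.mem_singleton]
      rintro (h | h | h)
      · exact hne h.symm
      · exact h2 h.symm
      · exact h3 h.symm
    · simp only [Finset.mem_insert, Finset.mem_singleton]
      rintro (h | h | h | h)
      · exact hz1 h.symm
      · exact hz1 (φ.injective (by rw [← h, map_one]))
      · exact hz1 (φ.injective (φ.injective (by rw [← h, map_one, map_one])))
      · exact hz1 (φ.injective (φ.injective (φ.injective (by rw [← h, map_one, map_one, map_one]))))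
  have hsZ : (s : Set T) ⊆ (Z : Set T) := by
    intro x hx
    simp only [s, Finset.coe_insert, Finset.coe_singleton, Set.mem_insert_iff, Set.mem_singleton_iff] at hx
    rcases hx with rfl | rfl | rfl | rfl | rfl
    exacts [one_mem _, hz, hinv z hz, hinv _ (hinv z hz), hinv _ (hinv _ (hinv z hz))]
  haveI : Finite Z := Nat.finite_of_card_ne_zero (by omega)
  have hle := Set.ncard_le_ncard hsZ
  rw [Set.ncard_coe_finset, hs, ← Nat.card_coe_set_eq] at hle
  change 5 ≤ Nat.card Z at hle
  omega

variable (hgen : Subgroup.closure {g : T | ∃ t : T, g = t⁻¹ * φ t} = ⊤)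
include hgen

omit [Finite T] in
theorem hom_trivial {H : Type*} [Group H] (f : T →* H) (hf : ∀ t, f (φ t) = f t) (t : T) : f t = 1 := by
  have : (⊤ : Subgroup T) ≤ f.ker := by
    rw [← hgen, closure_le]
    rintro _ ⟨u, rfl⟩
    simp [hf u]
  exact this (mem_top t)

omit [Finite T] in
theorem le_center_of_fixed (K : Subgroup T) [hK : K.Normal] (h : ∀ k ∈ K, φ k = k) : K ≤ center T := by
  have : (⊤ : Subgroup T) ≤ centralizer (K : Set T) := by
    rw [← hgen, closure_le]
    rintro _ ⟨x, rfl⟩
    rw [SetLike.mem_coe, mem_centralizer_iff]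
    intro k hk
    have h1 := h _ (hK.conj_mem k hk x)
    rw [map_mul, map_mul, map_inv, h k hk] at h1
    calc k * (x⁻¹ * φ x) = x⁻¹ * (x * k * x⁻¹) * φ x := by group
      _ = x⁻¹ * (φ x * k * (φ x)⁻¹) * φ x := by rw [h1]
      _ = x⁻¹ * φ x * k := by group
  intro k hk
  exact mem_center_iff.2 fun g => (mem_centralizer_iff.1 (this (mem_top g)) k hk).symm

variable (h5 : φ ^ 5 = 1)
include h5

omit [Finite T] in
/-- An element fixed modulo an elementary abelian quotient lies in the kernel. -/
theorem mem_of_fixed_mod (N : Subgroup T) [N.Normal] (hN : ∀ t ∈ N, φ t ∈ N)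
    (hsq : ∀ t : T, t ^ 2 ∈ N) {t : T} (h : t⁻¹ * φ t ∈ N) : t ∈ N := by
  classical
  have hq : ∀ v : T ⧸ N, v * v = 1 := by
    intro v
    obtain ⟨a, rfl⟩ := QuotientGroup.mk_surjective v
    rw [← QuotientGroup.mk_mul, QuotientGroup.eq_one_iff, ← pow_two]
    exact hsq a
  have hcomm : ∀ a b : T ⧸ N, a * b = b * a := fun a b => by
    have h1 := inv_eq_of_mul_eq_one_right (hq (a * b))
    rw [mul_inv_rev, inv_eq_of_mul_eq_one_right (hq a), inv_eq_of_mul_eq_one_right (hq b)] at h1
    exact h1.symm
  letI : CommGroup (T ⧸ N) := { (inferInstance : Group (T ⧸ N)) with mul_comm := hcomm }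
  let q : T →* T ⧸ N := QuotientGroup.mk' N
  let g : T →* T ⧸ N :=
    q * q.comp φ.toMonoidHom * q.comp (φ ^ 2).toMonoidHom * q.comp (φ ^ 3).toMonoidHom *
      q.comp (φ ^ 4).toMonoidHom
  have e5 : ∀ y, φ (φ (φ (φ (φ y)))) = y := fun y => by
    have := DFunLike.congr_fun h5 y
    simpa [pow_succ, MulAut.mul_apply] using this
  have hg : ∀ y, g (φ y) = g y := by
    intro y
    simp only [g, MonoidHom.mul_apply, MonoidHom.comp_apply, MulEquiv.coe_toMonoidHom, pow_succ,
      pow_zero, one_mul, MulAut.mul_apply, e5]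
    rw [mul_comm _ (q y), ← mul_assoc, ← mul_assoc, ← mul_assoc]
  have h1 := hom_trivial φ hgen g hg t
  have hqt : ∀ y, q y = q t → q (φ y) = q t := by
    intro y hy
    have e : q (φ t) = q t := (QuotientGroup.eq.2 h).symm
    rw [← e]
    refine QuotientGroup.eq.2 ?_
    rw [← map_inv, ← map_mul]
    exact hN _ (QuotientGroup.eq.1 hy)
  simp only [g, MonoidHom.mul_apply, MonoidHom.comp_apply, MulEquiv.coe_toMonoidHom, pow_succ,
    pow_zero, one_mul, MulAut.mul_apply] at h1
  rw [hqt t rfl, hqt _ (hqt t rfl), hqt _ (hqt _ (hqt t rfl)), hqt _ (hqt _ (hqt _ (hqt t rfl))),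
    hq (q t), one_mul, hq (q t), one_mul] at h1
  exact (QuotientGroup.eq_one_iff t).1 h1

/-- Fixed-point-free counting: an invariant subgroup above `N` has index `≡ 1` modulo 5. -/
theorem card_quotient_mod_five (N : Subgroup T) [N.Normal] (hN : ∀ t ∈ N, φ t ∈ N)
    (hsq : ∀ t : T, t ^ 2 ∈ N) (M : Subgroup T) (hNM : N ≤ M) (hM : ∀ t ∈ M, φ t ∈ M) :
    Nat.card (M ⧸ N.subgroupOf M) % 5 = 1 := by
  classical
  haveI : Fact (Nat.Prime 5) := ⟨by norm_num⟩
  letI := Fintype.ofFinite (M ⧸ N.subgroupOf M)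
  let f : Function.End (M ⧸ N.subgroupOf M) :=
    Quotient.map' (fun m : M => (⟨φ m, hM m m.2⟩ : M)) fun a b hab => by
      rw [QuotientGroup.leftRel_apply, mem_subgroupOf] at hab ⊢
      simpa using hN _ hab
  have hf : ∀ m : M, f (m : M ⧸ N.subgroupOf M) = ((⟨φ m, hM m m.2⟩ : M) : M ⧸ N.subgroupOf M) :=
    fun m => rfl
  have hpow : f ^ (5 ^ 1) = 1 := by
    funext v
    obtain ⟨m, rfl⟩ := QuotientGroup.mk_surjective v
    show f (f (f (f (f (m : M ⧸ N.subgroupOf M))))) = (m : M ⧸ N.subgroupOf M)
    rw [hf, hf, hf, hf, hf]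
    refine congrArg _ (Subtype.ext ?_)
    have := DFunLike.congr_fun h5 (m : T)
    simpa [pow_succ, MulAut.mul_apply] using this
  have hmod := Equiv.Perm.card_fixedPoints_modEq (p := 5) (n := 1) hpow
  haveI : Unique (Function.fixedPoints f) :=
    { default := ⟨((1 : M) : M ⧸ N.subgroupOf M), by
        show f ((1 : M) : M ⧸ N.subgroupOf M) = _
        rw [hf]
        exact congrArg _ (Subtype.ext (map_one φ))⟩
      uniq := by
        rintro ⟨v, hv⟩
        obtain ⟨m, rfl⟩ := QuotientGroup.mk_surjective v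
        refine Subtype.ext (QuotientGroup.eq.2 ?_)
        rw [mem_subgroupOf, mul_one, Subgroup.coe_inv]
        refine inv_mem (mem_of_fixed_mod φ hgen h5 N hN hsq ?_)
        have := QuotientGroup.eq.1 ((hf m).symm.trans hv)
        rw [mem_subgroupOf] at this
        simpa using inv_mem this }
  rw [Fintype.card_unique (α := Function.fixedPoints f)] at hmod
  rw [Nat.card_eq_fintype_card]
  exact hmod

variable (hT : IsPGroup 2 T) (hcard : Nat.card T = 64) (hZ4 : Nat.card (center T) = 4)
include hT hcard hZ4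

omit hZ4 in
theorem card_quotient_frattini : Nat.card (T ⧸ frattini T) = 16 := by
  haveI : Fact (Nat.Prime 2) := ⟨Nat.prime_two⟩
  haveI : Nontrivial T := Finite.one_lt_card_iff_nontrivial.1 (by omega)
  have hinv : ∀ t ∈ frattini T, φ t ∈ frattini T := fun t ht =>
    (Subgroup.characteristic_iff_le_comap.1 (inferInstance : (frattini T).Characteristic) φ) ht
  have hmod := card_quotient_mod_five φ hgen h5 (frattini T) hinv
    (fun t => CfsgLib.PGroup.pow_mem_frattini hT t) ⊤ le_top (fun t _ => mem_top _)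
  have e := Subgroup.card_eq_card_quotient_mul_card_subgroup (frattini T)
  have e' := Subgroup.card_eq_card_quotient_mul_card_subgroup ((frattini T).subgroupOf ⊤)
  rw [Subgroup.card_top, Nat.card_congr (Subgroup.subgroupOfEquivOfLe le_top).toEquiv, e] at e'
  rw [← Nat.eq_of_mul_eq_mul_right Nat.card_pos e'] at hmod
  have hne : Nat.card (T ⧸ frattini T) ≠ 1 := fun h => CfsgLib.PGroup.frattini_ne_top (P := T)
    (Subgroup.eq_top_of_card_eq _ (by rw [e, h, one_mul]))
  obtain ⟨i, hi⟩ := IsPGroup.iff_card.1 (hT.to_quotient (frattini T))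
  rw [hcard] at e
  rw [hi] at hmod hne e ⊢
  have h6 : i ≤ 6 := (Nat.pow_le_pow_iff_right one_lt_two).1
    (show 2 ^ i ≤ 2 ^ 6 from Nat.le_of_dvd (by norm_num) ⟨_, e⟩)
  interval_cases i <;> omega

theorem frattini_eq_center : frattini T = center T := by
  have hq := card_quotient_frattini φ hgen h5 hT hcard
  have e := Subgroup.card_eq_card_quotient_mul_card_subgroup (frattini T)
  rw [hcard, hq] at e
  have h4 : Nat.card (frattini T) = 4 := by omega
  refine Subgroup.eq_of_le_of_card_ge (le_center_of_fixed φ hgen (frattini T) ?_) (by omega)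
  exact fix_card_four φ h5 h4 fun t ht =>
    (Subgroup.characteristic_iff_le_comap.1 (inferInstance : (frattini T).Characteristic) φ) ht

theorem sq_mem_center (t : T) : t ^ 2 ∈ center T := by
  haveI : Fact (Nat.Prime 2) := ⟨Nat.prime_two⟩
  rw [← frattini_eq_center φ hgen h5 hT hcard hZ4]; exact CfsgLib.PGroup.pow_mem_frattini hT t

theorem comm_mem_center (u v : T) : ⁅u, v⁆ ∈ center T := by
  haveI : Fact (Nat.Prime 2) := ⟨Nat.prime_two⟩
  rw [← frattini_eq_center φ hgen h5 hT hcard hZ4]
  exact CfsgLib.PGroup.commutator_le_frattini hT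
    (Subgroup.commutator_mem_commutator (mem_top u) (mem_top v))

theorem center_fixed : ∀ z ∈ center T, φ z = z :=
  fix_card_four φ h5 hZ4 fun z hz =>
    (Subgroup.characteristic_iff_le_comap.1 (inferInstance : (center T).Characteristic) φ) hz

theorem center_le_commutator : center T ≤ commutator T := by
  have hsq : ∀ t : T, t ^ 2 ∈ commutator T := by
    intro t
    let f : T →* T ⧸ commutator T := MonoidHom.mk' (fun y => ((y ^ 2 : T) : T ⧸ commutator T))
      fun u v => by
        have hc := comm_mem_center φ hgen h5 hT hcard hZ4 v u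
        have hmem : ⁅v, u⁆ ∈ commutator T := Subgroup.commutator_mem_commutator (mem_top v) (mem_top u)
        rw [CfsgLib.PGroup.mul_pow_of_central hc, Nat.choose_self, pow_one, QuotientGroup.mk_mul,
          QuotientGroup.mk_mul, (QuotientGroup.eq_one_iff _).2 hmem, mul_one]
    refine (QuotientGroup.eq_one_iff _).1 (hom_trivial φ hgen f (fun y => ?_) t)
    show ((φ y ^ 2 : T) : T ⧸ commutator T) = ((y ^ 2 : T) : T ⧸ commutator T)
    rw [← map_pow, center_fixed φ hgen h5 hT hcard hZ4 _ (sq_mem_center φ hgen h5 hT hcard hZ4 y)]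
  intro z hz
  refine mem_of_fixed_mod φ hgen h5 (commutator T) (fun y hy =>
    (Subgroup.characteristic_iff_le_comap.1 (inferInstance : (commutator T).Characteristic) φ) hy) hsq ?_
  rw [center_fixed φ hgen h5 hT hcard hZ4 z hz, inv_mul_cancel]
  exact one_mem _

/-- A closed description: generators of `T`, and squares. -/
theorem structure_of_orbit {a : T} (ha : a ∉ center T)
    (hP : a * φ a * φ (φ a) * φ (φ (φ a)) * φ (φ (φ (φ a))) = 1) :
    closure {a, φ a, φ (φ a), φ (φ (φ a))} = ⊤ ∧ a ^ 2 = ⁅a, φ a⁆ * ⁅a, φ (φ a)⁆ ∧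
      ∀ z ∈ center T, z = 1 ∨ z = ⁅a, φ a⁆ ∨ z = ⁅a, φ (φ a)⁆ ∨ z = ⁅a, φ a⁆ * ⁅a, φ (φ a)⁆ := by
  haveI : Fact (Nat.Prime 2) := ⟨Nat.prime_two⟩
  set a1 := φ a with ha1
  set a2 := φ a1 with ha2
  set a3 := φ a2 with ha3
  have hcen := comm_mem_center φ hgen h5 hT hcard hZ4
  have hfix := center_fixed φ hgen h5 hT hcard hZ4
  have hz2 : ∀ z ∈ center T, z ^ 2 = 1 := by
    intro z hz
    obtain ⟨u, hu⟩ : ∃ u, z = u := ⟨z, rfl⟩
    have hm : center T ≤ commutator T := center_le_commutator φ hgen h5 hT hcard hZ4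
    have hc2 : ∀ u v : T, ⁅u, v⁆ ^ 2 = 1 := fun u v => by
      rw [← CfsgLib.PGroup.commutatorElement_pow_left_of_central (hcen u v),
        commutatorElement_eq_one_iff_mul_comm]
      exact (mem_center_iff.1 (sq_mem_center φ hgen h5 hT hcard hZ4 u) v).symm
    let E : Subgroup T :=
      { carrier := {y | y ∈ center T ∧ y ^ 2 = 1}
        one_mem' := ⟨one_mem _, one_pow _⟩
        mul_mem' := fun {y w} hy hw => ⟨mul_mem hy.1 hw.1, by
          rw [(show Commute y w from (mem_center_iff.1 hy.1 w).symm).mul_pow, hy.2, hw.2, one_mul]⟩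
        inv_mem' := fun {y} hy => ⟨inv_mem hy.1, by rw [inv_pow, hy.2, inv_one]⟩ }
    have hE : commutator T ≤ E := by
      rw [_root_.commutator_def, Subgroup.commutator_le]
      exact fun u _ v _ => ⟨hcen u v, hc2 u v⟩
    exact (hE (hm hz)).2
  have e5 : φ (φ (φ (φ (φ a)))) = a := by
    have := DFunLike.congr_fun h5 a
    simpa [pow_succ, MulAut.mul_apply] using this
  have hinv : ∀ z ∈ center T, z⁻¹ = z := fun z hz =>
    inv_eq_of_mul_eq_one_right (by rw [← pow_two]; exact hz2 z hz)
  have hsymm : ∀ u v : T, ⁅v, u⁆ = ⁅u, v⁆ := fun u v => by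
    rw [← commutatorElement_inv, hinv _ (hcen u v)]
  have hmap : ∀ u v : T, ⁅φ u, φ v⁆ = ⁅u, v⁆ := fun u v => by
    rw [← map_commutatorElement, hfix _ (hcen u v)]
  have h12 : ⁅a1, a2⁆ = ⁅a, a1⁆ := hmap a a1
  have h23 : ⁅a2, a3⁆ = ⁅a, a1⁆ := (hmap a1 a2).trans h12
  have h13 : ⁅a1, a3⁆ = ⁅a, a2⁆ := hmap a a2
  have h03 : ⁅a, a3⁆ = ⁅a, a2⁆ := by
    have e1 : ⁅φ (φ (φ a)), φ (φ (φ a2))⁆ = ⁅a, a2⁆ := by rw [hmap, hmap, hmap]
    rw [show φ (φ (φ a2)) = a from e5, ← ha1, ← ha2, ← ha3] at e1
    rw [hsymm a3 a]; exact e1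
  -- the subgroup generated by the four conjugates
  set K := closure {a, a1, a2, a3} with hK
  have haK : a ∈ K := subset_closure (by simp)
  have h1K : a1 ∈ K := subset_closure (by simp)
  have h2K : a2 ∈ K := subset_closure (by simp)
  have h3K : a3 ∈ K := subset_closure (by simp)
  have hφa3 : φ a3 ∈ K := by
    rw [mul_eq_one_iff_inv_eq] at hP
    rw [← hP]
    exact inv_mem (mul_mem (mul_mem (mul_mem haK h1K) h2K) h3K)
  have hKinv : K ≤ K.comap φ.toMonoidHom := by
    rw [hK, closure_le]
    intro y hy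
    simp only [Set.mem_insert_iff, Set.mem_singleton_iff] at hy
    rcases hy with rfl | rfl | rfl | rfl
    exacts [h1K, h2K, h3K, hφa3]
  have hΦ := frattini_eq_center φ hgen h5 hT hcard hZ4
  have htop : K = ⊤ := by
    apply frattini_nongenerating
    rw [hΦ]
    have hinvM : ∀ t ∈ K ⊔ center T, φ t ∈ K ⊔ center T := by
      have : K ⊔ center T ≤ (K ⊔ center T).comap φ.toMonoidHom :=
        sup_le (fun y hy => mem_sup_left (hKinv hy)) fun y hy => by
          show φ y ∈ K ⊔ center T
          rw [hfix y hy]; exact mem_sup_right hy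
      exact fun t ht => this ht
    have hmod := card_quotient_mod_five φ hgen h5 (center T)
      (fun z hz => by rw [hfix z hz]; exact hz) (sq_mem_center φ hgen h5 hT hcard hZ4)
      (K ⊔ center T) le_sup_right hinvM
    have e := Subgroup.card_eq_card_quotient_mul_card_subgroup ((center T).subgroupOf (K ⊔ center T))
    rw [Nat.card_congr (Subgroup.subgroupOfEquivOfLe le_sup_right).toEquiv, hZ4] at e
    have hne : Nat.card (↥(K ⊔ center T) ⧸ (center T).subgroupOf (K ⊔ center T)) ≠ 1 := fun h => ha (by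
      rw [Subgroup.eq_of_le_of_card_ge (le_sup_right : center T ≤ K ⊔ center T) (by omega)]
      exact mem_sup_left haK)
    refine Subgroup.eq_top_of_card_eq _ ?_
    have hd := (K ⊔ center T).card_subgroup_dvd_card
    rw [hcard] at hd ⊢
    obtain ⟨i, hi⟩ := IsPGroup.iff_card.1 (hT.to_subgroup (K ⊔ center T))
    have h64 := Nat.le_of_dvd (by norm_num) hd
    rw [hi] at e h64 ⊢
    have : i ≤ 6 := (Nat.pow_le_pow_iff_right one_lt_two).1 (h64 : 2 ^ i ≤ 2 ^ 6)
    interval_cases i <;> omega
  refine ⟨htop, ?_, ?_⟩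
  · -- the square
    have hsq : ∀ u, φ u ^ 2 = u ^ 2 := fun u => by
      rw [← map_pow, hfix _ (sq_mem_center φ hgen h5 hT hcard hZ4 u)]
    set c := ⁅a, a1⁆ with hc
    set d := ⁅a, a2⁆ with hd
    have hcd : Commute c d := (mem_center_iff.1 (hcen a a1) d).symm
    have hmul : ∀ u v : T, (u * v) ^ 2 = u ^ 2 * v ^ 2 * ⁅v, u⁆ := fun u v => by
      rw [CfsgLib.PGroup.mul_pow_of_central (hcen v u), Nat.choose_self, pow_one]
    have hcl : ∀ u v w : T, ⁅u, v * w⁆ = ⁅u, v⁆ * ⁅u, w⁆ := fun u v w =>
      CfsgLib.PGroup.commutatorElement_mul_right_of_central _ _ _ (hcen u w)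
    rw [mul_eq_one_iff_inv_eq] at hP
    have hs4 : φ a3 ^ 2 = a ^ 2 := by rw [hsq, ha3, hsq, ha2, hsq, ha1, hsq]
    have hA : a ^ 2 * a ^ 2 = 1 := by
      rw [← pow_two]; exact hz2 _ (sq_mem_center φ hgen h5 hT hcard hZ4 a)
    have hc2 : c * c = 1 := by rw [← pow_two]; exact hz2 _ (hcen a a1)
    have hd2 : d * d = 1 := by rw [← pow_two]; exact hz2 _ (hcen a a2)
    have t1 : (a * a1) ^ 2 = c := by
      rw [hmul, show a1 ^ 2 = a ^ 2 from hsq a, hA, one_mul, hsymm a a1]
    have t2 : (a * a1 * a2) ^ 2 = d * a ^ 2 := by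
      rw [hmul, t1, show a2 ^ 2 = a ^ 2 by rw [ha2, hsq, ha1, hsq], hcl, hsymm a a2, hsymm a1 a2, h12,
        ← hd]
      have hz := sq_mem_center φ hgen h5 hT hcard hZ4 a
      calc c * a ^ 2 * (d * c) = a ^ 2 * (c * (d * c)) := by rw [mem_center_iff.1 hz c, mul_assoc]
        _ = a ^ 2 * (c * (c * d)) := by rw [hcd.eq]
        _ = d * a ^ 2 := by rw [← mul_assoc c, hc2, one_mul, mem_center_iff.1 hz d]
    have t3 : (a * a1 * a2 * a3) ^ 2 = c * d := by
      rw [hmul, t2, show a3 ^ 2 = a ^ 2 by rw [ha3, hsq, ha2, hsq, ha1, hsq], hcl, hcl, hsymm a a3,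
        hsymm a1 a3, hsymm a2 a3, h03, h13, h23, hd2, one_mul, mul_assoc d, hA, mul_one]
      exact hcd.eq.symm
    calc a ^ 2 = φ a3 ^ 2 := hs4.symm
      _ = ((a * a1 * a2 * a3) ^ 2)⁻¹ := by rw [← hP, inv_pow]
      _ = c * d := by rw [t3]; exact hinv _ (mul_mem (hcen a a1) (hcen a a2))
  · -- the centre
    intro z hz
    set c := ⁅a, a1⁆
    set d := ⁅a, a2⁆
    have hcd : c * d = d * c := (mem_center_iff.1 (hcen a a1) d).symm
    have hc2 : c * c = 1 := by rw [← pow_two]; exact hz2 _ (hcen a a1)
    have hd2 : d * d = 1 := by rw [← pow_two]; exact hz2 _ (hcen a a2)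
    have hcS : c ∈ closure ({c, d} : Set T) := subset_closure (by simp)
    have hdS : d ∈ closure ({c, d} : Set T) := subset_closure (by simp)
    haveI : (closure ({c, d} : Set T)).Normal := by
      refine ⟨fun y hy g => ?_⟩
      have hle : closure ({c, d} : Set T) ≤ center T := by
        rw [closure_le]; rintro w (rfl | rfl) <;> exact hcen _ _
      rwa [mem_center_iff.1 (hle hy) g, mul_inv_cancel_right]
    have hle : commutator T ≤ closure ({c, d} : Set T) := by
      rw [_root_.commutator_def, Subgroup.commutator_le]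
      intro u _ v _
      have hmem : ∀ u ∈ ({a, a1, a2, a3} : Set T), ∀ v ∈ ({a, a1, a2, a3} : Set T),
          ⁅u, v⁆ ∈ closure ({c, d} : Set T) := by
        intro u hu v hv
        simp only [Set.mem_insert_iff, Set.mem_singleton_iff] at hu hv
        have key : ∀ w ∈ ({1, c, d} : Set T), w ∈ closure ({c, d} : Set T) := by
          rintro w (rfl | rfl | rfl)
          exacts [one_mem _, hcS, hdS]
        apply key
        rcases hu with rfl | rfl | rfl | rfl <;> rcases hv with rfl | rfl | rfl | rfl <;>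
          first
          | (left; exact commutatorElement_self _)
          | (right; left; first | rfl | exact h12 | exact h23 | exact hsymm _ _ | exact (hsymm _ _).trans h12 | exact (hsymm _ _).trans h23)
          | (right; right; first | rfl | exact h13 | exact h03 | exact hsymm _ _ | exact (hsymm _ _).trans h13 | exact (hsymm _ _).trans h03)
      have hq : IsMulCommutative ↥(closure ((QuotientGroup.mk' (closure ({c, d} : Set T))) ''
          ({a, a1, a2, a3} : Set T))) := by
        refine Subgroup.isMulCommutative_closure ?_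
        rintro _ ⟨u, hu, rfl⟩ _ ⟨v, hv, rfl⟩
        rw [← commutatorElement_eq_one_iff_mul_comm, ← map_commutatorElement]
        exact (QuotientGroup.eq_one_iff _).2 (hmem u hu v hv)
      rw [← MonoidHom.map_closure] at hq
      rw [← QuotientGroup.eq_one_iff, ← QuotientGroup.mk'_apply, map_commutatorElement,
        commutatorElement_eq_one_iff_mul_comm]
      exact congrArg Subtype.val (hq.is_comm.comm
        ⟨_, ⟨u, by rw [← hK, htop]; exact mem_top u, rfl⟩⟩ ⟨_, ⟨v, by rw [← hK, htop]; exact mem_top v, rfl⟩⟩)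
    let E : Subgroup T :=
      { carrier := {1, c, d, c * d}
        one_mem' := by simp
        mul_mem' := by
          have e1 : c * (c * d) = d := by rw [← mul_assoc, hc2, one_mul]
          have e2 : d * c = c * d := hcd.symm
          have e3 : d * (c * d) = c := by rw [← mul_assoc, e2, mul_assoc, hd2, mul_one]
          have e4 : c * d * c = d := by rw [mul_assoc, e2, e1]
          have e5 : c * d * d = c := by rw [mul_assoc, hd2, mul_one]
          have e6 : c * d * (c * d) = 1 := by rw [mul_assoc, e3, hc2]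
          rintro p q hp hq
          simp only [Set.mem_insert_iff, Set.mem_singleton_iff] at hp hq ⊢
          rcases hp with rfl | rfl | rfl | rfl <;> rcases hq with rfl | rfl | rfl | rfl <;>
            simp only [one_mul, mul_one, e1, e2, e3, e4, e5, e6, hc2, hd2, true_or, or_true]
        inv_mem' := by
          rintro p (rfl | rfl | rfl | rfl)
          · simp
          · rw [hinv _ (hcen a a1)]; exact Or.inr (Or.inl rfl)
          · rw [hinv _ (hcen a a2)]; exact Or.inr (Or.inr (Or.inl rfl))
          · rw [hinv _ (mul_mem (hcen a a1) (hcen a a2))]; exact Or.inr (Or.inr (Or.inr rfl)) }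
    have hE : closure ({c, d} : Set T) ≤ E := by
      rw [closure_le]
      rintro w (rfl | rfl)
      · exact Or.inr (Or.inl rfl)
      · exact Or.inr (Or.inr (Or.inl rfl))
    rcases hE (hle (center_le_commutator φ hgen h5 hT hcard hZ4 hz)) with h | h | h | h
    exacts [Or.inl h, Or.inr (Or.inl h), Or.inr (Or.inr (Or.inl h)), Or.inr (Or.inr (Or.inr h))]

end Aut

section Main

variable {G : Type*} [Group G] [Finite G]

/-- Generators with the standard relations, with the normal subgroups meeting the commutators. -/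
theorem exists_gens (hG : Nat.card G = 320) (hD : Nat.card (commutator G) = 64)
    (hZ : IsKleinFour (center (commutator G))) :
    ∃ a x : G, Rel a x ∧ closure {a, x} = ⊤ ∧
      ∀ (H : Type) [Group H] (f : G →* H), f (c1 a x) ≠ 1 → f (c2 a x) ≠ 1 →
        f (c1 a x * c2 a x) ≠ 1 → Function.Injective f := by
  haveI : Fact (Nat.Prime 5) := ⟨by norm_num⟩
  haveI : Fact (Nat.Prime 2) := ⟨Nat.prime_two⟩
  obtain ⟨x, hx5⟩ := exists_prime_orderOf_dvd_card' (G := G) 5 (by rw [hG]; norm_num)
  set T := commutator G with hTdef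
  have hTp : IsPGroup 2 T := IsPGroup.of_card (n := 6) (by rw [hD]; norm_num)
  have hx' : x ^ 5 = 1 := hx5 ▸ pow_orderOf_eq_one x
  set φ : MulAut T := MulAut.conjNormal x with hφdef
  have hφval : ∀ t : T, ((φ t : T) : G) = x * t * x⁻¹ := fun t => MulAut.conjNormal_apply x t
  have hφ5 : φ ^ 5 = 1 := by rw [hφdef, ← map_pow, hx', map_one]
  have hxT : x ∉ T := fun h => by
    obtain ⟨k, hk⟩ := hTp ⟨x, h⟩
    have := orderOf_dvd_of_pow_eq_one (congrArg Subtype.val hk : x ^ (2 ^ k) = 1)
    rw [hx5] at this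
    have := (Nat.prime_dvd_prime_iff_eq (by norm_num) Nat.prime_two).1
      ((by norm_num : Nat.Prime 5).dvd_of_dvd_pow this)
    omega
  have hsupT : T ⊔ zpowers x = ⊤ := by
    refine Subgroup.eq_top_of_card_eq _ (le_antisymm (Subgroup.card_le_card_group _) ?_)
    have hd1 : 64 ∣ Nat.card (T ⊔ zpowers x : Subgroup G) := hD ▸ Subgroup.card_dvd_of_le le_sup_left
    have hd2 : 5 ∣ Nat.card (T ⊔ zpowers x : Subgroup G) := by
      have := Subgroup.card_dvd_of_le (le_sup_right : zpowers x ≤ T ⊔ zpowers x)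
      rwa [Nat.card_zpowers, hx5] at this
    rw [hG]
    exact Nat.le_of_dvd Nat.card_pos (by
      have := Nat.Coprime.mul_dvd_of_dvd_of_dvd (by norm_num : Nat.Coprime 64 5) hd1 hd2
      simpa using this)
  -- `[T, x] = T`
  have hgen : closure {g : T | ∃ t : T, g = t⁻¹ * φ t} = ⊤ := by
    set N := closure {g : T | ∃ t : T, g = t⁻¹ * φ t} with hN
    have hmem : ∀ t : T, t⁻¹ * φ t ∈ N := fun t => subset_closure ⟨t, rfl⟩
    have hNT : ∀ u : T, ∀ y ∈ N, u * y * u⁻¹ ∈ N := by
      intro u
      have : N ≤ N.comap (MulAut.conj u).toMonoidHom := by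
        rw [hN, closure_le]
        rintro _ ⟨t, rfl⟩
        show u * (t⁻¹ * φ t) * u⁻¹ ∈ N
        rw [show u * (t⁻¹ * φ t) * u⁻¹ = ((t * u⁻¹)⁻¹ * φ (t * u⁻¹)) * (u⁻¹⁻¹ * φ u⁻¹)⁻¹ by
          rw [map_mul, inv_inv]; group]
        exact mul_mem (hmem _) (inv_mem (hmem _))
      exact fun y hy => by simpa using this hy
    have hNφ : ∀ y ∈ N, φ y ∈ N := fun y hy => by
      rw [show φ y = y * (y⁻¹ * φ y) by group]; exact mul_mem hy (hmem y)
    set N' := N.map T.subtype with hN'
    haveI hN'n : N'.Normal := by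
      rw [← Subgroup.normalizer_eq_top_iff, eq_top_iff, ← hsupT, sup_le_iff, zpowers_le]
      refine ⟨fun u hu => CfsgLib.Coprime.mem_normalizer_of_forall_conj ?_,
        CfsgLib.Coprime.mem_normalizer_of_forall_conj ?_⟩
      · rintro _ ⟨y, hy, rfl⟩
        exact ⟨_, hNT ⟨u, hu⟩ y hy, rfl⟩
      · rintro _ ⟨y, hy, rfl⟩
        exact ⟨φ y, hNφ y hy, hφval y⟩
    set q := QuotientGroup.mk' N'
    have hcx : ∀ t ∈ T, Commute (q t) (q x) := by
      intro t ht
      have e : q t⁻¹ * q (x * t * x⁻¹) = 1 := by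
        rw [← map_mul]
        exact (QuotientGroup.eq_one_iff _).2 ⟨_, hmem ⟨t, ht⟩, by simp [hφval]⟩
      rw [map_inv, inv_mul_eq_one, map_mul, map_mul, map_inv, eq_mul_inv_iff_mul_eq] at e
      exact e
    have hmap : T.map q = commutator (G ⧸ N') := by
      rw [hTdef, _root_.commutator_def, _root_.commutator_def, Subgroup.map_commutator,
        Subgroup.map_top_of_surjective _ (QuotientGroup.mk'_surjective N')]
    haveI : Group.IsNilpotent T := hTp.isNilpotent
    haveI hnilT : Group.IsNilpotent ↥(T.map q) := (hTp.map q).isNilpotent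
    have hperf : commutator (G ⧸ N') ≤ ⁅T.map q, T.map q⁆ := by
      haveI hTn : (T.map q).Normal := Subgroup.Normal.map inferInstance q (QuotientGroup.mk'_surjective N')
      haveI hM : (⁅T.map q, T.map q⁆ : Subgroup (G ⧸ N')).Normal := Subgroup.commutator_normal _ _
      have hall : ∀ g h : G ⧸ N', ⁅g, h⁆ ∈ ⁅T.map q, T.map q⁆ := by
        set p := QuotientGroup.mk' ⁅T.map q, T.map q⁆
        have hc : IsMulCommutative ↥(closure ((fun g : G => p (q g)) '' ((T : Set G) ∪ {x}))) := by
          refine Subgroup.isMulCommutative_closure ?_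
          rintro _ ⟨u, hu, rfl⟩ _ ⟨v, hv, rfl⟩
          rw [← commutatorElement_eq_one_iff_mul_comm, ← map_commutatorElement]
          rcases hu with hu | hu <;> rcases hv with hv | hv
          · exact (QuotientGroup.eq_one_iff _).2
              (Subgroup.commutator_mem_commutator ⟨u, hu, rfl⟩ ⟨v, hv, rfl⟩)
          · rw [Set.mem_singleton_iff] at hv
            rw [hv, commutatorElement_eq_one_iff_commute.2 (hcx u hu), map_one]
          · rw [Set.mem_singleton_iff] at hu
            rw [hu, commutatorElement_eq_one_iff_commute.2 (hcx v hv).symm, map_one]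
          · rw [Set.mem_singleton_iff] at hu hv
            rw [hu, hv, commutatorElement_self, map_one]
        intro g h
        obtain ⟨g, rfl⟩ := QuotientGroup.mk'_surjective N' g
        obtain ⟨h, rfl⟩ := QuotientGroup.mk'_surjective N' h
        have hcl : ∀ y : G, p (q y) ∈ closure ((fun g : G => p (q g)) '' ((T : Set G) ∪ {x})) := by
          intro y
          have hy : y ∈ closure ((T : Set G) ∪ {x}) := by
            have : (⊤ : Subgroup G) ≤ closure ((T : Set G) ∪ {x}) := by
              rw [← hsupT, sup_le_iff, zpowers_le]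
              exact ⟨fun u hu => subset_closure (Or.inl hu), subset_closure (Or.inr rfl)⟩
            exact this (mem_top y)
          have himg := Subgroup.mem_map_of_mem (p.comp q) hy
          rwa [MonoidHom.map_closure] at himg
        rw [← QuotientGroup.eq_one_iff, ← QuotientGroup.mk'_apply, map_commutatorElement,
          commutatorElement_eq_one_iff_mul_comm]
        exact congrArg Subtype.val (hc.is_comm.comm ⟨_, hcl g⟩ ⟨_, hcl h⟩)
      rw [_root_.commutator_def, Subgroup.commutator_le]
      exact fun g _ h _ => hall g h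
    have hbot : T.map q = ⊥ := by
      by_contra hne
      have hlt : ⁅T.map q, T.map q⁆ < T.map q := by
        haveI : Nontrivial ↥(T.map q) := (Subgroup.nontrivial_iff_ne_bot _).2 hne
        haveI : Group.IsSolvable ↥(T.map q) := inferInstance
        have h1 : commutator ↥(T.map q) < ⊤ := Group.IsSolvable.commutator_lt_top_of_nontrivial _
        have h2 := Subgroup.map_subtype_commutator (T.map q)
        rw [← h2]
        calc (commutator ↥(T.map q)).map (T.map q).subtype
            < (⊤ : Subgroup ↥(T.map q)).map (T.map q).subtype :=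
              (Subgroup.map_lt_map_iff_of_injective (T.map q).subtype_injective).2 h1
          _ = T.map q := by rw [← MonoidHom.range_eq_map, Subgroup.range_subtype]
      exact absurd (hmap.le.trans hperf) (not_le_of_gt hlt)
    rw [Subgroup.map_eq_bot_iff, QuotientGroup.ker_mk'] at hbot
    rw [eq_top_iff]
    intro t _
    obtain ⟨y, hy, e⟩ := hbot t.2
    rwa [← Subtype.ext e]
  have hcard : Nat.card T = 64 := hD
  have hZ4 : Nat.card (center T) = 4 := hZ.card_four
  -- choice of `a`
  obtain ⟨t, ht⟩ : ∃ t : T, t ∉ center T := by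
    by_contra! h
    have : center T = ⊤ := top_unique fun y _ => h y
    rw [this, Subgroup.card_top] at hZ4
    omega
  set P : T := t * φ t * φ (φ t) * φ (φ (φ t)) * φ (φ (φ (φ t))) with hP
  have hcen := comm_mem_center φ hgen hφ5 hTp hcard hZ4
  have hfix := center_fixed φ hgen hφ5 hTp hcard hZ4
  have hsqc := sq_mem_center φ hgen hφ5 hTp hcard hZ4
  have hPZ : P ∈ center T := by
    refine mem_of_fixed_mod φ hgen hφ5 (center T) (fun z hz => by rw [hfix z hz]; exact hz) hsqc ?_
    have e5 : φ (φ (φ (φ (φ t)))) = t := by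
      have := DFunLike.congr_fun hφ5 t
      simpa [pow_succ, MulAut.mul_apply] using this
    set R := φ t * φ (φ t) * φ (φ (φ t)) * φ (φ (φ (φ t))) with hR
    have e1 : P = t * R := by simp [hP, hR, mul_assoc]
    have e2 : φ P = R * t := by simp [hP, hR, e5, mul_assoc]
    rw [e2, e1, show (t * R)⁻¹ * (R * t) = ⁅R⁻¹, t⁻¹⁆ by simp [commutatorElement_def, mul_assoc]]
    exact hcen _ _
  have hP2 : P ^ 2 = 1 := by
    have h2 := hZ.exponent_two
    have := Monoid.pow_exponent_eq_one (⟨P, hPZ⟩ : center T)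
    rw [h2] at this
    exact congrArg Subtype.val this
  set a : T := t * P with hadef
  have haC : a ∉ center T := fun h => ht (by simpa [hadef] using mul_mem h (inv_mem hPZ))
  have hPfix : φ P = P := hfix P hPZ
  have hprod : a * φ a * φ (φ a) * φ (φ (φ a)) * φ (φ (φ (φ a))) = 1 := by
    have hPc : ∀ y : T, y * P = P * y := mem_center_iff.1 hPZ
    have hmv : ∀ y y' : T, y * P * y' = y * y' * P := fun y y' => by
      rw [mul_assoc y P y', ← hPc y', mul_assoc y y' P]
    calc a * φ a * φ (φ a) * φ (φ (φ a)) * φ (φ (φ (φ a)))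
        = t * P * (φ t * P) * (φ (φ t) * P) * (φ (φ (φ t)) * P) * (φ (φ (φ (φ t))) * P) := by
          simp only [hadef, map_mul, hPfix]
      _ = P * (P * P) * (P * P) * P := by
          simp only [← mul_assoc, hmv]
          rw [← hP]
      _ = 1 := by rw [← pow_two, hP2, mul_one, mul_one, ← pow_two, hP2]
  obtain ⟨htop, hsq, hcentre⟩ := structure_of_orbit φ hgen hφ5 hTp hcard hZ4 haC hprod
  have hcv1 : ((⁅a, φ a⁆ : T) : G) = c1 (a : G) x := by simp [c1, hφval, commutatorElement_def]
  have hcv2 : ((⁅a, φ (φ a)⁆ : T) : G) = c2 (a : G) x := by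
    simp [c2, hφval, commutatorElement_def, pow_two, mul_assoc]
  have hz2 : ∀ z ∈ center T, (z : G) ^ 2 = 1 := fun z hz => by
    have h2 := hZ.exponent_two
    have := Monoid.pow_exponent_eq_one (⟨z, hz⟩ : center T)
    rw [h2] at this
    exact congrArg (fun y : center T => ((y : T) : G)) this
  have hzx : ∀ z ∈ center T, Commute (z : G) x := fun z hz => by
    have h := congrArg Subtype.val (hfix z hz)
    rw [hφval, mul_inv_eq_iff_eq_mul] at h
    exact h.symm
  have hza : ∀ z ∈ center T, Commute (z : G) a := fun z hz =>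
    congrArg Subtype.val (mem_center_iff.1 hz a).symm
  refine ⟨(a : G), x, ⟨hx', ?_, ?_, ?_, ?_, ?_, ?_, ?_, ?_⟩, ?_, ?_⟩
  · have h := congrArg Subtype.val hprod
    have h5' : x * x * x * x * x = 1 := by
      simpa [pow_succ, mul_assoc] using hx'
    have hx4 : x⁻¹ * x⁻¹ * x⁻¹ * x⁻¹ = x := by
      calc x⁻¹ * x⁻¹ * x⁻¹ * x⁻¹ = x⁻¹ * x⁻¹ * x⁻¹ * x⁻¹ * (x * x * x * x * x) := by rw [h5', mul_one]
        _ = x := by group
    simp only [Subgroup.coe_mul, hφval, Subgroup.coe_one] at h
    rw [← h]
    simp only [pow_succ, pow_zero, one_mul, mul_assoc, inv_mul_cancel_left] 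
    simp only [mul_assoc] at hx4
    rw [hx4]
  · rw [← hcv1, ← hcv2]; exact congrArg Subtype.val hsq
  · rw [← hcv1]; exact hz2 _ (hcen _ _)
  · rw [← hcv2]; exact hz2 _ (hcen _ _)
  · rw [← hcv1]; exact hza _ (hcen _ _)
  · rw [← hcv1]; exact hzx _ (hcen _ _)
  · rw [← hcv2]; exact hza _ (hcen _ _)
  · rw [← hcv2]; exact hzx _ (hcen _ _)
  · have ha' : (a : G) ∈ closure {(a : G), x} := subset_closure (by simp)
    have hx'' : x ∈ closure {(a : G), x} := subset_closure (by simp)
    have hφmem : ∀ y : T, (y : G) ∈ closure {(a : G), x} → ((φ y : T) : G) ∈ closure {(a : G), x} :=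
      fun y hy => by rw [hφval]; exact mul_mem (mul_mem hx'' hy) (inv_mem hx'')
    have hTle : T ≤ closure {(a : G), x} := by
      have : (⊤ : Subgroup T) ≤ (closure {(a : G), x}).comap T.subtype := by
        rw [← htop, closure_le]
        intro y hy
        simp only [Set.mem_insert_iff, Set.mem_singleton_iff] at hy
        rcases hy with rfl | rfl | rfl | rfl
        exacts [ha', hφmem _ ha', hφmem _ (hφmem _ ha'), hφmem _ (hφmem _ (hφmem _ ha'))]
      exact fun u hu => this (mem_top ⟨u, hu⟩)
    rw [eq_top_iff, ← hsupT, sup_le_iff, zpowers_le]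
    exact ⟨hTle, hx''⟩
  · intro H _ f hf1 hf2 hf3
    rw [← MonoidHom.ker_eq_bot_iff]
    by_contra hne
    set K := f.ker
    by_cases hKT : K.subgroupOf T = ⊥
    · rw [Subgroup.subgroupOf_eq_bot, disjoint_iff] at hKT
      obtain ⟨k, hk, hk1⟩ := (Subgroup.bot_or_exists_ne_one _).resolve_left hne
      have hcen' : ∀ u ∈ T, Commute k u := by
        intro u hu
        rw [← commutatorElement_eq_one_iff_commute, ← mem_bot, ← hKT]
        exact ⟨(Subgroup.commutator_le_inf K T (Subgroup.commutator_mem_commutator hk hu)).1,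
          (Subgroup.commutator_le_inf K T (Subgroup.commutator_mem_commutator hk hu)).2⟩
      obtain ⟨u, hu, v, hv, rfl⟩ := Subgroup.mem_sup_of_normal_left.1
        ((hsupT.symm ▸ mem_top k : k ∈ T ⊔ zpowers x))
      obtain ⟨i, rfl⟩ := mem_zpowers_iff.1 hv
      rcases eq_or_ne (x ^ i) 1 with h1 | h1
      · rw [h1, mul_one] at hk hk1
        exact hk1 (by rw [← mem_bot, ← hKT]; exact ⟨hk, hu⟩)
      have hxz : x ∈ zpowers (x ^ i) := by
        have hcop : IsCoprime ((5 : ℕ) : ℤ) i := (Nat.prime_iff_prime_int.mp (by norm_num : Nat.Prime 5)).coprime_iff_not_dvd.mpr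
          fun ⟨j, hj⟩ => h1 (by rw [hj, zpow_mul, show x ^ ((5 : ℕ) : ℤ) = 1 by exact_mod_cast hx', one_zpow])
        obtain ⟨p, r, hpr⟩ := hcop
        refine mem_zpowers_iff.2 ⟨r, ?_⟩
        rw [← zpow_mul]
        calc x ^ (i * r) = x ^ (p * ((5 : ℕ) : ℤ) + r * i) := by
              rw [zpow_add, mul_comm p, zpow_mul x ((5 : ℕ) : ℤ), show x ^ ((5 : ℕ) : ℤ) = 1 by exact_mod_cast hx', one_zpow, one_mul, mul_comm]
          _ = x := by rw [hpr, zpow_one]
      -- conjugation by `x ^ i` is inner on `T`, so `φ` fixes `T / Z(T)`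
      have hinner : ∀ y : T, y⁻¹ * φ y ∈ center T := by
        have h0 : ∀ y : T, y⁻¹ * (MulAut.conjNormal (x ^ i) : MulAut T) y ∈ center T := by
          intro y
          have e : (MulAut.conjNormal (x ^ i) : MulAut T) y = (⟨u, hu⟩ : T)⁻¹ * y * ⟨u, hu⟩ := by
            apply Subtype.ext
            rw [MulAut.conjNormal_apply, Subgroup.coe_mul, Subgroup.coe_mul, Subgroup.coe_inv]
            have h := (hcen' (y : G) y.2).eq
            rw [eq_mul_inv_iff_mul_eq.symm.trans Iff.rfl] at h
            calc x ^ i * (y : G) * (x ^ i)⁻¹ = u⁻¹ * (u * x ^ i * (y : G)) * (x ^ i)⁻¹ := by group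
              _ = u⁻¹ * ((y : G) * (u * x ^ i) * (x ^ i)⁻¹) := by
                rw [(hcen' (y : G) y.2).eq]; simp [mul_assoc]
              _ = u⁻¹ * y * u := by group
          rw [e, show y⁻¹ * ((⟨u, hu⟩ : T)⁻¹ * y * ⟨u, hu⟩) = ⁅y⁻¹, (⟨u, hu⟩ : T)⁻¹⁆ by
            simp [commutatorElement_def, mul_assoc]]
          exact hcen _ _
        obtain ⟨r, hr⟩ := mem_zpowers_iff.1 hxz
        have hsub : ∀ g ∈ zpowers (x ^ i), ∀ y : T, y⁻¹ * (MulAut.conjNormal g : MulAut T) y ∈ center T := by
          rw [zpowers_eq_closure]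
          intro g hg
          induction hg using Subgroup.closure_induction with
          | mem g hg => rw [Set.mem_singleton_iff.1 hg]; exact h0
          | one => intro y; simp
          | mul g h _ _ hg hh =>
            intro y
            rw [map_mul, MulAut.mul_apply]
            set w := (MulAut.conjNormal h : MulAut T) y
            rw [show y⁻¹ * (MulAut.conjNormal g : MulAut T) w
              = (y⁻¹ * w) * (w⁻¹ * (MulAut.conjNormal g : MulAut T) w) by group]
            exact mul_mem (hh y) (hg w)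
          | inv g _ hg =>
            intro y
            set w := (MulAut.conjNormal g⁻¹ : MulAut T) y
            have e : (MulAut.conjNormal g : MulAut T) w = y := by
              rw [← MulAut.mul_apply, ← map_mul, mul_inv_cancel, map_one, MulAut.one_apply]
            have := inv_mem (hg w)
            rwa [e, mul_inv_rev, inv_inv] at this
        exact hsub x hxz
      exact haC (mem_of_fixed_mod φ hgen hφ5 (center T) (fun z hz => by rw [hfix z hz]; exact hz) hsqc
        (hinner a))
    · haveI : Group.IsNilpotent T := hTp.isNilpotent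
      haveI : (K.subgroupOf T).Normal := inferInstance
      obtain ⟨z, hz, hz1⟩ := (Subgroup.bot_or_exists_ne_one _).resolve_left
        (CfsgLib.OddOrder.PuigSeries.inf_center_ne_bot (G := T) _ hKT)
      have hfz : f (z : G) = 1 := hz.2
      rcases hcentre z hz.1 with h | h | h | h <;> rw [h] at hfz
      · exact hz1 h
      · exact hf1 (hcv1 ▸ hfz)
      · exact hf2 (hcv2 ▸ hfz)
      · rw [Subgroup.coe_mul, hcv1, hcv2] at hfz
        exact hf3 hfz

end Main

end CfsgLib.Techniques.Order320
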