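import Cfsg.Agent.Lib.PGroup.Class2
import Cfsg.Agent.Lib.PGroup.ExtraspecialIso
import Cfsg.Agent.Lib.Coprime.Action

/-!
# Relations defining the group of order 320

Two elements `a, x` with `x⁵ = (ax)⁵ = 1`, `a² = c₁c₂` where `c₁ = [a, xax⁻¹]`, `c₂ = [a, x²ax⁻²]` are
central elements with `c₁² = c₂² = 1` generate a group of order at most 320.
-/

set_option autoImplicit false

namespace CfsgLib.Techniques.Order320

open Subgroup
open scoped commutatorElement

variable {G : Type*} [Group G]

/-- First commutator. -/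
def c1 (a x : G) : G := ⁅a, x * a * x⁻¹⁆

/-- Second commutator. -/
def c2 (a x : G) : G := ⁅a, x ^ 2 * a * (x ^ 2)⁻¹⁆

/-- The relations. -/
structure Rel (a x : G) : Prop where
  hx : x ^ 5 = 1
  hax : (a * x) ^ 5 = 1
  hsq : a ^ 2 = c1 a x * c2 a x
  h1 : c1 a x ^ 2 = 1
  h2 : c2 a x ^ 2 = 1
  h1a : Commute (c1 a x) a
  h1x : Commute (c1 a x) x
  h2a : Commute (c2 a x) a
  h2x : Commute (c2 a x) x

theorem Rel.map {H : Type*} [Group H] {a x : G} (h : Rel a x) (f : G →* H) : Rel (f a) (f x) := by
  have e1 : f (c1 a x) = c1 (f a) (f x) := by simp [c1, map_commutatorElement]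
  have e2 : f (c2 a x) = c2 (f a) (f x) := by simp [c2, map_commutatorElement]
  exact ⟨by rw [← map_pow, h.hx, map_one], by rw [← map_mul, ← map_pow, h.hax, map_one],
    by rw [← map_pow, h.hsq, map_mul, e1, e2], by rw [← e1, ← map_pow, h.h1, map_one],
    by rw [← e2, ← map_pow, h.h2, map_one], e1 ▸ h.h1a.map f, e1 ▸ h.h1x.map f,
    e2 ▸ h.h2a.map f, e2 ▸ h.h2x.map f⟩

theorem Rel.prod {H : Type*} [Group H] {a x : G} {a' x' : H} (h : Rel a x) (h' : Rel a' x') :
    Rel (a, a') (x, x') := by
  have e1 : c1 (a, a') (x, x') = (c1 a x, c1 a' x') := by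
    ext <;> simp [c1, commutatorElement_def]
  have e2 : c2 (a, a') (x, x') = (c2 a x, c2 a' x') := by
    ext <;> simp [c2, commutatorElement_def]
  refine ⟨?_, ?_, ?_, ?_, ?_, ?_, ?_, ?_, ?_⟩
  all_goals first | rw [e1, e2] | rw [e1] | rw [e2] | skip
  · ext <;> simp [h.hx, h'.hx]
  · ext <;> simp [h.hax, h'.hax]
  · ext <;> simp [h.hsq, h'.hsq]
  · ext <;> simp [h.h1, h'.h1]
  · ext <;> simp [h.h2, h'.h2]
  · exact Prod.ext h.h1a.eq h'.h1a.eq
  · exact Prod.ext h.h1x.eq h'.h1x.eq
  · exact Prod.ext h.h2a.eq h'.h2a.eq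
  · exact Prod.ext h.h2x.eq h'.h2x.eq

/-- The conjugates of `a`. -/
def conjA (a x : G) (i : ℕ) : G := x ^ i * a * (x ^ i)⁻¹

/-- The subgroup of the two commutators. -/
def zGroup (a x : G) : Subgroup G := closure {c1 a x, c2 a x}

variable {a x : G}

theorem conjA_five (h : Rel a x) (i : ℕ) : conjA a x (i + 5) = conjA a x i := by
  simp [conjA, pow_add, h.hx]

theorem commute_conjA {c : G} (ha : Commute c a) (hx : Commute c x) (i : ℕ) :
    Commute c (conjA a x i) :=
  ((hx.pow_right i).mul_right ha).mul_right (hx.pow_right i).inv_right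

theorem zGroup_commute (h : Rel a x) {z : G} (hz : z ∈ zGroup a x) :
    Commute z a ∧ Commute z x := by
  induction hz using Subgroup.closure_induction with
  | mem u hu =>
    rcases hu with rfl | rfl
    · exact ⟨h.h1a, h.h1x⟩
    · exact ⟨h.h2a, h.h2x⟩
  | one => exact ⟨Commute.one_left a, Commute.one_left x⟩
  | mul u v _ _ hu hv => exact ⟨hu.1.mul_left hv.1, hu.2.mul_left hv.2⟩
  | inv u _ hu => exact ⟨hu.1.inv_left, hu.2.inv_left⟩

theorem zGroup_commute_conjA (h : Rel a x) {z : G} (hz : z ∈ zGroup a x) (i : ℕ) :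
    Commute z (conjA a x i) :=
  commute_conjA (zGroup_commute h hz).1 (zGroup_commute h hz).2 i

theorem c1_mem (a x : G) : c1 a x ∈ zGroup a x := subset_closure (Or.inl rfl)

theorem c2_mem (a x : G) : c2 a x ∈ zGroup a x := subset_closure (Or.inr rfl)

theorem shift (a x : G) (i j : ℕ) :
    ⁅conjA a x (i + j), conjA a x i⁆ = x ^ i * ⁅conjA a x j, a⁆ * (x ^ i)⁻¹ := by
  simp [conjA, pow_add, commutatorElement_def, mul_assoc]

theorem comm_conjA_mem (h : Rel a x) (j : ℕ) (hj : j < 5) (i : ℕ) :
    ⁅conjA a x (i + j), conjA a x i⁆ ∈ zGroup a x := by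
  rw [shift]
  have key : ⁅conjA a x j, a⁆ ∈ zGroup a x := by
    interval_cases j
    · simp [conjA]
    · rw [← commutatorElement_inv]
      simpa [conjA, c1] using inv_mem (c1_mem a x)
    · rw [← commutatorElement_inv]
      simpa [conjA, c2] using inv_mem (c2_mem a x)
    · have e : ⁅conjA a x 3, a⁆ = x ^ 3 * c2 a x * (x ^ 3)⁻¹ := by
        calc ⁅conjA a x 3, a⁆ = ⁅conjA a x 3, conjA a x (3 + 2)⁆ := by
              rw [show 3 + 2 = 0 + 5 from rfl, conjA_five h]; simp [conjA]
          _ = _ := by
              rw [show c2 a x = ⁅a, conjA a x 2⁆ by simp [c2, conjA],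
                ← commutatorElement_inv (conjA a x (3 + 2)), shift,
                ← commutatorElement_inv (conjA a x 2) a]
              group
      rw [e, ← (h.h2x.pow_right 3).eq, mul_inv_cancel_right]
      exact c2_mem a x
    · have e : ⁅conjA a x 4, a⁆ = x ^ 4 * c1 a x * (x ^ 4)⁻¹ := by
        calc ⁅conjA a x 4, a⁆ = ⁅conjA a x 4, conjA a x (4 + 1)⁆ := by
              rw [show 4 + 1 = 0 + 5 from rfl, conjA_five h]; simp [conjA]
          _ = _ := by
              rw [show c1 a x = ⁅a, conjA a x 1⁆ by simp [c1, conjA],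
                ← commutatorElement_inv (conjA a x (4 + 1)), shift,
                ← commutatorElement_inv (conjA a x 1) a]
              group
      rw [e, ← (h.h1x.pow_right 4).eq, mul_inv_cancel_right]
      exact c1_mem a x
  have hc := ((zGroup_commute h key).2.pow_right i)
  rwa [← hc.eq, mul_inv_cancel_right]

theorem prod_five (h : Rel a x) :
    conjA a x 0 * conjA a x 1 * conjA a x 2 * conjA a x 3 * conjA a x 4 = 1 := by
  have e := h.hax
  simp only [pow_succ, pow_zero, one_mul] at e
  have hxi : x⁻¹ = x * x * x * x := by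
    refine inv_eq_of_mul_eq_one_right ?_
    have := h.hx
    simp only [pow_succ, pow_zero, one_mul] at this
    simpa [mul_assoc] using this
  calc conjA a x 0 * conjA a x 1 * conjA a x 2 * conjA a x 3 * conjA a x 4
      = a * x * (a * x) * (a * x) * (a * x) * a * (x⁻¹ * x⁻¹ * x⁻¹ * x⁻¹) := by
        simp [conjA, pow_succ, mul_assoc]
    _ = a * x * (a * x) * (a * x) * (a * x) * a * x := by
        have h4 : x⁻¹ * x⁻¹ * x⁻¹ * x⁻¹ = x := by
          have := h.hx
          simp only [pow_succ, pow_zero, one_mul] at this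
          calc x⁻¹ * x⁻¹ * x⁻¹ * x⁻¹ = x⁻¹ * x⁻¹ * x⁻¹ * x⁻¹ * (x * x * x * x * x) := by rw [this, mul_one]
            _ = x := by group
        rw [h4]
    _ = 1 := by simpa [mul_assoc] using e

/-- The chain of subgroups. -/
def chain (a x : G) : ℕ → Subgroup G
  | 0 => zGroup a x
  | k + 1 => zpowers (conjA a x k) ⊔ chain a x k

theorem z_le_chain (a x : G) : ∀ k, zGroup a x ≤ chain a x k
  | 0 => le_rfl
  | k + 1 => (z_le_chain a x k).trans le_sup_right

theorem conjA_mem_chain (a x : G) : ∀ k i, i < k → conjA a x i ∈ chain a x k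
  | 0, i, hi => absurd hi (Nat.not_lt_zero i)
  | k + 1, i, hi => by
    rcases Nat.lt_succ_iff_lt_or_eq.1 hi with h | rfl
    · exact mem_sup_right (conjA_mem_chain a x k i h)
    · exact mem_sup_left (mem_zpowers _)

theorem chain_le_five (h : Rel a x) (i : ℕ) : conjA a x i ∈ chain a x 4 := by
  have h4 : conjA a x 4 ∈ chain a x 4 := by
    have e := prod_five h
    rw [mul_eq_one_iff_inv_eq] at e
    rw [← e]
    exact inv_mem (mul_mem (mul_mem (mul_mem (conjA_mem_chain a x 4 0 (by norm_num))
      (conjA_mem_chain a x 4 1 (by norm_num))) (conjA_mem_chain a x 4 2 (by norm_num)))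
      (conjA_mem_chain a x 4 3 (by norm_num)))
  induction i using Nat.strong_induction_on with
  | _ i ih =>
    by_cases hi : i < 4
    · exact conjA_mem_chain a x 4 i hi
    · by_cases h' : i = 4
      · rw [h']; exact h4
      · have := ih (i - 5) (by omega)
        rwa [← conjA_five h (i - 5), show i - 5 + 5 = i by omega] at this

theorem chain_conj (h : Rel a x) (i : ℕ) (hi : i < 4) : ∀ k, k ≤ i →
    ∀ u ∈ chain a x k, conjA a x i * u * (conjA a x i)⁻¹ ∈ chain a x k := by
  intro k
  induction k with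
  | zero =>
    intro _ u hu
    rw [(zGroup_commute_conjA h hu i).symm.eq, mul_inv_cancel_right]
    exact hu
  | succ k ih =>
    intro hk
    have : chain a x (k + 1) ≤ (chain a x (k + 1)).comap (MulAut.conj (conjA a x i)).toMonoidHom := by
      show zpowers (conjA a x k) ⊔ chain a x k ≤ _
      refine sup_le (zpowers_le.2 ?_) fun u hu => mem_sup_right (by simpa using ih (by omega) u hu)
      show conjA a x i * conjA a x k * (conjA a x i)⁻¹ ∈ chain a x (k + 1)
      have e : conjA a x i * conjA a x k * (conjA a x i)⁻¹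
          = ⁅conjA a x i, conjA a x k⁆ * conjA a x k := by rw [commutatorElement_def]; group
      rw [e]
      refine mul_mem (z_le_chain a x _ ?_) (conjA_mem_chain a x _ k (Nat.lt_succ_self k))
      have := comm_conjA_mem h (i - k) (by omega) k
      rwa [show k + (i - k) = i by omega] at this
    intro u hu
    simpa using this hu

variable [Finite G]

theorem card_chain_le (h : Rel a x) : ∀ k, k ≤ 4 → Nat.card (chain a x k) ≤ 2 ^ k * 4 := by
  intro k
  induction k with
  | zero =>
    intro _
    show Nat.card (zGroup a x) ≤ 2 ^ 0 * 4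
    have hz : zGroup a x ≤ zpowers (c1 a x) ⊔ zpowers (c2 a x) := by
      rw [zGroup, closure_le]
      rintro u (rfl | rfl)
      · exact mem_sup_left (mem_zpowers _)
      · exact mem_sup_right (mem_zpowers _)
    have hn : c1 a x ∈ normalizer ((zpowers (c2 a x) : Subgroup G) : Set G) := by
      have hc : Commute (c1 a x) (c2 a x) := (zGroup_commute_conjA h (c1_mem a x) 0 |> fun _ =>
        (commute_conjA h.h1a h.h1x 0).mul_right ((commute_conjA h.h1a h.h1x 2).mul_right
          ((commute_conjA h.h1a h.h1x 0).inv_right.mul_right (commute_conjA h.h1a h.h1x 2).inv_right))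
        |> fun e => by simpa [c2, conjA, commutatorElement_def, mul_assoc] using e)
      refine Subgroup.centralizer_le_normalizer _ (mem_centralizer_iff.2 fun y hy => ?_)
      obtain ⟨n, rfl⟩ := mem_zpowers_iff.1 hy
      exact (hc.symm.zpow_left n).eq
    have h12 := CfsgLib.ExtraIso.card_sup_zpowers_le (p := 2) (zpowers (c2 a x)) (c1 a x) two_pos hn
      (by rw [h.h1]; exact one_mem _)
    have h22 : Nat.card (zpowers (c2 a x)) ≤ 2 := by
      rw [Nat.card_zpowers]; exact Nat.le_of_dvd two_pos (orderOf_dvd_of_pow_eq_one h.h2)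
    have := Subgroup.card_le_of_le hz
    omega
  | succ k ih =>
    intro hk
    have hn : conjA a x k ∈ normalizer (chain a x k : Set G) :=
      CfsgLib.Coprime.mem_normalizer_of_forall_conj fun u hu => chain_conj h k (by omega) k le_rfl u hu
    have hsq : conjA a x k ^ 2 ∈ chain a x k := by
      refine z_le_chain a x k ?_
      rw [conjA, conj_pow, h.hsq, ← (((zGroup_commute h (mul_mem (c1_mem a x) (c2_mem a x))).2).pow_right k).eq,
        mul_inv_cancel_right]
      exact mul_mem (c1_mem a x) (c2_mem a x)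
    have := CfsgLib.ExtraIso.card_sup_zpowers_le (p := 2) (chain a x k) (conjA a x k) two_pos hn hsq
    have h' := ih (by omega)
    show Nat.card (zpowers (conjA a x k) ⊔ chain a x k : Subgroup G) ≤ 2 ^ (k + 1) * 4
    calc Nat.card (zpowers (conjA a x k) ⊔ chain a x k : Subgroup G) ≤ 2 * Nat.card (chain a x k) := this
      _ ≤ 2 * (2 ^ k * 4) := Nat.mul_le_mul_left _ h'
      _ = 2 ^ (k + 1) * 4 := by ring

theorem x_normalizes (h : Rel a x) : x ∈ normalizer (chain a x 4 : Set G) := by
  refine CfsgLib.Coprime.mem_normalizer_of_forall_conj fun u hu => ?_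
  have key : ∀ k, k ≤ 4 → chain a x k ≤ (chain a x 4).comap (MulAut.conj x).toMonoidHom := by
    intro k
    induction k with
    | zero =>
      intro _ z hz
      show x * z * x⁻¹ ∈ chain a x 4
      rw [← (zGroup_commute h hz).2.eq, mul_inv_cancel_right]
      exact z_le_chain a x 4 hz
    | succ k ih =>
      intro hk
      refine sup_le (zpowers_le.2 ?_) (ih (by omega))
      show x * conjA a x k * x⁻¹ ∈ chain a x 4
      rw [show x * conjA a x k * x⁻¹ = conjA a x (k + 1) by simp [conjA, pow_succ', mul_assoc]]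
      exact chain_le_five h _
  simpa using key 4 le_rfl hu

theorem closure_le_chain (h : Rel a x) :
    closure {a, x} ≤ zpowers x ⊔ chain a x 4 := by
  rw [closure_le]
  rintro g (rfl | rfl)
  · refine mem_sup_right ?_
    have := chain_le_five h 0
    simpa [conjA] using this
  · exact mem_sup_left (mem_zpowers _)

/-- The order bound. -/
theorem card_le (h : Rel a x) : Nat.card (closure {a, x}) ≤ 320 := by
  refine (Subgroup.card_le_of_le (closure_le_chain h)).trans ?_
  have := CfsgLib.ExtraIso.card_sup_zpowers_le (p := 5) (chain a x 4) x (by norm_num) (x_normalizes h)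
    (by rw [h.hx]; exact one_mem _)
  have h' := card_chain_le h 4 le_rfl
  calc Nat.card (zpowers x ⊔ chain a x 4 : Subgroup G) ≤ 5 * Nat.card (chain a x 4) := this
    _ ≤ 5 * (2 ^ 4 * 4) := Nat.mul_le_mul_left _ h'
    _ = 320 := by norm_num

/-- A group of order 320 generated by such elements maps onto the group generated by any other such
pair. -/
theorem exists_hom {H : Type*} [Group H] [Finite H] (h : Rel a x) (hgen : closure {a, x} = (⊤ : Subgroup G))
    (hG : Nat.card G = 320) {a' x' : H} (h' : Rel a' x') :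
    ∃ f : G →* H, f a = a' ∧ f x = x' := by
  set Γ := closure {((a, a') : G × H), (x, x')} with hΓ
  have hcard : Nat.card Γ ≤ 320 := card_le (h.prod h')
  let π : Γ →* G := (MonoidHom.fst G H).comp Γ.subtype
  have hsurj : Function.Surjective π := by
    rw [← MonoidHom.range_eq_top, eq_top_iff, ← hgen, closure_le]
    rintro g (rfl | rfl)
    · exact ⟨⟨(g, a'), subset_closure (Or.inl rfl)⟩, rfl⟩
    · exact ⟨⟨(g, x'), subset_closure (Or.inr rfl)⟩, rfl⟩
  have hle := Nat.card_le_card_of_surjective π hsurj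
  have hbij : Function.Bijective π :=
    (Nat.bijective_iff_surjective_and_card π).2 ⟨hsurj, by omega⟩
  let e := MulEquiv.ofBijective π hbij
  refine ⟨((MonoidHom.snd G H).comp Γ.subtype).comp e.symm.toMonoidHom, ?_, ?_⟩
  · have : e.symm a = ⟨(a, a'), subset_closure (Or.inl rfl)⟩ := by
      rw [MulEquiv.symm_apply_eq]; rfl
    simp [this]
  · have : e.symm x = ⟨(x, x'), subset_closure (Or.inr rfl)⟩ := by
      rw [MulEquiv.symm_apply_eq]; rfl
    simp [this]

end CfsgLib.Techniques.Order320
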