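import Cfsg.Agent.Lib.Techniques.Order320Presentation
import Cfsg.Agent.Lib.Recognition.PSU34.Unitary

/-!
# The centralizer of an involution in `SU(3,4)` in the decidable model
-/

set_option autoImplicit false

namespace CfsgLib.Techniques.Order320

open CfsgLib.Recognition.PSU34
open Matrix

set_option maxHeartbeats 4000000

/-- The involution exchanging the first two coordinates. -/
def tU : Good := ⟨!![0, 1, 0; 1, 0, 0; 0, 0, 1], by decide +kernel⟩

/-- The unipotent generator. -/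
def aU : Good := ⟨!![⟨4⟩, ⟨5⟩, ⟨1⟩; ⟨5⟩, ⟨4⟩, ⟨1⟩; ⟨1⟩, ⟨1⟩, ⟨1⟩], by decide +kernel⟩

/-- The generator of order five. -/
def xU : Good := ⟨!![⟨8⟩, 0, 0; 0, ⟨8⟩, 0; 0, 0, ⟨10⟩], by decide +kernel⟩

theorem tU_sq : tU * tU = 1 := by decide +kernel

theorem tU_ne_one : tU ≠ 1 := by decide +kernel

theorem aU_comm : aU * tU = tU * aU := by decide +kernel

theorem xU_comm : xU * tU = tU * xU := by decide +kernel

theorem rel_U : Rel aU xU :=
  ⟨by decide +kernel, by decide +kernel, by decide +kernel, by decide +kernel, by decide +kernel,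
    show _ = _ by decide +kernel, show _ = _ by decide +kernel, show _ = _ by decide +kernel,
    show _ = _ by decide +kernel⟩

theorem c_ne : c1 aU xU ≠ 1 ∧ c2 aU xU ≠ 1 ∧ c1 aU xU * c2 aU xU ≠ 1 :=
  ⟨by decide +kernel, by decide +kernel, by decide +kernel⟩

/-- The parameters of the centralizer. -/
def params : Finset (Fin 16 × Fin 16 × Fin 16) :=
  Finset.univ.filter fun p =>
    (⟨p.1⟩ : F16) ^ 5 = 1 ∧
      (⟨p.1⟩ : F16) * (⟨p.2.2⟩ : F16) ^ 4 + (⟨p.2.2⟩ : F16) * (⟨p.1⟩ : F16) ^ 4 = (⟨p.2.1⟩ : F16) ^ 5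

theorem card_params : params.card = 320 := by decide +kernel

theorem two_zero : ∀ a : F16, a + a = 0 := by
  intro a
  have h : ∀ i : Fin 16, (⟨i⟩ : F16) + ⟨i⟩ = 0 := by decide +kernel
  exact h a.v

theorem pow_fifteen : ∀ a : F16, a ^ 16 = a := by
  intro a
  have h : ∀ i : Fin 16, (⟨i⟩ : F16) ^ 16 = ⟨i⟩ := by decide +kernel
  exact h a.v

/-- Shape and equations of an element commuting with `tU`. -/
theorem cent_facts (g : Good) (hg : g * tU = tU * g) :
    g.1 1 1 = g.1 0 0 ∧ g.1 1 0 = g.1 0 1 ∧ g.1 1 2 = g.1 0 2 ∧ g.1 2 1 = g.1 2 0 ∧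
      (g.1 0 0 + g.1 0 1) ^ 5 = 1 ∧
      (g.1 0 0 + g.1 0 1) * g.1 0 1 ^ 4 + g.1 0 1 * (g.1 0 0 + g.1 0 1) ^ 4 = g.1 0 2 ^ 5 ∧
      g.1 2 2 = (g.1 0 0 + g.1 0 1) ^ 3 ∧
      g.1 2 0 = (g.1 0 0 + g.1 0 1) * g.1 0 2 ^ 4 * g.1 2 2 := by
  have hm : g.1 * tU.1 = tU.1 * g.1 := congrArg Subtype.val hg
  have e := fun i j => congrFun (congrFun hm i) j
  have e00 := e 0 0
  have e01 := e 0 1
  have e02 := e 0 2
  have e20 := e 2 0
  simp only [tU, Matrix.mul_apply, Fin.sum_univ_three, Matrix.of_apply, Matrix.cons_val', Matrix.cons_val_zero,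
    Matrix.cons_val_one, Matrix.cons_val, Matrix.cons_val_fin_one, mul_zero, mul_one, zero_mul, one_mul,
    zero_add, add_zero] at e00 e01 e02 e20
  obtain ⟨hU, hdet⟩ := g.2
  have h := fun i j => congrFun (congrFun hU i) j
  have u00 := h 0 0
  have u01 := h 0 1
  have u02 := h 0 2
  have u22 := h 2 2
  simp only [bar, Matrix.mul_apply, Matrix.transpose_apply, Matrix.map_apply, Fin.sum_univ_three,
    Matrix.one_apply] at u00 u01 u02 u22
  rw [Matrix.det_fin_three] at hdet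
  simp only [Fin.reduceEq, if_true, if_false] at u00 u01 u02 u22
  set a := g.1 0 0
  set b := g.1 0 1
  set c := g.1 0 2
  set d := g.1 2 0
  set k := g.1 2 2
  rw [← e00, ← e20] at u01
  rw [← e00] at u00
  rw [← e02] at u02 u22
  have h11 : g.1 1 1 = a := e01.symm
  have h10 : g.1 1 0 = b := e00.symm
  have h12 : g.1 1 2 = c := e02.symm
  have h21 : g.1 2 1 = d := e20
  rw [h11, h10, h12, h21] at hdet
  simp only [h11, h10, h21] at u01 u02
  refine ⟨h11, h10, h12, h21, ?_⟩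
  have z := two_zero
  have h4 : (a + b) ^ 4 = a ^ 4 + b ^ 4 := bar_add a b
  have s5 : (a + b) ^ 5 = 1 := by
    rw [pow_succ, h4]
    linear_combination u00 + u01 - z (d ^ 5)
  have k5 : k ^ 5 = 1 := by
    linear_combination u22 - z (c ^ 5)
  have hk : k * (a + b) ^ 2 = 1 := by
    linear_combination hdet + z (a * b * k) + z (b ^ 2 * k) + z (a * c * d) - z (b * c * d)
  have hk3 : k = (a + b) ^ 3 := by
    linear_combination (a + b) ^ 3 * hk - k * s5
  have hd : d = (a + b) * c ^ 4 * k := by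
    linear_combination k * u02 - d * k5 - z ((a + b) * c ^ 4 * k) - z 0
  refine ⟨s5, ?_, hk3, hd⟩
  have d5 : d ^ 5 = c ^ 5 := by
    rw [hd, mul_pow, mul_pow, k5, s5, mul_one, one_mul, ← pow_mul,
      show 4 * 5 = 16 + 4 from rfl, pow_add, pow_fifteen, ← pow_succ']
  rw [h4]
  linear_combination u01 - d5 + z (b ^ 5) - z (c ^ 5)

/-- The centralizer has order at most 320. -/
theorem card_centralizer_le : Nat.card (Subgroup.centralizer ({tU} : Set Good)) ≤ 320 := by
  rw [← card_params, ← Nat.card_eq_finsetCard]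
  let f : Subgroup.centralizer ({tU} : Set Good) → params := fun g =>
    ⟨((g.1.1 0 0 + g.1.1 0 1).v, (g.1.1 0 2).v, (g.1.1 0 1).v), by
      obtain ⟨-, -, -, -, h5, hb, -, -⟩ := cent_facts g.1 (Subgroup.mem_centralizer_singleton_iff.1 g.2)
      simp only [params, Finset.mem_filter, Finset.mem_univ, true_and]
      exact ⟨h5, hb⟩⟩
  refine Nat.card_le_card_of_injective f ?_
  intro g g' h
  have hv := congrArg (fun p : params => (p : Fin 16 × Fin 16 × Fin 16)) h
  simp only [f, Prod.mk.injEq] at hv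
  obtain ⟨hs, hc, hb⟩ := hv
  have hs' : g.1.1 0 0 + g.1.1 0 1 = g'.1.1 0 0 + g'.1.1 0 1 := congrArg F16.mk hs
  have hc' : g.1.1 0 2 = g'.1.1 0 2 := congrArg F16.mk hc
  have hb' : g.1.1 0 1 = g'.1.1 0 1 := congrArg F16.mk hb
  have ha' : g.1.1 0 0 = g'.1.1 0 0 := by rw [hb'] at hs'; exact add_right_cancel hs'
  obtain ⟨a1, a2, a3, a4, -, -, a7, a8⟩ := cent_facts g.1 (Subgroup.mem_centralizer_singleton_iff.1 g.2)
  obtain ⟨b1, b2, b3, b4, -, -, b7, b8⟩ := cent_facts g'.1 (Subgroup.mem_centralizer_singleton_iff.1 g'.2)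
  have h22 : g.1.1 2 2 = g'.1.1 2 2 := by rw [a7, b7, hs']
  have h20 : g.1.1 2 0 = g'.1.1 2 0 := by rw [a8, b8, hs', hc', h22]
  refine Subtype.ext (Subtype.ext ?_)
  ext i j
  fin_cases i <;> fin_cases j
  · exact ha'
  · exact hb'
  · exact hc'
  · exact a2.trans (hb'.trans b2.symm)
  · exact a1.trans (ha'.trans b1.symm)
  · exact a3.trans (hc'.trans b3.symm)
  · exact h20
  · exact a4.trans (h20.trans b4.symm)
  · exact h22

end CfsgLib.Techniques.Order320
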