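import Cfsg.Agent.Lib.Techniques.PPrimeLift

/-! Lifting control by functors from `X/P` when `P` is a normal `p`-subgroup and `X = C(P) S`. -/

set_option autoImplicit false
set_option linter.unusedSectionVars false

namespace CfsgLib.Techniques.Fusion

open Cfsg Subgroup CfsgLib.Techniques
open scoped commutatorElement

universe u

variable {p : ℕ} [Fact p.Prime] {X : Type u} [Group X] [Finite X]
  {𝓦 : Set (∀ (Q : Type u) [Group Q], Subgroup Q)}

/-- The preimage of a step subgroup of the quotient by `O_p` is a proper subgroup containing `S`. -/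
theorem comap_stepGroup_facts (h𝓦 : ∀ W ∈ 𝓦, IsCharPFunctor.{u} p W) (S : Sylow p X)
    (P : Subgroup X) [hPn : P.Normal] (hP : P = pCore p X) (hPS : P ≠ (S : Subgroup X))
    {M : Subgroup (X ⧸ P)} (hM : M ∈ stepGroups 𝓦 ((S : Subgroup X).map (QuotientGroup.mk' P))) :
    M.comap (QuotientGroup.mk' P) ≠ ⊤ ∧ (S : Subgroup X) ≤ M.comap (QuotientGroup.mk' P) := by
  obtain ⟨W, hW, rfl⟩ := hM
  set π := QuotientGroup.mk' P with hπ
  set Sb := (S : Subgroup X).map π with hSb
  have hSbp : IsPGroup p Sb := S.2.map π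
  have hPle : P ≤ (S : Subgroup X) := hP ▸ CfsgLib.PCore.pCore_le_sylow S
  have hcomap : Sb.comap π = (S : Subgroup X) := by
    rw [hSb, hπ, comap_map_eq, QuotientGroup.ker_mk', sup_eq_left.2 hPle]
  refine ⟨fun e => ?_, ?_⟩
  · rw [comap_normalizer_eq_of_surjective _ (QuotientGroup.mk'_surjective P)] at e
    set U := (inducedFunctor (G := X ⧸ P) W Sb).comap π with hU
    have hUn : U.Normal := normalizer_eq_top_iff.1 e
    have hUp : IsPGroup p U := S.2.to_le (hcomap ▸ comap_mono (inducedFunctor_le W Sb))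
    have hUP : U ≤ P := hP ▸ CfsgLib.PCore.le_pCore hUn hUp
    have hbot : inducedFunctor (G := X ⧸ P) W Sb = ⊥ := by
      rw [← map_comap_eq_self_of_surjective (QuotientGroup.mk'_surjective P)
        (inducedFunctor (G := X ⧸ P) W Sb), Subgroup.map_eq_bot_iff, QuotientGroup.ker_mk']
      exact hUP
    have hne : Sb ≠ ⊥ := fun h => hPS (le_antisymm hPle (by
      rw [hSb, Subgroup.map_eq_bot_iff, hπ, QuotientGroup.ker_mk'] at h; exact h))
    exact inducedFunctor_ne_bot (h𝓦 W hW) hSbp hne hbot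
  · exact (le_comap_map π _).trans (comap_mono
      (Subgroup.le_normalizer.trans (normalizer_le_normalizer_inducedFunctor (h𝓦 W hW) hSbp)))

theorem holdsOn_chain_of_quotient_pCore (h𝓦 : ∀ W ∈ 𝓦, IsCharPFunctor.{u} p W) (S : Sylow p X)
    (P : Subgroup X) [hPn : P.Normal] (hPdef : P = pCore p X) (hPS : P ≠ (S : Subgroup X))
    (htop : centralizer (P : Set X) ⊔ (S : Subgroup X) = ⊤) (hctl : FusCtrl p 𝓦 (X ⧸ P))
    (hS : HoldsOn (S : Subgroup X) (Chain (S : Subgroup X) (stepGroups 𝓦 (S : Subgroup X))) S)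
    (hprop : ∀ H : Subgroup X, H ≠ ⊤ → (S : Subgroup X) ≤ H →
      HoldsOn (S : Subgroup X) (Chain (S : Subgroup X) (stepGroups 𝓦 (S : Subgroup X))) H) :
    HoldsOn (S : Subgroup X) (Chain (S : Subgroup X) (stepGroups 𝓦 (S : Subgroup X))) ⊤ := by
  set Q := Chain (S : Subgroup X) (stepGroups 𝓦 (S : Subgroup X)) with hQ
  have hQc : IsMapClosed (S : Subgroup X) Q := isMapClosed_chain _ _
  set π := QuotientGroup.mk' P with hπ
  have hPle : P ≤ (S : Subgroup X) := hPdef ▸ CfsgLib.PCore.pCore_le_sylow S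
  let Sb : Sylow p (X ⧸ P) := S.mapSurjective (QuotientGroup.mk'_surjective P)
  have hSb : (Sb : Subgroup (X ⧸ P)) = (S : Subgroup X).map π := rfl
  have hcomap : ((S : Subgroup X).map π).comap π = (S : Subgroup X) := by
    rw [hπ, comap_map_eq, QuotientGroup.ker_mk', sup_eq_left.2 hPle]
  -- realize the map modulo `P` by a map with the property
  have hlift : ∀ (D : Subgroup X) (h : X), P ≤ D → D ≤ (S : Subgroup X) →
      D.map (MulAut.conj h).toMonoidHom ≤ (S : Subgroup X) →
      ∃ x, Q D x ∧ ∀ a ∈ D, π (x * a * x⁻¹) = π (h * a * h⁻¹) := by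
    intro D h hPD hD hh
    obtain ⟨cb, hcb, hcb'⟩ := hctl Sb (D.map π) (π h) (mem_top _) (hSb ▸ Subgroup.map_mono hD) (by
      rintro _ ⟨_, ⟨a, ha, rfl⟩, rfl⟩
      rw [hSb]
      exact ⟨h * a * h⁻¹, hh (conj_mem_map_conj h ha), by simp⟩)
    suffices H : ∀ e, Relation.ReflTransGen (Step (Sb : Subgroup (X ⧸ P))
        (stepGroups 𝓦 (Sb : Subgroup (X ⧸ P))) (D.map π)) 1 e →
        ∃ x, π x = e ∧ D.map (MulAut.conj x).toMonoidHom ≤ (S : Subgroup X) ∧ Q D x by
      obtain ⟨x, hx, -, hxQ⟩ := H cb hcb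
      refine ⟨x, hxQ, fun a ha => ?_⟩
      have h1 := hcb' (π a) (mem_map_of_mem π ha)
      rw [← hx] at h1
      simpa using h1
    intro e he
    induction he with
    | refl => exact ⟨1, map_one π, by rwa [map_conj_one], hQc.one hD⟩
    | @tail u v _ huv ih =>
      obtain ⟨x, hx, hxD, hxQ⟩ := ih
      obtain ⟨⟨M, hM, hm⟩, hv⟩ := huv
      obtain ⟨m, rfl⟩ : ∃ m, π m = v := QuotientGroup.mk'_surjective P v
      have hmD : D.map (MulAut.conj m).toMonoidHom ≤ (S : Subgroup X) := by
        rintro _ ⟨a, ha, rfl⟩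
        have h1 := hv (π a) (mem_map_of_mem π ha)
        rw [hSb, ← map_inv, ← map_mul, ← map_mul] at h1
        rw [← hcomap]
        exact h1
      obtain ⟨hne, hSM⟩ := comap_stepGroup_facts h𝓦 S P hPdef hPS hM
      have hstep : Q (D.map (MulAut.conj x).toMonoidHom) (m * x⁻¹) := by
        refine hprop _ hne hSM _ _ ?_ hxD ?_
        · rw [mem_comap, map_mul, map_inv, hx]; exact hm
        · rwa [← map_conj_mul, inv_mul_cancel_right]
      refine ⟨m, rfl, hmD, ?_⟩
      have h2 := hQc.comp hD hxD hxQ hstep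
      rwa [inv_mul_cancel_right] at h2
  -- the case of a fully normalized subgroup containing `P`
  have hfn : ∀ (D : Subgroup X) (h : X), P ≤ D → IsFN p (S : Subgroup X) D →
      D.map (MulAut.conj h).toMonoidHom ≤ (S : Subgroup X) → Q D h := by
    intro D h hPD hD hh
    obtain ⟨x, hxQ, hxh⟩ := hlift D h hPD hD.1 hh
    set k := x⁻¹ * h with hk
    have hπk : ∀ a ∈ D, π (k * a * k⁻¹) = π a := by
      intro a ha
      have h1 := hxh a ha
      simp only [hk, map_mul, map_inv, mul_inv_rev, inv_inv] at h1 ⊢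
      calc (π x)⁻¹ * π h * π a * ((π h)⁻¹ * π x)
          = (π x)⁻¹ * (π h * π a * (π h)⁻¹) * π x := by group
        _ = (π x)⁻¹ * (π x * π a * (π x)⁻¹) * π x := by rw [h1]
        _ = π a := by group
    -- the automorphisms of `D` trivial modulo `P`
    set N := normalizer (D : Set X) with hN
    let K₀ : Subgroup X :=
      { carrier := {m | m ∈ N ∧ ∀ a ∈ D, π (m * a * m⁻¹) = π a}
        one_mem' := ⟨one_mem _, fun a _ => by simp⟩
        mul_mem' := by
          rintro m m' ⟨hm, hm'⟩ ⟨hn, hn'⟩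
          refine ⟨mul_mem hm hn, fun a ha => ?_⟩
          have h2 := hm' (m' * a * m'⁻¹) ((mem_normalizer_iff.1 hn a).1 ha)
          calc π (m * m' * a * (m * m')⁻¹) = π (m * (m' * a * m'⁻¹) * m⁻¹) := by
                congr 1; group
            _ = π (m' * a * m'⁻¹) := h2
            _ = π a := hn' a ha
        inv_mem' := by
          rintro m ⟨hm, hm'⟩
          refine ⟨inv_mem hm, fun a ha => ?_⟩
          have h3 : m⁻¹ * a * m ∈ D := (mem_normalizer_iff''.1 hm a).1 ha
          have h2 := hm' _ h3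
          simp only [inv_inv]
          rw [← h2]; congr 1; group }
    have hkN : k ∈ N := by
      rw [hN, ← map_conj_eq_self_iff]
      refine eq_of_le_of_card_ge ?_ (card_map_conj D k).ge
      rintro _ ⟨a, ha, rfl⟩
      have h1 : a⁻¹ * (k * a * k⁻¹) ∈ P := QuotientGroup.eq.1 (hπk a ha).symm
      simpa [mul_assoc] using mul_mem ha (hPD h1)
    have hK₀N : K₀ ≤ N := fun _ hm => hm.1
    have : (K₀.subgroupOf N).Normal := ⟨fun m hm n => by
      refine ⟨mul_mem (mul_mem n.2 hm.1) (inv_mem n.2), fun a ha => ?_⟩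
      have h3 : (n : X)⁻¹ * a * n ∈ D := (mem_normalizer_iff''.1 n.2 a).1 ha
      have h4 : π ((m : X) * ((n : X)⁻¹ * a * n) * (m : X)⁻¹) = π ((n : X)⁻¹ * a * n) := hm.2 _ h3
      simp only [map_mul, map_inv] at h4 ⊢
      calc π n * π m * (π n)⁻¹ * π a * (π n * π m * (π n)⁻¹)⁻¹
          = π n * (π m * ((π n)⁻¹ * π a * π n) * (π m)⁻¹) * (π n)⁻¹ := by group
        _ = π a := by rw [h4]; group⟩
    have hp' : ∀ m ∈ K₀, (orderOf m).Coprime p → m ∈ centralizer (D : Set X) := by
      intro m hm hord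
      rw [mem_centralizer_iff]
      have hmC : m ∈ centralizer (P : Set X) := by
        have htop' := htop
        have : (centralizer (P : Set X)).Normal := inferInstance
        set πC := QuotientGroup.mk' (centralizer (P : Set X))
        have hsur : (S : Subgroup X).map πC = ⊤ := by
          rw [← map_top_of_surjective πC (QuotientGroup.mk'_surjective _), ← htop', Subgroup.map_sup]
          simp [πC, QuotientGroup.map_mk'_self]
        obtain ⟨s, hs, hsm⟩ := hsur.symm ▸ mem_top (πC m)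
        have h1 : orderOf (πC m) ∣ orderOf m := orderOf_map_dvd πC m
        have h2 : orderOf (πC m) ∣ orderOf s := hsm ▸ orderOf_map_dvd πC s
        obtain ⟨e, he⟩ : ∃ e, orderOf s = p ^ e :=
          ⟨_, ((Subgroup.orderOf_coe ⟨s, hs⟩).trans ((IsPGroup.iff_orderOf.1 S.2 ⟨s, hs⟩).choose_spec))⟩
        have h3 : orderOf (πC m) = 1 := by
          refine Nat.eq_one_of_dvd_coprimes ?_ h1 (he ▸ h2)
          exact hord.pow_right e
        rw [orderOf_eq_one_iff] at h3
        exact (QuotientGroup.eq_one_iff m).1 h3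
      intro a ha
      set e := m * a * m⁻¹ * a⁻¹ with he
      have heP : e ∈ P := by
        rw [← QuotientGroup.eq_one_iff]
        show π (m * a * m⁻¹ * a⁻¹) = 1
        rw [map_mul, hm.2 a ha, map_inv, mul_inv_cancel]
      have hme : m * e * m⁻¹ = e := by
        rw [← mem_centralizer_iff.1 hmC e heP, mul_inv_cancel_right]
      have hpow : ∀ i : ℕ, m ^ i * a * (m ^ i)⁻¹ = e ^ i * a := by
        intro i
        induction i with
        | zero => simp
        | succ i ih =>
          calc m ^ (i + 1) * a * (m ^ (i + 1))⁻¹ = m * (m ^ i * a * (m ^ i)⁻¹) * m⁻¹ := by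
                rw [pow_succ']; group
            _ = m * (e ^ i * a) * m⁻¹ := by rw [ih]
            _ = (m * e * m⁻¹) ^ i * (m * a * m⁻¹) := by rw [conj_pow]; group
            _ = e ^ i * (e * a) := by
                have h9 : m * a * m⁻¹ = e * a := by rw [he]; group
                rw [hme, h9]
            _ = e ^ (i + 1) * a := by rw [pow_succ, ← mul_assoc]
      have h5 : e ^ orderOf m = 1 := by
        have h6 := hpow (orderOf m)
        rw [pow_orderOf_eq_one, one_mul, inv_one, mul_one] at h6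
        exact mul_right_cancel (by rw [one_mul]; exact h6.symm)
      obtain ⟨n, hn⟩ : ∃ n, orderOf e = p ^ n :=
        ⟨_, ((Subgroup.orderOf_coe ⟨e, hPle heP⟩).trans ((IsPGroup.iff_orderOf.1 S.2 ⟨e, hPle heP⟩).choose_spec))⟩
      have h7 : orderOf e = 1 := Nat.eq_one_of_dvd_coprimes (hord.pow_right n)
        (orderOf_dvd_of_pow_eq_one h5) (hn ▸ dvd_rfl)
      rw [orderOf_eq_one_iff, he] at h7
      have h8 : m * a * m⁻¹ = a := by rwa [mul_inv_eq_one] at h7
      calc a * m = m * a * m⁻¹ * m := by rw [h8]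
        _ = m * a := by group
    -- decompose `k`
    have hkK : k ∈ K₀ := ⟨hkN, hπk⟩
    obtain ⟨s, hs, c, hc, hsc⟩ : ∃ s ∈ (S : Subgroup X), ∃ c ∈ centralizer (D : Set X), s * c = k := by
      set T := (S : Subgroup X) ⊓ N with hT
      have : Finite N := inferInstance
      let TS : Sylow p N := ((S.2.to_le inf_le_left : IsPGroup p T).of_equiv
        (subgroupOfEquivOfLe inf_le_right).symm).toSylow (P := T.subgroupOf N) hD.2
      have hi := not_dvd_relIndex_inf_normal TS (K₀.subgroupOf N)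
      set C := centralizer (D : Set X) ⊓ K₀ with hC
      set T₀ := (S : Subgroup X) ⊓ K₀ with hT₀
      have hT₀i : ¬ p ∣ T₀.relIndex K₀ := by
        have e : ((TS : Subgroup N) ⊓ K₀.subgroupOf N) = T₀.subgroupOf N := by
          show T.subgroupOf N ⊓ K₀.subgroupOf N = _
          rw [hT₀, hT]; ext y; simp only [mem_inf, mem_subgroupOf]
          exact ⟨fun h => ⟨h.1.1, h.2⟩, fun h => ⟨⟨h.1, y.2⟩, h.2⟩⟩
        rw [e, relIndex_subgroupOf hK₀N] at hi
        exact hi
      have : Finite K₀ := inferInstance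
      have hCn : (C.subgroupOf K₀).Normal := by
        refine normal_subgroupOf_iff inf_le_right |>.2 fun c m hc hm => ?_
        refine mem_inf.2 ⟨?_, mul_mem (mul_mem hm (mem_inf.1 hc).2) (inv_mem hm)⟩
        exact centralizer_conj_mem hm.1 (mem_inf.1 hc).1
      set J := T₀.subgroupOf K₀ ⊔ C.subgroupOf K₀ with hJ
      have hJtop : J = ⊤ := by
        by_contra hne
        have hi1 : J.index ≠ 1 := fun h => hne (index_eq_one.1 h)
        obtain ⟨q, hq, hqd⟩ := Nat.exists_prime_and_dvd hi1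
        by_cases hqp : q = p
        · exact hT₀i (hqp ▸ hqd.trans (index_dvd_of_le (le_sup_left : T₀.subgroupOf K₀ ≤ J)))
        · have h1 : q ∣ (C.subgroupOf K₀).index := hqd.trans (index_dvd_of_le le_sup_right)
          have : Fact q.Prime := ⟨hq⟩
          obtain ⟨y, hy⟩ := exists_prime_orderOf_dvd_card' q (G := K₀ ⧸ C.subgroupOf K₀)
            (by rwa [← index_eq_card])
          obtain ⟨z, rfl⟩ := QuotientGroup.mk'_surjective _ y
          have hzq : orderOf z ≠ 0 := (orderOf_pos z).ne'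
          set n := p ^ (orderOf z).factorization p with hn
          have hord : (orderOf ((z : X) ^ n)).Coprime p := by
            rw [← Subgroup.coe_pow, Subgroup.orderOf_coe, orderOf_pow, hn,
              Nat.gcd_eq_right (Nat.ordProj_dvd _ _)]
            exact Nat.Coprime.symm ((Fact.out : p.Prime).coprime_iff_not_dvd.2
              (Nat.not_dvd_ordCompl Fact.out hzq))
          have hzn : (z ^ n : K₀) ∈ C.subgroupOf K₀ := by
            rw [mem_subgroupOf, Subgroup.coe_pow]
            exact mem_inf.2 ⟨hp' _ (pow_mem z.2 n) hord, pow_mem z.2 n⟩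
          have h9 : q ∣ n := hy ▸ orderOf_dvd_of_pow_eq_one (by
            rw [← map_pow]; exact (QuotientGroup.eq_one_iff _).2 hzn)
          exact hqp ((Nat.prime_dvd_prime_iff_eq hq Fact.out).1 (hq.dvd_of_dvd_pow h9))
      obtain ⟨t, ht, c, hc, htc⟩ :=
        mem_sup_of_normal_right.1 (show (⟨k, hkK⟩ : K₀) ∈ J from hJtop ▸ mem_top _)
      exact ⟨t, (mem_inf.1 ht).1, c, (mem_inf.1 hc).1, congrArg Subtype.val htc⟩
    have hsN : s ∈ N := by
      have : s = k * c⁻¹ := by rw [← hsc, mul_inv_cancel_right]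
      rw [this]
      exact mul_mem hkN (inv_mem (centralizer_le_normalizer _ hc))
    have hsD : D.map (MulAut.conj s).toMonoidHom = D := map_conj_eq_self_iff.2 hsN
    have hQs : Q D s := hS D s hs hD.1 (hsD.le.trans hD.1)
    refine hQc.congr (h := x * s) (fun a ha => ?_)
      (hQc.comp hD.1 (hsD.le.trans hD.1) hQs (hsD.symm ▸ hxQ))
    have h1 : c * a * c⁻¹ = a := by
      rw [← mem_centralizer_iff.1 hc a ha, mul_inv_cancel_right]
    have h2 : h = x * k := by rw [hk, mul_inv_cancel_left]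
    rw [h2, ← hsc]
    calc x * s * a * (x * s)⁻¹ = x * s * (c * a * c⁻¹) * (x * s)⁻¹ := by rw [h1]
      _ = x * (s * c) * a * (x * (s * c))⁻¹ := by group
  intro D h _ hD hh
  have hPconj : ∀ g : X, P.map (MulAut.conj g).toMonoidHom = P := fun g =>
    map_conj_eq_self_iff.2 (normalizer_eq_top P ▸ mem_top g)
  set D' := D ⊔ P with hD'
  refine hQc.mono (le_sup_left : D ≤ D') ?_
  have hD'S : D' ≤ (S : Subgroup X) := sup_le hD hPle
  have hh' : D'.map (MulAut.conj h).toMonoidHom ≤ (S : Subgroup X) := by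
    rw [hD', Subgroup.map_sup, hPconj]; exact sup_le hh hPle
  obtain ⟨g0, hU⟩ := exists_isFN_conj S (S.2.to_le hD'S)
  obtain ⟨g, hg, hg'⟩ := exists_conj_into S.2 hU rfl
  set R := (S : Subgroup X) ⊓ normalizer (D' : Set X)
  have hPR : P ≤ R := le_inf hPle (le_sup_right.trans le_normalizer)
  obtain ⟨x, hxQ, hxg⟩ := hlift R g hPR inf_le_left (hg'.trans inf_le_left)
  have hRD : D' ≤ R := le_inf hD'S le_normalizer
  have himg : ∀ E : Subgroup X, P ≤ E → E ≤ R →
      E.map (MulAut.conj x).toMonoidHom = E.map (MulAut.conj g).toMonoidHom := by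
    intro E hPE hER
    refine eq_of_le_of_card_ge ?_ (by rw [card_map_conj, card_map_conj])
    rintro _ ⟨a, ha, rfl⟩
    have h1 : (g * a * g⁻¹)⁻¹ * (x * a * x⁻¹) ∈ P :=
      QuotientGroup.eq.1 (hxg a (hER ha)).symm
    have h2 : g * a * g⁻¹ ∈ E.map (MulAut.conj g).toMonoidHom := conj_mem_map_conj g ha
    have h3 : (g * a * g⁻¹)⁻¹ * (x * a * x⁻¹) ∈ E.map (MulAut.conj g).toMonoidHom := by
      rw [← hPconj g] at h1
      exact Subgroup.map_mono hPE h1
    simpa [mul_assoc] using mul_mem h2 h3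
  have hx1 : D'.map (MulAut.conj x).toMonoidHom = D'.map (MulAut.conj g0).toMonoidHom := by
    rw [himg D' le_sup_right hRD, hg]
  have hU' : IsFN p (S : Subgroup X) (D'.map (MulAut.conj x).toMonoidHom) := hx1 ▸ hU
  have hxQ' : Q D' x := hQc.mono hRD hxQ
  have h4 := hfn (D'.map (MulAut.conj x).toMonoidHom) (h * x⁻¹)
    (hPconj x ▸ Subgroup.map_mono le_sup_right) hU' (by
      rwa [← map_conj_mul, inv_mul_cancel_right])
  have h5 := hQc.comp hD'S hU'.1 hxQ' h4
  rwa [inv_mul_cancel_right] at h5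

theorem holdsOn_focalIn_of_quotient_pCore (h𝓦 : ∀ W ∈ 𝓦, IsCharPFunctor.{u} p W) (S : Sylow p X)
    (P : Subgroup X) [hPn : P.Normal] (hPdef : P = pCore p X) (hPS : P ≠ (S : Subgroup X))
    (htop : centralizer (P : Set X) ⊔ (S : Subgroup X) = ⊤) (hctl : TransCtrl p 𝓦 (X ⧸ P))
    (hS : HoldsOn (S : Subgroup X) (FocalIn (transferTarget 𝓦 (S : Subgroup X))) S)
    (hprop : ∀ H : Subgroup X, H ≠ ⊤ → (S : Subgroup X) ≤ H →
      HoldsOn (S : Subgroup X) (FocalIn (transferTarget 𝓦 (S : Subgroup X))) H) :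
    HoldsOn (S : Subgroup X) (FocalIn (transferTarget 𝓦 (S : Subgroup X))) ⊤ := by
  set τ := transferTarget 𝓦 (S : Subgroup X) with hτ
  set π := QuotientGroup.mk' P with hπ
  have hPle : P ≤ (S : Subgroup X) := hPdef ▸ CfsgLib.PCore.pCore_le_sylow S
  let Sb : Sylow p (X ⧸ P) := S.mapSurjective (QuotientGroup.mk'_surjective P)
  have hSb : (Sb : Subgroup (X ⧸ P)) = (S : Subgroup X).map π := rfl
  have hcomap : ((S : Subgroup X).map π).comap π = (S : Subgroup X) := by
    rw [hπ, comap_map_eq, QuotientGroup.ker_mk', sup_eq_left.2 hPle]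
  have hτX : τ ≤ _root_.commutator X := iSup₂_le fun M _ => inf_le_right.trans (by
    rw [_root_.commutator_def]; exact commutator_mono le_top le_top)
  have hS' : ⁅(S : Subgroup X), (S : Subgroup X)⁆ ≤ τ :=
    (le_inf (commutator_le_self _) le_rfl).trans
      (inf_commutator_le_of_focalIn le_rfl S.2 (not_dvd_relIndex_sylow S le_rfl) hS)
  have h1 : ∀ M ∈ stepGroups 𝓦 ((S : Subgroup X).map π),
      (S : Subgroup X).map π ⊓ ⁅M, M⁆ ≤ τ.map π := by
    intro M hM
    obtain ⟨hne, hSM⟩ := comap_stepGroup_facts h𝓦 S P hPdef hPS hM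
    have h2 : (S : Subgroup X) ⊓ ⁅M.comap π, M.comap π⁆ ≤ τ :=
      inf_commutator_le_of_focalIn hSM S.2 (not_dvd_relIndex_sylow S hSM) (hprop _ hne hSM)
    intro y hy
    obtain ⟨hy1, hy2⟩ := mem_inf.1 hy
    rw [← map_comap_eq_self_of_surjective (QuotientGroup.mk'_surjective P) M, ← map_commutator] at hy2
    obtain ⟨m, hm, rfl⟩ := hy2
    exact mem_map_of_mem π (h2 (mem_inf.2 ⟨hcomap ▸ (show m ∈ ((S : Subgroup X).map π).comap π from hy1),
      hm⟩))
  refine focalIn_of_inf_commutator_le le_top fun s hs => ?_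
  obtain ⟨hsS, hsX⟩ := mem_inf.1 hs
  rw [← _root_.commutator_def] at hsX
  have h3 : π s ∈ τ.map π := by
    have h4 : transferTarget 𝓦 ((S : Subgroup X).map π) ≤ τ.map π := iSup₂_le h1
    refine h4 (hctl Sb (mem_inf.2 ⟨hSb ▸ mem_map_of_mem π hsS, ?_⟩))
    have := mem_map_of_mem π hsX
    rwa [_root_.commutator_def, map_commutator,
      map_top_of_surjective π (QuotientGroup.mk'_surjective P), ← _root_.commutator_def] at this
  obtain ⟨t, ht, hts⟩ := h3
  have h6 : t⁻¹ * s ∈ P ⊓ _root_.commutator X :=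
    mem_inf.2 ⟨QuotientGroup.eq.1 hts, mul_mem (inv_mem (hτX ht)) hsX⟩
  have h7 := hS' (inf_commutator_le_of_centralizer_sup_eq_top S P hPle htop h6)
  simpa using mul_mem ht h7

end CfsgLib.Techniques.Fusion
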