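import Cfsg.Agent.Lib.Techniques.Reduction

/-! Lifting control by functors from the quotient by a normal `p'`-subgroup. -/

set_option autoImplicit false
set_option linter.unusedSectionVars false

namespace CfsgLib.Techniques.Fusion

open Cfsg Subgroup CfsgLib.Techniques
open scoped commutatorElement

universe u

variable {p : ℕ} [Fact p.Prime] {X : Type u} [Group X] [Finite X]

theorem inf_eq_bot_of_coprime (S : Sylow p X) {K : Subgroup X} (hK : (Nat.card K).Coprime p) :
    (S : Subgroup X) ⊓ K = ⊥ :=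
  CfsgLib.PCore.inf_eq_bot_of_isPGroup_coprime S.2 hK

/-- The normalizer of the image of `W(S)` modulo a `p'`-group is the image of the normalizer. -/
theorem exists_lift_mem_normalizer (S : Sylow p X) (K : Subgroup X) [K.Normal]
    (hK : (Nat.card K).Coprime p) {W : ∀ (Q : Type u) [Group Q], Subgroup Q}
    (hW : IsCharPFunctor.{u} p W) {y : X ⧸ K}
    (hy : y ∈ normalizer ((inducedFunctor (G := X ⧸ K) W ((S : Subgroup X).map (QuotientGroup.mk' K)) :
      Subgroup (X ⧸ K)) : Set (X ⧸ K))) :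
    ∃ m ∈ normalizer ((inducedFunctor (G := X) W (S : Subgroup X) : Subgroup X) : Set X),
      QuotientGroup.mk' K m = y := by
  set π := QuotientGroup.mk' K with hπ
  set V := inducedFunctor (G := X) W (S : Subgroup X) with hV
  have hdis : Disjoint π.ker (S : Subgroup X) := by
    rw [hπ, QuotientGroup.ker_mk', disjoint_iff, inf_comm]
    exact inf_eq_bot_of_coprime S hK
  rw [inducedFunctor_map hW π S.2 hdis] at hy
  obtain ⟨g, rfl⟩ := QuotientGroup.mk'_surjective K y
  have hVp : IsPGroup p V := S.2.to_le (inducedFunctor_le W _)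
  have hg : g ∈ normalizer ((V ⊔ K : Subgroup X) : Set X) := by
    have h1 : g ∈ (normalizer ((V.map π : Subgroup (X ⧸ K)) : Set (X ⧸ K))).comap π := hy
    rwa [comap_normalizer_eq_of_surjective _ (QuotientGroup.mk'_surjective K),
      hπ, comap_map_eq, QuotientGroup.ker_mk'] at h1
  have hidx : ¬ p ∣ V.relIndex (V ⊔ K) := by
    intro hd
    have h0 : Nat.card (V : Subgroup X) * V.relIndex (V ⊔ K) ∣ Nat.card (V : Subgroup X) * Nat.card K := by
      have h := CfsgLib.PCore.card_sup_dvd_mul K V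
      have h' := (V.subgroupOf (V ⊔ K)).card_mul_index
      rw [Nat.card_congr (subgroupOfEquivOfLe le_sup_left).toEquiv] at h'
      rw [relIndex, h', mul_comm, sup_comm]
      exact h
    have h1 : p ∣ Nat.card K := hd.trans (Nat.dvd_of_mul_dvd_mul_left Nat.card_pos h0)
    exact (Fact.out : p.Prime).coprime_iff_not_dvd.1 hK.symm h1
  have hle : V.map (MulAut.conj g).toMonoidHom ≤ V ⊔ K := by
    rw [← map_conj_eq_self_iff.2 hg]
    exact Subgroup.map_mono le_sup_left
  obtain ⟨w, hw, hwV⟩ := exists_conj_le_sylow_of hle (isPGroup_map_conj hVp g) le_sup_left hVp hidx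
  obtain ⟨v, hv, k, hk, rfl⟩ := mem_sup_of_normal_right.1 hw
  refine ⟨k * g, map_conj_eq_self_iff.1 (eq_of_le_of_card_ge ?_ (card_map_conj V _).ge), ?_⟩
  · rw [← map_conj_mul] at hwV
    have h2 := Subgroup.map_mono (f := (MulAut.conj v⁻¹).toMonoidHom) hwV
    rw [← map_conj_mul, map_conj_eq_self_iff.2 (inv_mem (le_normalizer hv)), mul_assoc,
      inv_mul_cancel_left] at h2
    exact h2
  · rw [map_mul, show QuotientGroup.mk' K k = 1 from (QuotientGroup.eq_one_iff k).2 hk, one_mul]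

variable {𝓦 : Set (∀ (Q : Type u) [Group Q], Subgroup Q)}

theorem holdsOn_chain_of_quotient_pPrime (h𝓦 : ∀ W ∈ 𝓦, IsCharPFunctor.{u} p W) (S : Sylow p X)
    (K : Subgroup X) [K.Normal] (hK : (Nat.card K).Coprime p) (hctl : FusCtrl p 𝓦 (X ⧸ K)) :
    HoldsOn (S : Subgroup X) (Chain (S : Subgroup X) (stepGroups 𝓦 (S : Subgroup X))) ⊤ := by
  intro D h _ hD hh
  set π := QuotientGroup.mk' K with hπ
  let Sb : Sylow p (X ⧸ K) := S.mapSurjective (QuotientGroup.mk'_surjective K)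
  have hSb : (Sb : Subgroup (X ⧸ K)) = (S : Subgroup X).map π := rfl
  have hSK : (S : Subgroup X) ⊓ K = ⊥ := inf_eq_bot_of_coprime S hK
  have hinjS : ∀ a ∈ (S : Subgroup X), ∀ b ∈ (S : Subgroup X), π a = π b → a = b := by
    intro a ha b hb hab
    have h1 : a⁻¹ * b ∈ (S : Subgroup X) ⊓ K :=
      mem_inf.2 ⟨mul_mem (inv_mem ha) hb, QuotientGroup.eq.1 hab⟩
    rw [hSK, mem_bot, inv_mul_eq_one] at h1
    exact h1
  obtain ⟨cb, hcb, hcb'⟩ := hctl Sb (D.map π) (π h) (mem_top _)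
    (hSb ▸ Subgroup.map_mono hD) (by
      rintro _ ⟨_, ⟨a, ha, rfl⟩, rfl⟩
      rw [hSb]
      exact ⟨h * a * h⁻¹, hh (conj_mem_map_conj h ha), by simp⟩)
  suffices H : ∀ e, Relation.ReflTransGen (Step (Sb : Subgroup (X ⧸ K))
      (stepGroups 𝓦 (Sb : Subgroup (X ⧸ K))) (D.map π)) 1 e →
      ∃ x, π x = e ∧ D.map (MulAut.conj x).toMonoidHom ≤ (S : Subgroup X) ∧
        Relation.ReflTransGen (Step (S : Subgroup X) (stepGroups 𝓦 (S : Subgroup X)) D) 1 x by
    obtain ⟨x, hx, hxD, hxc⟩ := H cb hcb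
    refine ⟨x, hxc, fun a ha => hinjS _ (hxD (conj_mem_map_conj x ha)) _
      (hh (conj_mem_map_conj h ha)) ?_⟩
    have h1 := hcb' (π a) (mem_map_of_mem π ha)
    rw [← hx] at h1
    simpa using h1
  intro e he
  induction he with
  | refl => exact ⟨1, map_one π, by rwa [map_conj_one], Relation.ReflTransGen.refl⟩
  | @tail u v _ huv ih =>
    obtain ⟨x, hx, hxD, hxc⟩ := ih
    obtain ⟨⟨M, hM, hm⟩, hv⟩ := huv
    obtain ⟨W, hW, rfl⟩ := hM
    obtain ⟨m₀, hm₀, hm₀'⟩ := exists_lift_mem_normalizer S K hK (h𝓦 W hW) hm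
    set V := inducedFunctor (G := X) W (S : Subgroup X) with hV
    set N := normalizer (V : Set X)
    have hSN : (S : Subgroup X) ≤ N :=
      Subgroup.le_normalizer.trans (normalizer_le_normalizer_inducedFunctor (h𝓦 W hW) S.2)
    -- move the image into `S` by an element of `N ∩ (S K)`
    set J := N ⊓ ((S : Subgroup X) ⊔ K) with hJ
    have hJ' : (D.map (MulAut.conj (m₀ * x)).toMonoidHom) ≤ J := by
      rintro _ ⟨a, ha, rfl⟩
      refine mem_inf.2 ⟨?_, ?_⟩
      · have := hSN (hxD (conj_mem_map_conj x ha))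
        have h2 := mul_mem (mul_mem hm₀ this) (inv_mem hm₀)
        simpa [mul_assoc] using h2
      · have h2 : π (m₀ * x * a * (m₀ * x)⁻¹) ∈ (S : Subgroup X).map π := by
          have e1 : π (m₀ * x) = v := by rw [map_mul, hm₀', hx, inv_mul_cancel_right]
          rw [map_mul, map_mul, map_inv, e1, ← hSb]
          exact hv (π a) (mem_map_of_mem π ha)
        have h3 : m₀ * x * a * (m₀ * x)⁻¹ ∈ ((S : Subgroup X).map π).comap π := h2
        rw [hπ, comap_map_eq, QuotientGroup.ker_mk'] at h3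
        exact h3
    obtain ⟨w, hw, hwD⟩ := exists_conj_le_sylow_of hJ'
      (isPGroup_map_conj (S.2.to_le hD) _) (le_inf hSN le_sup_left) S.2
      (not_dvd_relIndex_sylow S (le_inf hSN le_sup_left))
    obtain ⟨hwN, hwSK⟩ := mem_inf.1 hw
    obtain ⟨s, hs, k, hk, rfl⟩ := mem_sup_of_normal_right.1 hwSK
    have hkN : k ∈ N := by simpa using mul_mem (inv_mem (hSN hs)) hwN
    have hπk : π (k * m₀ * x) = v := by
      rw [map_mul, map_mul, show π k = 1 from (QuotientGroup.eq_one_iff k).2 hk, one_mul, hm₀', hx,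
        inv_mul_cancel_right]
    have hkD : D.map (MulAut.conj (k * m₀ * x)).toMonoidHom ≤ (S : Subgroup X) := by
      rintro _ ⟨a, ha, rfl⟩
      have h2 := hwD (conj_mem_map_conj (s * k) (conj_mem_map_conj (m₀ * x) ha))
      have h3 := mul_mem (mul_mem (inv_mem hs) h2) hs
      simpa [mul_assoc] using h3
    refine ⟨k * m₀ * x, hπk, hkD, hxc.tail ⟨⟨N, ⟨W, hW, rfl⟩, ?_⟩,
      fun a ha => hkD (conj_mem_map_conj _ ha)⟩⟩
    rw [mul_inv_cancel_right]
    exact mul_mem hkN hm₀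

theorem le_target_of_quotient_pPrime (h𝓦 : ∀ W ∈ 𝓦, IsCharPFunctor.{u} p W) (S : Sylow p X)
    (K : Subgroup X) [K.Normal] (hK : (Nat.card K).Coprime p) (hctl : TransCtrl p 𝓦 (X ⧸ K)) :
    (S : Subgroup X) ⊓ _root_.commutator X ≤ transferTarget 𝓦 (S : Subgroup X) := by
  set π := QuotientGroup.mk' K with hπ
  let Sb : Sylow p (X ⧸ K) := S.mapSurjective (QuotientGroup.mk'_surjective K)
  have hSb : (Sb : Subgroup (X ⧸ K)) = (S : Subgroup X).map π := rfl
  have hSK : (S : Subgroup X) ⊓ K = ⊥ := inf_eq_bot_of_coprime S hK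
  set τ := transferTarget 𝓦 (S : Subgroup X) with hτ
  have hτS : τ ≤ (S : Subgroup X) := iSup₂_le fun _ _ => inf_le_left
  intro s hs
  obtain ⟨hsS, hsX⟩ := mem_inf.1 hs
  have h1 : π s ∈ (Sb : Subgroup (X ⧸ K)) ⊓ _root_.commutator (X ⧸ K) := by
    refine mem_inf.2 ⟨hSb ▸ mem_map_of_mem π hsS, ?_⟩
    have := mem_map_of_mem π hsX
    rwa [_root_.commutator_def, map_commutator,
      map_top_of_surjective π (QuotientGroup.mk'_surjective K), ← _root_.commutator_def] at this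
  have h2 : transferTarget 𝓦 (Sb : Subgroup (X ⧸ K)) ≤ τ.map π := by
    refine iSup₂_le fun M hM => ?_
    obtain ⟨W, hW, rfl⟩ := hM
    set N := normalizer ((inducedFunctor (G := X) W (S : Subgroup X) : Subgroup X) : Set X)
    have hNb : normalizer ((inducedFunctor (G := X ⧸ K) W (Sb : Subgroup (X ⧸ K)) :
        Subgroup (X ⧸ K)) : Set (X ⧸ K)) ≤ N.map π := fun y hy => by
      obtain ⟨m, hm, hmy⟩ := exists_lift_mem_normalizer S K hK (h𝓦 W hW) (hSb ▸ hy)
      exact ⟨m, hm, hmy⟩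
    refine le_trans (inf_le_inf_left _ (commutator_mono hNb hNb)) ?_
    rw [← map_commutator]
    intro y hy
    obtain ⟨hyS, m, hm, rfl⟩ := mem_inf.1 hy
    rw [hSb] at hyS
    obtain ⟨s₀, hs₀, hs₀'⟩ := hyS
    refine ⟨s₀, ?_, hs₀'⟩
    refine (le_iSup₂_of_le N ⟨W, hW, rfl⟩ le_rfl :
      (S : Subgroup X) ⊓ ⁅N, N⁆ ≤ τ) (mem_inf.2 ⟨hs₀, ?_⟩)
    have hSN : (S : Subgroup X) ≤ N :=
      Subgroup.le_normalizer.trans (normalizer_le_normalizer_inducedFunctor (h𝓦 W hW) S.2)
    set k := s₀⁻¹ * m with hk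
    have hkK : k ∈ K := QuotientGroup.eq.1 hs₀'
    have hkN : k ∈ N := mul_mem (inv_mem (hSN hs₀)) (commutator_le_self N hm)
    let φ : N →* Abelianization N := Abelianization.of
    have hm1 : φ ⟨m, commutator_le_self N hm⟩ = 1 := by
      rw [← MonoidHom.mem_ker, Abelianization.ker_of, ← mem_map_iff_mem N.subtype_injective,
        _root_.commutator_def, map_commutator, ← MonoidHom.range_eq_map, range_subtype]
      exact hm
    have hprod : φ ⟨s₀, hSN hs₀⟩ * φ ⟨k, hkN⟩ = 1 := by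
      rw [← map_mul, ← hm1]
      exact congrArg φ (Subtype.ext (mul_inv_cancel_left s₀ m))
    have e1 : φ ⟨k, hkN⟩ ^ Nat.card K = 1 := by
      rw [← map_pow]
      convert φ.map_one
      apply Subtype.ext
      exact (Subgroup.coe_pow N _ _).trans
        (orderOf_dvd_iff_pow_eq_one.1 ((Subgroup.orderOf_coe (⟨k, hkK⟩ : K)).symm ▸
          _root_.orderOf_dvd_natCard (⟨k, hkK⟩ : K)))
    have e2 : φ ⟨s₀, hSN hs₀⟩ ^ Nat.card K = 1 := by
      rw [eq_inv_of_mul_eq_one_left hprod, inv_pow, e1, inv_one]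
    obtain ⟨n, hn⟩ := IsPGroup.iff_card.1 S.2
    have e3 : φ ⟨s₀, hSN hs₀⟩ ^ Nat.card (S : Subgroup X) = 1 := by
      rw [← map_pow]
      convert φ.map_one
      apply Subtype.ext
      exact (Subgroup.coe_pow N _ _).trans (orderOf_dvd_iff_pow_eq_one.1
        ((Subgroup.orderOf_coe (⟨s₀, hs₀⟩ : (S : Subgroup X))).symm ▸
          _root_.orderOf_dvd_natCard (⟨s₀, hs₀⟩ : (S : Subgroup X))))
    have hcop : (Nat.card K).Coprime (Nat.card (S : Subgroup X)) := by rw [hn]; exact hK.pow_right n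
    have h4 : φ ⟨s₀, hSN hs₀⟩ = 1 := by
      simpa [hcop.gcd_eq_one] using pow_gcd_eq_one.2 ⟨e2, e3⟩
    rw [← MonoidHom.mem_ker, Abelianization.ker_of] at h4
    have h5 := mem_map_of_mem N.subtype h4
    rwa [_root_.commutator_def, map_commutator, ← MonoidHom.range_eq_map, range_subtype] at h5
  obtain ⟨t, ht, hts⟩ := h2 (hctl Sb h1)
  have h6 : t⁻¹ * s ∈ (S : Subgroup X) ⊓ K :=
    mem_inf.2 ⟨mul_mem (inv_mem (hτS ht)) hsS, QuotientGroup.eq.1 hts⟩
  rw [hSK, mem_bot, inv_mul_eq_one] at h6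
  rwa [← h6]

end CfsgLib.Techniques.Fusion
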