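import Cfsg.Agent.Lib.Techniques.QdWitness
import Cfsg.Agent.Lib.Techniques.Sections
import Cfsg.Prelude.Def_ConjugacyFunctors

/-! No set of isomorphism-invariant functors controls strong fusion in `Qd(p)`. -/

set_option autoImplicit false
set_option linter.unusedSectionVars false

namespace CfsgLib.Techniques.QdCharFunctor

open Subgroup CfsgLib.Techniques.QdWitness

universe u

variable {p : ℕ} [hp : Fact p.Prime]

theorem ent_mul_upper {A B : ↥(Cfsg.qd p)} (hA : A ∈ upper p) (hB : B ∈ upper p) :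
    ent (A * B) 0 1 = ent A 0 1 + ent B 0 1 ∧ ent (A * B) 1 2 = ent A 1 2 + ent B 1 2 ∧
      ent (A * B) 0 2 = ent A 0 2 + ent B 0 2 + ent A 0 1 * ent B 1 2 := by
  obtain ⟨a1, a2, a3⟩ := hA
  obtain ⟨b1, b2, b3⟩ := hB
  obtain ⟨r1, r2, r3⟩ := ent_row B
  refine ⟨?_, ?_, ?_⟩ <;> simp [ent_mul, a1, a2, a3, b3, r1, r2, r3] <;> ring

theorem ext_upper {A B : ↥(Cfsg.qd p)} (hA : A ∈ upper p) (hB : B ∈ upper p)
    (h1 : ent A 0 1 = ent B 0 1) (h2 : ent A 1 2 = ent B 1 2) (h3 : ent A 0 2 = ent B 0 2) : A = B := by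
  obtain ⟨a1, a2, a3⟩ := hA
  obtain ⟨b1, b2, b3⟩ := hB
  obtain ⟨r1, r2, r3⟩ := ent_row A
  obtain ⟨s1, s2, s3⟩ := ent_row B
  refine ext_ent fun i j => ?_
  fin_cases i <;> fin_cases j <;> simp [a1, a2, a3, b1, b2, b3, r1, r2, r3, s1, s2, s3, h1, h2, h3]

theorem ent_pow_upper {A : ↥(Cfsg.qd p)} (hA : A ∈ upper p) (k : ℕ) :
    ent (A ^ k) 0 1 = k * ent A 0 1 ∧ ent (A ^ k) 1 2 = k * ent A 1 2 ∧
      (ent A 0 1 = 0 → ent (A ^ k) 0 2 = k * ent A 0 2) := by
  induction k with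
  | zero => simp [ent_one]
  | succ k ih =>
    obtain ⟨i1, i2, i3⟩ := ih
    obtain ⟨m1, m2, m3⟩ := ent_mul_upper (pow_mem hA k) hA
    rw [pow_succ, m1, m2, m3, i1, i2]
    refine ⟨by push_cast; ring, by push_cast; ring, fun h => ?_⟩
    rw [i3 h, h]; push_cast; ring

/-- An element of the centre of `upper`. -/
theorem center_iff {z : ↥(Cfsg.qd p)} (hz : z ∈ upper p) :
    z ∈ centralizer ((upper p : Subgroup _) : Set ↥(Cfsg.qd p)) ↔ ent z 0 1 = 0 ∧ ent z 1 2 = 0 := by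
  rw [mem_centralizer_iff]
  constructor
  · intro h
    have hu : QdWitness.mk 1 1 0 0 1 0 (by ring) ∈ upper p := by rw [mem_upper]; simp [ent, QdWitness.mk]
    have hv : QdWitness.mk 1 0 0 0 1 1 (by ring) ∈ upper p := by rw [mem_upper]; simp [ent, QdWitness.mk]
    have h1 := congrArg (fun Q => ent Q 0 2) (h _ hu)
    have h2 := congrArg (fun Q => ent Q 0 2) (h _ hv)
    simp only [(ent_mul_upper hu hz).2.2, (ent_mul_upper hz hu).2.2] at h1
    simp only [(ent_mul_upper hv hz).2.2, (ent_mul_upper hz hv).2.2] at h2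
    simp [ent, QdWitness.mk] at h1 h2
    exact ⟨h2, h1⟩
  · rintro ⟨h1, h2⟩ y hy
    obtain ⟨a1, a2, a3⟩ := ent_mul_upper hy hz
    obtain ⟨b1, b2, b3⟩ := ent_mul_upper hz hy
    refine ext_upper (mul_mem hy hz) (mul_mem hz hy) ?_ ?_ ?_
    · rw [a1, b1]; ring
    · rw [a2, b2]; ring
    · rw [a3, b3, h1, h2]; ring

/-- The swap of the two maximal abelian subgroups. -/
def swap (A : upper p) : upper p :=
  ⟨QdWitness.mk 1 (-ent (A : ↥(Cfsg.qd p)) 1 2) (ent (A : ↥(Cfsg.qd p)) 0 1 * ent (A : ↥(Cfsg.qd p)) 1 2 - ent (A : ↥(Cfsg.qd p)) 0 2)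
    0 1 (-ent (A : ↥(Cfsg.qd p)) 0 1) (by ring), by rw [mem_upper]; simp [ent, QdWitness.mk]⟩

theorem ent_swap (A : upper p) :
    ent (swap A : ↥(Cfsg.qd p)) 0 1 = -ent (A : ↥(Cfsg.qd p)) 1 2 ∧
      ent (swap A : ↥(Cfsg.qd p)) 1 2 = -ent (A : ↥(Cfsg.qd p)) 0 1 ∧
      ent (swap A : ↥(Cfsg.qd p)) 0 2 =
        ent (A : ↥(Cfsg.qd p)) 0 1 * ent (A : ↥(Cfsg.qd p)) 1 2 - ent (A : ↥(Cfsg.qd p)) 0 2 := by
  simp [swap, ent, QdWitness.mk]

theorem swap_mul (A B : upper p) : swap (A * B) = swap A * swap B := by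
  obtain ⟨a1, a2, a3⟩ := ent_swap (A * B)
  obtain ⟨b1, b2, b3⟩ := ent_swap A
  obtain ⟨c1, c2, c3⟩ := ent_swap B
  obtain ⟨d1, d2, d3⟩ := ent_mul_upper A.2 B.2
  obtain ⟨e1, e2, e3⟩ := ent_mul_upper (swap A).2 (swap B).2
  rw [Subgroup.coe_mul, d2] at a1
  rw [Subgroup.coe_mul, d1] at a2
  rw [Subgroup.coe_mul, d1, d2, d3] at a3
  refine Subtype.ext (ext_upper (swap (A * B)).2 (mul_mem (swap A).2 (swap B).2) ?_ ?_ ?_)
  · rw [a1, Subgroup.coe_mul, e1, b1, c1]; ring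
  · rw [a2, Subgroup.coe_mul, e2, b2, c2]; ring
  · rw [a3, Subgroup.coe_mul, e3, b3, c3, b1, c2]; ring

theorem swap_swap (A : upper p) : swap (swap A) = A := by
  obtain ⟨a1, a2, a3⟩ := ent_swap (swap A)
  obtain ⟨b1, b2, b3⟩ := ent_swap A
  refine Subtype.ext (ext_upper (swap (swap A)).2 A.2 ?_ ?_ ?_)
  · rw [a1, b2]; ring
  · rw [a2, b1]; ring
  · rw [a3, b1, b2, b3]; ring

/-- `swap` as an automorphism. -/
def swapEquiv : upper p ≃* upper p where
  toFun := swap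
  invFun := swap
  left_inv := swap_swap
  right_inv := swap_swap
  map_mul' := swap_mul

/-- The normalizer of a nontrivial swap-invariant subgroup of `upper` keeps the centre of `upper` central. -/
theorem normalizer_keeps_center (W : Subgroup ↥(Cfsg.qd p)) (hW : W ≤ upper p) (hne : W ≠ ⊥)
    (hinv : ∀ (w : upper p), (w : ↥(Cfsg.qd p)) ∈ W → (swapEquiv w : ↥(Cfsg.qd p)) ∈ W)
    {g : ↥(Cfsg.qd p)} (hg : g ∈ normalizer (W : Set ↥(Cfsg.qd p))) {z : ↥(Cfsg.qd p)}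
    (hz : z ∈ upper p ⊓ centralizer ((upper p : Subgroup _) : Set ↥(Cfsg.qd p))) :
    g * z * g⁻¹ ∈ upper p ⊓ centralizer ((upper p : Subgroup _) : Set ↥(Cfsg.qd p)) := by
  by_cases hall : ∀ w ∈ W, ent w 0 1 = 0
  · obtain ⟨⟨w, hw⟩, hw1⟩ := ne_bot_iff_exists_ne_one.1 hne
    have hb : ∀ w ∈ W, ent w 1 2 = 0 := fun w hw => by
      have h1 := hall _ (hinv ⟨w, hW hw⟩ hw)
      rw [show (swapEquiv ⟨w, hW hw⟩ : ↥(Cfsg.qd p)) = (swap ⟨w, hW hw⟩ : ↥(Cfsg.qd p)) from rfl,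
        (ent_swap _).1] at h1
      exact neg_eq_zero.1 h1
    have hc : ent w 0 2 ≠ 0 := fun h => hw1 (Subtype.ext (ext_upper (hW hw) (one_mem _)
      (by rw [hall w hw]; exact (ent_one (p := p) 0 1).symm)
      (by rw [hb w hw]; exact (ent_one (p := p) 1 2).symm)
      (by rw [h]; exact (ent_one (p := p) 0 2).symm)))
    obtain ⟨hzU, hzC⟩ := mem_inf.1 hz
    obtain ⟨z1, z2⟩ := (center_iff hzU).1 hzC
    have hzW : z ∈ W := by
      have e : z = w ^ (ent z 0 2 / ent w 0 2).val := by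
        obtain ⟨m1, m2, m3⟩ := ent_pow_upper (hW hw) (ent z 0 2 / ent w 0 2).val
        refine ext_upper hzU (pow_mem (hW hw) _) ?_ ?_ ?_
        · rw [m1, hall w hw, mul_zero, z1]
        · rw [m2, hb w hw, mul_zero, z2]
        · rw [m3 (hall w hw), ZMod.natCast_zmod_val, div_mul_cancel₀ _ hc]
      rw [e]; exact pow_mem hw _
    have h2 : g * z * g⁻¹ ∈ W := (mem_normalizer_iff.1 hg z).1 hzW
    exact ⟨hW h2, (center_iff (hW h2)).2 ⟨hall _ h2, hb _ h2⟩⟩
  · push Not at hall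
    obtain ⟨w, hw, hwa⟩ := hall
    have hle : ∀ t ∈ upper p, g * t * g⁻¹ ∈ upper p := by
      intro t ht
      set k := (ent t 0 1 / ent w 0 1).val
      have hwk : w ^ k ∈ W := pow_mem hw k
      set v := t * (w ^ k)⁻¹ with hv
      have hvU : v ∈ upper p := mul_mem ht (inv_mem (hW hwk))
      have hv0 : ent v 0 1 = 0 := by
        have h1 := (ent_mul_upper hvU (hW hwk)).1
        rw [hv, inv_mul_cancel_right, (ent_pow_upper (hW hw) k).1, ZMod.natCast_zmod_val,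
          div_mul_cancel₀ _ hwa] at h1
        exact (right_eq_add.1 h1)
      have hgv : g * v * g⁻¹ ∈ upper p := by
        obtain ⟨v1, v2, v3⟩ := hvU
        obtain ⟨r1, r2, r3⟩ := ent_row v
        obtain ⟨s1, s2, s3⟩ := ent_row g⁻¹
        have key : ∀ i j : Fin 3, j ≠ 2 → ent (g * v * g⁻¹) i j = ent (g * g⁻¹) i j := by
          intro i j hj
          fin_cases j
          · show ent (g * v * g⁻¹) i 0 = ent (g * g⁻¹) i 0
            simp only [ent_mul, v1, v2, v3, hv0, r1, r2, s1]; ring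
          · show ent (g * v * g⁻¹) i 1 = ent (g * g⁻¹) i 1
            simp only [ent_mul, v1, v2, v3, hv0, r1, r2, s2]; ring
          · exact absurd rfl hj
        rw [mem_upper, key _ _ (by decide), key _ _ (by decide), key _ _ (by decide), mul_inv_cancel]
        simp [ent_one]
      have e : g * t * g⁻¹ = g * v * g⁻¹ * (g * w ^ k * g⁻¹) := by rw [hv]; group
      rw [e]
      exact mul_mem hgv (hW ((mem_normalizer_iff.1 hg _).1 hwk))
    have hgU : g ∈ normalizer ((upper p : Subgroup _) : Set ↥(Cfsg.qd p)) :=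
      CfsgLib.Techniques.map_conj_eq_self_iff.1 (eq_of_le_of_card_ge
        (by rintro _ ⟨t, ht, rfl⟩; exact hle t ht) (CfsgLib.Techniques.card_map_conj _ g).ge)
    refine ⟨(mem_normalizer_iff.1 hgU z).1 hz.1, mem_centralizer_iff.2 fun y hy => ?_⟩
    have hy' : g⁻¹ * y * g ∈ upper p := by
      have := (mem_normalizer_iff.1 (inv_mem hgU) y).1 hy
      rwa [inv_inv] at this
    have h1 := mem_centralizer_iff.1 hz.2 _ hy'
    calc y * (g * z * g⁻¹) = g * ((g⁻¹ * y * g) * z) * g⁻¹ := by group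
      _ = g * (z * (g⁻¹ * y * g)) * g⁻¹ := by rw [h1]
      _ = _ := by group

theorem card_upper : Nat.card (upper p) = p ^ 3 := by
  let e : upper p ≃ ZMod p × ZMod p × ZMod p :=
    { toFun := fun A => (ent (A : ↥(Cfsg.qd p)) 0 1, ent (A : ↥(Cfsg.qd p)) 1 2, ent (A : ↥(Cfsg.qd p)) 0 2)
      invFun := fun v => ⟨QdWitness.mk 1 v.1 v.2.2 0 1 v.2.1 (by ring), by
        rw [mem_upper]; simp [ent, QdWitness.mk]⟩
      left_inv := fun A => Subtype.ext (ext_upper (by rw [mem_upper]; simp [ent, QdWitness.mk]) A.2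
        (by simp [ent, QdWitness.mk]) (by simp [ent, QdWitness.mk]) (by simp [ent, QdWitness.mk]))
      right_inv := fun v => by simp [ent, QdWitness.mk] }
  rw [Nat.card_congr e, Nat.card_prod, Nat.card_prod, Nat.card_zmod]; ring

theorem exists_sylow_upper : ∃ T : Sylow p ↥(Cfsg.qd p), (T : Subgroup ↥(Cfsg.qd p)) = upper p := by
  obtain ⟨T, hT⟩ := (IsPGroup.of_card (card_upper (p := p))).exists_le_sylow
  refine ⟨T, ?_⟩
  by_contra hne
  have hlt := Fusion.lt_inf_normalizer (p := p) T.2 (lt_of_le_of_ne hT (Ne.symm hne))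
  refine hlt.not_ge fun M hM => ?_
  obtain ⟨k, hk⟩ := T.2 ⟨M, (mem_inf.1 hM).1⟩
  exact mem_upper_of_normalizer (mem_inf.1 hM).2 (congrArg Subtype.val hk : M ^ p ^ k = 1)

/-- No set of isomorphism invariant functors controls strong fusion in a group isomorphic to `Qd(p)`. -/
theorem not_family_controls {X : Type u} [Group X] [Finite X] (e : X ≃* ↥(Cfsg.qd p))
    (𝓦 : Set (∀ (Q : Type u) [Group Q], Subgroup Q)) (h𝓦 : ∀ W ∈ 𝓦, Cfsg.IsCharPFunctor.{u} p W) :
    ¬ Cfsg.FamilyControlsStrongFusionIn p ((fun W => Cfsg.inducedFunctor (G := X) W) '' 𝓦) ⊤ := by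
  rintro ⟨T, -, hTp, hTi, hctl⟩
  rw [relIndex_top_right] at hTi
  obtain ⟨U₀, hU₀⟩ := exists_sylow_upper (p := p)
  have hTi' : ¬ p ∣ (T.map e.toMonoidHom).index := by
    rwa [show (T.map e.toMonoidHom) = T.map (e : X →* ↥(Cfsg.qd p)) from rfl, index_map_equiv]
  obtain ⟨u, hu⟩ := MulAction.exists_smul_eq ↥(Cfsg.qd p) ((hTp.map e.toMonoidHom).toSylow hTi') U₀
  set f : X ≃* ↥(Cfsg.qd p) := e.trans (MulAut.conj u) with hf
  have hTf : T.map f.toMonoidHom = upper p := by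
    have h1 : (((u • (hTp.map e.toMonoidHom).toSylow hTi') : Sylow p ↥(Cfsg.qd p)) : Subgroup ↥(Cfsg.qd p)) =
        (U₀ : Subgroup ↥(Cfsg.qd p)) := by rw [hu]
    rw [Sylow.coe_subgroup_smul, hU₀, Subgroup.pointwise_smul_def] at h1
    rw [← h1]
    show T.map f.toMonoidHom = (T.map e.toMonoidHom).map (MulAut.conj u).toMonoidHom
    rw [Subgroup.map_map]; rfl
  have hmem : ∀ x, x ∈ T ↔ f x ∈ upper p := fun x => by
    rw [← hTf]
    exact ⟨fun hx => mem_map_of_mem _ hx, fun ⟨y, hy, e'⟩ => f.injective e' ▸ hy⟩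
  let φT : T ≃* upper p := (f.subgroupMap T).trans (MulEquiv.subgroupCongr hTf)
  have hφT : ∀ y : T, (φT y : ↥(Cfsg.qd p)) = f (y : X) := fun y => rfl
  let ψ : T ≃* T := (φT.trans swapEquiv).trans φT.symm
  have hψ : ∀ y : T, f ((ψ y : T) : X) = (swapEquiv (φT y) : ↥(Cfsg.qd p)) := fun y => by
    rw [← hφT (ψ y)]
    exact congrArg Subtype.val (φT.apply_symm_apply (swapEquiv (φT y)))
  -- the steps keep the centre central
  have hstep : ∀ W ∈ 𝓦, ∀ g ∈ normalizer ((Cfsg.inducedFunctor (G := X) W T : Subgroup X) : Set X),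
      ∀ z : X, f z ∈ upper p ⊓ centralizer ((upper p : Subgroup _) : Set ↥(Cfsg.qd p)) →
      f (g * z * g⁻¹) ∈ upper p ⊓ centralizer ((upper p : Subgroup _) : Set ↥(Cfsg.qd p)) := by
    intro W hW g hg z hz
    obtain ⟨hne, hiso⟩ := h𝓦 W hW
    haveI : Nontrivial T := Finite.one_lt_card_iff_nontrivial.1 (by
      rw [← card_map_of_injective (f := f.toMonoidHom) f.injective, hTf, card_upper]
      exact Nat.one_lt_pow (by norm_num) hp.out.one_lt)
    have hWψ := hiso T T hTp ψ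
    rw [map_mul, map_mul, map_inv]
    refine normalizer_keeps_center ((Cfsg.inducedFunctor (G := X) W T).map f.toMonoidHom) ?_ ?_ ?_
      ?_ hz
    · rw [← hTf]; exact map_mono (map_subtype_le _)
    · intro hb
      rw [map_eq_bot_iff_of_injective _ f.injective, Cfsg.inducedFunctor,
        map_eq_bot_iff_of_injective _ T.subtype_injective] at hb
      exact hne T hTp inferInstance hb
    · rintro w ⟨x, ⟨y, hy, rfl⟩, hxw⟩
      refine ⟨T.subtype (ψ y), ⟨ψ y, ?_, rfl⟩, ?_⟩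
      · rw [← hWψ]; exact mem_map_of_mem _ hy
      · show f ((ψ y : T) : X) = _
        rw [hψ]
        exact congrArg (fun t : upper p => (swapEquiv t : ↥(Cfsg.qd p)))
          (Subtype.ext ((hφT y).trans hxw) : φT y = w)
    · exact le_normalizer_map f.toMonoidHom (mem_map_of_mem _ hg)
  -- the witness
  set z₀ : ↥(Cfsg.qd p) := QdWitness.mk 1 0 1 0 1 0 (by ring) with hz₀
  set g₀ : ↥(Cfsg.qd p) := QdWitness.mk 0 (-1) 0 1 0 0 (by ring) with hg₀
  set z' : ↥(Cfsg.qd p) := QdWitness.mk 1 0 0 0 1 1 (by ring) with hz'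
  have hzU : z₀ ∈ upper p := by rw [mem_upper]; simp [hz₀, ent, QdWitness.mk]
  have hz'U : z' ∈ upper p := by rw [mem_upper]; simp [hz', ent, QdWitness.mk]
  have hzC : z₀ ∈ upper p ⊓ centralizer ((upper p : Subgroup _) : Set ↥(Cfsg.qd p)) :=
    ⟨hzU, (center_iff hzU).2 (by simp [hz₀, ent, QdWitness.mk])⟩
  have he : g₀ * z₀ * g₀⁻¹ = z' := by
    rw [mul_inv_eq_iff_eq_mul]
    refine ext_ent fun i j => ?_
    fin_cases i <;> fin_cases j <;> simp [ent_mul] <;> simp [ent, hz₀, hg₀, hz', QdWitness.mk]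
  obtain ⟨n, c, hc0, hcs, hcT, hlast⟩ := hctl {f.symm z₀} (f.symm g₀) (mem_top _)
    (Set.singleton_subset_iff.2 ((hmem _).2 (by rw [f.apply_symm_apply]; exact hzU)))
    (by
      rw [Set.image_singleton, Set.singleton_subset_iff, SetLike.mem_coe, hmem, map_mul, map_mul, map_inv,
        f.apply_symm_apply, f.apply_symm_apply, he]
      exact hz'U)
  have hind : ∀ i : Fin (n + 1),
      f (c i * f.symm z₀ * (c i)⁻¹) ∈ upper p ⊓ centralizer ((upper p : Subgroup _) : Set ↥(Cfsg.qd p)) := by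
    intro i
    induction i using Fin.induction with
    | zero => rw [hc0, one_mul, inv_one, mul_one, f.apply_symm_apply]; exact hzC
    | succ i ih =>
      obtain ⟨_, ⟨W, hW, rfl⟩, hm⟩ := hcs i
      have h1 := hstep W hW _ hm.2 _ ih
      rwa [show c i.succ * (c i.castSucc)⁻¹ * (c i.castSucc * f.symm z₀ * (c i.castSucc)⁻¹) *
        (c i.succ * (c i.castSucc)⁻¹)⁻¹ = c i.succ * f.symm z₀ * (c i.succ)⁻¹ by group] at h1
  have h1 := hind (Fin.last n)
  rw [hlast _ rfl, map_mul, map_mul, map_inv, f.apply_symm_apply, f.apply_symm_apply, he] at h1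
  have h2 := ((center_iff hz'U).1 h1.2).2
  simp [hz', ent, QdWitness.mk] at h2

end CfsgLib.Techniques.QdCharFunctor
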