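import Cfsg.Agent.Lib.KnownSimple51.QdFree
import Cfsg.Agent.Lib.Techniques.FusionInduction
import Mathlib.FieldTheory.Finite.Basic

/-! A Sylow subgroup of `Qd(p)` and a fusion which does not come from its normalizer. -/

set_option autoImplicit false
set_option linter.unusedSectionVars false

namespace CfsgLib.Techniques.QdWitness

open Matrix Subgroup CfsgLib.KnownSimple51
open scoped commutatorElement MatrixGroups

variable {p : ℕ} [hp : Fact p.Prime]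

/-- The matrix entries of an element of `Qd(p)`. -/
abbrev ent (M : ↥(Cfsg.qd p)) (i j : Fin 3) : ZMod p := (M.1 : Matrix (Fin 3) (Fin 3) (ZMod p)) i j

theorem ent_mul (A B : ↥(Cfsg.qd p)) (i j : Fin 3) :
    ent (A * B) i j = ent A i 0 * ent B 0 j + ent A i 1 * ent B 1 j + ent A i 2 * ent B 2 j := by
  simp [ent, Matrix.mul_apply, Fin.sum_univ_three]

theorem ent_row (A : ↥(Cfsg.qd p)) : ent A 2 0 = 0 ∧ ent A 2 1 = 0 ∧ ent A 2 2 = 1 :=
  QdFree.mem_qd_iff.1 A.2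

theorem ext_ent {A B : ↥(Cfsg.qd p)} (h : ∀ i j, ent A i j = ent B i j) : A = B :=
  Subtype.ext (Subtype.ext (Matrix.ext h))

theorem ent_one (i j : Fin 3) : ent (1 : ↥(Cfsg.qd p)) i j = if i = j then 1 else 0 := by
  simp [ent, Matrix.one_apply]

/-- The upper unitriangular elements. -/
def upperMonoid (p : ℕ) [Fact p.Prime] : Submonoid ↥(Cfsg.qd p) where
  carrier := {M | ent M 0 0 = 1 ∧ ent M 1 0 = 0 ∧ ent M 1 1 = 1}
  one_mem' := by refine ⟨?_, ?_, ?_⟩ <;> simp [ent_one]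
  mul_mem' := by
    rintro A B ⟨a1, a2, a3⟩ ⟨b1, b2, b3⟩
    obtain ⟨r1, r2, -⟩ := ent_row B
    refine ⟨?_, ?_, ?_⟩ <;> simp [ent_mul, a1, a2, a3, b1, b2, b3, r1, r2]

/-- The upper unitriangular subgroup. -/
def upper (p : ℕ) [Fact p.Prime] : Subgroup ↥(Cfsg.qd p) where
  toSubmonoid := upperMonoid p
  inv_mem' := by
    intro x hx
    have h : x ^ (orderOf x - 1) = x⁻¹ := by
      refine eq_inv_of_mul_eq_one_left ?_
      rw [← pow_succ, Nat.sub_add_cancel (orderOf_pos x), pow_orderOf_eq_one]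
    rw [← h]
    exact (upperMonoid p).pow_mem hx _

theorem mem_upper {M : ↥(Cfsg.qd p)} :
    M ∈ upper p ↔ ent M 0 0 = 1 ∧ ent M 1 0 = 0 ∧ ent M 1 1 = 1 := Iff.rfl

/-- An element with prescribed first two rows. -/
def mk (a b x c d y : ZMod p) (h : a * d - b * c = 1) : ↥(Cfsg.qd p) :=
  ⟨⟨!![a, b, x; c, d, y; 0, 0, 1], by
    rw [Matrix.det_fin_three]
    simp
    linear_combination h⟩, QdFree.mem_qd_iff.2 (by simp)⟩

theorem commutator_central {A B C : ↥(Cfsg.qd p)} (hA : A ∈ upper p) (hB : B ∈ upper p) (hC : C ∈ upper p) :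
    C * ⁅A, B⁆ = ⁅A, B⁆ * C := by
  have hAB : ⁅A, B⁆ ∈ upper p :=
    Subgroup.commutator_le_self _ (commutator_mem_commutator hA hB)
  have hmul : ∀ {P Q : ↥(Cfsg.qd p)}, P ∈ upper p → Q ∈ upper p →
      ent (P * Q) 0 1 = ent P 0 1 + ent Q 0 1 ∧ ent (P * Q) 1 2 = ent P 1 2 + ent Q 1 2 := by
    rintro P Q ⟨a1, a2, a3⟩ ⟨b1, b2, b3⟩
    obtain ⟨r1, r2, r3⟩ := ent_row Q
    constructor
    · simp [ent_mul, a1, b3, r2, add_comm]
    · simp [ent_mul, a2, a3, r3, add_comm]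
  have e : ⁅A, B⁆ * B * A = A * B := by rw [commutatorElement_def]; group
  have h1 := hmul (mul_mem hAB hB) hA
  have h2 := hmul hAB hB
  have h3 := hmul hA hB
  rw [e, h2.1, h2.2] at h1
  have z1 : ent ⁅A, B⁆ 0 1 = 0 := by linear_combination h3.1 - h1.1
  have z2 : ent ⁅A, B⁆ 1 2 = 0 := by linear_combination h3.2 - h1.2
  obtain ⟨c1, c2, c3⟩ := mem_upper.1 hAB
  obtain ⟨d1, d2, d3⟩ := mem_upper.1 hC
  obtain ⟨r1, r2, r3⟩ := ent_row ⁅A, B⁆
  obtain ⟨s1, s2, s3⟩ := ent_row C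
  refine ext_ent fun i j => ?_
  fin_cases i <;> fin_cases j <;>
    simp [ent_mul, z1, z2, c1, c2, c3, d1, d2, d3, r1, r2, r3, s1, s2, s3, add_comm]

theorem eq_one_of_pow_eq_one {a : ZMod p} {k : ℕ} (h : a ^ p ^ k = 1) : a = 1 := by
  rwa [ZMod.pow_card_pow] at h

theorem mem_upper_of_normalizer {M : ↥(Cfsg.qd p)} (hM : M ∈ normalizer ((upper p : Subgroup _) : Set _))
    {k : ℕ} (hk : M ^ p ^ k = 1) : M ∈ upper p := by
  set u : ↥(Cfsg.qd p) := mk 1 1 0 0 1 0 (by ring) with hu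
  have huU : u ∈ upper p := by refine ⟨?_, ?_, ?_⟩ <;> simp [ent, hu, mk]
  have hu01 : ent u 0 1 = 1 ∧ ent u 0 0 = 1 ∧ ent u 1 1 = 1 ∧ ent u 1 0 = 0 ∧ ent u 2 1 = 0 := by
    simp [ent, hu, mk]
  set t := M * u * M⁻¹ with ht
  obtain ⟨t1, t2, t3⟩ := (mem_normalizer_iff.1 hM u).1 huU
  have e : t * M = M * u := by rw [ht, inv_mul_cancel_right]
  obtain ⟨r1, r2, r3⟩ := ent_row M
  have h11 := congrArg (fun Q => ent Q 1 1) e
  simp only [ent_mul, hu01.1, hu01.2.2.1, hu01.2.2.2.2, ← ht, r2] at h11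
  rw [t2, t3] at h11
  have hc : ent M 1 0 = 0 := by linear_combination -h11
  have hpow : ∀ n : ℕ, ent (M ^ n) 0 0 = ent M 0 0 ^ n ∧ ent (M ^ n) 1 0 = 0 := by
    intro n
    induction n with
    | zero => simp [ent_one]
    | succ n ih =>
      rw [pow_succ]
      constructor <;> simp [ent_mul, hc, r1, ih.1, ih.2, pow_succ]
  have ha : ent M 0 0 = 1 := by
    have h1 := (hpow (p ^ k)).1
    rw [hk] at h1
    exact eq_one_of_pow_eq_one (k := k) (by rw [← h1]; simp [ent_one])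
  refine ⟨ha, hc, ?_⟩
  have hdet := M.1.2
  rw [Matrix.det_fin_three] at hdet
  simp only [ent] at r1 r2 r3 ha hc
  simp only [ent]
  rw [r1, r2, r3, ha, hc] at hdet
  linear_combination hdet

/-- The witness: a Sylow subgroup of class two with a central element fused to a non-central one. -/
theorem exists_witness : ∃ (T : Sylow p ↥(Cfsg.qd p)) (z g : ↥(Cfsg.qd p)),
    ⁅(T : Subgroup ↥(Cfsg.qd p)), (T : Subgroup ↥(Cfsg.qd p))⁆ ≤ centralizer ((T : Subgroup ↥(Cfsg.qd p)) : Set ↥(Cfsg.qd p)) ∧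
    z ∈ (T : Subgroup ↥(Cfsg.qd p)) ∧ z ∈ centralizer ((T : Subgroup ↥(Cfsg.qd p)) : Set ↥(Cfsg.qd p)) ∧
    g * z * g⁻¹ ∈ (T : Subgroup ↥(Cfsg.qd p)) ∧ g * z * g⁻¹ ∉ centralizer ((T : Subgroup ↥(Cfsg.qd p)) : Set ↥(Cfsg.qd p)) := by
  have hUp : IsPGroup p (upper p) := by
    intro x
    refine ⟨2, Subtype.ext ?_⟩
    obtain ⟨x1, x2, x3⟩ := x.2
    obtain ⟨r1, r2, r3⟩ := ent_row (x : ↥(Cfsg.qd p))
    set M : ↥(Cfsg.qd p) := x.1 with hMx
    have hpow : ∀ n : ℕ, ent (M ^ n) 0 0 = 1 ∧ ent (M ^ n) 1 0 = 0 ∧ ent (M ^ n) 1 1 = 1 ∧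
        ent (M ^ n) 0 1 = n * ent M 0 1 ∧ ent (M ^ n) 1 2 = n * ent M 1 2 ∧
        ent (M ^ n) 0 2 = n * ent M 0 2 + (Nat.choose n 2 : ℕ) * (ent M 0 1 * ent M 1 2) := by
      intro n
      induction n with
      | zero => simp [ent_one]
      | succ n ih =>
        obtain ⟨i1, i2, i3, i4, i5, i6⟩ := ih
        rw [pow_succ, Nat.choose_succ_succ, Nat.choose_one_right]
        refine ⟨?_, ?_, ?_, ?_, ?_, ?_⟩ <;>
          simp [ent_mul, i1, i2, i3, i4, i5, i6, x1, x2, x3, r1, r2, r3] <;> ring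
    have hz : ((p ^ 2 : ℕ) : ZMod p) = 0 := by simp
    obtain ⟨j1, j2, j3, j4, j5, j6⟩ := hpow (p ^ 2)
    have hch : ((Nat.choose (p ^ 2) 2 : ℕ) : ZMod p) * (ent M 0 1 * ent M 1 2) = 0 := by
      rcases hp.out.eq_two_or_odd with h2 | hodd
      · subst h2
        have : Nat.choose (2 ^ 2) 2 = 6 := rfl
        rw [this]
        have h6 : ((6 : ℕ) : ZMod 2) = 0 := rfl
        rw [h6, zero_mul]
      · have hd : p ∣ Nat.choose (p ^ 2) 2 :=
          hp.out.dvd_choose_pow (by norm_num) (by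
            intro h
            have : 2 * 2 ≤ p ^ 2 := by rw [pow_two]; exact Nat.mul_le_mul hp.out.two_le hp.out.two_le
            omega)
        rw [(ZMod.natCast_eq_zero_iff _ _).2 hd, zero_mul]
    rw [hz] at j4 j5 j6
    obtain ⟨s1, s2, s3⟩ := ent_row (M ^ p ^ 2)
    show M ^ p ^ 2 = 1
    refine ext_ent fun i j => ?_
    fin_cases i <;> fin_cases j <;> simp [ent_one, j1, j2, j3, j4, j5, j6, hch, s1, s2, s3]
  obtain ⟨T, hT⟩ := hUp.exists_le_sylow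
  have hTU : (T : Subgroup ↥(Cfsg.qd p)) = upper p := by
    by_contra hne
    have hlt := Fusion.lt_inf_normalizer (p := p) T.2 (lt_of_le_of_ne hT (Ne.symm hne))
    refine hlt.not_ge fun M hM => ?_
    obtain ⟨k, hk⟩ := T.2 ⟨M, (mem_inf.1 hM).1⟩
    exact mem_upper_of_normalizer (mem_inf.1 hM).2 (congrArg Subtype.val hk : M ^ p ^ k = 1)
  set z : ↥(Cfsg.qd p) := mk 1 0 1 0 1 0 (by ring) with hz
  set g : ↥(Cfsg.qd p) := mk 0 (-1) 0 1 0 0 (by ring) with hg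
  set z' : ↥(Cfsg.qd p) := mk 1 0 0 0 1 1 (by ring) with hz'
  have e : g * z * g⁻¹ = z' := by
    rw [mul_inv_eq_iff_eq_mul]
    refine ext_ent fun i j => ?_
    fin_cases i <;> fin_cases j <;> simp [ent_mul] <;> simp [ent, hz, hg, hz', mk]
  refine ⟨T, z, g, ?_, ?_, ?_, ?_, ?_⟩
  · rw [hTU, commutator_le]
    intro A hA B hB
    exact mem_centralizer_iff.2 fun C hC => commutator_central hA hB hC
  · rw [hTU, mem_upper]; simp [ent, hz, mk]
  · rw [hTU, mem_centralizer_iff]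
    intro C hC
    obtain ⟨d1, d2, d3⟩ := mem_upper.1 hC
    obtain ⟨s1, s2, s3⟩ := ent_row C
    refine ext_ent fun i j => ?_
    fin_cases i <;> fin_cases j <;> simp [ent_mul] <;> simp [hz, ent, mk] <;>
      simp only [ent] at d1 d2 d3 s1 s2 s3 <;> simp [d1, d2, d3, s1, s2, s3, add_comm]
  · rw [e, hTU, mem_upper]; simp [ent, hz', mk]
  · rw [e, hTU, mem_centralizer_iff]
    intro h
    have hu : mk 1 1 0 0 1 0 (by ring) ∈ upper p := by rw [mem_upper]; simp [ent, mk]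
    have h2 := congrArg (fun Q => ent Q 0 2) (h _ hu)
    simp [ent_mul] at h2
    simp [ent, hz', mk] at h2

end CfsgLib.Techniques.QdWitness
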