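import Cfsg.Agent.Lib.Techniques.Split
import Cfsg.Agent.Lib.Techniques.Sections

/-! The reduction of control by functors to constrained sections. -/

set_option autoImplicit false
set_option linter.unusedSectionVars false

namespace CfsgLib.Techniques.Fusion

open Cfsg Subgroup CfsgLib.Techniques

universe u

variable {p : ℕ}

/-- The normalizers of the values at `S` of a set of functors. -/
def stepGroups {X : Type u} [Group X] (𝓦 : Set (∀ (Q : Type u) [Group Q], Subgroup Q))
    (S : Subgroup X) : Set (Subgroup X) :=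
  (fun W => normalizer ((inducedFunctor (G := X) W S : Subgroup X) : Set X)) '' 𝓦

/-- The subgroup generated by the `S ∩ N(W S)'`. -/
def transferTarget {X : Type u} [Group X] (𝓦 : Set (∀ (Q : Type u) [Group Q], Subgroup Q))
    (S : Subgroup X) : Subgroup X :=
  ⨆ M ∈ stepGroups 𝓦 S, S ⊓ ⁅M, M⁆

/-- The functors control strong fusion in `X` (for every Sylow subgroup). -/
def FusCtrl (p : ℕ) (𝓦 : Set (∀ (Q : Type u) [Group Q], Subgroup Q)) (X : Type u) [Group X] : Prop :=
  ∀ S : Sylow p X, HoldsOn (S : Subgroup X) (Chain (S : Subgroup X) (stepGroups 𝓦 (S : Subgroup X))) ⊤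

/-- The functors control transfer in `X` (for every Sylow subgroup). -/
def TransCtrl (p : ℕ) (𝓦 : Set (∀ (Q : Type u) [Group Q], Subgroup Q)) (X : Type u) [Group X] : Prop :=
  ∀ S : Sylow p X, (S : Subgroup X) ⊓ _root_.commutator X ≤ transferTarget 𝓦 (S : Subgroup X)

variable [Fact p.Prime] {𝓦 : Set (∀ (Q : Type u) [Group Q], Subgroup Q)}
  {X : Type u} [Group X] [Finite X]

theorem map_subtype_sylow {H T : Subgroup X} (hTH : T ≤ H) (hT : IsPGroup p T)
    (hi : ¬ p ∣ T.relIndex H) : ∃ T' : Sylow p H, (T' : Subgroup H).map H.subtype = T :=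
  ⟨(hT.of_equiv (subgroupOfEquivOfLe hTH).symm).toSylow (P := T.subgroupOf H) hi,
    map_subgroupOf_eq_of_le hTH⟩

theorem map_subtype_stepGroup (H : Subgroup X) (T : Subgroup H)
    {W : ∀ (Q : Type u) [Group Q], Subgroup Q} (hW : IsCharPFunctor.{u} p W) (hT : IsPGroup p T) :
    (normalizer ((inducedFunctor (G := H) W T : Subgroup H) : Set H)).map H.subtype ≤
      H ⊓ normalizer ((inducedFunctor (G := X) W (T.map H.subtype) : Subgroup X) : Set X) :=
  le_inf (map_subtype_le _) (by
    rw [inducedFunctor_map_injective hW H.subtype H.subtype_injective hT]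
    exact le_normalizer_map _)

/-- A property that holds for the steps in a subgroup `H` holds in `H`, if fusion in `H` is
controlled. -/
theorem holdsOn_of_fusCtrl (h𝓦 : ∀ W ∈ 𝓦, IsCharPFunctor.{u} p W) {S : Subgroup X}
    {P : Subgroup X → X → Prop} (hP : IsMapClosed S P) {H T : Subgroup X} (hTS : T ≤ S) (hTH : T ≤ H)
    (hT : IsPGroup p T) (hi : ¬ p ∣ T.relIndex H) (hctl : FusCtrl p 𝓦 H)
    (hsteps : ∀ W ∈ 𝓦, HoldsOn T P (H ⊓ normalizer ((inducedFunctor (G := X) W T : Subgroup X) : Set X))) :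
    HoldsOn T P H := by
  obtain ⟨T', hT'⟩ := map_subtype_sylow hTH hT hi
  intro D h hh hD hhD
  have hDH : D ≤ H := hD.trans hTH
  have hc : Chain T ((fun W => H ⊓ normalizer ((inducedFunctor (G := X) W T : Subgroup X) : Set X)) '' 𝓦)
      D h := by
    have e : (D.subgroupOf H).map H.subtype = D := map_subgroupOf_eq_of_le hDH
    have h1 : D.subgroupOf H ≤ (T' : Subgroup H) := by
      rw [← map_le_map_iff_of_injective H.subtype_injective, e, hT']; exact hD
    have h2 : (D.subgroupOf H).map (MulAut.conj (⟨h, hh⟩ : H)).toMonoidHom ≤ (T' : Subgroup H) := by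
      rintro _ ⟨a, ha, rfl⟩
      rw [← mem_map_iff_mem H.subtype_injective, hT']
      exact hhD (conj_mem_map_conj h ha)
    have hh2 := Chain.map H.subtype (T' := T)
      (Ms' := (fun W => H ⊓ normalizer ((inducedFunctor (G := X) W T : Subgroup X) : Set X)) '' 𝓦)
      hT'.le ?_ (hctl T' _ _ (mem_top (⟨h, hh⟩ : H)) h1 h2)
    · rwa [e] at hh2
    · rintro _ ⟨W, hW, rfl⟩
      refine ⟨_, ⟨W, hW, rfl⟩, ?_⟩
      have h3 := map_subtype_stepGroup H (T' : Subgroup H) (h𝓦 W hW) T'.2
      rwa [hT'] at h3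
  refine hc.elim hP hTS ?_ hD
  rintro _ ⟨W, hW, rfl⟩
  exact hsteps W hW

/-- The focal property holds in `H` if transfer in `H` is controlled and it holds for the steps. -/
theorem holdsOn_of_transCtrl (h𝓦 : ∀ W ∈ 𝓦, IsCharPFunctor.{u} p W) {τ : Subgroup X}
    {H T : Subgroup X} (hTH : T ≤ H) (hT : IsPGroup p T) (hi : ¬ p ∣ T.relIndex H)
    (hctl : TransCtrl p 𝓦 H)
    (hsteps : ∀ W ∈ 𝓦, HoldsOn T (FocalIn τ)
      (H ⊓ normalizer ((inducedFunctor (G := X) W T : Subgroup X) : Set X))) :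
    HoldsOn T (FocalIn τ) H := by
  obtain ⟨T', hT'⟩ := map_subtype_sylow hTH hT hi
  refine focalIn_of_inf_commutator_le hTH ?_
  have h1 : T ⊓ ⁅H, H⁆ = ((T' : Subgroup H) ⊓ _root_.commutator H).map H.subtype := by
    rw [Subgroup.map_inf _ _ _ H.subtype_injective, hT', _root_.commutator_def, map_commutator,
      ← MonoidHom.range_eq_map, range_subtype]
  rw [h1]
  refine (Subgroup.map_mono (hctl T')).trans ?_
  unfold transferTarget
  rw [Subgroup.map_iSup]
  refine iSup_le fun M => ?_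
  rw [Subgroup.map_iSup]
  refine iSup_le fun hM => ?_
  obtain ⟨W, hW, rfl⟩ := hM
  rw [Subgroup.map_inf _ _ _ H.subtype_injective, map_commutator, hT']
  have h3 := map_subtype_stepGroup H (T' : Subgroup H) (h𝓦 W hW) T'.2
  rw [hT'] at h3
  refine le_trans (inf_le_inf_left T (commutator_mono h3 h3)) ?_
  have hTM : T ≤ H ⊓ normalizer ((inducedFunctor (G := X) W T : Subgroup X) : Set X) :=
    le_inf hTH (Subgroup.le_normalizer.trans (normalizer_le_normalizer_inducedFunctor (h𝓦 W hW) hT))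
  exact inf_commutator_le_of_focalIn hTM hT
    (fun hd => hi (hd.trans ⟨_, (relIndex_mul_relIndex T _ H hTM inf_le_left).symm⟩)) (hsteps W hW)

/-- The skeleton of the reduction: `hsub` passes from the steps to a proper subgroup, `hK` treats a
nontrivial `p'`-core, `hcon` the constrained case and `hquot` the case `G = C(O_p(G)) S`. -/
theorem reduction_skeleton (h𝓦 : ∀ W ∈ 𝓦, IsCharPFunctor.{u} p W) (S : Sylow p X)
    {P : Subgroup X → X → Prop} (hP : IsMapClosed (S : Subgroup X) P)
    (hstep : ∀ W ∈ 𝓦, HoldsOn (S : Subgroup X) P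
      (normalizer ((inducedFunctor (G := X) W (S : Subgroup X) : Subgroup X) : Set X)))
    (hsub : ∀ H T : Subgroup X, H ≠ ⊤ → T ≤ (S : Subgroup X) → T ≤ H → ¬ p ∣ T.relIndex H →
      (∀ W ∈ 𝓦, HoldsOn T P (H ⊓ normalizer ((inducedFunctor (G := X) W T : Subgroup X) : Set X))) →
      HoldsOn T P H)
    (hK : pPrimeCore p X ≠ ⊥ → HoldsOn (S : Subgroup X) P ⊤)
    (hcon : centralizer (pCore p X : Set X) ≤ pCore p X → HoldsOn (S : Subgroup X) P ⊤)
    (hquot : pCore p X ≠ ⊥ → pCore p X ≠ (S : Subgroup X) →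
      centralizer (pCore p X : Set X) ⊔ (S : Subgroup X) = ⊤ →
      (∀ H : Subgroup X, H ≠ ⊤ → (S : Subgroup X) ≤ H → HoldsOn (S : Subgroup X) P H) →
      HoldsOn (S : Subgroup X) P ⊤) :
    HoldsOn (S : Subgroup X) P ⊤ := by
  by_cases hP0 : pCore p X = ⊥
  · refine local_to_global S hP ((fun W => inducedFunctor (G := X) W) '' 𝓦) ?_ ?_ ?_
    · rintro _ ⟨W, hW, rfl⟩; exact isConjugacyFunctor_inducedFunctor (h𝓦 W hW)
    · rintro _ ⟨W, hW, rfl⟩; exact hstep W hW
    · intro U hne hU hloc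
      have hN : normalizer (U : Set X) ≠ ⊤ := fun e => hne (le_bot_iff.1 (hP0 ▸
        CfsgLib.PCore.le_pCore (normalizer_eq_top_iff.1 e) (S.2.to_le hU.1)))
      exact hsub _ _ hN inf_le_left inf_le_right hU.2 fun W hW => hloc _ ⟨W, hW, rfl⟩
  by_cases hK0 : pPrimeCore p X = ⊥
  swap
  · exact hK hK0
  by_cases hc : centralizer (pCore p X : Set X) ≤ pCore p X
  · exact hcon hc
  have hprop : ∀ H : Subgroup X, H ≠ ⊤ → (S : Subgroup X) ≤ H → HoldsOn (S : Subgroup X) P H :=
    fun H hH hSH => hsub H S hH le_rfl hSH (not_dvd_relIndex_sylow S hSH)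
      fun W hW => (hstep W hW).mono le_rfl inf_le_right
  have hPn : (pCore p X).Normal := pCore_normal p X
  set H0 := pCore p X ⊔ centralizer (pCore p X : Set X) with hH0
  have hH0n : H0.Normal := by rw [hH0]; infer_instance
  set Q := (S : Subgroup X) ⊓ H0
  have hNQ : normalizer (Q : Set X) ≠ ⊤ := fun e =>
    hc (centralizer_pCore_le_of_normal S hK0 (normalizer_eq_top_iff.1 e))
  have hSNQ : (S : Subgroup X) ≤ normalizer (Q : Set X) := fun s hs =>
    mem_normalizer_inf (le_normalizer hs) (normalizer_eq_top H0 ▸ mem_top s)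
  by_cases htop : centralizer (pCore p X : Set X) ⊔ (S : Subgroup X) = ⊤
  · refine hquot hP0 ?_ htop hprop
    intro e
    apply hc (centralizer_pCore_le_of_normal S hK0 ?_)
    have hSn : (S : Subgroup X).Normal := e ▸ hPn
    infer_instance
  · have hle : H0 ≤ centralizer (pCore p X : Set X) ⊔ (S : Subgroup X) :=
      sup_le ((CfsgLib.PCore.pCore_le_sylow S).trans le_sup_right) le_sup_left
    exact holdsOn_split S hP H0 ((hprop _ htop le_sup_right).mono le_rfl hle)
      (hprop _ hNQ hSNQ)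

end CfsgLib.Techniques.Fusion
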