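import Cfsg.Agent.Lib.Techniques.Control

/-! Factorizations by two functors give control of strong fusion. -/

set_option autoImplicit false
set_option linter.unusedSectionVars false

namespace CfsgLib.Techniques.Fusion

open Cfsg Subgroup CfsgLib.Techniques

universe u

variable {p : ℕ} [Fact p.Prime] {X : Type u} [Group X] [Finite X]

/-- A factorization `X = M₁ M₂` by two subgroups containing `S` gives chains of length two. -/
theorem chain_of_factorization (S : Sylow p X) {M₁ M₂ : Subgroup X} {Ms : Set (Subgroup X)}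
    (hM₁ : M₁ ∈ Ms) (hM₂ : M₂ ∈ Ms) (h1 : (S : Subgroup X) ≤ M₁) (h2 : (S : Subgroup X) ≤ M₂)
    (hfac : ∀ x : X, ∃ a ∈ M₁, ∃ b ∈ M₂, x = a * b) :
    HoldsOn (S : Subgroup X) (Chain (S : Subgroup X) Ms) ⊤ := by
  intro D h _ hD hh
  obtain ⟨x, hx, y, hy, rfl⟩ := hfac h
  have hle : D.map (MulAut.conj y).toMonoidHom ≤ M₁ ⊓ M₂ := by
    rintro _ ⟨a, ha, rfl⟩
    refine mem_inf.2 ⟨?_, mul_mem (mul_mem hy (h2 (hD ha))) (inv_mem hy)⟩
    have h3 := h1 (hh (conj_mem_map_conj (x * y) ha))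
    have h4 := mul_mem (mul_mem (inv_mem hx) h3) hx
    simpa [mul_assoc] using h4
  obtain ⟨m, hm, hmD⟩ := exists_conj_le_sylow_of hle (isPGroup_map_conj (S.2.to_le hD) y)
    (le_inf h1 h2) S.2 (not_dvd_relIndex_sylow S (le_inf h1 h2))
  obtain ⟨hm1, hm2⟩ := mem_inf.1 hm
  rw [← map_conj_mul] at hmD
  have e : x * y = (x * m⁻¹) * (m * y) := by group
  rw [e] at hh ⊢
  refine (isMapClosed_chain _ _).comp hD hmD (chain_step hM₂ (mul_mem hm2 hy) hmD)
    (chain_step hM₁ (mul_mem hx (inv_mem hm1)) ?_)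
  rwa [← map_conj_mul]

end CfsgLib.Techniques.Fusion
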