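import Cfsg.Agent.Lib.Techniques.SThreeFactor
import Cfsg.Agent.Lib.Techniques.TwoFunctor

/-!
Freedom from sections `S₄` and control of strong fusion by the pair of the centre and the Thompson subgroup.
-/

set_option autoImplicit false
set_option linter.unusedSectionVars false

namespace CfsgLib.Techniques.SFourControl

open Cfsg Subgroup CfsgLib.Techniques

universe u

/-- The centre as a functor. -/
def zFun (Q : Type u) [Group Q] : Subgroup Q := Subgroup.center Q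

/-- The Thompson subgroup as a functor. -/
def jFun (Q : Type u) [Group Q] : Subgroup Q := Cfsg.thompsonSubgroup 2 Q

theorem inducedFunctor_zFun {G : Type u} [Group G] (P : Subgroup G) :
    Cfsg.inducedFunctor (G := G) zFun P = P ⊓ centralizer (P : Set G) := by
  ext x
  constructor
  · rintro ⟨z, hz, rfl⟩
    exact ⟨z.2, mem_centralizer_iff.2 fun a ha => congrArg Subtype.val (mem_center_iff.1 hz ⟨a, ha⟩)⟩
  · rintro ⟨hx, hc⟩
    exact ⟨⟨x, hx⟩, mem_center_iff.2 fun a => Subtype.ext (mem_centralizer_iff.1 hc a a.2), rfl⟩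

theorem inducedFunctor_jFun {G : Type u} [Group G] (P : Subgroup G) :
    Cfsg.inducedFunctor (G := G) jFun P = Cfsg.thompsonSubgroupOf 2 P := rfl

theorem isCharPFunctor_zFun : Cfsg.IsCharPFunctor.{u} 2 zFun := by
  haveI : Fact (Nat.Prime 2) := ⟨Nat.prime_two⟩
  refine ⟨fun Q _ _ hQ hnt => ?_, fun Q R _ _ _ _ φ => ?_⟩
  · haveI := hnt
    exact (Subgroup.nontrivial_iff_ne_bot _).1 hQ.center_nontrivial
  · ext y
    constructor
    · rintro ⟨x, hx, rfl⟩
      refine mem_center_iff.2 fun b => ?_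
      obtain ⟨a, rfl⟩ := φ.surjective b
      show φ a * φ x = φ x * φ a
      rw [← map_mul, ← map_mul, mem_center_iff.1 hx a]
    · intro hy
      refine ⟨φ.symm y, mem_center_iff.2 fun a => φ.injective ?_, φ.apply_symm_apply y⟩
      rw [map_mul, map_mul, φ.apply_symm_apply]
      exact mem_center_iff.1 hy (φ a)

theorem isCharPFunctor_jFun : Cfsg.IsCharPFunctor.{u} 2 jFun := by
  haveI : Fact (Nat.Prime 2) := ⟨Nat.prime_two⟩
  refine ⟨fun Q _ _ hQ hnt h0 => ?_, fun Q R _ _ _ _ φ => ?_⟩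
  · have hd : 2 ∣ Nat.card Q := by
      obtain ⟨n, hn⟩ := IsPGroup.iff_card.1 hQ
      rcases Nat.eq_zero_or_pos n with rfl | hn0
      · rw [pow_zero] at hn
        haveI := hnt
        have := Finite.one_lt_card (α := Q)
        omega
      · rw [hn]; exact dvd_pow_self 2 hn0.ne'
    obtain ⟨x, hx⟩ := exists_prime_orderOf_dvd_card' 2 hd
    obtain ⟨A, hA⟩ := CfsgLib.PLocal.exists_isMaxElemIn 2 (⊤ : Subgroup Q)
    have h1 : IsElementaryAbelian 2 (zpowers x) := by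
      rw [zpowers_eq_closure]
      refine CfsgLib.PLocal.elemAb_closure ?_ ?_
      · rintro a rfl b rfl; rfl
      · rintro a rfl; rw [← hx]; exact pow_orderOf_eq_one _
    have h2 := hA.2.2 _ le_top h1
    rw [Nat.card_zpowers, hx] at h2
    have h3 : A ≤ ⊥ := hA.le_thompson.trans (by
      rw [← CfsgLib.PLocal.thompsonSubgroup_eq]; exact (show jFun Q = ⊥ from h0).le)
    rw [le_bot_iff] at h3
    rw [h3, Subgroup.card_bot] at h2
    omega
  · show (Cfsg.thompsonSubgroup 2 Q).map _ = Cfsg.thompsonSubgroup 2 R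
    rw [CfsgLib.PLocal.thompsonSubgroup_eq, CfsgLib.PLocal.thompsonSubgroup_eq,
      ← CfsgLib.PLocal.thompson_map φ.injective, Subgroup.map_top_of_surjective _ φ.surjective]

theorem isCharPFunctor_pair : ∀ W ∈ ({zFun, jFun} : Set (∀ (Q : Type u) [Group Q], Subgroup Q)),
    Cfsg.IsCharPFunctor.{u} 2 W := by
  rintro W (rfl | rfl)
  · exact isCharPFunctor_zFun
  · exact isCharPFunctor_jFun

theorem image_pair (X : Type u) [Group X] :
    ((fun W => Cfsg.inducedFunctor (G := X) W) '' ({zFun, jFun} : Set (∀ (Q : Type u) [Group Q], Subgroup Q))) =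
      ({fun P : Subgroup X => P ⊓ centralizer (P : Set X), fun P : Subgroup X => Cfsg.thompsonSubgroupOf 2 P} :
        Set (Subgroup X → Subgroup X)) := by
  rw [Set.image_insert_eq, Set.image_singleton]
  exact congrArg₂ (fun a b : Subgroup X → Subgroup X => ({a, b} : Set (Subgroup X → Subgroup X)))
    (funext inducedFunctor_zFun) (funext inducedFunctor_jFun)

/-- A constrained group without section `S₄` has fusion controlled by the two functors. -/
theorem fusCtrl_constrained {X : Type u} [Group X] [Finite X]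
    (hC : centralizer (pCore 2 X : Set X) ≤ pCore 2 X) (hS4 : ¬ Involves (Equiv.Perm (Fin 4)) X) :
    Fusion.FusCtrl 2 ({zFun, jFun} : Set (∀ (Q : Type u) [Group Q], Subgroup Q)) X := by
  haveI : Fact (Nat.Prime 2) := ⟨Nat.prime_two⟩
  intro S
  refine Fusion.chain_of_factorization S
    (M₁ := normalizer ((Cfsg.inducedFunctor (G := X) zFun (S : Subgroup X) : Subgroup X) : Set X))
    (M₂ := normalizer ((Cfsg.inducedFunctor (G := X) jFun (S : Subgroup X) : Subgroup X) : Set X))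
    ⟨zFun, Or.inl rfl, rfl⟩ ⟨jFun, Or.inr rfl, rfl⟩
    (le_normalizer.trans (Fusion.normalizer_le_normalizer_inducedFunctor isCharPFunctor_zFun S.2))
    (le_normalizer.trans (Fusion.normalizer_le_normalizer_inducedFunctor isCharPFunctor_jFun S.2))
    fun x => ?_
  obtain ⟨c, hc, n, hn, rfl⟩ := SThree.exists_factor hC hS4 S x
  refine ⟨c, ?_, n, ?_, rfl⟩
  · rw [inducedFunctor_zFun]
    exact centralizer_le_normalizer _ hc
  · rw [inducedFunctor_jFun, CfsgLib.PLocal.thompsonSubgroupOf_eq]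
    exact hn

/-! ### The symmetric group of degree four -/

/-- `(01)(23)`. -/
def c₀ : Equiv.Perm (Fin 4) := Equiv.swap 0 1 * Equiv.swap 2 3

/-- `(02)(13)`. -/
def d₀ : Equiv.Perm (Fin 4) := Equiv.swap 0 2 * Equiv.swap 1 3

/-- A Sylow 2-subgroup. -/
def T₀ : Subgroup (Equiv.Perm (Fin 4)) where
  carrier := {σ | σ * c₀ = c₀ * σ}
  mul_mem' := fun {a b} (ha : a * c₀ = c₀ * a) (hb : b * c₀ = c₀ * b) => by
    show a * b * c₀ = c₀ * (a * b)
    rw [mul_assoc, hb, ← mul_assoc, ha, mul_assoc]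
  one_mem' := by show (1 : Equiv.Perm (Fin 4)) * c₀ = c₀ * 1; rw [one_mul, mul_one]
  inv_mem' := fun {a} (ha : a * c₀ = c₀ * a) => by
    show a⁻¹ * c₀ = c₀ * a⁻¹
    rw [inv_mul_eq_iff_eq_mul, ← mul_assoc, ha, mul_inv_cancel_right]

/-- The normal four-group. -/
def V₁ : Subgroup (Equiv.Perm (Fin 4)) where
  carrier := {σ | σ = 1 ∨ σ = c₀ ∨ σ = d₀ ∨ σ = c₀ * d₀}
  mul_mem' := fun {a b} ha hb => by
    have key : ∀ a b : Equiv.Perm (Fin 4), (a = 1 ∨ a = c₀ ∨ a = d₀ ∨ a = c₀ * d₀) →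
        (b = 1 ∨ b = c₀ ∨ b = d₀ ∨ b = c₀ * d₀) →
        (a * b = 1 ∨ a * b = c₀ ∨ a * b = d₀ ∨ a * b = c₀ * d₀) := by decide +kernel
    exact key a b ha hb
  one_mem' := Or.inl rfl
  inv_mem' := fun {a} ha => by
    have key : ∀ a : Equiv.Perm (Fin 4), (a = 1 ∨ a = c₀ ∨ a = d₀ ∨ a = c₀ * d₀) →
        (a⁻¹ = 1 ∨ a⁻¹ = c₀ ∨ a⁻¹ = d₀ ∨ a⁻¹ = c₀ * d₀) := by decide +kernel
    exact key a ha

/-- The four-group of two disjoint transpositions. -/
def V₂ : Subgroup (Equiv.Perm (Fin 4)) where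
  carrier := {σ | σ = 1 ∨ σ = c₀ ∨ σ = Equiv.swap 0 1 ∨ σ = Equiv.swap 2 3}
  mul_mem' := fun {a b} ha hb => by
    have key : ∀ a b : Equiv.Perm (Fin 4), (a = 1 ∨ a = c₀ ∨ a = Equiv.swap 0 1 ∨ a = Equiv.swap 2 3) →
        (b = 1 ∨ b = c₀ ∨ b = Equiv.swap 0 1 ∨ b = Equiv.swap 2 3) →
        (a * b = 1 ∨ a * b = c₀ ∨ a * b = Equiv.swap 0 1 ∨ a * b = Equiv.swap 2 3) := by decide +kernel
    exact key a b ha hb
  one_mem' := Or.inl rfl
  inv_mem' := fun {a} ha => by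
    have key : ∀ a : Equiv.Perm (Fin 4), (a = 1 ∨ a = c₀ ∨ a = Equiv.swap 0 1 ∨ a = Equiv.swap 2 3) →
        (a⁻¹ = 1 ∨ a⁻¹ = c₀ ∨ a⁻¹ = Equiv.swap 0 1 ∨ a⁻¹ = Equiv.swap 2 3) := by decide +kernel
    exact key a ha

theorem card_T₀ : Nat.card T₀ = 8 := by
  have h : Nat.card T₀ = Fintype.card {σ : Equiv.Perm (Fin 4) // σ * c₀ = c₀ * σ} :=
    Nat.card_eq_fintype_card (α := {σ : Equiv.Perm (Fin 4) // σ * c₀ = c₀ * σ})
  rw [h]; decide +kernel

theorem card_V₁ : Nat.card V₁ = 4 := by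
  have h : Nat.card V₁ = Fintype.card {σ : Equiv.Perm (Fin 4) // σ = 1 ∨ σ = c₀ ∨ σ = d₀ ∨ σ = c₀ * d₀} :=
    Nat.card_eq_fintype_card (α := {σ : Equiv.Perm (Fin 4) // σ = 1 ∨ σ = c₀ ∨ σ = d₀ ∨ σ = c₀ * d₀})
  rw [h]; decide +kernel

theorem card_V₂ : Nat.card V₂ = 4 := by
  have h : Nat.card V₂ =
      Fintype.card {σ : Equiv.Perm (Fin 4) // σ = 1 ∨ σ = c₀ ∨ σ = Equiv.swap 0 1 ∨ σ = Equiv.swap 2 3} :=
    Nat.card_eq_fintype_card
      (α := {σ : Equiv.Perm (Fin 4) // σ = 1 ∨ σ = c₀ ∨ σ = Equiv.swap 0 1 ∨ σ = Equiv.swap 2 3})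
  rw [h]; decide +kernel

theorem card_perm_four : Nat.card (Equiv.Perm (Fin 4)) = 24 := by
  rw [Nat.card_eq_fintype_card, Fintype.card_perm, Fintype.card_fin]; rfl

theorem index_T₀ : T₀.index = 3 := by
  have h := T₀.card_mul_index
  rw [card_T₀, card_perm_four] at h
  omega

theorem isPGroup_T₀ : IsPGroup 2 T₀ := IsPGroup.of_card (n := 3) (by rw [card_T₀]; rfl)

theorem V₁_le : V₁ ≤ T₀ := by
  have key : ∀ σ : Equiv.Perm (Fin 4), (σ = 1 ∨ σ = c₀ ∨ σ = d₀ ∨ σ = c₀ * d₀) → σ * c₀ = c₀ * σ := by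
    decide +kernel
  exact key

theorem V₂_le : V₂ ≤ T₀ := by
  have key : ∀ σ : Equiv.Perm (Fin 4), (σ = 1 ∨ σ = c₀ ∨ σ = Equiv.swap 0 1 ∨ σ = Equiv.swap 2 3) →
      σ * c₀ = c₀ * σ := by decide +kernel
  exact key

theorem elemAb_V₁ : IsElementaryAbelian 2 V₁ := by
  have key : ∀ a : Equiv.Perm (Fin 4), (a = 1 ∨ a = c₀ ∨ a = d₀ ∨ a = c₀ * d₀) →
      a ^ 2 = 1 ∧ ∀ b : Equiv.Perm (Fin 4), (b = 1 ∨ b = c₀ ∨ b = d₀ ∨ b = c₀ * d₀) → a * b = b * a := by
    decide +kernel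
  exact ⟨CfsgLib.PLocal.isMulCommutative_of_forall fun a ha => (key a ha).2, fun a ha => (key a ha).1⟩

theorem elemAb_V₂ : IsElementaryAbelian 2 V₂ := by
  have key : ∀ a : Equiv.Perm (Fin 4), (a = 1 ∨ a = c₀ ∨ a = Equiv.swap 0 1 ∨ a = Equiv.swap 2 3) →
      a ^ 2 = 1 ∧ ∀ b : Equiv.Perm (Fin 4),
        (b = 1 ∨ b = c₀ ∨ b = Equiv.swap 0 1 ∨ b = Equiv.swap 2 3) → a * b = b * a := by
    decide +kernel
  exact ⟨CfsgLib.PLocal.isMulCommutative_of_forall fun a ha => (key a ha).2, fun a ha => (key a ha).1⟩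

theorem card_le_four {B : Subgroup (Equiv.Perm (Fin 4))} (hB : B ≤ T₀) (h : IsElementaryAbelian 2 B) :
    Nat.card B ≤ 4 := by
  have hd : Nat.card B ∣ 2 ^ 3 := by
    have := card_dvd_of_le hB
    rwa [card_T₀] at this
  obtain ⟨k, hk, e⟩ := (Nat.dvd_prime_pow Nat.prime_two).1 hd
  by_contra hgt
  have hk3 : k = 3 := by
    rcases Nat.lt_or_ge k 3 with hlt | hge
    · exfalso
      refine hgt ?_
      rw [e]
      exact (Nat.pow_le_pow_right (by norm_num) (Nat.le_of_lt_succ hlt)).trans le_rfl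
    · omega
  have hBT : B = T₀ := Subgroup.eq_of_le_of_card_ge hB (by rw [card_T₀, e, hk3]; norm_num)
  subst hBT
  have key : ∀ a b : Equiv.Perm (Fin 4), a = Equiv.swap 0 1 → b = d₀ →
      a * c₀ = c₀ * a ∧ b * c₀ = c₀ * b ∧ a * b ≠ b * a := by decide +kernel
  obtain ⟨h1, h2, h3⟩ := key _ _ rfl rfl
  exact h3 (CfsgLib.PLocal.elemAb_commute h (show Equiv.swap 0 1 ∈ T₀ from h1) (show d₀ ∈ T₀ from h2))

theorem thompson_T₀ : CfsgLib.PLocal.thompson 2 T₀ = T₀ := by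
  refine le_antisymm (CfsgLib.PLocal.thompson_le _ _) fun σ hσ => ?_
  have key : ∀ σ : Equiv.Perm (Fin 4), σ * c₀ = c₀ * σ →
      ∃ a b : Equiv.Perm (Fin 4), (a = 1 ∨ a = c₀ ∨ a = d₀ ∨ a = c₀ * d₀) ∧
        (b = 1 ∨ b = c₀ ∨ b = Equiv.swap 0 1 ∨ b = Equiv.swap 2 3) ∧ a * b = σ := by decide +kernel
  obtain ⟨a, b, ha, hb, rfl⟩ := key σ hσ
  refine mul_mem ?_ ?_
  · exact CfsgLib.PLocal.IsMaxElemIn.le_thompson (A := V₁)
      ⟨V₁_le, elemAb_V₁, fun B hB hB' => (card_le_four hB hB').trans card_V₁.ge⟩ ha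
  · exact CfsgLib.PLocal.IsMaxElemIn.le_thompson (A := V₂)
      ⟨V₂_le, elemAb_V₂, fun B hB hB' => (card_le_four hB hB').trans card_V₂.ge⟩ hb

/-- A group isomorphic to the symmetric group of degree four has fusion not controlled by the two functors. -/
theorem not_fusCtrl {X : Type u} [Group X] [Finite X] (e : X ≃* Equiv.Perm (Fin 4)) :
    ¬ Fusion.FusCtrl 2 ({zFun, jFun} : Set (∀ (Q : Type u) [Group Q], Subgroup Q)) X := by
  haveI : Fact (Nat.Prime 2) := ⟨Nat.prime_two⟩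
  intro hctl
  set T := T₀.map e.symm.toMonoidHom with hTdef
  have hTmem : ∀ x, x ∈ T ↔ e x ∈ T₀ := fun x =>
    ⟨fun ⟨t, ht, h⟩ => by rw [← h]; simpa using ht, fun h => ⟨e x, h, by simp⟩⟩
  have hTi : ¬ 2 ∣ T.index := by
    rw [hTdef, show (T₀.map e.symm.toMonoidHom).index = T₀.index from Subgroup.index_map_equiv T₀ e.symm, index_T₀]; norm_num
  let S : Sylow 2 X := (isPGroup_T₀.map e.symm.toMonoidHom).toSylow hTi
  have hS : (S : Subgroup X) = T := rfl
  set c := e.symm c₀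
  set d := e.symm d₀
  have hcT : c ∈ T := (hTmem c).2 (by rw [e.apply_symm_apply]; exact (rfl : c₀ * c₀ = c₀ * c₀))
  have hZ : ∀ σ : Equiv.Perm (Fin 4), σ * c₀ = c₀ * σ →
      (∀ τ : Equiv.Perm (Fin 4), τ * c₀ = c₀ * τ → τ * σ = σ * τ) → σ = 1 ∨ σ = c₀ := by decide +kernel
  have hN : ∀ σ : Equiv.Perm (Fin 4),
      (∀ τ : Equiv.Perm (Fin 4), τ * c₀ = c₀ * τ → σ * τ * σ⁻¹ * c₀ = c₀ * (σ * τ * σ⁻¹)) →
      σ * c₀ = c₀ * σ := by decide +kernel
  have hstep : ∀ M ∈ Fusion.stepGroups ({zFun, jFun} : Set (∀ (Q : Type u) [Group Q], Subgroup Q))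
      (S : Subgroup X), M ≤ T := by
    rintro _ ⟨W, (rfl | rfl), rfl⟩ n hn
    · change n ∈ normalizer ((Cfsg.inducedFunctor (G := X) zFun (S : Subgroup X) : Subgroup X) : Set X) at hn
      rw [inducedFunctor_zFun, hS] at hn
      have hc : c ∈ T ⊓ centralizer (T : Set X) := ⟨hcT, mem_centralizer_iff.2 fun t ht => e.injective (by
        rw [map_mul, map_mul, e.apply_symm_apply]; exact (hTmem t).1 ht)⟩
      obtain ⟨h1, h2⟩ := (mem_normalizer_iff.1 hn c).1 hc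
      rcases hZ (e (n * c * n⁻¹)) ((hTmem _).1 h1) (fun τ hτ => by
        have h3 := mem_centralizer_iff.1 h2 (e.symm τ) ((hTmem _).2 (by rwa [e.apply_symm_apply]))
        have h4 := congrArg e h3
        simpa [map_mul] using h4) with h3 | h3
      · exfalso
        have h4 : c = 1 := by
          have h5 : n * c * n⁻¹ = 1 := e.injective (by rw [h3, map_one])
          have h6 : n * c = n := by rwa [mul_inv_eq_one] at h5
          exact mul_eq_left.1 h6
        have h5 := congrArg e h4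
        rw [e.apply_symm_apply, map_one] at h5
        exact absurd h5 (by decide +kernel)
      · refine (hTmem n).2 ?_
        rw [map_mul, map_mul, map_inv, e.apply_symm_apply, mul_inv_eq_iff_eq_mul] at h3
        exact h3
    · change n ∈ normalizer ((Cfsg.inducedFunctor (G := X) jFun (S : Subgroup X) : Subgroup X) : Set X) at hn
      rw [inducedFunctor_jFun, hS, hTdef, CfsgLib.PLocal.thompsonSubgroupOf_eq,
        CfsgLib.PLocal.thompson_map (f := e.symm.toMonoidHom) e.symm.injective, thompson_T₀] at hn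
      refine (hTmem n).2 (hN (e n) fun τ hτ => ?_)
      have h1 : n * e.symm τ * n⁻¹ ∈ T :=
        (mem_normalizer_iff.1 hn (e.symm τ)).1 ((hTmem _).2 (by rwa [e.apply_symm_apply]))
      have h2 := (hTmem _).1 h1
      rwa [map_mul, map_mul, map_inv, e.apply_symm_apply] at h2
  obtain ⟨σ, hσ⟩ : ∃ σ : Equiv.Perm (Fin 4), σ * c₀ * σ⁻¹ = d₀ := ⟨Equiv.swap 1 2, by decide +kernel⟩
  have hdT : d ∈ T := (hTmem d).2 (by rw [e.apply_symm_apply]; exact V₁_le (Or.inr (Or.inr (Or.inl rfl))))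
  have hD : zpowers c ≤ (S : Subgroup X) := zpowers_le.2 hcT
  have hhD : (zpowers c).map (MulAut.conj (e.symm σ)).toMonoidHom ≤ (S : Subgroup X) := by
    rw [MonoidHom.map_zpowers, zpowers_le]
    show e.symm σ * e.symm c₀ * (e.symm σ)⁻¹ ∈ T
    rw [← map_inv, ← map_mul, ← map_mul, hσ]
    exact hdT
  have hc := Fusion.Chain.mono_steps (Ms' := {T}) (fun M hM => ⟨T, rfl, hstep M hM⟩)
    (hctl S (zpowers c) (e.symm σ) (mem_top _) hD hhD)
  obtain ⟨x, hx, hxc⟩ := Fusion.Chain.exists_mem hc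
  have h1 := congrArg e (hxc c (mem_zpowers c))
  have h2 : e x * c₀ = c₀ * e x := (hTmem x).1 hx
  simp only [map_mul, map_inv, e.apply_symm_apply, c] at h1
  rw [h2, mul_inv_cancel_right, hσ] at h1
  exact absurd h1 (by decide +kernel)

end CfsgLib.Techniques.SFourControl
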