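import Cfsg.Agent.Lib.Techniques.SThreeHom

/-!
The measure `|Z| |ann Z|` for a group of homomorphisms `O ≤ Hom(M, F)` stable under a group acting on `M`.
-/

set_option autoImplicit false
set_option linter.unusedSectionVars false

namespace CfsgLib.Techniques.SThree

universe u v

variable {K : Type u} [Group K] {M F : Type v} [AddCommGroup M] [AddCommGroup F]

/-- The members of `O` that kill `Z`. -/
def annIn (O : AddSubgroup (M →+ F)) (Z : AddSubgroup M) : AddSubgroup (M →+ F) where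
  carrier := {h | h ∈ O ∧ ∀ z ∈ Z, h z = 0}
  add_mem' := fun {a b} ha hb => ⟨add_mem ha.1 hb.1, fun z hz => by
    rw [AddMonoidHom.add_apply, ha.2 z hz, hb.2 z hz, add_zero]⟩
  zero_mem' := ⟨zero_mem _, fun z _ => rfl⟩
  neg_mem' := fun {a} ha => ⟨neg_mem ha.1, fun z hz => by rw [AddMonoidHom.neg_apply, ha.2 z hz, neg_zero]⟩

theorem mem_annIn {O : AddSubgroup (M →+ F)} {Z : AddSubgroup M} {h : M →+ F} :
    h ∈ annIn O Z ↔ h ∈ O ∧ ∀ z ∈ Z, h z = 0 := Iff.rfl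

theorem annIn_le (O : AddSubgroup (M →+ F)) (Z : AddSubgroup M) : annIn O Z ≤ O := fun _ h => h.1

theorem annIn_anti (O : AddSubgroup (M →+ F)) {Z Z' : AddSubgroup M} (h : Z ≤ Z') :
    annIn O Z' ≤ annIn O Z := fun _ ha => ⟨ha.1, fun z hz => ha.2 z (h hz)⟩

theorem annIn_bot (O : AddSubgroup (M →+ F)) : annIn O ⊥ = O := by
  refine le_antisymm (annIn_le O ⊥) fun h hh => ⟨hh, fun z hz => ?_⟩
  rw [(AddSubgroup.mem_bot).1 hz, map_zero]

/-- A subgroup mapped into itself by every element. -/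
def Inv (σ : K →* AddMonoid.End M) (Z : AddSubgroup M) : Prop := ∀ k : K, ∀ z ∈ Z, σ k z ∈ Z

theorem inv_bot (σ : K →* AddMonoid.End M) : Inv σ (⊥ : AddSubgroup M) := fun k z hz => by
  rw [(AddSubgroup.mem_bot).1 hz, map_zero]; exact zero_mem _

theorem Inv.inf {σ : K →* AddMonoid.End M} {U W : AddSubgroup M} (hU : Inv σ U) (hW : Inv σ W) :
    Inv σ (U ⊓ W) := fun k z hz => ⟨hU k z hz.1, hW k z hz.2⟩

theorem Inv.sup {σ : K →* AddMonoid.End M} {U W : AddSubgroup M} (hU : Inv σ U) (hW : Inv σ W) :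
    Inv σ (U ⊔ W) := fun k z hz => by
  obtain ⟨u, hu, w, hw, rfl⟩ := AddSubgroup.mem_sup.1 hz
  rw [map_add]
  exact AddSubgroup.mem_sup.2 ⟨_, hU k u hu, _, hW k w hw, rfl⟩

theorem sigma_inv_cancel (σ : K →* AddMonoid.End M) (k : K) (z : M) : σ k⁻¹ (σ k z) = z := by
  show (σ k⁻¹ * σ k) z = z
  rw [← map_mul, inv_mul_cancel, map_one]; rfl

theorem sigma_cancel_inv (σ : K →* AddMonoid.End M) (k : K) (z : M) : σ k (σ k⁻¹ z) = z := by
  show (σ k * σ k⁻¹) z = z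
  rw [← map_mul, mul_inv_cancel, map_one]; rfl

variable [Finite M] [Finite F]

instance finite_addHom : Finite (M →+ F) := Finite.of_injective (fun f => (f : M → F)) DFunLike.coe_injective

/-- The measure. -/
noncomputable def mu (O : AddSubgroup (M →+ F)) (Z : AddSubgroup M) : ℕ :=
  Nat.card Z * Nat.card (annIn O Z)

theorem mu_bot (O : AddSubgroup (M →+ F)) : mu O (⊥ : AddSubgroup M) = Nat.card O := by
  rw [mu, annIn_bot, show Nat.card (⊥ : AddSubgroup M) = 1 from AddSubgroup.card_bot, one_mul]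

theorem mu_mul_mu_le (O : AddSubgroup (M →+ F)) (U W : AddSubgroup M) :
    mu O U * mu O W ≤ mu O (U ⊔ W) * mu O (U ⊓ W) := by
  have h1 := card_sup_mul_card_inf U W
  have h2 := card_sup_mul_card_inf (annIn O U) (annIn O W)
  have h3 : annIn O U ⊓ annIn O W ≤ annIn O (U ⊔ W) := fun h hh => ⟨hh.1.1, fun z hz => by
    obtain ⟨u, hu, w, hw, rfl⟩ := AddSubgroup.mem_sup.1 hz
    rw [map_add, hh.1.2 u hu, hh.2.2 w hw, add_zero]⟩
  have h4 : annIn O U ⊔ annIn O W ≤ annIn O (U ⊓ W) :=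
    sup_le (annIn_anti O inf_le_left) (annIn_anti O inf_le_right)
  have h5 := Nat.card_le_card_of_injective _ (AddSubgroup.inclusion_injective h3)
  have h6 := Nat.card_le_card_of_injective _ (AddSubgroup.inclusion_injective h4)
  unfold mu
  calc Nat.card U * Nat.card (annIn O U) * (Nat.card W * Nat.card (annIn O W))
      = (Nat.card U * Nat.card W) * (Nat.card (annIn O U) * Nat.card (annIn O W)) := by ring
    _ = (Nat.card (U ⊔ W : AddSubgroup M) * Nat.card (U ⊓ W : AddSubgroup M)) *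
        (Nat.card (annIn O U ⊔ annIn O W : AddSubgroup (M →+ F)) *
          Nat.card (annIn O U ⊓ annIn O W : AddSubgroup (M →+ F))) := by rw [h1, h2]
    _ ≤ (Nat.card (U ⊔ W : AddSubgroup M) * Nat.card (U ⊓ W : AddSubgroup M)) *
        (Nat.card (annIn O (U ⊓ W)) * Nat.card (annIn O (U ⊔ W))) :=
          Nat.mul_le_mul_left _ (Nat.mul_le_mul h6 h5)
    _ = _ := by ring

theorem mu_le_map {σ : K →* AddMonoid.End M} {O : AddSubgroup (M →+ F)}
    (hO : ∀ k : K, ∀ h ∈ O, AddMonoidHom.comp h (σ k : M →+ M) ∈ O) (k : K) (Z : AddSubgroup M) :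
    mu O Z ≤ mu O (Z.map (σ k : M →+ M)) := by
  have hinj : Function.Injective (σ k : M →+ M) := fun x y hxy => by
    have := congrArg (σ k⁻¹) hxy
    rwa [sigma_inv_cancel, sigma_inv_cancel] at this
  refine Nat.mul_le_mul
    (Nat.card_congr (Z.equivMapOfInjective _ hinj).toEquiv).le ?_
  let f : annIn O Z → annIn O (Z.map (σ k : M →+ M)) := fun h =>
    ⟨AddMonoidHom.comp h.1 (σ k⁻¹ : M →+ M), hO _ _ h.2.1, by
      rintro _ ⟨z, hz, rfl⟩
      show h.1 (σ k⁻¹ (σ k z)) = 0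
      rw [sigma_inv_cancel]; exact h.2.2 z hz⟩
  refine Nat.card_le_card_of_injective f fun a b hab => Subtype.ext (AddMonoidHom.ext fun z => ?_)
  have := DFunLike.congr_fun (congrArg Subtype.val hab) (σ k z)
  have e : ∀ c : annIn O Z, AddMonoidHom.comp c.1 (σ k⁻¹ : M →+ M) (σ k z) = c.1 z := fun c =>
    congrArg c.1 (sigma_inv_cancel σ k z)
  exact ((e a).symm.trans this).trans (e b)

/-- A maximizer of the measure may be taken invariant. -/
theorem exists_inv_mu_ge {σ : K →* AddMonoid.End M} {O : AddSubgroup (M →+ F)}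
    (hO : ∀ k : K, ∀ h ∈ O, AddMonoidHom.comp h (σ k : M →+ M) ∈ O)
    {Z₁ T U : AddSubgroup M} (hZ₁ : Inv σ Z₁) (hT : Inv σ T) (h1 : Z₁ < U) (h2 : U ≤ T)
    (hU : mu O Z₁ ≤ mu O U) :
    ∃ U', Inv σ U' ∧ Z₁ < U' ∧ U' ≤ T ∧ mu O Z₁ ≤ mu O U' := by
  classical
  obtain ⟨X, hX, hXmax⟩ := Set.exists_max_image {X : AddSubgroup M | Z₁ ≤ X ∧ X ≤ T} (mu O)
    (Set.toFinite _) ⟨U, h1.le, h2⟩
  obtain ⟨Y, ⟨hY, hYmu⟩, hYmax⟩ := Set.exists_max_image
    {Y : AddSubgroup M | (Z₁ ≤ Y ∧ Y ≤ T) ∧ mu O Y = mu O X} (fun Y : AddSubgroup M => Nat.card Y)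
    (Set.toFinite _) ⟨X, hX, rfl⟩
  have hne : Z₁ < Y := by
    refine lt_of_le_of_ne hY.1 fun e => ?_
    have hUX : mu O U = mu O X :=
      le_antisymm (hXmax U ⟨h1.le, h2⟩) (by rw [← hYmu, ← e]; exact hU)
    have := hYmax U ⟨⟨h1.le, h2⟩, hUX⟩
    have hlt : Nat.card Z₁ < Nat.card U := Set.Finite.card_lt_card (Set.toFinite _) h1
    rw [← e] at this
    exact absurd this (not_le.2 hlt)
  refine ⟨Y, fun k z hz => ?_, hne, hY.2, hYmu ▸ hXmax Z₁ ⟨le_rfl, hY.1.trans hY.2⟩⟩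
  set Y' := Y.map (σ k : M →+ M)
  have hY' : Z₁ ≤ Y' ∧ Y' ≤ T := by
    refine ⟨fun y hy => ⟨σ k⁻¹ y, hY.1 (hZ₁ k⁻¹ y hy), sigma_cancel_inv σ k y⟩, ?_⟩
    rintro _ ⟨y, hy, rfl⟩
    exact hT k y (hY.2 hy)
  have e2 : mu O Y' = mu O X :=
    le_antisymm (hXmax Y' hY') (hYmu ▸ mu_le_map hO k Y)
  have hmul := mu_mul_mu_le O Y Y'
  have hs : Z₁ ≤ Y ⊔ Y' ∧ Y ⊔ Y' ≤ T := ⟨hY.1.trans le_sup_left, sup_le hY.2 hY'.2⟩
  have hi : Z₁ ≤ Y ⊓ Y' ∧ Y ⊓ Y' ≤ T := ⟨le_inf hY.1 hY'.1, inf_le_left.trans hY.2⟩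
  have hpos : 0 < mu O X := Nat.mul_pos Nat.card_pos Nat.card_pos
  have e3 : mu O (Y ⊔ Y') = mu O X := by
    refine le_antisymm (hXmax _ hs) (Nat.le_of_mul_le_mul_right ?_ hpos)
    calc mu O X * mu O X = mu O Y * mu O Y' := by rw [hYmu, e2]
      _ ≤ mu O (Y ⊔ Y') * mu O (Y ⊓ Y') := hmul
      _ ≤ mu O (Y ⊔ Y') * mu O X := Nat.mul_le_mul_left _ (hXmax _ hi)
  have h3 := hYmax _ ⟨hs, e3⟩
  have : Y ⊔ Y' = Y := by
    refine SetLike.ext' (Set.eq_of_subset_of_ncard_le (SetLike.coe_subset_coe.2 le_sup_left) ?_).symm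
    rw [← Nat.card_coe_set_eq, ← Nat.card_coe_set_eq]; exact h3
  rw [← this]
  exact AddSubgroup.mem_sup_right ⟨z, hz, rfl⟩

end CfsgLib.Techniques.SThree
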