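import Cfsg.Agent.Lib.Techniques.SThreeReduce
import Cfsg.Agent.Lib.Techniques.SThreeMu
import Mathlib.GroupTheory.GroupAction.Quotient

/-!
Two generating conjugates of a quadratic subgroup: the invariant subgroups between the common fixed
vectors and the sum of the two fixed spaces are balanced.
-/

set_option autoImplicit false
set_option linter.unusedSectionVars false

namespace CfsgLib.Techniques.SThree

open Subgroup CfsgLib.Techniques

universe u v

variable {K : Type u} [Group K] [Finite K] {V : Type v} [AddCommGroup V] [Finite V]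
  {ρ : K →* AddMonoid.End V}

/-- The elements mapping `N` into itself. -/
def setStab (ρ : K →* AddMonoid.End V) (N : AddSubgroup V) : Subgroup K where
  carrier := {x | ∀ v ∈ N, ρ x v ∈ N}
  mul_mem' := fun {x y} hx hy v hv => by rw [act_mul]; exact hx _ (hy v hv)
  one_mem' := fun v hv => by rw [act_one]; exact hv
  inv_mem' := fun {x} hx v hv => by
    have hinj : Function.Injective (fun u : N => (⟨ρ x u, hx u u.2⟩ : N)) := fun u w huw => by
      have := congrArg (ρ x⁻¹) (congrArg Subtype.val huw)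
      simp only [act_inv_cancel] at this
      exact Subtype.ext this
    obtain ⟨u, hu⟩ := Finite.surjective_of_injective hinj ⟨v, hv⟩
    have h1 : ρ x u = v := congrArg Subtype.val hu
    rw [← h1, act_inv_cancel]; exact u.2

theorem mem_setStab {N : AddSubgroup V} {x : K} : x ∈ setStab ρ N ↔ ∀ v ∈ N, ρ x v ∈ N := Iff.rfl

/-- The elements fixing `v` modulo an invariant `N`. -/
def stabMod (ρ : K →* AddMonoid.End V) (N : AddSubgroup V) (hN : ∀ x : K, ∀ v ∈ N, ρ x v ∈ N) (v : V) :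
    Subgroup K where
  carrier := {x | ρ x v - v ∈ N}
  mul_mem' := fun {x y} hx hy => by
    show ρ (x * y) v - v ∈ N
    have e : ρ (x * y) v - v = ρ x (ρ y v - v) + (ρ x v - v) := by rw [map_sub, act_mul]; abel
    rw [e]; exact add_mem (hN x _ hy) hx
  one_mem' := by show ρ 1 v - v ∈ N; rw [act_one, sub_self]; exact zero_mem _
  inv_mem' := fun {x} hx => by
    show ρ x⁻¹ v - v ∈ N
    have e : ρ x⁻¹ v - v = -(ρ x⁻¹ (ρ x v - v)) := by rw [map_sub, act_inv_cancel]; abel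
    rw [e]; exact neg_mem (hN _ _ hx)

theorem mem_stabMod {N : AddSubgroup V} {hN : ∀ x : K, ∀ v ∈ N, ρ x v ∈ N} {v : V} {x : K} :
    x ∈ stabMod ρ N hN v ↔ ρ x v - v ∈ N := Iff.rfl

variable {A : Subgroup K} {x : K}

/-- Quadratic action of a conjugate. -/
theorem Quad.conj (hq : Quad ρ A) (g : K) : Quad ρ (A.map (MulAut.conj g).toMonoidHom) := by
  rintro _ ⟨a, ha, rfl⟩ v
  have e : ρ ((MulAut.conj g).toMonoidHom a) v - v = ρ g (ρ a (ρ g⁻¹ v) - ρ g⁻¹ v) := by
    show ρ (g * a * g⁻¹) v - v = _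
    rw [map_sub, act_cancel_inv, act_mul, act_mul]
  rw [e, act_mem_fixedPts_conj]
  exact hq a ha _

theorem fixed_inter_le (hgen : A ⊔ A.map (MulAut.conj x).toMonoidHom = ⊤) {v : V}
    (hv : v ∈ fixedPts ρ A) (hv' : v ∈ fixedPts ρ (A.map (MulAut.conj x).toMonoidHom)) :
    v ∈ fixedPts ρ (⊤ : Subgroup K) := by
  intro k _
  have : A ⊔ A.map (MulAut.conj x).toMonoidHom ≤ stab ρ v := sup_le hv hv'
  rw [hgen] at this
  exact this (mem_top k)

theorem fixedPts_top_le (ρ : K →* AddMonoid.End V) (A : Subgroup K) :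
    fixedPts ρ (⊤ : Subgroup K) ≤ fixedPts ρ A := fun _ hv a _ => hv a (mem_top a)

/-- The sum of the two fixed spaces is invariant. -/
theorem sum_fixed_inv (hq : Quad ρ A) (hgen : A ⊔ A.map (MulAut.conj x).toMonoidHom = ⊤) (k : K) :
    ∀ v ∈ fixedPts ρ A ⊔ fixedPts ρ (A.map (MulAut.conj x).toMonoidHom),
      ρ k v ∈ fixedPts ρ A ⊔ fixedPts ρ (A.map (MulAut.conj x).toMonoidHom) := by
  have h1 : A ⊔ A.map (MulAut.conj x).toMonoidHom ≤
      setStab ρ (fixedPts ρ A ⊔ fixedPts ρ (A.map (MulAut.conj x).toMonoidHom)) := by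
    refine sup_le (fun a ha v hv => ?_) (fun a ha v hv => ?_)
    · rw [show ρ a v = (ρ a v - v) + v by abel]
      exact add_mem (AddSubgroup.mem_sup_left (hq a ha v)) hv
    · rw [show ρ a v = (ρ a v - v) + v by abel]
      exact add_mem (AddSubgroup.mem_sup_right (hq.conj x a ha v)) hv
  rw [hgen] at h1
  exact h1 (mem_top k)

/-- Invariant subgroups between the common fixed vectors and the sum are balanced. -/
theorem balanced (hq : Quad ρ A) (hgen : A ⊔ A.map (MulAut.conj x).toMonoidHom = ⊤)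
    (hV2 : ∀ v : V, v + v = 0) {P : AddSubgroup V} (hP : ∀ k : K, ∀ v ∈ P, ρ k v ∈ P)
    (hFP : fixedPts ρ (⊤ : Subgroup K) ≤ P)
    (hPE : P ≤ fixedPts ρ A ⊔ fixedPts ρ (A.map (MulAut.conj x).toMonoidHom)) :
    (P ⊓ fixedPts ρ A) ⊔ (P ⊓ fixedPts ρ (A.map (MulAut.conj x).toMonoidHom)) = P := by
  set E := fixedPts ρ A
  set E' := fixedPts ρ (A.map (MulAut.conj x).toMonoidHom)
  refine le_antisymm (sup_le inf_le_left inf_le_left) fun v hv => ?_
  set P' := (P ⊓ E) ⊔ (P ⊓ E') with hP'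
  have hP'i : ∀ k : K, ∀ w ∈ P', ρ k w ∈ P' := by
    have h1 : A ⊔ A.map (MulAut.conj x).toMonoidHom ≤ setStab ρ P' := by
      refine sup_le (fun a ha w hw => ?_) (fun a ha w hw => ?_)
      all_goals
        obtain ⟨z, hz, z', hz', rfl⟩ := AddSubgroup.mem_sup.1 hw
      · have hzz : z + z' ∈ P := P.add_mem hz.1 hz'.1
        rw [show ρ a (z + z') = (ρ a (z + z') - (z + z')) + (z + z') by abel]
        exact add_mem (AddSubgroup.mem_sup_left ⟨P.sub_mem (hP a _ hzz) hzz, hq a ha _⟩) hw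
      · have hzz : z + z' ∈ P := P.add_mem hz.1 hz'.1
        rw [show ρ a (z + z') = (ρ a (z + z') - (z + z')) + (z + z') by abel]
        exact add_mem (AddSubgroup.mem_sup_right ⟨P.sub_mem (hP a _ hzz) hzz, hq.conj x a ha _⟩) hw
    rw [hgen] at h1
    exact fun k => h1 (mem_top k)
  obtain ⟨e, he, e', he', rfl⟩ := AddSubgroup.mem_sup.1 (hPE hv)
  have h2 : A ⊔ A.map (MulAut.conj x).toMonoidHom ≤ stabMod ρ P' hP'i e := by
    refine sup_le (fun a ha => ?_) (fun a ha => ?_)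
    · show ρ a e - e ∈ P'
      rw [he a ha, sub_self]; exact zero_mem _
    · show ρ a e - e ∈ P'
      have e1 : ρ a e - e = ρ a (e + e') - (e + e') := by rw [map_add, he' a ha]; abel
      rw [e1]
      exact AddSubgroup.mem_sup_right ⟨P.sub_mem (hP a _ hv) hv, hq.conj x a ha _⟩
  rw [hgen] at h2
  obtain ⟨z, hz, z', hz', hzz⟩ := AddSubgroup.mem_sup.1 (show ρ x e - e ∈ P' from h2 (mem_top x))
  have hxe : ρ x e ∈ E' := (act_mem_fixedPts_conj ρ A x).2 he
  have h3 : e + z ∈ fixedPts ρ (⊤ : Subgroup K) := by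
    refine fixed_inter_le hgen (add_mem he hz.2) ?_
    have e2 : e + z = ρ x e - z' := by
      rw [show ρ x e = (ρ x e - e) + e by abel, ← hzz]; abel
    rw [e2]; exact E'.sub_mem hxe hz'.2
  have heP : e ∈ P := by
    have := P.sub_mem (hFP h3) hz.1
    rwa [add_sub_cancel_right] at this
  refine add_mem (AddSubgroup.mem_sup_left ⟨heP, he⟩) (AddSubgroup.mem_sup_right ⟨?_, he'⟩)
  have := sub_mem hv heP
  rwa [add_sub_cancel_left] at this

/-- The order of a balanced subgroup. -/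
theorem card_balanced (hq : Quad ρ A) (hgen : A ⊔ A.map (MulAut.conj x).toMonoidHom = ⊤)
    (hV2 : ∀ v : V, v + v = 0) {P : AddSubgroup V} (hP : ∀ k : K, ∀ v ∈ P, ρ k v ∈ P)
    (hFP : fixedPts ρ (⊤ : Subgroup K) ≤ P)
    (hPE : P ≤ fixedPts ρ A ⊔ fixedPts ρ (A.map (MulAut.conj x).toMonoidHom)) :
    Nat.card P * Nat.card (fixedPts ρ (⊤ : Subgroup K)) =
      Nat.card (P ⊓ fixedPts ρ A : AddSubgroup V) * Nat.card (P ⊓ fixedPts ρ A : AddSubgroup V) := by
  set E := fixedPts ρ A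
  set E' := fixedPts ρ (A.map (MulAut.conj x).toMonoidHom)
  have hinf : (P ⊓ E) ⊓ (P ⊓ E') = fixedPts ρ (⊤ : Subgroup K) := by
    refine le_antisymm (fun v hv => fixed_inter_le hgen hv.1.2 hv.2.2) fun v hv => ?_
    exact ⟨⟨hFP hv, fixedPts_top_le ρ A hv⟩, hFP hv, fixedPts_top_le ρ _ hv⟩
  have h := card_sup_mul_card_inf (P ⊓ E) (P ⊓ E')
  rw [balanced hq hgen hV2 hP hFP hPE, hinf] at h
  rw [h]
  congr 1
  have p1 : ∀ v : (P ⊓ E : AddSubgroup V), ρ x v ∈ P ⊓ E' := fun v =>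
    ⟨hP x v v.2.1, (act_mem_fixedPts_conj ρ A x).2 v.2.2⟩
  have p2 : ∀ w : (P ⊓ E' : AddSubgroup V), ρ x⁻¹ w ∈ P ⊓ E := fun w =>
    ⟨hP _ w w.2.1, (act_mem_fixedPts_conj ρ A x).1 (by rw [act_cancel_inv]; exact w.2.2)⟩
  refine (Nat.card_congr (α := (P ⊓ E : AddSubgroup V)) (β := (P ⊓ E' : AddSubgroup V))
    ⟨fun v => ⟨ρ x v, p1 v⟩, fun w => ⟨ρ x⁻¹ w, p2 w⟩, fun v => ?_, fun w => ?_⟩).symm
  · exact Subtype.ext (act_inv_cancel ρ x v)
  · exact Subtype.ext (act_cancel_inv ρ x w)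

/-- A normal 2-subgroup fixes a nonzero vector. -/
theorem exists_fixed_ne_zero (hV2 : ∀ v : V, v + v = 0) {R : Subgroup K} (hR : IsPGroup 2 R)
    {v₀ : V} (hv₀ : v₀ ≠ 0) : ∃ v : V, v ≠ 0 ∧ ∀ r ∈ R, ρ r v = v := by
  haveI : Fact (Nat.Prime 2) := ⟨Nat.prime_two⟩
  letI : MulAction R V :=
    { smul := fun r v => ρ r v
      one_smul := fun v => act_one ρ v
      mul_smul := fun r s v => act_mul ρ r s v }
  have h0 : (0 : V) ∈ MulAction.fixedPoints R V := fun r => map_zero (ρ r)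
  have hd : 2 ∣ Nat.card V := by
    have h := (AddSubgroup.zmultiples v₀).card_addSubgroup_dvd_card
    rw [Nat.card_zmultiples] at h
    have h2 : addOrderOf v₀ = 2 := addOrderOf_eq_prime (by rw [two_nsmul]; exact hV2 v₀) hv₀
    rwa [h2] at h
  obtain ⟨v, hv, hne⟩ := hR.exists_fixed_point_of_prime_dvd_card_of_fixed_point V hd h0
  exact ⟨v, fun e => hne e.symm, fun r hr => hv ⟨r, hr⟩⟩

/-- A 2-group image under an exact generation hypothesis. -/
theorem fixed_of_twoImage {L₀ R : Subgroup K} (h : UniqueOver A L₀ R) {W : Type v} [AddCommGroup W]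
    (τ : K →* AddMonoid.End W) (hτR : ∀ r ∈ R, τ r = 1) (h2 : TwoImage τ) :
    A ⊔ τ.ker = ⊤ := by
  by_contra hne
  have hR : R ≤ τ.ker := fun r hr => MonoidHom.mem_ker.2 (hτR r hr)
  have hle : A ⊔ τ.ker ≤ L₀ := h.uniq _ (sup_le le_sup_left (hR.trans le_sup_right)) hne
  haveI : Fact (Nat.Prime 2) := ⟨Nat.prime_two⟩
  have hp : IsPGroup 2 (K ⧸ τ.ker) := fun q => QuotientGroup.induction_on q fun y => by
    obtain ⟨k, hk⟩ := h2 y
    exact ⟨k, (QuotientGroup.eq_one_iff _).2 (MonoidHom.mem_ker.2 hk)⟩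
  haveI := hp.isNilpotent
  set π := QuotientGroup.mk' τ.ker
  have hlt : L₀.map π < ⊤ := lt_top_iff_ne_top.2 fun e => h.ne_top (by
    have e2 := congrArg (Subgroup.comap π) e
    rwa [Subgroup.comap_map_eq, QuotientGroup.ker_mk', Subgroup.comap_top,
      sup_eq_left.2 (le_sup_right.trans hle)] at e2)
  obtain ⟨q, hq, hqn⟩ := SetLike.exists_of_lt (Group.normalizerCondition_of_isNilpotent _ hlt)
  obtain ⟨y, rfl⟩ := QuotientGroup.mk'_surjective τ.ker q
  have hy : y ∈ normalizer (L₀ : Set K) := by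
    have h1 : y ∈ (normalizer ((L₀.map π : Subgroup (K ⧸ τ.ker)) : Set (K ⧸ τ.ker))).comap π := hq
    rwa [comap_normalizer_eq_of_surjective _ (QuotientGroup.mk'_surjective τ.ker),
      Subgroup.comap_map_eq, QuotientGroup.ker_mk', sup_eq_left.2 (le_sup_right.trans hle)] at h1
  refine hqn (mem_map_of_mem π (h.mem_of_conj_le ?_))
  exact (Subgroup.map_mono (le_sup_left.trans h.le)).trans (map_conj_eq_self_iff.2 hy).le

end CfsgLib.Techniques.SThree
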