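import Cfsg.Agent.Lib.Techniques.SThreeSemisimple

/-!
The counting lemma: if `|Z| |ann Z| ≤ c |O|` for all invariant `Z`, and every invariant section has order
above `c`, then `|Z| |ann Z| ≤ |O|` for every subgroup `Z`.

A minimal invariant counterexample is studied through random maps `Z^d → Hom(O, ZMod 2)^d`.
-/

set_option autoImplicit false
set_option linter.unusedSectionVars false

namespace CfsgLib.Techniques.SThree

universe u v

variable {K : Type u} [Group K] {M F : Type v} [AddCommGroup M] [AddCommGroup F] [Finite M] [Finite F]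

theorem exists_card_eq_two_pow {G : Type v} [AddCommGroup G] [Finite G] (h2 : ∀ g : G, g + g = 0) :
    ∃ k, Nat.card G = 2 ^ k := by
  haveI : Fact (Nat.Prime 2) := ⟨Nat.prime_two⟩
  letI : Module (ZMod 2) G := AddCommGroup.zmodModule fun g => by rw [two_nsmul]; exact h2 g
  exact ⟨_, (Module.natCard_eq_pow_finrank (K := ZMod 2) (V := G)).trans (by rw [Nat.card_zmod])⟩

theorem two_mul_le_of_lt {a b i j : ℕ} (ha : a = 2 ^ i) (hb : b = 2 ^ j) (h : a < b) : 2 * a ≤ b := by
  subst ha hb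
  rw [← pow_succ']
  exact Nat.pow_le_pow_right (by norm_num) ((Nat.pow_lt_pow_iff_right (by norm_num)).1 h)

/-- Evaluation of the members of `O` at a tuple. -/
def evTuple (O : AddSubgroup (M →+ F)) {d : ℕ} (v : Fin d → M) : O →+ (Fin d → F) where
  toFun h i := h.1 (v i)
  map_zero' := rfl
  map_add' _ _ := rfl

theorem card_ker_evTuple (O : AddSubgroup (M →+ F)) (Z₁ : AddSubgroup M) {d : ℕ} (v : Fin d → M) :
    Nat.card (evTuple (annIn O Z₁) v).ker =
      Nat.card (annIn O (Z₁ ⊔ AddSubgroup.closure (Set.range v))) := by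
  refine Nat.card_congr ⟨fun h => ⟨h.1.1, h.1.2.1, ?_⟩,
    fun h => ⟨⟨h.1, h.2.1, fun z hz => h.2.2 z (AddSubgroup.mem_sup_left hz)⟩, ?_⟩, fun _ => rfl,
    fun _ => rfl⟩
  · have : Z₁ ⊔ AddSubgroup.closure (Set.range v) ≤ h.1.1.ker := by
      refine sup_le (fun z hz => h.1.2.2 z hz) ((AddSubgroup.closure_le _).2 ?_)
      rintro _ ⟨i, rfl⟩
      exact congrFun (show evTuple (annIn O Z₁) v h.1 = 0 from h.2) i
    exact fun z hz => this hz
  · exact funext fun i => h.2.2 _ (AddSubgroup.mem_sup_right (AddSubgroup.subset_closure ⟨i, rfl⟩))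

/-- The tuples of functionals whose `Ψ i` kill every evaluation at `v`. -/
def kills (O : AddSubgroup (M →+ F)) {d : ℕ} (v : Fin d → M) :
    Set (Fin d → ((Fin d → F) →+ ZMod 2)) :=
  {Ψ | ∀ i, ∀ h : O, Ψ i (evTuple O v h) = 0}

theorem card_kills (h2F : ∀ f : F, f + f = 0) (O : AddSubgroup (M →+ F)) (Z₁ : AddSubgroup M) {d : ℕ}
    (v : Fin d → M) :
    Nat.card (kills (annIn O Z₁) v) * Nat.card (annIn O Z₁) ^ d =
      Nat.card (Fin d → ((Fin d → F) →+ ZMod 2)) *
        Nat.card (annIn O (Z₁ ⊔ AddSubgroup.closure (Set.range v))) ^ d := by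
  set φ := evTuple (annIn O Z₁) v with hφ
  have h2 : ∀ g : Fin d → F, g + g = 0 := fun g => funext fun i => h2F (g i)
  have h1 : Nat.card (kills (annIn O Z₁) v) = Nat.card (killing φ.range) ^ d := by
    have p1 : ∀ Ψ : kills (annIn O Z₁) v, ∀ i, Ψ.1 i ∈ killing φ.range := by
      rintro Ψ i _ ⟨h, rfl⟩; exact Ψ.2 i h
    have p2 : ∀ g : Fin d → killing φ.range, (fun i => (g i).1) ∈ kills (annIn O Z₁) v :=
      fun g i h => (g i).2 _ ⟨h, rfl⟩
    exact (Nat.card_congr (β := Fin d → killing φ.range) ⟨fun Ψ i => ⟨Ψ.1 i, p1 Ψ i⟩,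
      fun g => ⟨fun i => (g i).1, p2 g⟩, fun _ => rfl, fun _ => rfl⟩).trans
      (by rw [Nat.card_fun, Nat.card_fin])
  have h3 := φ.ker.card_eq_card_quotient_mul_card_addSubgroup
  rw [Nat.card_congr (QuotientAddGroup.quotientKerEquivRange φ).toEquiv, card_ker_evTuple] at h3
  have h4 : Nat.card (Fin d → ((Fin d → F) →+ ZMod 2)) = Nat.card (Fin d → F) ^ d := by
    rw [Nat.card_fun, Nat.card_fin, card_hom_zmod_two h2]
  rw [h1, h4, h3, ← card_killing h2 φ.range, mul_pow, mul_pow]
  ring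

/-- A tuple of functionals not killing any tuple spanning a strict subgroup. -/
theorem exists_good (h2F : ∀ f : F, f + f = 0) (O : AddSubgroup (M →+ F)) (Z₁ : AddSubgroup M)
    (P : AddSubgroup M → Prop) (hP : ∀ U, P U → 2 * mu O U ≤ Nat.card Z₁ * Nat.card (annIn O Z₁)) :
    ∃ (d : ℕ) (Ψ : Fin d → ((Fin d → F) →+ ZMod 2)), 0 < d ∧ ∀ v : Fin d → M,
      Ψ ∈ kills (annIn O Z₁) v → ¬ P (Z₁ ⊔ AddSubgroup.closure (Set.range v)) := by
  classical
  haveI : Fintype (AddSubgroup M) := Fintype.ofFinite _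
  set d := Fintype.card (AddSubgroup M) with hd
  have hdpos : 0 < d := Fintype.card_pos
  haveI : Finite ((Fin d → F) →+ ZMod 2) :=
    Finite.of_injective (fun f => (f : (Fin d → F) → ZMod 2)) DFunLike.coe_injective
  haveI : Fintype (Fin d → ((Fin d → F) →+ ZMod 2)) := Fintype.ofFinite _
  haveI : Fintype M := Fintype.ofFinite _
  by_contra hbad
  push Not at hbad
  have hall : ∀ Ψ : Fin d → ((Fin d → F) →+ ZMod 2), ∃ v : Fin d → M,
      Ψ ∈ kills (annIn O Z₁) v ∧ P (Z₁ ⊔ AddSubgroup.closure (Set.range v)) := fun Ψ => hbad d Ψ hdpos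
  choose vb hkill hPv using hall
  let span := fun v : Fin d → M => Z₁ ⊔ AddSubgroup.closure (Set.range v)
  let T := Σ v : {v : Fin d → M // P (span v)}, kills (annIn O Z₁) v.1
  -- every `Ψ` occurs with a whole coset of `Z₁^d`
  have hspan : ∀ (v : Fin d → M) (z : Fin d → Z₁), span (fun i => v i + z i) = span v := by
    intro v z
    refine le_antisymm (sup_le le_sup_left ((AddSubgroup.closure_le _).2 ?_))
      (sup_le le_sup_left ((AddSubgroup.closure_le _).2 ?_))
    · rintro _ ⟨i, rfl⟩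
      exact add_mem (AddSubgroup.mem_sup_right (AddSubgroup.subset_closure ⟨i, rfl⟩))
        (AddSubgroup.mem_sup_left (z i).2)
    · rintro _ ⟨i, rfl⟩
      have h1 : v i + (z i : M) ∈ span (fun i => v i + z i) :=
        AddSubgroup.mem_sup_right (AddSubgroup.subset_closure ⟨i, rfl⟩)
      have h2 := sub_mem h1 (AddSubgroup.mem_sup_left (z i).2)
      rwa [add_sub_cancel_right] at h2
  let f : (Fin d → ((Fin d → F) →+ ZMod 2)) × (Fin d → Z₁) → T := fun q =>
    ⟨⟨fun i => vb q.1 i + q.2 i, by rw [hspan]; exact hPv q.1⟩, q.1, fun i h => by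
      have e : evTuple (annIn O Z₁) (fun i => vb q.1 i + q.2 i) h = evTuple (annIn O Z₁) (vb q.1) h :=
        funext fun j => by
          show h.1 (vb q.1 j + q.2 j) = h.1 (vb q.1 j)
          rw [map_add, h.2.2 _ (q.2 j).2, add_zero]
      rw [e]; exact hkill q.1 i h⟩
  have hf : Function.Injective f := by
    rintro ⟨Ψ, z⟩ ⟨Ψ', z'⟩ he
    have e1 : Ψ = Ψ' := congrArg (fun t : T => t.2.1) he
    subst e1
    have e2 : (fun i => vb Ψ i + (z i : M)) = fun i => vb Ψ i + z' i := congrArg (fun t : T => t.1.1) he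
    exact Prod.ext rfl (funext fun i => Subtype.ext (add_left_cancel (congrFun e2 i)))
  have h1 := Nat.card_le_card_of_injective f hf
  rw [Nat.card_prod, Nat.card_fun (α := Fin d) (β := Z₁), Nat.card_fin, Nat.card_sigma] at h1
  set NΨ := Nat.card (Fin d → ((Fin d → F) →+ ZMod 2)) with hNΨ
  have hNΨpos : 0 < NΨ := Nat.card_pos
  set A₀ := Nat.card (annIn O Z₁) with hA₀
  set B₀ := Nat.card Z₁ with hB₀
  -- sort the tuples by the subgroup they span
  have h2 : 2 ^ d * (NΨ * B₀ ^ d * A₀ ^ d) ≤ d * ((B₀ * A₀) ^ d * NΨ) := by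
    calc 2 ^ d * (NΨ * B₀ ^ d * A₀ ^ d)
        ≤ 2 ^ d * ((∑ v : {v : Fin d → M // P (span v)}, Nat.card (kills (annIn O Z₁) v.1)) * A₀ ^ d) := by
          refine Nat.mul_le_mul_left _ (Nat.mul_le_mul_right _ h1)
      _ = ∑ v : {v : Fin d → M // P (span v)}, 2 ^ d * (NΨ * Nat.card (annIn O (span v.1)) ^ d) := by
          rw [Finset.sum_mul, Finset.mul_sum]
          exact Finset.sum_congr rfl fun v _ => by rw [card_kills h2F]
      _ = ∑ U : AddSubgroup M, ∑ v ∈ Finset.univ.filter (fun v : {v : Fin d → M // P (span v)} => span v.1 = U),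
            2 ^ d * (NΨ * Nat.card (annIn O (span v.1)) ^ d) :=
          (Finset.sum_fiberwise _ _ _).symm
      _ ≤ ∑ _U : AddSubgroup M, (B₀ * A₀) ^ d * NΨ := by
          refine Finset.sum_le_sum fun U _ => ?_
          set S := Finset.univ.filter (fun v : {v : Fin d → M // P (span v)} => span v.1 = U) with hS
          rw [Finset.sum_congr rfl (g := fun _ => 2 ^ d * (NΨ * Nat.card (annIn O U) ^ d))
            (fun v hv => by rw [(Finset.mem_filter.1 hv).2]), Finset.sum_const, smul_eq_mul]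
          by_cases hne : S.Nonempty
          · obtain ⟨v₀, hv₀⟩ := hne
            have hPU : P U := (Finset.mem_filter.1 hv₀).2 ▸ v₀.2
            have hScard : S.card ≤ Nat.card U ^ d := by
              have hg : ∀ v : S, ∀ i, v.1.1 i ∈ U := fun v i => by
                rw [← (Finset.mem_filter.1 v.2).2]
                exact AddSubgroup.mem_sup_right (AddSubgroup.subset_closure ⟨i, rfl⟩)
              have := Nat.card_le_card_of_injective (fun (v : S) (i : Fin d) => (⟨v.1.1 i, hg v i⟩ : U))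
                (fun a b hab => Subtype.ext (Subtype.ext (funext fun i => congrArg Subtype.val (congrFun hab i))))
              rwa [Nat.card_fun, Nat.card_fin, Nat.card_eq_finsetCard] at this
            calc S.card * (2 ^ d * (NΨ * Nat.card (annIn O U) ^ d))
                ≤ Nat.card U ^ d * (2 ^ d * (NΨ * Nat.card (annIn O U) ^ d)) :=
                  Nat.mul_le_mul_right _ hScard
              _ = (2 * mu O U) ^ d * NΨ := by rw [mu, mul_pow, mul_pow]; ring
              _ ≤ (B₀ * A₀) ^ d * NΨ := Nat.mul_le_mul_right _ (Nat.pow_le_pow_left (hP U hPU) d)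
          · rw [Finset.not_nonempty_iff_eq_empty.1 hne, Finset.card_empty, zero_mul]
            exact Nat.zero_le _
      _ = d * ((B₀ * A₀) ^ d * NΨ) := by rw [Finset.sum_const, Finset.card_univ, smul_eq_mul]
  have h3 : 2 ^ d * (NΨ * B₀ ^ d * A₀ ^ d) = 2 ^ d * ((B₀ * A₀) ^ d * NΨ) := by rw [mul_pow]; ring
  rw [h3] at h2
  have h4 : 2 ^ d ≤ d := Nat.le_of_mul_le_mul_right h2
    (Nat.mul_pos (pow_pos (Nat.mul_pos Nat.card_pos Nat.card_pos) _) hNΨpos)
  exact absurd h4 (not_le.2 d.lt_two_pow_self)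

variable {σ : K →* AddMonoid.End M}

/-- The counting lemma for invariant subgroups. -/
theorem mu_le_of_inv (h2M : ∀ m : M, m + m = 0) (h2F : ∀ f : F, f + f = 0)
    (O : AddSubgroup (M →+ F)) (hO : ∀ k : K, ∀ h ∈ O, AddMonoidHom.comp h (σ k : M →+ M) ∈ O) (c : ℕ)
    (hH : ∀ Z : AddSubgroup M, Inv σ Z → mu O Z ≤ c * Nat.card O)
    (hQ : ∀ Z₁ Z₂ : AddSubgroup M, Inv σ Z₁ → Inv σ Z₂ → Z₁ < Z₂ → c * Nat.card Z₁ < Nat.card Z₂)
    (Z : AddSubgroup M) (hZ : Inv σ Z) : mu O Z ≤ Nat.card O := by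
  classical
  induction Z using WellFoundedLT.induction with
  | ind Z ih =>
    by_contra hgt
    rw [not_le] at hgt
    have hZ0 : ⊥ < Z := bot_lt_iff_ne_bot.2 fun e => by rw [e, mu_bot] at hgt; exact lt_irrefl _ hgt
    obtain ⟨Z₁, ⟨hZ₁, hZ₁Z, hZ₁mu⟩, hmax⟩ := Set.exists_max_image
      {W : AddSubgroup M | Inv σ W ∧ W < Z ∧ mu O W = Nat.card O} (fun W : AddSubgroup M => Nat.card W)
      (Set.toFinite _) ⟨⊥, inv_bot σ, hZ0, mu_bot O⟩
    -- proper subgroups over `Z₁` are strict
    have hstrict : ∀ U W, Inv σ W → U ≤ W → W < Z → Z₁ < U → mu O U < Nat.card O := by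
      intro U W hW hUW hWZ hU
      by_contra hnot
      rw [not_lt, ← hZ₁mu] at hnot
      obtain ⟨U', hU', h1, h2, h3⟩ := exists_inv_mu_ge hO hZ₁ hW hU hUW hnot
      rw [hZ₁mu] at h3
      have h4 : mu O U' = Nat.card O := le_antisymm (ih U' (h2.trans_lt hWZ) hU') h3
      exact absurd (hmax U' ⟨hU', h2.trans_lt hWZ, h4⟩)
        (not_le.2 (Set.Finite.card_lt_card (Set.toFinite _) (SetLike.coe_ssubset_coe.2 h1)))
    have hpow : ∀ U : AddSubgroup M, ∃ k, mu O U = 2 ^ k := by
      intro U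
      obtain ⟨i, hi⟩ := exists_card_eq_two_pow (G := U) fun u => Subtype.ext (h2M u)
      obtain ⟨j, hj⟩ := exists_card_eq_two_pow (G := annIn O U) fun h =>
        Subtype.ext (AddMonoidHom.ext fun m => h2F (h.1 m))
      exact ⟨i + j, by rw [mu, hi, hj, pow_add]⟩
    have hgood : ∀ U, (Z₁ < U ∧ ∃ W, Inv σ W ∧ W < Z ∧ U ≤ W) →
        2 * mu O U ≤ Nat.card Z₁ * Nat.card (annIn O Z₁) := by
      rintro U ⟨hU, W, hW, hWZ, hUW⟩
      obtain ⟨i, hi⟩ := hpow U
      obtain ⟨j, hj⟩ := hpow Z₁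
      refine two_mul_le_of_lt hi hj ?_
      show mu O U < mu O Z₁
      rw [hZ₁mu]; exact hstrict U W hW hUW hWZ hU
    obtain ⟨d, Ψ, hd, hΨ⟩ := exists_good h2F O Z₁ _ hgood
    set O' := annIn O Z₁ with hO'
    have hO'i : ∀ k : K, ∀ h ∈ O', AddMonoidHom.comp h (σ k : M →+ M) ∈ O' := fun k h hh =>
      ⟨hO k h hh.1, fun z hz => hh.2 _ (hZ₁ k z hz)⟩
    let Ker : AddSubgroup (Fin d → M) :=
      { carrier := {v | (∀ j, v j ∈ Z) ∧ Ψ ∈ kills O' v}
        add_mem' := fun {v w} hv hw => ⟨fun j => add_mem (hv.1 j) (hw.1 j), fun i h => by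
          have e : evTuple O' (v + w) h = evTuple O' v h + evTuple O' w h :=
            funext fun j => map_add h.1 (v j) (w j)
          rw [e, map_add, hv.2 i h, hw.2 i h, add_zero]⟩
        zero_mem' := ⟨fun _ => zero_mem _, fun i h => by
          have e : evTuple O' (0 : Fin d → M) h = 0 := funext fun j => map_zero h.1
          rw [e, map_zero]⟩
        neg_mem' := fun {v} hv => ⟨fun j => neg_mem (hv.1 j), fun i h => by
          have e : evTuple O' (-v) h = -evTuple O' v h := funext fun j => map_neg h.1 (v j)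
          rw [e, map_neg, hv.2 i h, neg_zero]⟩ }
    let Base : AddSubgroup (Fin d → M) := AddSubgroup.pi Set.univ fun _ => Z₁
    have hBase : ∀ v, v ∈ Base ↔ ∀ j, v j ∈ Z₁ := fun v =>
      ⟨fun h j => h j (Set.mem_univ j), fun h j _ => h j⟩
    have hBK : Base ≤ Ker := fun v hv => ⟨fun j => hZ₁Z.le ((hBase v).1 hv j), fun i h => by
      have e : evTuple O' v h = 0 := funext fun j => h.2.2 _ ((hBase v).1 hv j)
      rw [e, map_zero]⟩
    have hKi : ∀ k : K, ∀ v ∈ Ker, (fun j => σ k (v j)) ∈ Ker := fun k v hv =>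
      ⟨fun j => hZ k _ (hv.1 j), fun i h => hv.2 i ⟨_, hO'i k h.1 h.2⟩⟩
    by_cases hKer : Ker ≤ Base
    · -- the map is injective
      apply not_le.2 hgt
      let Z' : AddSubgroup (Fin d → M) := AddSubgroup.pi Set.univ fun _ => Z
      let Θ : Z' →+ (Fin d → (O' →+ ZMod 2)) :=
        { toFun := fun v i =>
            { toFun := fun h => Ψ i (evTuple O' v.1 h)
              map_zero' := by rw [map_zero, map_zero]
              map_add' := fun a b => by rw [map_add, map_add] }
          map_zero' := funext fun i => AddMonoidHom.ext fun h => by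
            show Ψ i (evTuple O' (0 : Fin d → M) h) = 0
            rw [show evTuple O' (0 : Fin d → M) h = 0 from funext fun j => map_zero h.1, map_zero]
          map_add' := fun v w => funext fun i => AddMonoidHom.ext fun h => by
            show Ψ i (evTuple O' (v.1 + w.1) h) = Ψ i (evTuple O' v.1 h) + Ψ i (evTuple O' w.1 h)
            rw [show evTuple O' (v.1 + w.1) h = evTuple O' v.1 h + evTuple O' w.1 h from
              funext fun j => map_add h.1 (v.1 j) (w.1 j), map_add] }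
      let A₁ : AddSubgroup O' := (annIn O Z).addSubgroupOf O'
      haveI : Finite (O' →+ ZMod 2) :=
        Finite.of_injective (fun f => (f : O' → ZMod 2)) DFunLike.coe_injective
      have hk : Nat.card Θ.ker ≤ Nat.card Z₁ ^ d := by
        have := Nat.card_le_card_of_injective (fun (v : Θ.ker) (j : Fin d) => (⟨v.1.1 j, (hBase _).1 (hKer
            ⟨fun j => v.1.2 j (Set.mem_univ j), fun i h => DFunLike.congr_fun
              (congrFun (show Θ v.1 = 0 from v.2) i) h⟩) j⟩ : Z₁))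
          (fun a b hab => Subtype.ext (Subtype.ext (funext fun j => congrArg Subtype.val (congrFun hab j))))
        rwa [Nat.card_fun, Nat.card_fin] at this
      have hr : Nat.card Θ.range ≤ Nat.card (killing A₁) ^ d := by
        have := Nat.card_le_card_of_injective (fun (f : Θ.range) (i : Fin d) => (⟨f.1 i, by
            obtain ⟨v, hv⟩ := f.2
            rintro h hh
            rw [← hv]
            show Ψ i (evTuple O' v.1 h) = 0
            rw [show evTuple O' v.1 h = 0 from funext fun j => hh.2 _ (v.2 j (Set.mem_univ j)), map_zero]⟩ :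
            killing A₁))
          (fun a b hab => Subtype.ext (funext fun i => congrArg Subtype.val (congrFun hab i)))
        rwa [Nat.card_fun, Nat.card_fin] at this
      have hc := Θ.ker.card_eq_card_quotient_mul_card_addSubgroup
      rw [Nat.card_congr (QuotientAddGroup.quotientKerEquivRange Θ).toEquiv] at hc
      have hZ' : Nat.card Z' = Nat.card Z ^ d := by
        exact (Nat.card_congr (β := Fin d → Z) ⟨fun v j => ⟨v.1 j, v.2 j (Set.mem_univ j)⟩,
          fun g => ⟨fun j => (g j).1, fun j _ => (g j).2⟩, fun _ => rfl, fun _ => rfl⟩).trans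
          (by rw [Nat.card_fun, Nat.card_fin])
      have h2O : ∀ g : O', g + g = 0 := fun g => Subtype.ext (AddMonoidHom.ext fun m => h2F (g.1 m))
      have hkill := card_killing h2O A₁
      have hA₁ : Nat.card A₁ = Nat.card (annIn O Z) :=
        Nat.card_congr (AddSubgroup.addSubgroupOfEquivOfLe (annIn_anti O hZ₁Z.le)).toEquiv
      rw [hA₁] at hkill
      rw [← hZ₁mu]
      refine (Nat.pow_le_pow_iff_left hd.ne').1 ?_
      calc mu O Z ^ d = Nat.card Z' * Nat.card (annIn O Z) ^ d := by rw [mu, mul_pow, hZ']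
        _ ≤ (Nat.card (killing A₁) ^ d * Nat.card Z₁ ^ d) * Nat.card (annIn O Z) ^ d := by
            rw [hc]; exact Nat.mul_le_mul_right _ (Nat.mul_le_mul hr hk)
        _ = (Nat.card Z₁ * (Nat.card (killing A₁) * Nat.card (annIn O Z))) ^ d := by
            rw [mul_pow, mul_pow]; ring
        _ = mu O Z₁ ^ d := by rw [hkill]; rfl
    -- a minimal invariant part of the kernel
    obtain ⟨Q, hQ'⟩ := Set.Finite.exists_minimal
      (s := {Q : AddSubgroup (Fin d → M) | Base ≤ Q ∧ ¬ Q ≤ Base ∧ Q ≤ Ker ∧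
        ∀ k : K, ∀ v ∈ Q, (fun j => σ k (v j)) ∈ Q})
      (Set.toFinite _) ⟨Ker, hBK, hKer, le_rfl, hKi⟩
    obtain ⟨hBQ, hQB, hQK, hQi⟩ := hQ'.prop
    -- an invariant subgroup is met in all or in none of a coordinate of `Q`
    have hdich : ∀ (W : AddSubgroup M), Inv σ W → Z₁ ≤ W → ∀ j,
        (∀ v ∈ Q, v j ∈ W) ∨ (∀ v ∈ Q, v j ∈ W → v ∈ Base) := by
      intro W hW hZW j
      let Q' : AddSubgroup (Fin d → M) := Q ⊓ W.comap (Pi.evalAddMonoidHom (fun _ => M) j)
      by_cases h : Q' ≤ Base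
      · exact Or.inr fun v hv hvW => h ⟨hv, hvW⟩
      · refine Or.inl fun v hv => ?_
        have hle : Q ≤ Q' := hQ'.le_of_le ⟨le_inf hBQ fun v hv => hZW ((hBase v).1 hv j), h,
          inf_le_left.trans hQK, fun k v hv => ⟨hQi k v hv.1, hW k _ hv.2⟩⟩ inf_le_left
        exact (hle hv).2
    have hproper : ∀ W, Inv σ W → Z₁ ≤ W → W < Z → ∀ v ∈ Q, (∀ j, v j ∈ W) → v ∈ Base := by
      intro W hW hZW hWZ v hv hvW
      by_contra hvB
      rw [hBase] at hvB
      push Not at hvB
      obtain ⟨j, hj⟩ := hvB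
      refine hΨ v (hQK hv).2 ⟨lt_of_le_of_ne le_sup_left fun e => hj ?_, W, hW, hWZ,
        sup_le hZW ((AddSubgroup.closure_le _).2 (by rintro _ ⟨i, rfl⟩; exact hvW i))⟩
      rw [e]
      exact AddSubgroup.mem_sup_right (AddSubgroup.subset_closure ⟨j, rfl⟩)
    let S : Set (AddSubgroup M) := {N | MinOver σ Z₁ N ∧ N ≤ Z}
    -- the projections of `Q` are minimal, so the minimal subgroups generate `Z`
    have hproj : ∀ j, ∀ v ∈ Q, v j ∈ Z₁ ⊔ sSup S := by
      intro j v hv
      let Pj : AddSubgroup M := Q.map (Pi.evalAddMonoidHom (fun _ => M) j)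
      have hPj : Inv σ Pj := by
        rintro k _ ⟨w, hw, rfl⟩; exact ⟨_, hQi k w hw, rfl⟩
      have hPZ₁ : Z₁ ≤ Pj := fun z hz =>
        ⟨fun _ => z, hBQ ((hBase _).2 fun _ => hz), rfl⟩
      rcases hPZ₁.lt_or_eq with hlt | heq
      · refine AddSubgroup.mem_sup_right (le_sSup (show Pj ∈ S from ⟨⟨hPj, hlt, fun R hR h1 h2 => ?_⟩, ?_⟩)
          ⟨v, hv, rfl⟩)
        · rcases hdich R hR h1 j with h | h
          · right
            refine le_antisymm h2 ?_
            rintro _ ⟨w, hw, rfl⟩; exact h w hw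
          · left
            refine le_antisymm (fun r hr => ?_) h1
            obtain ⟨w, hw, rfl⟩ := h2 hr
            exact (hBase w).1 (h w hw hr) j
        · rintro _ ⟨w, hw, rfl⟩; exact (hQK hw).1 j
      · exact AddSubgroup.mem_sup_left (heq ▸ ⟨v, hv, rfl⟩)
    have hSi : Inv σ (Z₁ ⊔ sSup S) := by
      have : ∀ s : Set (AddSubgroup M), (∀ N ∈ s, Inv σ N) → Inv σ (Z₁ ⊔ sSup s) := by
        intro s hs
        induction s, s.toFinite using Set.Finite.induction_on with
        | empty => rw [sSup_empty, sup_bot_eq]; exact hZ₁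
        | @insert N s _ _ ih =>
          rw [sSup_insert, sup_comm N, ← sup_assoc]
          exact (ih fun N' hN' => hs N' (Set.mem_insert_of_mem _ hN')).sup (hs N (Set.mem_insert _ _))
      exact this S fun N hN => hN.1.1
    have hSZ : Z₁ ⊔ sSup S = Z := by
      refine (sup_le hZ₁Z.le (sSup_le fun N hN => hN.2)).lt_or_eq.resolve_left fun hlt => hQB fun v hv => ?_
      exact hproper _ hSi le_sup_left hlt v hv fun j => hproj j v hv
    -- all minimal subgroups have the same order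
    obtain ⟨t, htQ⟩ : ∃ t, Nat.card Q = t * Nat.card Base := by
      refine ⟨Nat.card (Q ⧸ Base.addSubgroupOf Q), ?_⟩
      rw [(Base.addSubgroupOf Q).card_eq_card_quotient_mul_card_addSubgroup,
        Nat.card_congr (AddSubgroup.addSubgroupOfEquivOfLe hBQ).toEquiv]
    have hS : ∀ N ∈ S, MinOver σ Z₁ N ∧ Nat.card N = t * Nat.card Z₁ := by
      intro N hN
      refine ⟨hN.1, ?_⟩
      obtain ⟨W, ⟨hW, hZW, hNW⟩, hWmax⟩ := Set.exists_max_image
        {W : AddSubgroup M | Inv σ W ∧ (Z₁ ≤ W ∧ W ≤ Z) ∧ N ⊓ W = Z₁} (fun W : AddSubgroup M => Nat.card W)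
        (Set.toFinite _) ⟨Z₁, hZ₁, ⟨le_rfl, hZ₁Z.le⟩, inf_eq_right.2 hN.1.2.1.le⟩
      have hWN : W ⊔ N = Z := by
        refine le_antisymm (sup_le hZW.2 hN.2) ?_
        rw [← hSZ]
        refine sup_le (hZW.1.trans le_sup_left) (sSup_le fun N' hN' => ?_)
        rcases hN'.1.2.2 _ ((hW.sup hN.1.1).inf hN'.1.1) (le_inf (hZW.1.trans le_sup_left) hN'.1.2.1.le)
          inf_le_right with h | h
        · exfalso
          have hWN' : N ⊓ (W ⊔ N') = Z₁ := by
            refine le_antisymm ?_ (le_inf hN.1.2.1.le (hZW.1.trans le_sup_left))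
            rintro x ⟨hxN, hx⟩
            obtain ⟨w, hw, n', hn', rfl⟩ := AddSubgroup.mem_sup.1 hx
            have h1 : n' ∈ (W ⊔ N) ⊓ N' := ⟨by
              have := sub_mem (AddSubgroup.mem_sup_right hxN) (AddSubgroup.mem_sup_left hw : w ∈ W ⊔ N)
              rwa [add_sub_cancel_left] at this, hn'⟩
            rw [h] at h1
            exact hNW.le ⟨hxN, add_mem hw (hZW.1 h1)⟩
          have h2 : Nat.card W < Nat.card (W ⊔ N' : AddSubgroup M) := by
            refine Set.Finite.card_lt_card (Set.toFinite _) (SetLike.coe_ssubset_coe.2 (lt_of_le_of_ne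
              le_sup_left fun e => ?_))
            have hN'W : N' ≤ W := by rw [e]; exact le_sup_right
            exact hN'.1.2.1.not_ge (h ▸ le_inf (hN'W.trans le_sup_left) le_rfl)
          exact absurd (hWmax _ ⟨hW.sup hN'.1.1, ⟨hZW.1.trans le_sup_left, sup_le hZW.2 hN'.2⟩, hWN'⟩)
            (not_le.2 h2)
        · exact inf_eq_right.1 h
      have hWlt : W < Z := lt_of_le_of_ne hZW.2 fun e => hN.1.2.1.ne (by
        rw [← hNW, e]; exact inf_eq_left.2 hN.2)
      obtain ⟨j, hj⟩ : ∃ j, ¬ ∀ v ∈ Q, v j ∈ W := by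
        by_contra hall
        push Not at hall
        exact hQB fun v hv => hproper W hW hZW.1 hWlt v hv fun j => hall j v hv
      have hj' := (hdich W hW hZW.1 j).resolve_left hj
      -- `Q / Base` is `Z / W`
      let π : Q →+ M ⧸ W :=
        (QuotientAddGroup.mk' W).comp ((Pi.evalAddMonoidHom (fun _ => M) j).comp Q.subtype)
      have hπk : π.ker = Base.addSubgroupOf Q := by
        ext v
        rw [AddMonoidHom.mem_ker, AddSubgroup.mem_addSubgroupOf]
        show QuotientAddGroup.mk (v.1 j) = (0 : M ⧸ W) ↔ _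
        rw [QuotientAddGroup.eq_zero_iff]
        exact ⟨fun h => hj' v.1 v.2 h, fun h => hZW.1 ((hBase _).1 h j)⟩
      let Pj : AddSubgroup M := Q.map (Pi.evalAddMonoidHom (fun _ => M) j) ⊔ W
      have hPjZ : Pj = Z := by
        have hle : Pj ≤ Z := sup_le (by rintro _ ⟨w, hw, rfl⟩; exact (hQK hw).1 j) hZW.2
        refine hle.lt_or_eq.resolve_left fun hlt => ?_
        have hPi : Inv σ Pj := Inv.sup (by rintro k _ ⟨w, hw, rfl⟩; exact ⟨_, hQi k w hw, rfl⟩) hW
        rcases hN.1.2.2 _ (hN.1.1.inf hPi) (le_inf hN.1.2.1.le (hZW.1.trans le_sup_right)) inf_le_left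
          with h | h
        · push Not at hj
          obtain ⟨v, hv, hvW⟩ := hj
          have h2 : Nat.card W < Nat.card Pj := Set.Finite.card_lt_card (Set.toFinite _)
            (SetLike.coe_ssubset_coe.2 (lt_of_le_of_ne le_sup_right fun e =>
              hvW (e ▸ AddSubgroup.mem_sup_left ⟨v, hv, rfl⟩)))
          exact absurd (hWmax Pj ⟨hPi, ⟨hZW.1.trans le_sup_right, hle⟩, h⟩) (not_le.2 h2)
        · exact hlt.not_ge (hWN ▸ sup_le le_sup_right (inf_eq_left.1 h))
      have hπr : π.range = Z.map (QuotientAddGroup.mk' W) := by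
        rw [← hPjZ, AddSubgroup.map_sup, QuotientAddGroup.map_mk'_self, sup_bot_eq]
        ext q
        constructor
        · rintro ⟨v, rfl⟩; exact ⟨_, ⟨v.1, v.2, rfl⟩, rfl⟩
        · rintro ⟨_, ⟨v, hv, rfl⟩, rfl⟩; exact ⟨⟨v, hv⟩, rfl⟩
      have h1 := π.ker.card_eq_card_quotient_mul_card_addSubgroup
      rw [Nat.card_congr (QuotientAddGroup.quotientKerEquivRange π).toEquiv, hπk, hπr,
        Nat.card_congr (AddSubgroup.addSubgroupOfEquivOfLe hBQ).toEquiv, htQ] at h1
      have h2 : Nat.card (Z.map (QuotientAddGroup.mk' W)) = t :=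
        (Nat.eq_of_mul_eq_mul_right Nat.card_pos h1).symm
      let πZ : Z →+ M ⧸ W := (QuotientAddGroup.mk' W).comp Z.subtype
      have h3 := πZ.ker.card_eq_card_quotient_mul_card_addSubgroup
      have hZk : πZ.ker = W.addSubgroupOf Z := by
        ext v
        rw [AddMonoidHom.mem_ker, AddSubgroup.mem_addSubgroupOf]
        exact QuotientAddGroup.eq_zero_iff v.1
      rw [Nat.card_congr (QuotientAddGroup.quotientKerEquivRange πZ).toEquiv, hZk,
        show πZ.range = Z.map (QuotientAddGroup.mk' W) by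
          rw [AddMonoidHom.range_comp, AddSubgroup.range_subtype],
        h2, Nat.card_congr (AddSubgroup.addSubgroupOfEquivOfLe hZW.2).toEquiv] at h3
      have h4 := card_sup_mul_card_inf W N
      rw [hWN, inf_comm W N, hNW, h3] at h4
      refine (Nat.eq_of_mul_eq_mul_left (Nat.card_pos (α := W)) ?_).symm
      rw [← h4]; ring
    obtain ⟨-, k, hk⟩ := card_sup_minOver_pow hZ₁ S hS
    rw [hSZ] at hk
    obtain ⟨l, hl⟩ := exists_card_eq_pow_mul h2M h2F hZ₁ hZ S hS hSZ O hO
    have hct : c < t := by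
      obtain ⟨N, hN, hNZ⟩ := exists_minOver σ hZ hZ₁Z
      have h1 := hQ Z₁ N hZ₁ hN.1 hN.2.1
      rw [(hS N ⟨hN, hNZ⟩).2] at h1
      exact Nat.lt_of_mul_lt_mul_right h1
    have hmuZ : mu O Z = Nat.card Z₁ * (t ^ k * Nat.card (annIn O Z)) := by rw [mu, hk]; ring
    have hmuZ₁ : Nat.card O = Nat.card Z₁ * (t ^ l * Nat.card (annIn O Z)) := by
      rw [← hZ₁mu, mu, hl]
    rcases le_or_gt k l with hkl | hkl
    · refine absurd hgt (not_lt.2 ?_)
      rw [hmuZ, hmuZ₁]
      exact Nat.mul_le_mul_left _ (Nat.mul_le_mul_right _ (Nat.pow_le_pow_right (by omega) hkl))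
    · have h1 := hH Z hZ
      rw [hmuZ, hmuZ₁] at h1
      have h2 : t ^ k ≤ c * t ^ l := by
        refine (Nat.mul_le_mul_left_iff (show 0 < Nat.card Z₁ * Nat.card (annIn O Z) from
          Nat.mul_pos Nat.card_pos Nat.card_pos)).1 ?_
        calc Nat.card Z₁ * Nat.card (annIn O Z) * t ^ k = Nat.card Z₁ * (t ^ k * Nat.card (annIn O Z)) := by ring
          _ ≤ _ := h1
          _ = _ := by ring
      have h3 : t * t ^ l ≤ t ^ k := by rw [← pow_succ']; exact Nat.pow_le_pow_right (by omega) hkl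
      exact absurd (h3.trans h2) (not_le.2 (Nat.mul_lt_mul_of_pos_right hct (pow_pos (by omega) _)))

/-- The counting lemma for arbitrary subgroups. -/
theorem mu_le (h2M : ∀ m : M, m + m = 0) (h2F : ∀ f : F, f + f = 0)
    (O : AddSubgroup (M →+ F)) (hO : ∀ k : K, ∀ h ∈ O, AddMonoidHom.comp h (σ k : M →+ M) ∈ O) (c : ℕ)
    (hH : ∀ Z : AddSubgroup M, Inv σ Z → mu O Z ≤ c * Nat.card O)
    (hQ : ∀ Z₁ Z₂ : AddSubgroup M, Inv σ Z₁ → Inv σ Z₂ → Z₁ < Z₂ → c * Nat.card Z₁ < Nat.card Z₂)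
    (U : AddSubgroup M) : mu O U ≤ Nat.card O := by
  obtain ⟨X, -, hX⟩ := Set.exists_max_image (Set.univ : Set (AddSubgroup M)) (mu O) (Set.toFinite _)
    ⟨U, trivial⟩
  by_contra hgt
  rw [not_le] at hgt
  have hne : (⊥ : AddSubgroup M) < U := bot_lt_iff_ne_bot.2 fun e => by
    rw [e, mu_bot] at hgt; exact lt_irrefl _ hgt
  obtain ⟨X', hX', -, -, hmu⟩ := exists_inv_mu_ge hO (inv_bot σ) (T := ⊤)
    (fun k z _ => AddSubgroup.mem_top _) hne le_top (by rw [mu_bot]; exact hgt.le)
  -- the largest maximizer is invariant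
  classical
  obtain ⟨Y, hY, hYmax⟩ := Set.exists_max_image {Y : AddSubgroup M | mu O Y = mu O X}
    (fun Y : AddSubgroup M => Nat.card Y) (Set.toFinite _) ⟨X, rfl⟩
  have hYi : Inv σ Y := by
    intro k z hz
    set Y' := Y.map (σ k : M →+ M)
    have e2 : mu O Y' = mu O X := le_antisymm (hX Y' trivial) (hY ▸ mu_le_map hO k Y)
    have hpos : 0 < mu O X := Nat.mul_pos Nat.card_pos Nat.card_pos
    have hmul := mu_mul_mu_le O Y Y'
    have e3 : mu O (Y ⊔ Y') = mu O X := by
      refine le_antisymm (hX _ trivial) (Nat.le_of_mul_le_mul_right ?_ hpos)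
      calc mu O X * mu O X = mu O Y * mu O Y' := by rw [hY, e2]
        _ ≤ mu O (Y ⊔ Y') * mu O (Y ⊓ Y') := hmul
        _ ≤ mu O (Y ⊔ Y') * mu O X := Nat.mul_le_mul_left _ (hX _ trivial)
    have h3 := hYmax _ e3
    have : Y ⊔ Y' = Y := by
      refine SetLike.ext' (Set.eq_of_subset_of_ncard_le (SetLike.coe_subset_coe.2 le_sup_left) ?_).symm
      rw [← Nat.card_coe_set_eq, ← Nat.card_coe_set_eq]; exact h3
    rw [← this]
    exact AddSubgroup.mem_sup_right ⟨z, hz, rfl⟩
  exact absurd (hgt.trans_le (hX U trivial)) (not_lt.2 (hY ▸ mu_le_of_inv h2M h2F O hO c hH hQ Y hYi))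

end CfsgLib.Techniques.SThree
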