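import Mathlib.LinearAlgebra.Dual.Lemmas
import Mathlib.Algebra.Module.ZMod
import Mathlib.Algebra.Field.ZMod
import Mathlib.GroupTheory.QuotientGroup.Basic
import Mathlib.FieldTheory.Finiteness
import Mathlib.LinearAlgebra.FreeModule.Finite.Matrix
import Mathlib.GroupTheory.Index

/-! Counting homomorphisms from an elementary abelian 2-group to the group of order two. -/

set_option autoImplicit false
set_option linter.unusedSectionVars false

namespace CfsgLib.Techniques.SThree

universe v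

variable {G : Type v} [AddCommGroup G] [Finite G]

/-- An elementary abelian 2-group has as many homomorphisms to `ZMod 2` as elements. -/
theorem card_hom_zmod_two (h2 : ∀ g : G, g + g = 0) : Nat.card (G →+ ZMod 2) = Nat.card G := by
  letI : Module (ZMod 2) G := AddCommGroup.zmodModule fun g => by rw [two_nsmul]; exact h2 g
  haveI : Fact (Nat.Prime 2) := ⟨Nat.prime_two⟩
  let e : (G →+ ZMod 2) ≃ Module.Dual (ZMod 2) G :=
    ⟨fun f => f.toZModLinearMap 2, fun f => f.toAddMonoidHom, fun _ => rfl, fun _ => rfl⟩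
  rw [Nat.card_congr e,
    Module.natCard_eq_pow_finrank (K := ZMod 2), Module.natCard_eq_pow_finrank (K := ZMod 2) (V := G)]
  exact congrArg _ (Subspace.dual_finrank_eq (K := ZMod 2) (V := G))

/-- The homomorphisms to `ZMod 2` that vanish on a subgroup. -/
def killing (P : AddSubgroup G) : AddSubgroup (G →+ ZMod 2) where
  carrier := {φ | ∀ x ∈ P, φ x = 0}
  add_mem' := fun {a b} ha hb x hx => by rw [AddMonoidHom.add_apply, ha x hx, hb x hx, add_zero]
  zero_mem' := fun x _ => rfl
  neg_mem' := fun {a} ha x hx => by rw [AddMonoidHom.neg_apply, ha x hx, neg_zero]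

theorem card_killing (h2 : ∀ g : G, g + g = 0) (P : AddSubgroup G) :
    Nat.card (killing P) * Nat.card P = Nat.card G := by
  rw [P.card_eq_card_quotient_mul_card_addSubgroup]
  congr 1
  rw [← card_hom_zmod_two (G := G ⧸ P) fun q => QuotientAddGroup.induction_on q fun g =>
    congrArg QuotientAddGroup.mk (h2 g)]
  refine Nat.card_congr ⟨fun φ => QuotientAddGroup.lift P φ.1 fun x hx => φ.2 x hx,
    fun ψ => ⟨ψ.comp (QuotientAddGroup.mk' P), fun x hx => ?_⟩, fun φ => rfl, fun ψ => ?_⟩
  · show ψ (QuotientAddGroup.mk x) = 0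
    rw [(QuotientAddGroup.eq_zero_iff x).2 hx, map_zero]
  · exact AddMonoidHom.ext fun q => QuotientAddGroup.induction_on q fun g => rfl

/-- Homomorphisms to `ZMod 2` separate points. -/
theorem exists_hom_ne_zero (h2 : ∀ g : G, g + g = 0) {g : G} (hg : g ≠ 0) :
    ∃ φ : G →+ ZMod 2, φ g ≠ 0 := by
  by_contra hall
  push Not at hall
  have h1 : Nat.card (killing (AddSubgroup.zmultiples g)) = Nat.card (G →+ ZMod 2) := by
    refine Nat.card_congr ⟨Subtype.val, fun φ => ⟨φ, ?_⟩, fun _ => rfl, fun _ => rfl⟩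
    rintro x ⟨n, rfl⟩
    show φ (n • g) = 0
    rw [map_zsmul, hall, zsmul_zero]
  have h3 := card_killing h2 (AddSubgroup.zmultiples g)
  rw [h1, card_hom_zmod_two h2] at h3
  have h4 : 1 < Nat.card (AddSubgroup.zmultiples g) :=
    (AddSubgroup.one_lt_card_iff_ne_bot _).2 fun h => hg ((AddSubgroup.zmultiples_eq_bot).1 h)
  nlinarith [Nat.card_pos (α := G)]

/-- The cardinalities of a join and a meet of subgroups. -/
theorem card_sup_mul_card_inf (U W : AddSubgroup G) :
    Nat.card (U ⊔ W : AddSubgroup G) * Nat.card (U ⊓ W : AddSubgroup G) = Nat.card U * Nat.card W := by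
  let φ : U × W →+ G := U.subtype.coprod W.subtype
  have hr : φ.range = U ⊔ W := by
    ext x
    rw [AddSubgroup.mem_sup]
    constructor
    · rintro ⟨⟨u, w⟩, rfl⟩; exact ⟨u, u.2, w, w.2, rfl⟩
    · rintro ⟨u, hu, w, hw, rfl⟩; exact ⟨(⟨u, hu⟩, ⟨w, hw⟩), rfl⟩
  have hk : Nat.card φ.ker = Nat.card (U ⊓ W : AddSubgroup G) := by
    refine Nat.card_congr ⟨fun z => ⟨(z.1.1 : G), z.1.1.2, ?_⟩, fun y => ⟨(⟨y, y.2.1⟩, ⟨-(y : G), neg_mem y.2.2⟩), ?_⟩,
      fun z => ?_, fun y => rfl⟩
    · have h : (z.1.1 : G) + z.1.2 = 0 := z.2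
      show (z.1.1 : G) ∈ W
      rw [eq_neg_of_add_eq_zero_left h]; exact neg_mem z.1.2.2
    · exact add_neg_cancel (y : G)
    · have h : (z.1.1 : G) + z.1.2 = 0 := z.2
      exact Subtype.ext (Prod.ext rfl (Subtype.ext (eq_neg_of_add_eq_zero_right h).symm))
  have h := φ.ker.card_eq_card_quotient_mul_card_addSubgroup
  rw [Nat.card_congr (QuotientAddGroup.quotientKerEquivRange φ).toEquiv, hk, hr, Nat.card_prod] at h
  exact h.symm

end CfsgLib.Techniques.SThree
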