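import Cfsg.Agent.Lib.Techniques.Basic
import Cfsg.Prelude.Def_PLocal
import Mathlib.GroupTheory.QuotientGroup.Basic

/-!
A quadratic offender, contained in a unique maximal subgroup, forces the symmetric group of degree three.

`L` acts on an elementary abelian 2-group `V`, the subgroup `A` acts quadratically with
`|V : C_V(A)| |A ⊓ R| ≤ |A|` for `R = O₂(L)` acting trivially, `L₀` is the only maximal subgroup over `A R`
and two conjugates of `A` not both in `L₀` generate `L` modulo `R`.  If the image of `L` is not a 2-group,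
a subgroup of `L` maps onto the symmetric group of degree three with kernel containing the kernel of the action.
-/

set_option autoImplicit false
set_option linter.unusedSectionVars false

namespace CfsgLib.Techniques.SThree

open Subgroup CfsgLib.Techniques

universe u v

variable {L : Type u} [Group L] {V : Type v} [AddCommGroup V]

/-- The vectors fixed by a subgroup. -/
def fixedPts (ρ : L →* AddMonoid.End V) (A : Subgroup L) : AddSubgroup V where
  carrier := {v | ∀ a ∈ A, ρ a v = v}
  add_mem' := fun {x y} hx hy a ha => by rw [map_add, hx a ha, hy a ha]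
  zero_mem' := fun a _ => map_zero _
  neg_mem' := fun {x} hx a ha => by rw [map_neg, hx a ha]

theorem mem_fixedPts {ρ : L →* AddMonoid.End V} {A : Subgroup L} {v : V} :
    v ∈ fixedPts ρ A ↔ ∀ a ∈ A, ρ a v = v := Iff.rfl

/-- The stabilizer of a vector. -/
def stab (ρ : L →* AddMonoid.End V) (v : V) : Subgroup L where
  carrier := {x | ρ x v = v}
  mul_mem' := fun {x y} (hx : ρ x v = v) (hy : ρ y v = v) => by
    show ρ (x * y) v = v
    rw [map_mul]; show ρ x (ρ y v) = v
    rw [hy, hx]
  one_mem' := by show ρ 1 v = v; rw [map_one]; rfl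
  inv_mem' := fun {x} (hx : ρ x v = v) => by
    show ρ x⁻¹ v = v
    conv_lhs => rw [← hx]
    show (ρ x⁻¹ * ρ x) v = v
    rw [← map_mul, inv_mul_cancel, map_one]; rfl

theorem mem_stab {ρ : L →* AddMonoid.End V} {v : V} {x : L} : x ∈ stab ρ v ↔ ρ x v = v := Iff.rfl

theorem act_mul (ρ : L →* AddMonoid.End V) (x y : L) (v : V) : ρ (x * y) v = ρ x (ρ y v) := by
  rw [map_mul]; rfl

theorem act_one (ρ : L →* AddMonoid.End V) (v : V) : ρ 1 v = v := by rw [map_one]; rfl

theorem act_inv_cancel (ρ : L →* AddMonoid.End V) (x : L) (v : V) : ρ x⁻¹ (ρ x v) = v := by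
  rw [← act_mul, inv_mul_cancel, act_one]

theorem act_cancel_inv (ρ : L →* AddMonoid.End V) (x : L) (v : V) : ρ x (ρ x⁻¹ v) = v := by
  rw [← act_mul, mul_inv_cancel, act_one]

/-- `g v` is fixed by the conjugate of `A` iff `v` is fixed by `A`. -/
theorem act_mem_fixedPts_conj (ρ : L →* AddMonoid.End V) (A : Subgroup L) (g : L) {v : V} :
    ρ g v ∈ fixedPts ρ (A.map (MulAut.conj g).toMonoidHom) ↔ v ∈ fixedPts ρ A := by
  constructor
  · intro h a ha
    have h1 := congrArg (ρ g⁻¹) (h _ (conj_mem_map_conj g ha))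
    rw [act_mul, act_mul, act_inv_cancel, act_inv_cancel] at h1
    exact h1
  · rintro h _ ⟨a, ha, rfl⟩
    show ρ (g * a * g⁻¹) (ρ g v) = ρ g v
    rw [act_mul, act_mul, act_inv_cancel, h a ha]

/-- `A` acts quadratically. -/
def Quad (ρ : L →* AddMonoid.End V) (A : Subgroup L) : Prop :=
  ∀ a ∈ A, ∀ v, ρ a v - v ∈ fixedPts ρ A

/-- The action is that of a 2-group. -/
def TwoImage (ρ : L →* AddMonoid.End V) : Prop := ∀ x : L, ∃ k : ℕ, ρ (x ^ 2 ^ k) = 1

variable {ρ : L →* AddMonoid.End V} {A : Subgroup L}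

/-- The displacement map of a vector. -/
def moveHom (hq : Quad ρ A) (v : V) : A →* Multiplicative (fixedPts ρ A) where
  toFun a := Multiplicative.ofAdd ⟨ρ a v - v, hq a a.2 v⟩
  map_one' := by
    apply Multiplicative.toAdd.injective
    apply Subtype.ext
    show ρ 1 v - v = 0
    rw [act_one, sub_self]
  map_mul' a b := by
    apply Multiplicative.toAdd.injective
    apply Subtype.ext
    show ρ ((a : L) * b) v - v = (ρ a v - v) + (ρ b v - v)
    have h := hq b b.2 v a a.2
    rw [map_sub, ← act_mul] at h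
    rw [← h]; abel

/-- If only elements of `A ⊓ R` fix `v`, every fixed vector is a displacement of `v`. -/
theorem exists_move_eq [Finite L] [Finite V] (hq : Quad ρ A) (R : Subgroup L) (v : V)
    (hst : A ⊓ stab ρ v ≤ R)
    (hcard : Nat.card (fixedPts ρ A) * Nat.card (A ⊓ R : Subgroup L) ≤ Nat.card A)
    {e : V} (he : e ∈ fixedPts ρ A) : ∃ a ∈ A, ρ a v - v = e := by
  set φ := moveHom hq v
  have hk : Nat.card φ.ker ≤ Nat.card (A ⊓ R : Subgroup L) := by
    rw [← card_map_of_injective A.subtype_injective]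
    refine card_le_of_le ?_
    rintro _ ⟨a, ha, rfl⟩
    refine mem_inf.2 ⟨a.2, hst (mem_inf.2 ⟨a.2, ?_⟩)⟩
    have h1 : ρ a v - v = 0 := congrArg Subtype.val (congrArg Multiplicative.toAdd (MonoidHom.mem_ker.1 ha))
    exact sub_eq_zero.1 h1
  have htop : φ.range = ⊤ := by
    refine eq_top_of_le_card _ ?_
    have h := φ.ker.card_mul_index
    rw [index_ker] at h
    have hB : 0 < Nat.card (A ⊓ R : Subgroup L) := Nat.card_pos
    refine Nat.le_of_mul_le_mul_right ?_ hB
    show Nat.card (fixedPts ρ A) * Nat.card (A ⊓ R : Subgroup L) ≤ _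
    calc Nat.card (fixedPts ρ A) * Nat.card (A ⊓ R : Subgroup L) ≤ Nat.card φ.ker * Nat.card φ.range :=
          hcard.trans h.ge
      _ ≤ Nat.card φ.range * Nat.card (A ⊓ R : Subgroup L) := by
          rw [mul_comm]; exact Nat.mul_le_mul_left _ hk
  obtain ⟨a, ha⟩ := (htop ▸ mem_top _ : Multiplicative.ofAdd (⟨e, he⟩ : fixedPts ρ A) ∈ φ.range)
  exact ⟨a, a.2, congrArg Subtype.val (congrArg Multiplicative.toAdd ha)⟩

theorem transvections_generate : ∀ σ : Equiv.Perm (Fin 3),
    σ = 1 ∨ σ = Equiv.swap 1 2 ∨ σ = Equiv.swap 0 2 ∨ σ = Equiv.swap 1 2 * Equiv.swap 0 2 ∨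
      σ = Equiv.swap 0 2 * Equiv.swap 1 2 ∨ σ = Equiv.swap 1 2 * Equiv.swap 0 2 * Equiv.swap 1 2 := by
  decide +kernel

/-- Two involutions inducing transvections on a plane give a map onto the symmetric group of degree three. -/
theorem exists_hom_perm_three (ρ : L →* AddMonoid.End V) (hV2 : ∀ v : V, v + v = 0) (e f : V) (a b : L)
    (he : e ≠ 0) (hf : f ≠ 0) (hef : e ≠ f)
    (hae : ρ a e = e) (haf : ρ a f = e + f) (hbf : ρ b f = f) (hbe : ρ b e = e + f) :
    ∃ (H : Subgroup L) (φ : H →* Equiv.Perm (Fin 3)),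
      Function.Surjective φ ∧ ∀ x : H, ρ x = 1 → φ x = 1 := by
  classical
  let s : Fin 3 → V := ![e, f, e + f]
  have hs : Function.Injective s := by
    have h1 : e + f ≠ e := fun h => hf (add_left_cancel (h.trans (add_zero e).symm))
    have h2 : e + f ≠ f := fun h => he (add_right_cancel (h.trans (zero_add f).symm))
    intro i j hij
    fin_cases i <;> fin_cases j <;> first
      | rfl
      | exact absurd hij hef
      | exact absurd hij hef.symm
      | exact absurd hij h1
      | exact absurd hij h1.symm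
      | exact absurd hij h2
      | exact absurd hij h2.symm
  let H : Subgroup L :=
  { carrier := {x | ∃ σ : Equiv.Perm (Fin 3), ∀ i, ρ x (s i) = s (σ i)}
    mul_mem' := by
      rintro x y ⟨σ, hσ⟩ ⟨τ, hτ⟩
      exact ⟨σ * τ, fun i => by rw [act_mul, hτ, hσ]; rfl⟩
    one_mem' := ⟨1, fun i => act_one ρ _⟩
    inv_mem' := by
      rintro x ⟨σ, hσ⟩
      refine ⟨σ⁻¹, fun i => ?_⟩
      have h := hσ (σ⁻¹ i)
      rw [show σ (σ⁻¹ i) = i by simp] at h
      rw [← h, act_inv_cancel] }
  have hsp : ∀ x : H, ∀ i, ρ x (s i) = s (x.2.choose i) := fun x => x.2.choose_spec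
  have huniq : ∀ (x : H) (σ : Equiv.Perm (Fin 3)), (∀ i, ρ x (s i) = s (σ i)) → x.2.choose = σ :=
    fun x σ h => Equiv.ext fun i => hs ((hsp x i).symm.trans (h i))
  let φ : H →* Equiv.Perm (Fin 3) :=
  { toFun := fun x => x.2.choose
    map_one' := huniq 1 1 fun i => act_one ρ _
    map_mul' := fun x y => huniq (x * y) _ fun i => by
      show ρ ((x : L) * y) (s i) = _
      rw [act_mul, hsp, hsp]; rfl }
  have hsum : ∀ x y : V, x + (x + y) = y := fun x y => by rw [← add_assoc, hV2, zero_add]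
  have haa : ∀ i, ρ a (s i) = s (Equiv.swap (1 : Fin 3) 2 i) := by
    intro i
    fin_cases i
    · exact hae
    · exact haf
    · show ρ a (e + f) = f
      rw [map_add, hae, haf, hsum]
  have hbb : ∀ i, ρ b (s i) = s (Equiv.swap (0 : Fin 3) 2 i) := by
    intro i
    fin_cases i
    · exact hbe
    · exact hbf
    · show ρ b (e + f) = e
      rw [map_add, hbf, hbe, add_assoc, hV2, add_zero]
  let a' : H := ⟨a, _, haa⟩
  let b' : H := ⟨b, _, hbb⟩
  have ha' : φ a' = Equiv.swap 1 2 := huniq a' _ haa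
  have hb' : φ b' = Equiv.swap 0 2 := huniq b' _ hbb
  refine ⟨H, φ, fun σ => ?_, fun x hx => huniq x 1 fun i => by rw [hx]; rfl⟩
  rcases transvections_generate σ with h | h | h | h | h | h <;> subst h
  · exact ⟨1, map_one φ⟩
  · exact ⟨a', ha'⟩
  · exact ⟨b', hb'⟩
  · exact ⟨a' * b', by rw [map_mul, ha', hb']⟩
  · exact ⟨b' * a', by rw [map_mul, ha', hb']⟩
  · exact ⟨a' * b' * a', by rw [map_mul, map_mul, ha', hb']⟩

end CfsgLib.Techniques.SThree
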