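import Cfsg.Agent.Lib.Techniques.SThreeModule
import Cfsg.Agent.Lib.PCore.Basic

/-!
The irreducible case and the induction over the sections of the module.
-/

set_option autoImplicit false
set_option linter.unusedSectionVars false

namespace CfsgLib.Techniques.SThree

open Subgroup CfsgLib.Techniques

universe u v

variable {L : Type u} [Group L] [Finite L]

/-- The hypotheses on `A`, `L₀` and `R` used below. -/
structure UniqueOver (A L₀ R : Subgroup L) : Prop where
  normal : R.Normal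
  isP : IsPGroup 2 A
  isPR : IsPGroup 2 R
  maxR : R = Cfsg.pCore 2 L
  not_le : ¬ A ≤ R
  le : A ⊔ R ≤ L₀
  ne_top : L₀ ≠ ⊤
  uniq : ∀ Y : Subgroup L, A ⊔ R ≤ Y → Y ≠ ⊤ → Y ≤ L₀
  gen : ∀ x, x ∉ L₀ → A ⊔ A.map (MulAut.conj x).toMonoidHom ⊔ R = ⊤

namespace UniqueOver

variable {A L₀ R : Subgroup L}

theorem map_conj_R (h : UniqueOver A L₀ R) (g : L) : R.map (MulAut.conj g).toMonoidHom = R := by
  have := h.normal
  exact map_conj_eq_self_iff.2 (normalizer_eq_top R ▸ mem_top g)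

/-- A proper subgroup over a conjugate of `A R` lies in the conjugate of `L₀`. -/
theorem uniq_conj (h : UniqueOver A L₀ R) (g : L) {Y : Subgroup L}
    (hA : A.map (MulAut.conj g).toMonoidHom ≤ Y) (hR : R ≤ Y) (hY : Y ≠ ⊤) :
    Y ≤ L₀.map (MulAut.conj g).toMonoidHom := by
  have e : (Y.map (MulAut.conj g⁻¹).toMonoidHom).map (MulAut.conj g).toMonoidHom = Y := by
    rw [← map_conj_mul, mul_inv_cancel, map_conj_one]
  rw [← e]
  refine Subgroup.map_mono (h.uniq _ (sup_le ?_ ?_) fun ht => hY ?_)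
  · have := Subgroup.map_mono (f := (MulAut.conj g⁻¹).toMonoidHom) hA
    rwa [← map_conj_mul, inv_mul_cancel, map_conj_one] at this
  · conv_lhs => rw [← h.map_conj_R g⁻¹]
    exact Subgroup.map_mono hR
  · rw [← e, ht, ← MonoidHom.range_eq_map, MonoidHom.range_eq_top]
    exact (MulAut.conj g).surjective

theorem map_conj_ne_top (h : UniqueOver A L₀ R) (g : L) : L₀.map (MulAut.conj g).toMonoidHom ≠ ⊤ := by
  intro e
  apply h.ne_top
  refine eq_top_of_le_card _ (le_of_eq ?_)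
  rw [← card_map_conj L₀ g, e, card_top]

/-- `L₀` is the only conjugate of `L₀` that contains `A`. -/
theorem mem_of_conj_le (h : UniqueOver A L₀ R) {g : L}
    (hg : A.map (MulAut.conj g).toMonoidHom ≤ L₀) : g ∈ L₀ := by
  by_contra hn
  exact h.ne_top (top_le_iff.1 (h.gen g hn ▸ sup_le (sup_le (le_sup_left.trans h.le) hg)
    (le_sup_right.trans h.le)))

/-- The elements of `A` in all conjugates of `L₀` lie in `R`. -/
theorem inf_core_le (h : UniqueOver A L₀ R) : A ⊓ L₀.normalCore ≤ R := by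
  have : Fact (Nat.Prime 2) := ⟨Nat.prime_two⟩
  obtain ⟨T, hT⟩ := h.isP.exists_le_sylow
  have hRT : R ≤ (T : Subgroup L) := h.maxR ▸ CfsgLib.PCore.pCore_le_sylow T
  set D := (T : Subgroup L) ⊓ L₀.normalCore with hD
  have hRcore : R ≤ L₀.normalCore := by
    have := h.normal
    exact normal_le_normalCore.2 (le_sup_right.trans h.le)
  have hA : A ≤ normalizer (D : Set L) := fun a ha =>
    mem_normalizer_inf (le_normalizer (hT ha)) (normalizer_eq_top L₀.normalCore ▸ mem_top a)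
  have hR : R ≤ normalizer (D : Set L) := (le_inf hRT hRcore).trans le_normalizer
  have hN : normalizer (D : Set L) = ⊤ := by
    by_contra hne
    apply h.ne_top
    rw [eq_top_iff, ← sup_normalizer_inf_eq_top T L₀.normalCore]
    exact sup_le (normalCore_le L₀) (h.uniq _ (sup_le hA hR) hne)
  intro a ha
  rw [h.maxR]
  exact CfsgLib.PCore.le_pCore (normalizer_eq_top_iff.1 hN) (T.2.to_le inf_le_left)
    (mem_inf.2 ⟨hT ha.1, ha.2⟩)

theorem mem_R_of_forall (h : UniqueOver A L₀ R) {a : L} (ha : a ∈ A)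
    (hg : ∀ g, g ∉ L₀ → a ∈ L₀.map (MulAut.conj g).toMonoidHom) : a ∈ R := by
  refine h.inf_core_le (mem_inf.2 ⟨ha, fun g => ?_⟩)
  by_cases hg' : g⁻¹ ∈ L₀
  · exact mul_mem (mul_mem (by simpa using inv_mem hg') (le_sup_left.trans h.le ha)) hg'
  · obtain ⟨y, hy, hy'⟩ := hg g⁻¹ hg'
    have : g * a * g⁻¹ = y := by rw [← hy']; simp [mul_assoc]
    rw [this]; exact hy

end UniqueOver

variable {A L₀ R : Subgroup L} {V : Type v} [AddCommGroup V] [Finite V]

/-- The irreducible case. -/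
theorem exists_hom_of_irreducible (h : UniqueOver A L₀ R) (ρ : L →* AddMonoid.End V)
    (hV2 : ∀ v : V, v + v = 0) (hR : ∀ r ∈ R, ρ r = 1) (hq : Quad ρ A)
    (hoff : (fixedPts ρ A).index * Nat.card (A ⊓ R : Subgroup L) ≤ Nat.card A)
    (hno : ¬ TwoImage ρ)
    (hirr : ∀ N : AddSubgroup V, (∀ x : L, ∀ v ∈ N, ρ x v ∈ N) → N = ⊥ ∨ N = ⊤) :
    ∃ (H : Subgroup L) (φ : H →* Equiv.Perm (Fin 3)),
      Function.Surjective φ ∧ ∀ x : H, ρ x = 1 → φ x = 1 := by
  classical
  set E := fixedPts ρ A with hE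
  -- the kernel
  set K := ρ.ker with hK
  have hKA : A ⊔ R ⊔ K ≠ ⊤ := by
    intro e
    apply hno
    intro x
    have hx : x ∈ A ⊔ R ⊔ K := e ▸ mem_top x
    have : R.Normal := h.normal
    obtain ⟨y, hy, k, hk, rfl⟩ := mem_sup_of_normal_right.1 hx
    obtain ⟨a, ha, r, hr, rfl⟩ := mem_sup_of_normal_right.1 hy
    obtain ⟨j, hj⟩ := h.isP ⟨a, ha⟩
    refine ⟨j, ?_⟩
    rw [map_pow, map_mul, map_mul, hR r hr, MonoidHom.mem_ker.1 hk, mul_one, mul_one, ← map_pow]
    have hj' : a ^ 2 ^ j = 1 := congrArg Subtype.val hj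
    rw [hj', map_one]
  have hKcore : K ≤ L₀.normalCore :=
    normal_le_normalCore.2 (le_sup_right.trans (h.uniq _ le_sup_left hKA))
  -- no vector is fixed by all of `L`
  have hfix : ∀ v : V, (∀ x : L, ρ x v = v) → v = 0 := by
    have hinv : ∀ x : L, ∀ v ∈ fixedPts ρ ⊤, ρ x v ∈ fixedPts ρ (⊤ : Subgroup L) := fun x v hv y hy => by
      rw [← act_mul, hv (y * x) (mem_top _), hv x (mem_top _)]
    intro v hv
    rcases hirr _ hinv with h1 | h1
    · exact (AddSubgroup.mem_bot).1 (h1 ▸ fun x _ => hv x)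
    · exfalso; apply hno
      intro x; refine ⟨0, ?_⟩
      ext w
      have hw : w ∈ fixedPts ρ (⊤ : Subgroup L) := h1 ▸ AddSubgroup.mem_top w
      simpa using hw x (mem_top x)
  have hRstab : ∀ v, R ≤ stab ρ v := fun v r hr => by rw [mem_stab, hR r hr]; rfl
  -- stabilizers of fixed vectors
  have hstab : ∀ (g : L) (v : V), v ≠ 0 → A.map (MulAut.conj g).toMonoidHom ≤ stab ρ v →
      stab ρ v ≤ L₀.map (MulAut.conj g).toMonoidHom := fun g v hv hg =>
    h.uniq_conj g hg (hRstab v) fun e => hv (hfix v fun x => (e ▸ mem_top x : x ∈ stab ρ v))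
  have hE' : ∀ g, fixedPts ρ (A.map (MulAut.conj g).toMonoidHom) = E.map (ρ g) := by
    intro g; ext v
    constructor
    · intro hv
      refine ⟨ρ g⁻¹ v, (act_mem_fixedPts_conj ρ A g).1 ?_, act_cancel_inv ρ g v⟩
      rwa [act_cancel_inv]
    · rintro ⟨w, hw, rfl⟩; exact (act_mem_fixedPts_conj ρ A g).2 hw
  -- two fixed spaces are complementary
  have hdisj : ∀ g, g ∉ L₀ → ∀ v ∈ E, v ∈ fixedPts ρ (A.map (MulAut.conj g).toMonoidHom) → v = 0 := by
    intro g hg v hv hv'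
    refine hfix v fun x => ?_
    have : A ⊔ A.map (MulAut.conj g).toMonoidHom ⊔ R ≤ stab ρ v :=
      sup_le (sup_le hv hv') (hRstab v)
    rw [h.gen g hg] at this
    exact this (mem_top x)
  have hEne : ∃ e ∈ E, e ≠ 0 := by
    by_contra hne
    push Not at hne
    obtain ⟨v, hv⟩ : ∃ v : V, v ≠ 0 := by
      by_contra hall
      push Not at hall
      exact hno fun x => ⟨0, by ext v; rw [hall (ρ (x ^ 2 ^ 0) v)]; exact (hall v).symm⟩
    refine hv (hne v fun a ha => ?_)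
    exact sub_eq_zero.1 (hne _ (hq a ha v))
  have hsum : ∀ g, g ∉ L₀ → E ⊔ fixedPts ρ (A.map (MulAut.conj g).toMonoidHom) = ⊤ := by
    intro g hg
    set E₁ := fixedPts ρ (A.map (MulAut.conj g).toMonoidHom) with hE₁
    set N := E ⊔ E₁
    have hq' : ∀ y ∈ A.map (MulAut.conj g).toMonoidHom, ∀ v, ρ y v - v ∈ E₁ := by
      rintro _ ⟨a, ha, rfl⟩ v
      rw [hE₁, hE']
      refine ⟨ρ a (ρ g⁻¹ v) - ρ g⁻¹ v, hq a ha _, ?_⟩
      show ρ g (ρ a (ρ g⁻¹ v) - ρ g⁻¹ v) = ρ (g * a * g⁻¹) v - v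
      rw [map_sub, act_cancel_inv, act_mul, act_mul]
    let Y : Subgroup L :=
      { carrier := {x | ∀ v ∈ N, ρ x v ∈ N}
        mul_mem' := fun {x y} hx hy v hv => by rw [act_mul]; exact hx _ (hy v hv)
        one_mem' := fun v hv => by rw [act_one]; exact hv
        inv_mem' := fun {x} hx v hv => by
          have hsurj : ∀ w ∈ N, ∃ u ∈ N, ρ x u = w := by
            have hinj : Function.Injective (fun u : N => (⟨ρ x u, hx u u.2⟩ : N)) := fun u w huw => by
              have := congrArg (ρ x⁻¹) (congrArg Subtype.val huw)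
              simp only [act_inv_cancel] at this
              exact Subtype.ext this
            intro w hw
            obtain ⟨u, hu⟩ := Finite.surjective_of_injective hinj ⟨w, hw⟩
            exact ⟨u, u.2, congrArg Subtype.val hu⟩
          obtain ⟨u, hu, rfl⟩ := hsurj v hv
          rwa [act_inv_cancel] }
    have hY : A ⊔ A.map (MulAut.conj g).toMonoidHom ⊔ R ≤ Y := by
      refine sup_le (sup_le (fun a ha v hv => ?_) (fun a ha v hv => ?_)) (fun r hr v hv => ?_)
      · rw [show ρ a v = (ρ a v - v) + v by abel]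
        exact add_mem (AddSubgroup.mem_sup_left (hq a ha v)) hv
      · rw [show ρ a v = (ρ a v - v) + v by abel]
        exact add_mem (AddSubgroup.mem_sup_right (hq' a ha v)) hv
      · rwa [hR r hr]
    rw [h.gen g hg] at hY
    refine (hirr N fun x v hv => hY (mem_top x) v hv).resolve_left fun e => ?_
    obtain ⟨e', he', hne⟩ := hEne
    exact hne ((AddSubgroup.mem_bot).1 (e ▸ AddSubgroup.mem_sup_left he'))
  obtain ⟨g₀, hg₀⟩ : ∃ g, g ∉ L₀ := by
    by_contra hall
    push Not at hall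
    exact h.ne_top (eq_top_iff.2 fun x _ => hall x)
  have hcardE : Nat.card E * Nat.card (A ⊓ R : Subgroup L) ≤ Nat.card A := by
    refine le_trans (Nat.mul_le_mul_right _ ?_) hoff
    set E₁ := fixedPts ρ (A.map (MulAut.conj g₀).toMonoidHom) with hE₁
    have hinj : Function.Injective (fun e : E => (QuotientAddGroup.mk (e : V) : V ⧸ E₁)) := by
      intro x y hxy
      have h1 : -(x : V) + y ∈ E₁ := QuotientAddGroup.eq.1 hxy
      have h2 := hdisj g₀ hg₀ _ (add_mem (neg_mem x.2) y.2) h1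
      exact Subtype.ext (neg_add_eq_zero.1 h2)
    refine (Nat.card_le_card_of_injective _ hinj).trans (le_of_eq ?_)
    show E₁.index = E.index
    have hc : Nat.card E₁ = Nat.card E := by
      rw [hE₁, hE']
      exact (Nat.card_congr (Equiv.Set.image (ρ g₀) (E : Set V)
        fun x y hxy => by simpa [act_inv_cancel] using congrArg (ρ g₀⁻¹) hxy)).symm
    have h1 := E₁.card_mul_index
    rw [hc, ← E.card_mul_index] at h1
    exact Nat.eq_of_mul_eq_mul_left Nat.card_pos h1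
  -- `E` is invariant under `L₀`
  have hinv : ∀ m ∈ L₀, ∀ w ∈ E, ρ m w ∈ E := by
    intro m hm w hw
    by_contra hout
    set e₁ := ρ m w with he₁
    have hdec : ∀ g, g ∉ L₀ → ∃ e₀ ∈ E, ∃ f ∈ fixedPts ρ (A.map (MulAut.conj g).toMonoidHom),
        f ≠ 0 ∧ e₀ + f = e₁ := by
      intro g hg
      obtain ⟨e₀, he₀, f, hf, hef⟩ := AddSubgroup.mem_sup.1 (hsum g hg ▸ AddSubgroup.mem_top e₁)
      exact ⟨e₀, he₀, f, hf, fun hf0 => hout (by rw [← hef, hf0, add_zero]; exact he₀), hef⟩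
    have hst : A ⊓ stab ρ e₁ ≤ R := by
      rintro a ⟨ha, hae⟩
      refine h.mem_R_of_forall ha fun g hg => ?_
      obtain ⟨e₀, he₀, f, hf, hf0, hef⟩ := hdec g hg
      refine hstab g f hf0 hf ?_
      have h1 : ρ a e₁ = e₁ := hae
      rw [← hef, map_add, he₀ a ha] at h1
      exact add_left_cancel h1
    obtain ⟨e₀, he₀, f, hf, hf0, hef⟩ := hdec g₀ hg₀
    obtain ⟨a, ha, hae⟩ := exists_move_eq hq R e₁ hst hcardE he₀
    have hfe : ρ a e₁ = f := by
      rw [sub_eq_iff_eq_add.1 hae, ← hef, ← add_assoc, hV2, zero_add]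
    have h1 : A.map (MulAut.conj (a * m)).toMonoidHom ≤ stab ρ f := by
      intro y hy
      have h2 : f ∈ fixedPts ρ (A.map (MulAut.conj (a * m)).toMonoidHom) := by
        rw [← hfe, he₁, ← act_mul]; exact (act_mem_fixedPts_conj ρ A (a * m)).2 hw
      exact h2 y hy
    have h2 := h.uniq_conj (a * m) h1 (hRstab f) fun e => hf0 (hfix f fun x => (e ▸ mem_top x : x ∈ stab ρ f))
    have h3 : A.map (MulAut.conj g₀).toMonoidHom ≤ L₀.map (MulAut.conj (a * m)).toMonoidHom :=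
      (show A.map (MulAut.conj g₀).toMonoidHom ≤ stab ρ f from hf).trans h2
    have h4 : L₀.map (MulAut.conj (a * m)).toMonoidHom = L₀ :=
      map_conj_eq_self_iff.2 (le_normalizer (mul_mem (le_sup_left.trans h.le ha) hm))
    rw [h4] at h3
    exact hg₀ (h.mem_of_conj_le h3)
  -- regularity
  have hreg : ∀ g, g ∉ L₀ → ∀ f ∈ fixedPts ρ (A.map (MulAut.conj g).toMonoidHom), f ≠ 0 →
      ∀ e ∈ E, ∃ a ∈ A, ρ a f = e + f := by
    intro g hg f hf hf0 e he
    have hst : A ⊓ stab ρ f ≤ R := by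
      rintro b ⟨hb, hbf⟩
      have hbL := hstab g f hf0 hf hbf
      refine h.inf_core_le (mem_inf.2 ⟨hb, hKcore (MonoidHom.mem_ker.2 ?_)⟩)
      ext v
      show ρ b v = v
      obtain ⟨e', he', f', hf', rfl⟩ := AddSubgroup.mem_sup.1 (hsum g hg ▸ AddSubgroup.mem_top v)
      rw [map_add, he' b hb]
      congr 1
      refine sub_eq_zero.1 (hdisj g hg _ (hq b hb f') (sub_mem ?_ hf'))
      obtain ⟨y, hy, rfl⟩ := hbL
      rw [hE'] at hf' ⊢
      obtain ⟨w, hw, rfl⟩ := hf'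
      exact ⟨ρ y w, hinv y hy w hw, by
        show ρ g (ρ y w) = ρ (g * y * g⁻¹) (ρ g w)
        rw [← act_mul, ← act_mul, inv_mul_cancel_right]⟩
    obtain ⟨a, ha, hae⟩ := exists_move_eq hq R f hst hcardE he
    exact ⟨a, ha, sub_eq_iff_eq_add.1 hae⟩
  obtain ⟨e, he, he0⟩ := hEne
  set f := ρ g₀ e with hf_def
  have hf : f ∈ fixedPts ρ (A.map (MulAut.conj g₀).toMonoidHom) := (act_mem_fixedPts_conj ρ A g₀).2 he
  have hf0 : f ≠ 0 := fun h0 => he0 (by rw [← act_inv_cancel ρ g₀ e, ← hf_def, h0, map_zero])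
  obtain ⟨a, ha, haf⟩ := hreg g₀ hg₀ f hf hf0 e he
  have hg₁ : g₀⁻¹ ∉ L₀ := fun hc => hg₀ (by simpa using inv_mem hc)
  obtain ⟨a₂, ha₂, ha₂e⟩ := hreg g₀⁻¹ hg₁ (ρ g₀⁻¹ e) ((act_mem_fixedPts_conj ρ A g₀⁻¹).2 he)
    (fun h0 => he0 (by rw [← act_cancel_inv ρ g₀ e, h0, map_zero])) e he
  refine exists_hom_perm_three ρ hV2 e f a (g₀ * a₂ * g₀⁻¹) he0 hf0 ?_ (he a ha) haf
    (hf _ (conj_mem_map_conj g₀ ha₂)) ?_
  · intro hef; exact he0 (hdisj g₀ hg₀ e he (hef ▸ hf))
  · rw [act_mul, act_mul, ha₂e, map_add, act_cancel_inv, ← hf_def, add_comm]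

end CfsgLib.Techniques.SThree
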