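import Cfsg.Agent.Lib.Techniques.SThreeMu

/-!
The measure in a module that is generated by its minimal invariant subgroups over a base.
-/

set_option autoImplicit false
set_option linter.unusedSectionVars false

namespace CfsgLib.Techniques.SThree

universe u v

variable {K : Type u} [Group K] {M F : Type v} [AddCommGroup M] [AddCommGroup F] [Finite M] [Finite F]

/-- `N` is minimal among the invariant subgroups strictly over `Z₁`. -/
def MinOver (σ : K →* AddMonoid.End M) (Z₁ N : AddSubgroup M) : Prop :=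
  Inv σ N ∧ Z₁ < N ∧ ∀ Q, Inv σ Q → Z₁ ≤ Q → Q ≤ N → Q = Z₁ ∨ Q = N

theorem exists_minOver (σ : K →* AddMonoid.End M) {Z₁ Z : AddSubgroup M} (hZ : Inv σ Z) (h : Z₁ < Z) :
    ∃ N, MinOver σ Z₁ N ∧ N ≤ Z := by
  obtain ⟨N, hN⟩ := Set.Finite.exists_minimal (s := {N : AddSubgroup M | Inv σ N ∧ Z₁ < N ∧ N ≤ Z})
    (Set.toFinite _) ⟨Z, hZ, h, le_rfl⟩
  refine ⟨N, ⟨hN.prop.1, hN.prop.2.1, fun Q hQ h1 h2 => ?_⟩, hN.prop.2.2⟩
  rcases h1.lt_or_eq with h3 | h3
  · exact Or.inr (le_antisymm h2 (hN.le_of_le ⟨hQ, h3, h2.trans hN.prop.2.2⟩ h2))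
  · exact Or.inl h3.symm

theorem card_sup_minOver_pow {σ : K →* AddMonoid.End M} {Z₁ : AddSubgroup M} (hZ₁ : Inv σ Z₁) {t : ℕ}
    (s : Set (AddSubgroup M)) (hs : ∀ N ∈ s, MinOver σ Z₁ N ∧ Nat.card N = t * Nat.card Z₁) :
    Inv σ (Z₁ ⊔ sSup s) ∧ ∃ k, Nat.card (Z₁ ⊔ sSup s : AddSubgroup M) = t ^ k * Nat.card Z₁ := by
  induction s, s.toFinite using Set.Finite.induction_on with
  | empty => rw [sSup_empty, sup_bot_eq]; exact ⟨hZ₁, 0, by rw [pow_zero, one_mul]⟩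
  | @insert N s _ _ ih =>
    obtain ⟨hW, k, hk⟩ := ih fun N' hN' => hs N' (Set.mem_insert_of_mem _ hN')
    obtain ⟨hN, hNc⟩ := hs N (Set.mem_insert _ _)
    have e : Z₁ ⊔ sSup (insert N s) = (Z₁ ⊔ sSup s) ⊔ N := by
      rw [sSup_insert, sup_comm N, ← sup_assoc]
    rw [e]
    refine ⟨hW.sup hN.1, ?_⟩
    rcases hN.2.2 _ (hW.inf hN.1) (le_inf le_sup_left hN.2.1.le) inf_le_right with h | h
    · refine ⟨k + 1, ?_⟩
      have h1 := card_sup_mul_card_inf (Z₁ ⊔ sSup s) N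
      rw [h, hk, hNc] at h1
      refine Nat.eq_of_mul_eq_mul_right (Nat.card_pos (α := Z₁)) (h1.trans ?_)
      ring
    · refine ⟨k, ?_⟩
      rw [sup_eq_left.2 (inf_eq_right.1 h)]; exact hk

/-- The restrictions to a minimal `N` of a functional after the members of `D` give `t` functionals. -/
theorem exists_card_eq_mul {σ : K →* AddMonoid.End M} (h2M : ∀ m : M, m + m = 0)
    {Z₁ N : AddSubgroup M} {t : ℕ} (hN : MinOver σ Z₁ N) (hNc : Nat.card N = t * Nat.card Z₁)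
    (hZ₁ : Inv σ Z₁) (D : AddSubgroup (M →+ F))
    (hD : ∀ k : K, ∀ h ∈ D, AddMonoidHom.comp h (σ k : M →+ M) ∈ D)
    (hDZ : ∀ h ∈ D, ∀ z ∈ Z₁, h z = 0) (lam : F →+ ZMod 2) (hne : ∃ h ∈ D, ∃ n ∈ N, lam (h n) ≠ 0) :
    ∃ D' ≤ D, (∀ k : K, ∀ h ∈ D', AddMonoidHom.comp h (σ k : M →+ M) ∈ D') ∧
      (∀ h ∈ D, (∀ z ∈ N, h z = 0) → h ∈ D') ∧ D' ≠ D ∧ Nat.card D = t * Nat.card D' := by
  let D' : AddSubgroup (M →+ F) :=
    { carrier := {h | h ∈ D ∧ ∀ n ∈ N, lam (h n) = 0}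
      add_mem' := fun {a b} ha hb => ⟨add_mem ha.1 hb.1, fun n hn => by
        rw [AddMonoidHom.add_apply, map_add, ha.2 n hn, hb.2 n hn, add_zero]⟩
      zero_mem' := ⟨zero_mem _, fun n _ => map_zero lam⟩
      neg_mem' := fun {a} ha => ⟨neg_mem ha.1, fun n hn => by
        rw [AddMonoidHom.neg_apply, map_neg, ha.2 n hn, neg_zero]⟩ }
  refine ⟨D', fun h hh => hh.1, fun k h hh => ⟨hD k h hh.1, fun n hn => hh.2 _ (hN.1 k n hn)⟩,
    fun h hh hz => ⟨hh, fun n hn => by rw [hz n hn, map_zero]⟩, fun e => ?_, ?_⟩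
  · obtain ⟨h, hh, n, hn, hne⟩ := hne
    exact hne ((show h ∈ D' from e.symm ▸ hh).2 n hn)
  let φ : D →+ (N →+ ZMod 2) :=
    { toFun := fun h => (lam.comp h.1).comp N.subtype
      map_zero' := AddMonoidHom.ext fun n => map_zero lam
      map_add' := fun a b => AddMonoidHom.ext fun n => map_add lam (a.1 n.1) (b.1 n.1) }
  have hker : Nat.card φ.ker = Nat.card D' :=
    Nat.card_congr ⟨fun h => ⟨h.1.1, h.1.2, fun n hn =>
        DFunLike.congr_fun (show φ h.1 = 0 from h.2) ⟨n, hn⟩⟩,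
      fun h => ⟨⟨h.1, h.2.1⟩, AddMonoidHom.ext fun n => h.2.2 n n.2⟩, fun h => rfl, fun h => rfl⟩
  have hcard := φ.ker.card_eq_card_quotient_mul_card_addSubgroup
  rw [Nat.card_congr (QuotientAddGroup.quotientKerEquivRange φ).toEquiv, hker] at hcard
  rw [hcard]
  congr 1
  have h2N : ∀ n : N, n + n = 0 := fun n => Subtype.ext (h2M n)
  haveI : Finite (N →+ ZMod 2) :=
    Finite.of_injective (fun f => (f : N → ZMod 2)) DFunLike.coe_injective
  have hle : φ.range ≤ killing (Z₁.addSubgroupOf N) := by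
    rintro _ ⟨h, rfl⟩ n hn
    show lam (h.1 n.1) = 0
    rw [hDZ h.1 h.2 n.1 hn, map_zero]
  have hk := card_killing h2N (Z₁.addSubgroupOf N)
  rw [Nat.card_congr (AddSubgroup.addSubgroupOfEquivOfLe hN.2.1.le).toEquiv, hNc] at hk
  have hkt := Nat.eq_of_mul_eq_mul_right (Nat.card_pos (α := Z₁)) hk
  refine le_antisymm (hkt ▸ Nat.card_le_card_of_injective _ (AddSubgroup.inclusion_injective hle)) ?_
  let ev : N →+ (φ.range →+ ZMod 2) :=
    { toFun := fun n =>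
        { toFun := fun f => f.1 n
          map_zero' := rfl
          map_add' := fun a b => rfl }
      map_zero' := AddMonoidHom.ext fun f => map_zero f.1
      map_add' := fun a b => AddMonoidHom.ext fun f => map_add f.1 a b }
  let P : AddSubgroup M := (ev.ker).map N.subtype
  have hPmem : ∀ m, m ∈ P ↔ m ∈ N ∧ ∀ h ∈ D, lam (h m) = 0 := by
    intro m
    constructor
    · rintro ⟨n, hn, rfl⟩
      exact ⟨n.2, fun h hh => DFunLike.congr_fun (show ev n = 0 from hn) ⟨φ ⟨h, hh⟩, ⟨h, hh⟩, rfl⟩⟩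
    · rintro ⟨hm, hm'⟩
      refine ⟨⟨m, hm⟩, AddMonoidHom.ext fun f => ?_, rfl⟩
      obtain ⟨h, hh⟩ := f.2
      show f.1 ⟨m, hm⟩ = 0
      rw [← hh]
      exact hm' h.1 h.2
  have hPi : Inv σ P := fun k m hm => by
    rw [hPmem] at hm ⊢
    exact ⟨hN.1 k m hm.1, fun h hh => hm.2 _ (hD k h hh)⟩
  have hPZ : Z₁ ≤ P := fun z hz => (hPmem z).2 ⟨hN.2.1.le hz, fun h hh => by rw [hDZ h hh z hz, map_zero]⟩
  have hP : P = Z₁ := by
    rcases hN.2.2 P hPi hPZ (fun m hm => ((hPmem m).1 hm).1) with h | h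
    · exact h
    · obtain ⟨h', hh', n, hn, hne⟩ := hne
      exact absurd (((hPmem n).1 (h ▸ hn)).2 h' hh') hne
  have hkc : Nat.card ev.ker = Nat.card Z₁ := by
    rw [← hP]
    exact Nat.card_congr (ev.ker.equivMapOfInjective N.subtype Subtype.val_injective).toEquiv
  have h3 := ev.ker.card_eq_card_quotient_mul_card_addSubgroup
  rw [Nat.card_congr (QuotientAddGroup.quotientKerEquivRange ev).toEquiv, hkc, hNc] at h3
  have h4 := Nat.eq_of_mul_eq_mul_right (Nat.card_pos (α := Z₁)) h3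
  refine h4.le.trans ?_
  rw [← card_hom_zmod_two (G := φ.range) fun f => Subtype.ext (AddMonoidHom.ext fun n =>
    (show ∀ x : ZMod 2, x + x = 0 by decide) (f.1 n))]
  haveI : Finite (φ.range →+ ZMod 2) :=
    Finite.of_injective (fun f => (f : φ.range → ZMod 2)) DFunLike.coe_injective
  exact Nat.card_le_card_of_injective _ Subtype.val_injective

/-- The index of the annihilator is a power of `t`. -/
theorem exists_card_eq_pow_mul {σ : K →* AddMonoid.End M} (h2M : ∀ m : M, m + m = 0)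
    (h2F : ∀ f : F, f + f = 0) {Z₁ Z : AddSubgroup M} (hZ₁ : Inv σ Z₁) (hZ : Inv σ Z) {t : ℕ}
    (s : Set (AddSubgroup M)) (hs : ∀ N ∈ s, MinOver σ Z₁ N ∧ Nat.card N = t * Nat.card Z₁)
    (hsZ : Z₁ ⊔ sSup s = Z) (O : AddSubgroup (M →+ F))
    (hO : ∀ k : K, ∀ h ∈ O, AddMonoidHom.comp h (σ k : M →+ M) ∈ O) :
    ∃ l, Nat.card (annIn O Z₁) = t ^ l * Nat.card (annIn O Z) := by
  suffices H : ∀ (n : ℕ) (D : AddSubgroup (M →+ F)), Nat.card D < n → annIn O Z ≤ D → D ≤ annIn O Z₁ →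
      (∀ k : K, ∀ h ∈ D, AddMonoidHom.comp h (σ k : M →+ M) ∈ D) →
      ∃ l, Nat.card D = t ^ l * Nat.card (annIn O Z) by
    refine H _ _ (Nat.lt_succ_self _) (annIn_anti O (hsZ ▸ le_sup_left)) le_rfl fun k h hh => ?_
    exact ⟨hO k h hh.1, fun z hz => hh.2 _ (hZ₁ k z hz)⟩
  intro n
  induction n with
  | zero => intro D h; omega
  | succ n ih =>
    intro D hn hD1 hD2 hD
    by_cases hall : ∀ h ∈ D, ∀ N ∈ s, ∀ z ∈ N, h z = 0
    · refine ⟨0, ?_⟩
      rw [pow_zero, one_mul]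
      suffices e : D = annIn O Z by rw [e]
      refine le_antisymm (fun h hh => ⟨(hD2 hh).1, ?_⟩) hD1
      have : Z ≤ h.ker := by
        rw [← hsZ]
        exact sup_le (fun z hz => (hD2 hh).2 z hz) (sSup_le fun N hN z hz => hall h hh N hN z hz)
      exact fun z hz => this hz
    push Not at hall
    obtain ⟨h, hh, N, hN, z, hz, hne⟩ := hall
    obtain ⟨lam, hlam⟩ := exists_hom_ne_zero h2F hne
    obtain ⟨D', hD'D, hD'i, hD'a, hD'ne, hc⟩ := exists_card_eq_mul h2M (hs N hN).1 (hs N hN).2 hZ₁ D hD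
      (fun g hg => (hD2 hg).2) lam ⟨h, hh, z, hz, hlam⟩
    have hlt : Nat.card D' < Nat.card D := Set.Finite.card_lt_card (Set.toFinite _)
      (SetLike.coe_ssubset_coe.2 (lt_of_le_of_ne hD'D hD'ne))
    obtain ⟨l, hl⟩ := ih D' (by omega) (fun g hg => hD'a g (hD1 hg) fun y hy => hg.2 y (by
      rw [← hsZ]; exact AddSubgroup.mem_sup_right (le_sSup hN hy))) (hD'D.trans hD2) hD'i
    exact ⟨l + 1, by rw [hc, hl, pow_succ]; ring⟩

end CfsgLib.Techniques.SThree
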