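import Cfsg.Agent.Lib.Techniques.SThreeBalanced
import Cfsg.Agent.Lib.Techniques.SThreeCount

/-!
A quadratic subgroup of best measure, generating `K` with each conjugate outside `L₀`, gives a quadratic
offender of `R` on every `L₀`-invariant subgroup of its fixed vectors, if `K` has no section `S₃`.
-/

set_option autoImplicit false
set_option linter.unusedSectionVars false

namespace CfsgLib.Techniques.SThree

open Subgroup CfsgLib.Techniques

universe u v

variable {K : Type u} [Group K] {V : Type v} [AddCommGroup V]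

/-- The elements fixing every vector of `N`. -/
def ptStab (ρ : K →* AddMonoid.End V) (N : AddSubgroup V) : Subgroup K where
  carrier := {x | ∀ v ∈ N, ρ x v = v}
  mul_mem' := fun {x y} hx hy v hv => by rw [act_mul, hy v hv, hx v hv]
  one_mem' := fun v _ => act_one ρ v
  inv_mem' := fun {x} hx v hv => by conv_lhs => rw [← hx v hv, act_inv_cancel]

theorem mem_ptStab {ρ : K →* AddMonoid.End V} {N : AddSubgroup V} {x : K} :
    x ∈ ptStab ρ N ↔ ∀ v ∈ N, ρ x v = v := Iff.rfl

/-- The vectors that `x` moves into `N`. -/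
def moveInto (ρ : K →* AddMonoid.End V) (x : K) (N : AddSubgroup V) : AddSubgroup V where
  carrier := {v | ρ x v - v ∈ N}
  add_mem' := fun {a b} ha hb => by
    show ρ x (a + b) - (a + b) ∈ N
    rw [map_add, add_sub_add_comm]; exact N.add_mem ha hb
  zero_mem' := by show ρ x 0 - 0 ∈ N; rw [map_zero, sub_self]; exact N.zero_mem
  neg_mem' := fun {a} ha => by
    show ρ x (-a) - -a ∈ N
    rw [map_neg, neg_sub_neg, ← neg_sub]; exact N.neg_mem ha

theorem mem_moveInto {ρ : K →* AddMonoid.End V} {x : K} {N : AddSubgroup V} {v : V} :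
    v ∈ moveInto ρ x N ↔ ρ x v - v ∈ N := Iff.rfl

/-- The span of the orbit of `X` together with `N`. -/
def orbitSpan (ρ : K →* AddMonoid.End V) (N X : AddSubgroup V) : AddSubgroup V :=
  N ⊔ AddSubgroup.closure {w | ∃ k : K, ∃ v ∈ X, ρ k v = w}

theorem orbitSpan_inv (ρ : K →* AddMonoid.End V) {N : AddSubgroup V} (hN : ∀ k : K, ∀ v ∈ N, ρ k v ∈ N)
    (X : AddSubgroup V) (k : K) : ∀ v ∈ orbitSpan ρ N X, ρ k v ∈ orbitSpan ρ N X := by
  show orbitSpan ρ N X ≤ (orbitSpan ρ N X).comap (ρ k : V →+ V)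
  refine sup_le (fun v hv => AddSubgroup.mem_sup_left (hN k v hv)) ((AddSubgroup.closure_le _).2 ?_)
  rintro _ ⟨j, v, hv, rfl⟩
  exact AddSubgroup.mem_sup_right (AddSubgroup.subset_closure ⟨k * j, v, hv, act_mul ρ k j v⟩)

theorem card_preimage {G : Type v} [AddCommGroup G] [Finite G] (N : AddSubgroup G)
    (Z : AddSubgroup (G ⧸ N)) : Nat.card (Z.comap (QuotientAddGroup.mk' N)) = Nat.card Z * Nat.card N := by
  have h1 := (Z.comap (QuotientAddGroup.mk' N)).card_mul_index
  rw [AddSubgroup.index_comap_of_surjective _ (QuotientAddGroup.mk'_surjective N),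
    N.card_eq_card_quotient_mul_card_addSubgroup, ← Z.card_mul_index] at h1
  refine Nat.eq_of_mul_eq_mul_right (Nat.pos_of_ne_zero Z.index_ne_zero_of_finite) ?_
  rw [h1]; ring

/-- Restriction of homomorphisms. -/
def resHom {M F : Type v} [AddCommGroup M] [AddCommGroup F] (Z : AddSubgroup M) :
    (M →+ F) →+ (Z →+ F) where
  toFun h := h.comp Z.subtype
  map_zero' := rfl
  map_add' _ _ := rfl

theorem card_map_res {M F : Type v} [AddCommGroup M] [AddCommGroup F] [Finite M] [Finite F]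
    (O : AddSubgroup (M →+ F)) (Z : AddSubgroup M) :
    Nat.card (O.map (resHom Z)) * Nat.card (annIn O Z) = Nat.card O := by
  let f : O →+ (Z →+ F) := (resHom Z).comp O.subtype
  have hk : f.ker = (annIn O Z).addSubgroupOf O := by
    ext h
    rw [AddMonoidHom.mem_ker, AddSubgroup.mem_addSubgroupOf, mem_annIn]
    exact ⟨fun e => ⟨h.2, fun z hz => DFunLike.congr_fun e ⟨z, hz⟩⟩,
      fun e => AddMonoidHom.ext fun z => e.2 z z.2⟩
  have hr : f.range = O.map (resHom Z) := by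
    rw [AddMonoidHom.range_comp, AddSubgroup.range_subtype]
  have h := f.ker.card_eq_card_quotient_mul_card_addSubgroup
  rw [Nat.card_congr (QuotientAddGroup.quotientKerEquivRange f).toEquiv, hr, hk,
    Nat.card_congr (AddSubgroup.addSubgroupOfEquivOfLe (annIn_le O Z)).toEquiv] at h
  exact h.symm

variable [Finite K] [Finite V]

/-- The transfer of an offender from `A` to a normal subgroup inside `R`. -/
theorem transfer (ρ : K →* AddMonoid.End V) (hV2 : ∀ v : V, v + v = 0) {A L₀ R : Subgroup K}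
    (h : UniqueOver A L₀ R)
    (hgen : ∀ x, x ∉ L₀ → A ⊔ A.map (MulAut.conj x).toMonoidHom = ⊤) (hq : Quad ρ A)
    (hbest : ∀ B' ≤ A, Nat.card B' * Nat.card (fixedPts ρ B') ≤ Nat.card A * Nat.card (fixedPts ρ A))
    (hS3 : ∀ (H : Subgroup K) (φ : H →* Equiv.Perm (Fin 3)), ¬ Function.Surjective φ)
    (X₂ : AddSubgroup V) (hX : X₂ ≤ fixedPts ρ A) (hinv : ∀ k ∈ L₀, ∀ v ∈ X₂, ρ k v ∈ X₂) :
    ∃ O₁ ≤ R, (∀ r ∈ O₁, ∀ v ∈ X₂, ρ r v - v ∈ fixedPts ρ (⊤ : Subgroup K)) ∧
      Nat.card X₂ * Nat.card (O₁ ⊓ ptStab ρ X₂ : Subgroup K) ≤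
        Nat.card (X₂ ⊓ fixedPts ρ (⊤ : Subgroup K) : AddSubgroup V) * Nat.card O₁ := by
  classical
  haveI : R.Normal := h.normal
  set F := fixedPts ρ (⊤ : Subgroup K)
  have hFfix : ∀ k : K, ∀ v ∈ F, ρ k v = v := fun k v hv => hv k (mem_top k)
  have hFi : ∀ k : K, ∀ v ∈ F, ρ k v ∈ F := fun k v hv => by rw [hFfix k v hv]; exact hv
  set M := orbitSpan ρ F X₂ with hMdef
  have hMi : ∀ k : K, ∀ v ∈ M, ρ k v ∈ M := orbitSpan_inv ρ hFi X₂
  have hFM : F ≤ M := le_sup_left
  have hXM : X₂ ≤ M := fun v hv =>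
    AddSubgroup.mem_sup_right (AddSubgroup.subset_closure ⟨1, v, hv, act_one ρ v⟩)
  obtain ⟨x, hx⟩ : ∃ x, x ∉ L₀ := by
    by_contra hall
    push Not at hall
    exact h.ne_top (eq_top_iff.2 fun y _ => hall y)
  have hg := hgen x hx
  have hME : M ≤ fixedPts ρ A ⊔ fixedPts ρ (A.map (MulAut.conj x).toMonoidHom) := by
    refine sup_le ((fixedPts_top_le ρ A).trans le_sup_left) ((AddSubgroup.closure_le _).2 ?_)
    rintro _ ⟨k, v, hv, rfl⟩
    exact sum_fixed_inv hq hg k v (AddSubgroup.mem_sup_left (hX hv))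
  -- the part of `A` in `R` moves `M` into `F`
  have hB : ∀ b ∈ A ⊓ R, ∀ m ∈ M, ρ b m - m ∈ F := by
    intro b hb
    show M ≤ moveInto ρ b F
    refine sup_le (fun v hv => ?_) ((AddSubgroup.closure_le _).2 ?_)
    · rw [mem_moveInto, hFfix b v hv, sub_self]; exact zero_mem _
    · rintro _ ⟨k, v, hv, rfl⟩
      show ρ b (ρ k v) - ρ k v ∈ F
      by_cases hk : k ∈ L₀
      · rw [hX (hinv k hk v hv) b hb.1, sub_self]; exact zero_mem _
      · have h1 : ρ (k⁻¹ * b * k) v ∈ X₂ := by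
          refine hinv _ (le_sup_right.trans h.le ?_) v hv
          simpa using h.normal.conj_mem b hb.2 k⁻¹
        have h2 : ρ b (ρ k v) = ρ k (ρ (k⁻¹ * b * k) v) := by
          rw [← act_mul, ← act_mul, show k * (k⁻¹ * b * k) = b * k by group]
        refine fixed_inter_le (hgen k hk) (hq b hb.1 _) ?_
        refine AddSubgroup.sub_mem _ ?_ ((act_mem_fixedPts_conj ρ A k).2 (hX hv))
        rw [h2]; exact (act_mem_fixedPts_conj ρ A k).2 (hX h1)
  let O₁ : Subgroup K :=
    { carrier := {r | r ∈ R ∧ ∀ m ∈ M, ρ r m - m ∈ F}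
      mul_mem' := fun {r s} hr hs => ⟨R.mul_mem hr.1 hs.1, fun m hm => by
        have e : ρ (r * s) m - m = ρ r (ρ s m - m) + (ρ r m - m) := by rw [map_sub, act_mul]; abel
        rw [e, hFfix r _ (hs.2 m hm)]
        exact F.add_mem (hs.2 m hm) (hr.2 m hm)⟩
      one_mem' := ⟨R.one_mem, fun m _ => by rw [act_one, sub_self]; exact zero_mem _⟩
      inv_mem' := fun {r} hr => ⟨R.inv_mem hr.1, fun m hm => by
        have e : ρ r⁻¹ m - m = -(ρ r⁻¹ (ρ r m - m)) := by rw [map_sub, act_inv_cancel]; abel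
        rw [e, hFfix r⁻¹ _ (hr.2 m hm)]
        exact F.neg_mem (hr.2 m hm)⟩ }
  have hO₁ : ∀ r ∈ O₁, r ∈ R ∧ ∀ m ∈ M, ρ r m - m ∈ F := fun r hr => hr
  have hconj : ∀ k : K, ∀ r ∈ O₁, k * r * k⁻¹ ∈ O₁ := fun k r hr =>
    ⟨h.normal.conj_mem r (hO₁ r hr).1 k, fun m hm => by
      have e : ρ (k * r * k⁻¹) m - m = ρ k (ρ r (ρ k⁻¹ m) - ρ k⁻¹ m) := by
        rw [map_sub, act_cancel_inv, act_mul, act_mul]
      rw [e]
      exact hFi k _ ((hO₁ r hr).2 _ (hMi _ m hm))⟩
  refine ⟨O₁, fun r hr => (hO₁ r hr).1, fun r hr v hv => (hO₁ r hr).2 v (hXM hv), ?_⟩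
  -- the representation on `M / F` and the homomorphisms to `F`
  let FM : AddSubgroup M := F.addSubgroupOf M
  let σ : K →* AddMonoid.End (M ⧸ FM) := quotRep (subRep ρ M hMi) FM fun k v hv => hFi k _ hv
  let hf : O₁ → (M ⧸ FM →+ F) := fun r => QuotientAddGroup.lift FM
    { toFun := fun m => ⟨ρ (r : K) m - m, (hO₁ r r.2).2 m m.2⟩
      map_zero' := Subtype.ext (by show ρ (r : K) (0 : V) - 0 = 0; rw [map_zero, sub_self])
      map_add' := fun a b => Subtype.ext (by
        show ρ (r : K) ((a : V) + b) - ((a : V) + b) = (ρ (r : K) a - a) + (ρ (r : K) b - b)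
        rw [map_add]; abel) }
    (fun m hm => Subtype.ext (by
      show ρ (r : K) (m : V) - m = 0
      have hm' : (m : V) ∈ F := AddSubgroup.mem_addSubgroupOf.1 hm
      rw [hFfix _ _ hm', sub_self]))
  have hfv : ∀ (r : O₁) (m : M), (hf r (QuotientAddGroup.mk m) : V) = ρ (r : K) m - m := fun _ _ => rfl
  let Φ : Additive O₁ →+ (M ⧸ FM →+ F) :=
    { toFun := fun r => hf (Additive.toMul r)
      map_zero' := AddMonoidHom.ext fun q => QuotientAddGroup.induction_on q fun m => Subtype.ext (by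
        show ρ (1 : K) (m : V) - m = 0
        rw [act_one, sub_self])
      map_add' := fun r s => AddMonoidHom.ext fun q => QuotientAddGroup.induction_on q fun m =>
        Subtype.ext (by
          show ρ ((Additive.toMul r : O₁) * (Additive.toMul s : O₁) : K) (m : V) - m =
            (ρ (Additive.toMul r : O₁) m - m) + (ρ (Additive.toMul s : O₁) m - m)
          rw [act_mul]
          have := hFfix (Additive.toMul r : O₁) _ ((hO₁ _ (Additive.toMul s).2).2 m m.2)
          rw [map_sub] at this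
          rw [← this]; abel) }
  let O := Φ.range
  have hO : ∀ k : K, ∀ g ∈ O, AddMonoidHom.comp g (σ k : M ⧸ FM →+ M ⧸ FM) ∈ O := by
    rintro k _ ⟨r, rfl⟩
    refine ⟨Additive.ofMul ⟨k⁻¹ * (Additive.toMul r : O₁) * k, ?_⟩, AddMonoidHom.ext fun q =>
      QuotientAddGroup.induction_on q fun m => Subtype.ext ?_⟩
    · have := hconj k⁻¹ _ (Additive.toMul r).2
      rwa [inv_inv] at this
    · show ρ (k⁻¹ * (Additive.toMul r : O₁) * k) (m : V) - m =
        ρ (Additive.toMul r : O₁) (ρ k m) - ρ k m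
      have h1 := hFfix k⁻¹ _ ((hO₁ _ (Additive.toMul r).2).2 _ (hMi k m m.2))
      rw [map_sub, act_inv_cancel] at h1
      rw [act_mul, act_mul]; exact h1
  have h2F : ∀ f : F, f + f = 0 := fun f => Subtype.ext (hV2 f)
  have h2M : ∀ q : M ⧸ FM, q + q = 0 := fun q => QuotientAddGroup.induction_on q fun m =>
    congrArg QuotientAddGroup.mk (Subtype.ext (hV2 m) : m + m = 0)
  -- preimages in `V`
  let pre : AddSubgroup (M ⧸ FM) → AddSubgroup V := fun Z =>
    (Z.comap (QuotientAddGroup.mk' FM)).map M.subtype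
  have hpre_le : ∀ Z, pre Z ≤ M := fun Z => by rintro _ ⟨m, -, rfl⟩; exact m.2
  have hpre_mem : ∀ (Z) (m : M), (m : V) ∈ pre Z ↔ (QuotientAddGroup.mk m : M ⧸ FM) ∈ Z := fun Z m =>
    ⟨fun ⟨m', hm', e⟩ => (Subtype.ext e : m' = m) ▸ hm', fun hm => ⟨m, hm, rfl⟩⟩
  have hpreF : ∀ Z, F ≤ pre Z := fun Z v hv => (hpre_mem Z ⟨v, hFM hv⟩).2 (by
    rw [(QuotientAddGroup.eq_zero_iff _).2 (show (⟨v, hFM hv⟩ : M) ∈ FM from hv)]; exact zero_mem _)
  have hprei : ∀ Z, Inv σ Z → ∀ k : K, ∀ v ∈ pre Z, ρ k v ∈ pre Z := by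
    rintro Z hZ k _ ⟨m, hm, rfl⟩
    exact (hpre_mem Z ⟨ρ k m, hMi k m m.2⟩).2 (hZ k _ hm)
  have hprec : ∀ Z, Nat.card (pre Z) = Nat.card Z * Nat.card F := fun Z => by
    rw [← Nat.card_congr ((Z.comap (QuotientAddGroup.mk' FM)).equivMapOfInjective M.subtype
      M.subtype_injective).toEquiv, card_preimage,
      Nat.card_congr (AddSubgroup.addSubgroupOfEquivOfLe hFM).toEquiv]
  have hbal : ∀ Z, Inv σ Z → Nat.card (pre Z) * Nat.card F =
      Nat.card (pre Z ⊓ fixedPts ρ A : AddSubgroup V) * Nat.card (pre Z ⊓ fixedPts ρ A : AddSubgroup V) :=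
    fun Z hZ => card_balanced hq hg hV2 (hprei Z hZ) (hpreF Z) ((hpre_le Z).trans hME)
  obtain ⟨q, hqA⟩ : ∃ q, Nat.card A = q * Nat.card (A ⊓ R : Subgroup K) := by
    obtain ⟨q, hq⟩ := card_dvd_of_le (inf_le_left : A ⊓ R ≤ A)
    exact ⟨q, by rw [hq, mul_comm]⟩
  have hH : ∀ Z, Inv σ Z → mu O Z ≤ q * q * Nat.card O := by
    intro Z hZ
    set P := pre Z
    set B' : Subgroup K := A ⊓ R ⊓ ptStab ρ P
    let ι₁ : (A ⊓ R : Subgroup K) →* O₁ :=
      { toFun := fun b => ⟨b, b.2.2, hB b b.2⟩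
        map_one' := rfl
        map_mul' := fun _ _ => rfl }
    let ι₂ : (A ⊓ R : Subgroup K) →* O₁ :=
      { toFun := fun b => ⟨x * b * x⁻¹, hconj x b ⟨b.2.2, hB b b.2⟩⟩
        map_one' := Subtype.ext (by show x * (1 : K) * x⁻¹ = 1; group)
        map_mul' := fun a b => Subtype.ext (by
          show x * ((a : K) * b) * x⁻¹ = x * a * x⁻¹ * (x * b * x⁻¹); group) }
    let θ : Additive (A ⊓ R : Subgroup K) × Additive (A ⊓ R : Subgroup K) →+ (Z →+ F) :=
      ((resHom Z).comp (Φ.comp (MonoidHom.toAdditive ι₁))).coprod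
        ((resHom Z).comp (Φ.comp (MonoidHom.toAdditive ι₂)))
    have hrange : Nat.card θ.range ≤ Nat.card (O.map (resHom Z)) := by
      refine Nat.card_le_card_of_injective _ (AddSubgroup.inclusion_injective (H := θ.range) ?_)
      rintro _ ⟨⟨a, b⟩, rfl⟩
      exact (O.map (resHom Z)).add_mem ⟨_, ⟨_, rfl⟩, rfl⟩ ⟨_, ⟨_, rfl⟩, rfl⟩
    have hker : ∀ p : θ.ker, ((Additive.toMul p.1.1 : (A ⊓ R : Subgroup K)) : K) ∈ B' ∧
        ((Additive.toMul p.1.2 : (A ⊓ R : Subgroup K)) : K) ∈ B' := by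
      rintro ⟨⟨a, b⟩, hp⟩
      set a' : (A ⊓ R : Subgroup K) := Additive.toMul a
      set b' : (A ⊓ R : Subgroup K) := Additive.toMul b
      have h1 : ∀ m ∈ P, (ρ (a' : K) m - m) + (ρ (x * b' * x⁻¹) m - m) = 0 := by
        rintro _ ⟨m, hm, rfl⟩
        exact congrArg Subtype.val (DFunLike.congr_fun (AddMonoidHom.mem_ker.1 hp) ⟨_, hm⟩)
      have hb2 : ∀ m ∈ fixedPts ρ (A.map (MulAut.conj x).toMonoidHom), ρ (x * b' * x⁻¹) m = m :=
        fun m hm => hm _ (conj_mem_map_conj x b'.2.1)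
      have hsum : (P ⊓ _) ⊔ (P ⊓ _) = P :=
        balanced hq hg hV2 (hprei Z hZ) (hpreF Z) ((hpre_le Z).trans hME)
      have ha0 : (a' : K) ∈ ptStab ρ P := by
        intro m hm
        rw [← hsum] at hm
        obtain ⟨e, he, e', he', rfl⟩ := AddSubgroup.mem_sup.1 hm
        rw [map_add, he.2 _ a'.2.1]
        congr 1
        have h2 := h1 e' he'.1
        rw [hb2 e' he'.2, sub_self, add_zero, sub_eq_zero] at h2
        exact h2
      have hb0 : (b' : K) ∈ ptStab ρ P := by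
        intro m hm
        have h2 := h1 _ (hprei Z hZ x m hm)
        rw [ha0 _ (hprei Z hZ x m hm), sub_self, zero_add, sub_eq_zero, act_mul, act_inv_cancel,
          act_mul] at h2
        simpa only [act_inv_cancel] using congrArg (ρ x⁻¹) h2
      exact ⟨⟨a'.2, ha0⟩, ⟨b'.2, hb0⟩⟩
    have hkc : Nat.card θ.ker ≤ Nat.card B' * Nat.card B' := by
      rw [← Nat.card_prod]
      refine Nat.card_le_card_of_injective
        (fun p => ((⟨_, (hker p).1⟩ : B'), (⟨_, (hker p).2⟩ : B'))) fun p p' hpp => ?_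
      have e1 := congrArg (fun z : B' × B' => (z.1 : K)) hpp
      have e2 := congrArg (fun z : B' × B' => (z.2 : K)) hpp
      exact Subtype.ext (Prod.ext (Additive.toMul.injective (Subtype.ext e1))
        (Additive.toMul.injective (Subtype.ext e2)))
    have hBB : Nat.card (A ⊓ R : Subgroup K) * Nat.card (A ⊓ R : Subgroup K) ≤
        Nat.card (O.map (resHom Z)) * (Nat.card B' * Nat.card B') := by
      have h1 := θ.ker.card_eq_card_quotient_mul_card_addSubgroup
      rw [Nat.card_congr (QuotientAddGroup.quotientKerEquivRange θ).toEquiv, Nat.card_prod] at h1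
      calc _ = Nat.card θ.range * Nat.card θ.ker :=
            (congrArg₂ (· * ·) (Nat.card_congr (Additive.toMul)).symm
              (Nat.card_congr (Additive.toMul)).symm).trans h1
        _ ≤ _ := Nat.mul_le_mul hrange hkc
    have hZA : Nat.card B' * Nat.card B' * Nat.card Z ≤ Nat.card A * Nat.card A := by
      set E := fixedPts ρ A
      have hle : E ⊔ P ≤ fixedPts ρ B' :=
        sup_le (fun v hv a ha => hv a ha.1.1) fun v hv a ha => ha.2 v hv
      have h1 : Nat.card B' * Nat.card P ≤ Nat.card A * Nat.card (P ⊓ E : AddSubgroup V) := by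
        refine Nat.le_of_mul_le_mul_right ?_ (Nat.card_pos (α := E))
        calc Nat.card B' * Nat.card P * Nat.card E = Nat.card B' * (Nat.card E * Nat.card P) := by ring
          _ = Nat.card B' * Nat.card (E ⊔ P : AddSubgroup V) * Nat.card (E ⊓ P : AddSubgroup V) := by
              rw [← card_sup_mul_card_inf]; ring
          _ ≤ Nat.card B' * Nat.card (fixedPts ρ B') * Nat.card (E ⊓ P : AddSubgroup V) :=
              Nat.mul_le_mul_right _ (Nat.mul_le_mul_left _
                (Nat.card_le_card_of_injective _ (AddSubgroup.inclusion_injective hle)))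
          _ ≤ Nat.card A * Nat.card E * Nat.card (E ⊓ P : AddSubgroup V) :=
              Nat.mul_le_mul_right _ (hbest B' (inf_le_left.trans inf_le_left))
          _ = _ := by rw [inf_comm E P]; ring
      have h2 := Nat.mul_le_mul h1 h1
      have hp : Nat.card P = Nat.card Z * Nat.card F := hprec Z
      refine Nat.le_of_mul_le_mul_right ?_ (Nat.mul_pos (Nat.card_pos (α := P)) (Nat.card_pos (α := F)))
      calc Nat.card B' * Nat.card B' * Nat.card Z * (Nat.card P * Nat.card F)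
          = Nat.card B' * Nat.card B' * Nat.card P * (Nat.card Z * Nat.card F) := by ring
        _ = Nat.card B' * Nat.card P * (Nat.card B' * Nat.card P) := by rw [← hp]; ring
        _ ≤ _ := h2
        _ = Nat.card A * Nat.card A * (Nat.card P * Nat.card F) := by rw [hbal Z hZ]; ring
    refine Nat.le_of_mul_le_mul_right ?_
      (Nat.mul_pos (Nat.card_pos (α := (A ⊓ R : Subgroup K))) (Nat.card_pos (α := (A ⊓ R : Subgroup K))))
    calc mu O Z * (Nat.card (A ⊓ R : Subgroup K) * Nat.card (A ⊓ R : Subgroup K))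
        ≤ mu O Z * (Nat.card (O.map (resHom Z)) * (Nat.card B' * Nat.card B')) :=
          Nat.mul_le_mul_left _ hBB
      _ = Nat.card B' * Nat.card B' * Nat.card Z * Nat.card O := by
          rw [mu, ← card_map_res O Z]; ring
      _ ≤ Nat.card A * Nat.card A * Nat.card O := Nat.mul_le_mul_right _ hZA
      _ = _ := by rw [hqA]; ring
  have hQ : ∀ Z₁ Z₂, Inv σ Z₁ → Inv σ Z₂ → Z₁ < Z₂ → q * q * Nat.card Z₁ < Nat.card Z₂ := by
    intro Z₁ Z₂ hZ₁ hZ₂ hlt
    obtain ⟨N, hN, hNle⟩ := exists_minOver σ hZ₂ hlt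
    refine lt_of_lt_of_le ?_ (Nat.card_le_card_of_injective _ (AddSubgroup.inclusion_injective hNle))
    by_contra hle
    rw [not_lt] at hle
    let τ : K →* AddMonoid.End (N ⧸ Z₁.addSubgroupOf N) :=
      quotRep (subRep σ N hN.1) (Z₁.addSubgroupOf N) fun k v hv => hZ₁ k _ hv
    have hτv : ∀ (k : K) (n : N) (hk : σ k (n : M ⧸ FM) - n ∈ Z₁),
        τ k (QuotientAddGroup.mk n) = QuotientAddGroup.mk n := by
      intro k n hk
      show QuotientAddGroup.mk (⟨σ k n, hN.1 k n n.2⟩ : N) = QuotientAddGroup.mk n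
      rw [QuotientAddGroup.eq, AddSubgroup.mem_addSubgroupOf]
      show -(σ k (n : M ⧸ FM)) + n ∈ Z₁
      rw [neg_add_eq_sub, ← neg_sub]; exact Z₁.neg_mem hk
    -- `R` acts trivially on the minimal section
    have hτR : ∀ r ∈ R, τ r = 1 := by
      let Q : AddSubgroup (M ⧸ FM) :=
        { carrier := {z | z ∈ N ∧ ∀ r ∈ R, σ r z - z ∈ Z₁}
          add_mem' := fun {a b} ha hb => ⟨N.add_mem ha.1 hb.1, fun r hr => by
            rw [map_add, add_sub_add_comm]; exact Z₁.add_mem (ha.2 r hr) (hb.2 r hr)⟩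
          zero_mem' := ⟨N.zero_mem, fun r _ => by rw [map_zero, sub_self]; exact Z₁.zero_mem⟩
          neg_mem' := fun {a} ha => ⟨N.neg_mem ha.1, fun r hr => by
            rw [map_neg, neg_sub_neg, ← neg_sub]; exact Z₁.neg_mem (ha.2 r hr)⟩ }
      have hQi : Inv σ Q := fun k z hz => ⟨hN.1 k z hz.1, fun r hr => by
        have e : σ r (σ k z) - σ k z = σ k (σ (k⁻¹ * r * k) z - z) := by
          rw [map_sub, ← act_mul, ← act_mul, show k * (k⁻¹ * r * k) = r * k by group]
        rw [e]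
        refine hZ₁ k _ (hz.2 _ ?_)
        simpa using h.normal.conj_mem r hr k⁻¹⟩
      rcases hN.2.2 Q hQi (fun z hz => ⟨hN.2.1.le hz, fun r _ => Z₁.sub_mem (hZ₁ r z hz) hz⟩)
        (fun z hz => hz.1) with hQ1 | hQ1
      · exfalso
        obtain ⟨n, hn, hn1⟩ := SetLike.exists_of_lt hN.2.1
        have hne : (QuotientAddGroup.mk ⟨n, hn⟩ : N ⧸ Z₁.addSubgroupOf N) ≠ 0 := fun e =>
          hn1 (AddSubgroup.mem_addSubgroupOf.1 ((QuotientAddGroup.eq_zero_iff (⟨n, hn⟩ : N)).1 e))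
        obtain ⟨v, hv0, hv⟩ := exists_fixed_ne_zero (ρ := τ)
          (fun v => QuotientAddGroup.induction_on v fun m => congrArg QuotientAddGroup.mk
            (Subtype.ext (h2M m) : m + m = 0)) h.isPR hne
        induction v using QuotientAddGroup.induction_on with
        | H m =>
          apply hv0
          rw [QuotientAddGroup.eq_zero_iff, AddSubgroup.mem_addSubgroupOf, ← hQ1]
          refine ⟨m.2, fun r hr => ?_⟩
          have h1 : QuotientAddGroup.mk (⟨σ r m, hN.1 r m m.2⟩ : N) = QuotientAddGroup.mk m := hv r hr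
          rw [QuotientAddGroup.eq, AddSubgroup.mem_addSubgroupOf] at h1
          have h2 : -(σ r (m : M ⧸ FM)) + m ∈ Z₁ := h1
          rw [neg_add_eq_sub] at h2
          rw [← neg_sub]; exact Z₁.neg_mem h2
      · intro r hr
        refine AddMonoidHom.ext fun v => QuotientAddGroup.induction_on v fun m => hτv r m ?_
        exact (hQ1.symm ▸ m.2 : (m : M ⧸ FM) ∈ Q).2 r hr
    have hτq : Quad τ A := fun a ha v => QuotientAddGroup.induction_on v fun n b hb => by
      obtain ⟨m, hm⟩ := QuotientAddGroup.mk_surjective (n : M ⧸ FM)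
      refine congrArg QuotientAddGroup.mk (Subtype.ext ?_)
      show σ b (σ a (n : M ⧸ FM) - n) = σ a (n : M ⧸ FM) - n
      rw [← hm]
      exact congrArg QuotientAddGroup.mk (Subtype.ext (hq a ha (m : V) b hb))
    set P₁ := pre Z₁
    set P₂ := pre N
    set E := fixedPts ρ A
    -- the fixed vectors of `A` in the section
    let mkN : (P₂ ⊓ E : AddSubgroup V) → N := fun w =>
      ⟨QuotientAddGroup.mk (⟨w, hpre_le N w.2.1⟩ : M), (hpre_mem N _).1 w.2.1⟩
    let g : (P₂ ⊓ E : AddSubgroup V) →+ N ⧸ Z₁.addSubgroupOf N :=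
      { toFun := fun w => QuotientAddGroup.mk (mkN w)
        map_zero' := rfl
        map_add' := fun _ _ => rfl }
    have hgr : g.range ≤ fixedPts τ A := by
      rintro _ ⟨w, rfl⟩ a ha
      refine congrArg QuotientAddGroup.mk (Subtype.ext ?_)
      exact congrArg QuotientAddGroup.mk (Subtype.ext (w.2.2 a ha) :
        (⟨ρ a w, hMi a w (hpre_le N w.2.1)⟩ : M) = ⟨w, hpre_le N w.2.1⟩)
    have hgk : ∀ w : g.ker, (w.1 : V) ∈ P₁ ⊓ E := fun w =>
      ⟨(hpre_mem Z₁ _).2 ((QuotientAddGroup.eq_zero_iff (mkN w.1)).1 w.2), w.1.2.2⟩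
    have hcard : Nat.card (P₂ ⊓ E : AddSubgroup V) ≤
        Nat.card (fixedPts τ A) * Nat.card (P₁ ⊓ E : AddSubgroup V) := by
      rw [g.ker.card_eq_card_quotient_mul_card_addSubgroup,
        Nat.card_congr (QuotientAddGroup.quotientKerEquivRange g).toEquiv]
      refine Nat.mul_le_mul (Nat.card_le_card_of_injective _ (AddSubgroup.inclusion_injective hgr)) ?_
      exact Nat.card_le_card_of_injective (fun w => (⟨_, hgk w⟩ : (P₁ ⊓ E : AddSubgroup V)))
        fun w w' e => Subtype.ext (Subtype.ext (congrArg (fun z : (P₁ ⊓ E : AddSubgroup V) => (z : V)) e))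
    have hsec : Nat.card (N ⧸ Z₁.addSubgroupOf N) * Nat.card Z₁ = Nat.card N := by
      rw [← Nat.card_congr (AddSubgroup.addSubgroupOfEquivOfLe hN.2.1.le).toEquiv,
        ← AddSubgroup.card_eq_card_quotient_mul_card_addSubgroup]
    have hidx : (fixedPts τ A).index ≤ q := by
      have h1 : (fixedPts τ A).index * Nat.card Z₁ * Nat.card (P₂ ⊓ E : AddSubgroup V) ≤
          Nat.card N * Nat.card (P₁ ⊓ E : AddSubgroup V) := by
        calc (fixedPts τ A).index * Nat.card Z₁ * Nat.card (P₂ ⊓ E : AddSubgroup V)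
            ≤ (fixedPts τ A).index * Nat.card Z₁ *
              (Nat.card (fixedPts τ A) * Nat.card (P₁ ⊓ E : AddSubgroup V)) :=
              Nat.mul_le_mul_left _ hcard
          _ = Nat.card (fixedPts τ A) * (fixedPts τ A).index * Nat.card Z₁ *
              Nat.card (P₁ ⊓ E : AddSubgroup V) := by ring
          _ = _ := by rw [AddSubgroup.card_mul_index, hsec]
      have h2 := Nat.mul_le_mul h1 h1
      have e1 := hbal Z₁ hZ₁
      have e2 := hbal N hN.1
      rw [hprec] at e1 e2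
      have h3 : (fixedPts τ A).index * (fixedPts τ A).index * Nat.card Z₁ ≤ Nat.card N := by
        refine Nat.le_of_mul_le_mul_right ?_ (Nat.mul_pos (Nat.mul_pos (Nat.card_pos (α := N))
          (Nat.card_pos (α := Z₁))) (Nat.mul_pos (Nat.card_pos (α := F)) (Nat.card_pos (α := F))))
        calc (fixedPts τ A).index * (fixedPts τ A).index * Nat.card Z₁ *
              (Nat.card N * Nat.card Z₁ * (Nat.card F * Nat.card F))
            = (fixedPts τ A).index * (fixedPts τ A).index * Nat.card Z₁ * Nat.card Z₁ *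
              (Nat.card N * Nat.card F * Nat.card F) := by ring
          _ = (fixedPts τ A).index * Nat.card Z₁ * Nat.card (P₂ ⊓ E : AddSubgroup V) *
              ((fixedPts τ A).index * Nat.card Z₁ * Nat.card (P₂ ⊓ E : AddSubgroup V)) := by
              rw [e2]; ring
          _ ≤ _ := h2
          _ = Nat.card N * Nat.card N * (Nat.card Z₁ * Nat.card F * Nat.card F) := by rw [e1]; ring
          _ = _ := by ring
      refine Nat.mul_self_le_mul_self_iff.1 (Nat.le_of_mul_le_mul_right ?_ (Nat.card_pos (α := Z₁)))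
      exact h3.trans hle
    have hoff : (fixedPts τ A).index * Nat.card (A ⊓ R : Subgroup K) ≤ Nat.card A := by
      rw [hqA]; exact Nat.mul_le_mul_right _ hidx
    by_cases h2 : TwoImage τ
    · -- then the section would vanish
      have htop := fixed_of_twoImage h τ hτR h2
      obtain ⟨a, ha, k, hk, hak⟩ := mem_sup_of_normal_right.1 (htop ▸ mem_top x : x ∈ A ⊔ τ.ker)
      have hsub1 : P₂ ⊓ E ≤ P₁ := by
        intro w hw
        have hwM : w ∈ M := hpre_le N hw.1
        have h3 : τ x (g ⟨w, hw⟩) = g ⟨w, hw⟩ := by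
          rw [← hak, act_mul, MonoidHom.mem_ker.1 hk]
          exact hgr ⟨_, rfl⟩ a ha
        have h4 : ρ x w - w ∈ P₁ := by
          have h5 : QuotientAddGroup.mk
              (⟨σ x (mkN ⟨w, hw⟩), hN.1 x _ (mkN ⟨w, hw⟩).2⟩ : N) = g ⟨w, hw⟩ := h3
          have h6 := QuotientAddGroup.eq.1 h5.symm
          rw [AddSubgroup.mem_addSubgroupOf] at h6
          have h7 : (QuotientAddGroup.mk (-(⟨w, hwM⟩ : M) + ⟨ρ x w, hMi x w hwM⟩) : M ⧸ FM) ∈ Z₁ := h6
          have h8 := (hpre_mem Z₁ _).2 h7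
          rwa [show ((-(⟨w, hwM⟩ : M) + ⟨ρ x w, hMi x w hwM⟩ : M) : V) = ρ x w - w from
            neg_add_eq_sub w (ρ x w)] at h8
        have hs : (P₁ ⊓ E) ⊔ (P₁ ⊓ _) = P₁ :=
          balanced hq hg hV2 (hprei Z₁ hZ₁) (hpreF Z₁) ((hpre_le Z₁).trans hME)
        rw [← hs] at h4
        obtain ⟨z, hz, z', hz', hzz⟩ := AddSubgroup.mem_sup.1 h4
        have h5 : w + z ∈ F := by
          refine fixed_inter_le hg (E.add_mem hw.2 hz.2) ?_
          have e2 : w + z = ρ x w - z' := by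
            rw [show ρ x w = (ρ x w - w) + w by abel, ← hzz]; abel
          rw [e2]
          exact AddSubgroup.sub_mem _ ((act_mem_fixedPts_conj ρ A x).2 hw.2) hz'.2
        have h6 := P₁.sub_mem (hpreF Z₁ h5) hz.1
        rwa [add_sub_cancel_right] at h6
      have hsub : P₂ ≤ P₁ := by
        refine (balanced hq hg hV2 (hprei N hN.1) (hpreF N) ((hpre_le N).trans hME)).ge.trans
          (sup_le hsub1 fun w hw => ?_)
        have h3 : ρ x⁻¹ w ∈ P₁ := hsub1 ⟨hprei N hN.1 _ _ hw.1,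
          (act_mem_fixedPts_conj ρ A x).1 (by rw [act_cancel_inv]; exact hw.2)⟩
        have h4 := hprei Z₁ hZ₁ x _ h3
        rwa [act_cancel_inv] at h4
      obtain ⟨n, hn, hn1⟩ := SetLike.exists_of_lt hN.2.1
      obtain ⟨m, rfl⟩ := QuotientAddGroup.mk_surjective n
      exact hn1 ((hpre_mem Z₁ m).1 (hsub ((hpre_mem N m).2 hn)))
    · obtain ⟨H, φ, hφ, -⟩ := exists_hom_perm_three_of_offender h (N ⧸ Z₁.addSubgroupOf N) τ
        (fun v => QuotientAddGroup.induction_on v fun m => congrArg QuotientAddGroup.mk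
          (Subtype.ext (h2M m) : m + m = 0)) hτR hτq hoff h2
      exact hS3 H φ hφ
  -- the conclusion
  let gX : X₂ →+ M ⧸ FM :=
    { toFun := fun v => QuotientAddGroup.mk (⟨v, hXM v.2⟩ : M)
      map_zero' := rfl
      map_add' := fun _ _ => rfl }
  have hU := mu_le (σ := σ) h2M h2F O hO (q * q) hH hQ gX.range
  have hc1 : Nat.card X₂ = Nat.card gX.range * Nat.card (X₂ ⊓ F : AddSubgroup V) := by
    rw [gX.ker.card_eq_card_quotient_mul_card_addSubgroup,
      Nat.card_congr (QuotientAddGroup.quotientKerEquivRange gX).toEquiv]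
    congr 1
    refine Nat.card_congr ⟨fun v => ⟨v.1, v.1.2, ?_⟩, fun v => ⟨⟨v, v.2.1⟩, ?_⟩, fun _ => rfl, fun _ => rfl⟩
    · exact (QuotientAddGroup.eq_zero_iff (⟨v.1, hXM v.1.2⟩ : M)).1 v.2
    · exact (QuotientAddGroup.eq_zero_iff (⟨v, hXM v.2.1⟩ : M)).2 v.2.2
  let ψ : Additive O₁ →+ (gX.range →+ F) := (resHom gX.range).comp Φ
  have hc2 : Nat.card O₁ = Nat.card (O.map (resHom gX.range)) * Nat.card (O₁ ⊓ ptStab ρ X₂ : Subgroup K) := by
    have hr : ψ.range = O.map (resHom gX.range) := AddMonoidHom.range_comp _ _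
    have h1 := ψ.ker.card_eq_card_quotient_mul_card_addSubgroup
    rw [Nat.card_congr (QuotientAddGroup.quotientKerEquivRange ψ).toEquiv, hr] at h1
    refine ((Nat.card_congr Additive.toMul).symm.trans h1).trans (congrArg _ ?_)
    have p1 : ∀ p : ψ.ker, ((Additive.toMul p.1 : O₁) : K) ∈ O₁ ⊓ ptStab ρ X₂ := fun p =>
      ⟨(Additive.toMul p.1).2, fun v hv => sub_eq_zero.1 (congrArg Subtype.val
        (DFunLike.congr_fun (AddMonoidHom.mem_ker.1 p.2) (⟨gX ⟨v, hv⟩, ⟨⟨v, hv⟩, rfl⟩⟩ : gX.range)))⟩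
    have p2 : ∀ r : (O₁ ⊓ ptStab ρ X₂ : Subgroup K),
        (Additive.ofMul (⟨r, r.2.1⟩ : O₁)) ∈ ψ.ker := by
      intro r
      refine AddMonoidHom.mem_ker.2 (AddMonoidHom.ext ?_)
      rintro ⟨_, ⟨v, rfl⟩⟩
      exact Subtype.ext (sub_eq_zero.2 (r.2.2 v v.2))
    exact Nat.card_congr ⟨fun p => ⟨_, p1 p⟩, fun r => ⟨_, p2 r⟩, fun _ => rfl, fun _ => rfl⟩
  have h3 : Nat.card gX.range ≤ Nat.card (O.map (resHom gX.range)) := by
    refine Nat.le_of_mul_le_mul_right ?_ (Nat.card_pos (α := annIn O gX.range))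
    rw [card_map_res O gX.range]; exact hU
  rw [hc1, hc2]
  calc Nat.card gX.range * Nat.card (X₂ ⊓ F : AddSubgroup V) * Nat.card (O₁ ⊓ ptStab ρ X₂ : Subgroup K)
      ≤ Nat.card (O.map (resHom gX.range)) * Nat.card (X₂ ⊓ F : AddSubgroup V) *
        Nat.card (O₁ ⊓ ptStab ρ X₂ : Subgroup K) := Nat.mul_le_mul_right _ (Nat.mul_le_mul_right _ h3)
    _ = _ := by ring

end CfsgLib.Techniques.SThree
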