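import Cfsg.Agent.Lib.Recog.SpectrumSU3
import Cfsg.Agent.Lib.Small.SylowLine

/-!
The subgroup `PSL(2, 7)` of `PSU(3, 3)`.
-/

set_option autoImplicit false

namespace CfsgLib.Techniques.SU33Seven

open Matrix CfsgLib.Recog.SU33

/-- Matrices over the field with nine elements. -/
abbrev M3 := Matrix (Fin 3) (Fin 3) F9

/-- The image of `(1 i; 0 1)`. -/
def upT : ZMod 7 → M3 := fun i => match i.val with
  | 0 => !![⟨1, 0⟩, ⟨0, 0⟩, ⟨0, 0⟩; ⟨0, 0⟩, ⟨1, 0⟩, ⟨0, 0⟩; ⟨0, 0⟩, ⟨0, 0⟩, ⟨1, 0⟩]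
  | 1 => !![⟨0, 0⟩, ⟨0, 0⟩, ⟨0, 1⟩; ⟨1, 1⟩, ⟨1, 1⟩, ⟨0, 0⟩; ⟨1, 1⟩, ⟨2, 2⟩, ⟨0, 0⟩]
  | 2 => !![⟨2, 1⟩, ⟨1, 2⟩, ⟨0, 0⟩; ⟨0, 2⟩, ⟨0, 2⟩, ⟨2, 1⟩; ⟨0, 1⟩, ⟨0, 1⟩, ⟨2, 1⟩]
  | 3 => !![⟨2, 0⟩, ⟨2, 0⟩, ⟨2, 2⟩; ⟨2, 2⟩, ⟨0, 2⟩, ⟨1, 0⟩; ⟨0, 1⟩, ⟨1, 1⟩, ⟨2, 0⟩]
  | 4 => !![⟨2, 0⟩, ⟨2, 1⟩, ⟨0, 2⟩; ⟨2, 0⟩, ⟨0, 1⟩, ⟨1, 2⟩; ⟨2, 1⟩, ⟨1, 0⟩, ⟨2, 0⟩]
  | 5 => !![⟨2, 2⟩, ⟨0, 1⟩, ⟨0, 2⟩; ⟨1, 1⟩, ⟨0, 1⟩, ⟨0, 2⟩; ⟨0, 0⟩, ⟨2, 2⟩, ⟨2, 2⟩]
  | _ => !![⟨0, 0⟩, ⟨1, 2⟩, ⟨1, 2⟩; ⟨0, 0⟩, ⟨1, 2⟩, ⟨2, 1⟩; ⟨0, 2⟩, ⟨0, 0⟩, ⟨0, 0⟩]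

/-- The image of `(t 0; 0 t⁻¹)`. -/
def hT : ZMod 7 → M3 := fun i => match i.val with
  | 2 => !![⟨0, 2⟩, ⟨2, 1⟩, ⟨1, 0⟩; ⟨1, 1⟩, ⟨1, 0⟩, ⟨2, 0⟩; ⟨0, 1⟩, ⟨1, 0⟩, ⟨2, 1⟩]
  | 3 => !![⟨0, 1⟩, ⟨1, 2⟩, ⟨0, 2⟩; ⟨2, 2⟩, ⟨1, 0⟩, ⟨1, 0⟩; ⟨1, 0⟩, ⟨2, 0⟩, ⟨2, 2⟩]
  | 4 => !![⟨0, 1⟩, ⟨1, 2⟩, ⟨0, 2⟩; ⟨2, 2⟩, ⟨1, 0⟩, ⟨1, 0⟩; ⟨1, 0⟩, ⟨2, 0⟩, ⟨2, 2⟩]
  | 5 => !![⟨0, 2⟩, ⟨2, 1⟩, ⟨1, 0⟩; ⟨1, 1⟩, ⟨1, 0⟩, ⟨2, 0⟩; ⟨0, 1⟩, ⟨1, 0⟩, ⟨2, 1⟩]
  | _ => 1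

/-- The image of `(0 -1; 1 0)`. -/
def wT : M3 := !![⟨0, 0⟩, ⟨1, 1⟩, ⟨1, 2⟩; ⟨1, 2⟩, ⟨1, 0⟩, ⟨0, 1⟩; ⟨1, 1⟩, ⟨0, 2⟩, ⟨1, 0⟩]

/-- The Bruhat formula for the map on `SL(2, 7)`. -/
def imgF (a b c d : ZMod 7) : M3 :=
  if c = 0 then hT a * upT (b * a ^ 5)
  else upT (a * c ^ 5) * hT (c ^ 5) * wT * upT (d * c ^ 5)

set_option maxHeartbeats 4000000 in
theorem step_u : ∀ a b c d : ZMod 7, a * d - b * c = 1 →
    imgF a (a * 1 + b * 1) c (c * 1 + d * 1) = imgF a b c d * imgF 1 1 0 1 := by decide +kernel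

set_option maxHeartbeats 4000000 in
theorem step_w : ∀ a b c d : ZMod 7, a * d - b * c = 1 →
    imgF b (-a) d (-c) = imgF a b c d * imgF 0 (-1) 1 0 := by decide +kernel

theorem ker_check : ∀ a b c d : ZMod 7, a * d - b * c = 1 → imgF a b c d = 1 →
    b = 0 ∧ c = 0 ∧ d = a ∧ (a = 1 ∨ a = -1) := by decide +kernel

theorem img_one : imgF 1 0 0 1 = 1 ∧ imgF (-1) 0 0 (-1) = 1 := by decide +kernel

theorem img_unitary : (imgF 1 1 0 1)ᵀ * (imgF 1 1 0 1).map (fun x => x * (x * x)) = 1 ∧ (imgF 1 1 0 1).det = 1 ∧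
    (imgF 0 (-1) 1 0)ᵀ * (imgF 0 (-1) 1 0).map (fun x => x * (x * x)) = 1 ∧ (imgF 0 (-1) 1 0).det = 1 := by
  decide +kernel

/-- The map on `SL(2, 7)`. -/
def img (g : Matrix.SpecialLinearGroup (Fin 2) (ZMod 7)) : M3 := imgF (g.1 0 0) (g.1 0 1) (g.1 1 0) (g.1 1 1)

/-- `(1 1; 0 1)`. -/
def u : Matrix.SpecialLinearGroup (Fin 2) (ZMod 7) := ⟨!![1, 1; 0, 1], by decide +kernel⟩

/-- `(0 -1; 1 0)`. -/
def w : Matrix.SpecialLinearGroup (Fin 2) (ZMod 7) := ⟨!![0, -1; 1, 0], by decide +kernel⟩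

theorem det_eq (g : Matrix.SpecialLinearGroup (Fin 2) (ZMod 7)) :
    g.1 0 0 * g.1 1 1 - g.1 0 1 * g.1 1 0 = 1 := by rw [← Matrix.det_fin_two]; exact g.2

theorem img_mul_u (g : Matrix.SpecialLinearGroup (Fin 2) (ZMod 7)) : img (g * u) = img g * img u := by
  show imgF ((g.1 * (!![1, 1; 0, 1] : Matrix (Fin 2) (Fin 2) (ZMod 7))) 0 0) ((g.1 * (!![1, 1; 0, 1] : Matrix (Fin 2) (Fin 2) (ZMod 7))) 0 1) ((g.1 * (!![1, 1; 0, 1] : Matrix (Fin 2) (Fin 2) (ZMod 7))) 1 0)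
      ((g.1 * (!![1, 1; 0, 1] : Matrix (Fin 2) (Fin 2) (ZMod 7))) 1 1) = img g * imgF 1 1 0 1
  simpa [img, Matrix.mul_apply, Fin.sum_univ_two] using step_u _ _ _ _ (det_eq g)

theorem img_mul_w (g : Matrix.SpecialLinearGroup (Fin 2) (ZMod 7)) : img (g * w) = img g * img w := by
  show imgF ((g.1 * (!![0, -1; 1, 0] : Matrix (Fin 2) (Fin 2) (ZMod 7))) 0 0) ((g.1 * (!![0, -1; 1, 0] : Matrix (Fin 2) (Fin 2) (ZMod 7))) 0 1) ((g.1 * (!![0, -1; 1, 0] : Matrix (Fin 2) (Fin 2) (ZMod 7))) 1 0)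
      ((g.1 * (!![0, -1; 1, 0] : Matrix (Fin 2) (Fin 2) (ZMod 7))) 1 1) = img g * imgF 0 (-1) 1 0
  simpa [img, Matrix.mul_apply, Fin.sum_univ_two] using step_w _ _ _ _ (det_eq g)

/-- `(1 n; 0 1)` as a matrix. -/
def uM (n : ZMod 7) : Matrix (Fin 2) (Fin 2) (ZMod 7) := !![1, n; 0, 1]

/-- `(0 -1; 1 0)` as a matrix. -/
def wM : Matrix (Fin 2) (Fin 2) (ZMod 7) := !![0, -1; 1, 0]

/-- The Bruhat word of a matrix. -/
def word (a b c d : ZMod 7) : Matrix (Fin 2) (Fin 2) (ZMod 7) :=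
  if c = 0 then uM a * wM * uM (a ^ 5) * wM * uM a * wM * uM (b * a ^ 5)
  else uM (a * c ^ 5) * (uM (c ^ 5) * wM * uM c * wM * uM (c ^ 5) * wM) * wM * uM (d * c ^ 5)

theorem word_eq : ∀ a b c d : ZMod 7, a * d - b * c = 1 →
    word a b c d = !![a, b; c, d] ∨ word a b c d * wM * wM = !![a, b; c, d] := by decide +kernel

theorem two_roots : ∀ r : ZMod 7, r ^ 2 = 1 → r = 1 ∨ r = -1 := by decide +kernel

theorem u_pow (n : ℕ) : (u ^ n).1 = uM (n : ZMod 7) := by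
  induction n with
  | zero => rw [pow_zero, Nat.cast_zero, uM, ← Matrix.one_fin_two]; rfl
  | succ n ih =>
    rw [pow_succ]
    show (u ^ n).1 * !![1, 1; 0, 1] = _
    rw [ih]
    simp [uM, add_comm]

theorem generated : Subgroup.closure {u, w} = (⊤ : Subgroup (Matrix.SpecialLinearGroup (Fin 2) (ZMod 7))) := by
  rw [eq_top_iff]
  intro g _
  set C := Subgroup.closure {u, w}
  have hu : ∀ n : ZMod 7, ∃ x ∈ C, x.1 = uM n := fun n =>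
    ⟨u ^ n.val, pow_mem (Subgroup.subset_closure (Set.mem_insert u {w})) _, by
      rw [u_pow, ZMod.natCast_zmod_val]⟩
  have hw : ∃ x ∈ C, x.1 = wM := ⟨w, Subgroup.subset_closure (Set.mem_insert_of_mem u rfl), rfl⟩
  have hmul : ∀ A B, (∃ x ∈ C, x.1 = A) → (∃ x ∈ C, x.1 = B) → ∃ x ∈ C, x.1 = A * B := by
    rintro _ _ ⟨x, hx, rfl⟩ ⟨y, hy, rfl⟩
    exact ⟨x * y, mul_mem hx hy, rfl⟩
  have hword : ∃ x ∈ C, x.1 = word (g.1 0 0) (g.1 0 1) (g.1 1 0) (g.1 1 1) := by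
    unfold word
    split_ifs
    all_goals
      repeat' first
        | exact hu _
        | exact hw
        | apply hmul
  have hg : (g.1 : Matrix (Fin 2) (Fin 2) (ZMod 7)) = !![g.1 0 0, g.1 0 1; g.1 1 0, g.1 1 1] :=
    Matrix.eta_fin_two _
  obtain ⟨x, hx, hxg⟩ : ∃ x ∈ C, x.1 = g.1 := by
    rw [hg]
    rcases word_eq _ _ _ _ (det_eq g) with h | h
    · exact h ▸ hword
    · exact h ▸ hmul _ _ (hmul _ _ hword hw) hw
  exact (Subtype.ext hxg : x = g) ▸ hx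

theorem img_mul (g h : Matrix.SpecialLinearGroup (Fin 2) (ZMod 7)) : img (g * h) = img g * img h := by
  haveI : Finite (Matrix.SpecialLinearGroup (Fin 2) (ZMod 7)) := inferInstance
  have hh : h ∈ Subgroup.closure {u, w} := generated ▸ Subgroup.mem_top h
  rw [← SetLike.mem_coe, ← Subgroup.coe_toSubmonoid, Subgroup.closure_toSubmonoid_of_finite] at hh
  induction hh using Submonoid.closure_induction_right generalizing g with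
  | one => rw [mul_one, show img 1 = 1 from img_one.1, mul_one]
  | mul_right x _ y hy ih =>
    obtain rfl | rfl := hy
    · rw [← mul_assoc, img_mul_u, img_mul_u, ih, mul_assoc]
    · rw [← mul_assoc, img_mul_w, img_mul_w, ih, mul_assoc]

/-- `img` as a homomorphism. -/
def imgHom : Matrix.SpecialLinearGroup (Fin 2) (ZMod 7) →* M3 where
  toFun := img
  map_one' := img_one.1
  map_mul' := img_mul

theorem exists_subgroup {F : Type*} [Field F] [Fintype F] (hF : Fintype.card F = 9) :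
    ∃ H : Subgroup (Cfsg.PSU 3 F 3),
      Nonempty (H ≃* Matrix.ProjectiveSpecialLinearGroup (Fin 2) (ZMod 7)) := by
  haveI : Fact (Nat.Prime 3) := ⟨Nat.prime_three⟩
  haveI : Fact (Nat.Prime 7) := ⟨by norm_num⟩
  haveI : CharP F 3 := charP_of_card_eq_prime_pow (f := 2) (by norm_num [hF])
  obtain ⟨φ, hφ⟩ := exists_hom hF
  have hdet : ∀ g, (imgHom g).det = 1 := by
    intro g
    have hh : g ∈ Subgroup.closure {u, w} := generated ▸ Subgroup.mem_top g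
    induction hh using Subgroup.closure_induction with
    | mem x hx => obtain rfl | rfl := hx; exacts [img_unitary.2.1, img_unitary.2.2.2]
    | one => rw [map_one, Matrix.det_one]
    | mul x y _ _ hx hy => rw [map_mul, Matrix.det_mul, hx, hy, one_mul]
    | inv x _ hx =>
      have h := congrArg Matrix.det (map_mul imgHom x x⁻¹)
      rwa [mul_inv_cancel, map_one, Matrix.det_one, Matrix.det_mul, hx, one_mul, eq_comm] at h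
  let Φ : Matrix.SpecialLinearGroup (Fin 2) (ZMod 7) →* Matrix.SpecialLinearGroup (Fin 3) F :=
    { toFun := fun g => ⟨(imgHom g).map φ, by
        rw [← RingHom.mapMatrix_apply, ← RingHom.map_det, hdet, map_one]⟩
      map_one' := Subtype.ext (by
        show (imgHom 1).map φ = 1
        rw [map_one, Matrix.map_one _ (map_zero φ) (map_one φ)])
      map_mul' := fun g h => Subtype.ext (by
        show (imgHom (g * h)).map φ = (imgHom g).map φ * (imgHom h).map φ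
        rw [map_mul, Matrix.map_mul]) }
  have hSU : ∀ g, Φ g ∈ Cfsg.SU 3 F 3 := by
    intro g
    have h : Subgroup.closure {u, w} ≤ (Cfsg.SU 3 F 3).comap Φ := by
      rw [Subgroup.closure_le]
      rintro x hx
      obtain ⟨h1, h2, h3, h4⟩ := img_unitary
      obtain rfl | rfl := hx
      · obtain ⟨s, hs⟩ := mem_SU_of_model φ _ h1 h2
        have e : (Φ u) = (s : Matrix.SpecialLinearGroup (Fin 3) F) := Subtype.ext hs.symm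
        rw [SetLike.mem_coe, Subgroup.mem_comap, e]; exact s.2
      · obtain ⟨s, hs⟩ := mem_SU_of_model φ _ h3 h4
        have e : (Φ w) = (s : Matrix.SpecialLinearGroup (Fin 3) F) := Subtype.ext hs.symm
        rw [SetLike.mem_coe, Subgroup.mem_comap, e]; exact s.2
    exact h (generated ▸ Subgroup.mem_top g)
  let Ψ : Matrix.SpecialLinearGroup (Fin 2) (ZMod 7) →* Cfsg.PSU 3 F 3 :=
    (QuotientGroup.mk' (Subgroup.center (Cfsg.SU 3 F 3))).comp (Φ.codRestrict _ hSU)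
  have hker : Ψ.ker = Subgroup.center (Matrix.SpecialLinearGroup (Fin 2) (ZMod 7)) := by
    ext g
    rw [MonoidHom.mem_ker]
    show QuotientGroup.mk' (Subgroup.center (Cfsg.SU 3 F 3)) (Φ.codRestrict _ hSU g) = 1 ↔ _
    rw [QuotientGroup.mk'_apply, QuotientGroup.eq_one_iff, center_eq_bot φ, Subgroup.mem_bot,
      Matrix.SpecialLinearGroup.mem_center_iff]
    constructor
    · intro h
      have h1 : imgHom g = 1 := by
        apply Matrix.map_injective hφ.1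
        show (imgHom g).map φ = (1 : M3).map φ
        rw [Matrix.map_one _ (map_zero φ) (map_one φ)]
        exact congrArg (fun x : Cfsg.SU 3 F 3 =>
          ((x : Matrix.SpecialLinearGroup (Fin 3) F) : Matrix (Fin 3) (Fin 3) F)) h
      obtain ⟨hb, hc, hd, ha⟩ := ker_check _ _ _ _ (det_eq g) h1
      refine ⟨g.1 0 0, ?_, ?_⟩
      · rcases ha with ha | ha <;> rw [ha] <;> decide
      · refine Matrix.ext fun i j => ?_
        fin_cases i <;> fin_cases j <;> simp [hb, hc, hd]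
    · rintro ⟨r, hr, hrg⟩
      have hr' : r = 1 ∨ r = -1 := two_roots r (by rwa [Fintype.card_fin] at hr)
      have h1 : imgHom g = 1 := by
        show imgF (g.1 0 0) (g.1 0 1) (g.1 1 0) (g.1 1 1) = 1
        rw [← hrg]
        rcases hr' with rfl | rfl <;> simp [img_one]
      apply Subtype.ext
      apply Subtype.ext
      show (imgHom g).map φ = 1
      rw [h1, Matrix.map_one _ (map_zero φ) (map_one φ)]
  exact ⟨Ψ.range, ⟨(QuotientGroup.quotientKerEquivRange Ψ).symm.trans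
    (QuotientGroup.quotientMulEquivOfEq hker)⟩⟩

end CfsgLib.Techniques.SU33Seven
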