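import Mathlib
import Cfsg.Agent.Lib.LocalEvenSix.FixSmall

/-!
# Coprime elements acting trivially on a central chain through the small elements
An element of order prime to `p` which normalises a `p`-group `Q` and moves every element of order
dividing `p` (`4` if `p = 2`) of `Q` one step down a chain centralises `Q`.
-/

set_option autoImplicit false

namespace CfsgLib.Techniques

open CfsgLib.OddOrder41

variable {G : Type*} [Group G]

/-- See the module docstring. -/
theorem fixes_of_small_chain [Finite G] {p : ℕ} [hp : Fact p.Prime] (g : G)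
    (hcop : (orderOf g).Coprime p) (C : ℕ → Subgroup G) (hC0 : C 0 = ⊥) (P : Subgroup G)
    (hCP : ∀ i, ∀ q ∈ P, ∀ z ∈ C i, q * z * q⁻¹ ∈ C i) (m : ℕ) :
    ∀ (n : ℕ) (Q : Subgroup G), Nat.card Q = n → IsPGroup p Q → Q ≤ P →
      (∀ x ∈ Q, g * x * g⁻¹ ∈ Q) →
      (∀ a ∈ Q, a ^ p = 1 ∨ (p = 2 ∧ a ^ 4 = 1) → a ∈ C m) →
      (∀ a ∈ Q, a ^ p = 1 ∨ (p = 2 ∧ a ^ 4 = 1) → ∀ i, a ∈ C (i + 1) → g * a * g⁻¹ * a⁻¹ ∈ C i) →
      ∀ x ∈ Q, g * x = x * g := by
  classical
  intro n
  induction n using Nat.strong_induction_on with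
  | _ n ih =>
    intro Q hn hQ hQP hinv hsm hmove
    have hprop : ∀ K : Subgroup G, K ≤ Q → K ≠ Q → (∀ x ∈ K, g * x * g⁻¹ ∈ K) →
        ∀ x ∈ K, g * x = x * g := by
      intro K hKQ hne hKinv
      have hlt : Nat.card K < n := hn ▸ lt_of_le_of_ne (Subgroup.card_le_of_le hKQ)
        fun he => hne (Subgroup.eq_of_le_of_card_ge hKQ he.ge)
      exact ih _ hlt K rfl (hQ.to_le hKQ) (hQP.trans' hKQ) hKinv (fun a ha => hsm a (hKQ ha))
        fun a ha => hmove a (hKQ ha)
    let S : Set G := {a | a ∈ Q ∧ (a ^ p = 1 ∨ (p = 2 ∧ a ^ 4 = 1))}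
    have hSQ : Subgroup.closure S ≤ Q := (Subgroup.closure_le _).2 fun a ha => ha.1
    by_cases hS : Subgroup.closure S = Q
    swap
    · refine CfsgLib.LocalEvenSix.fixes_of_fixes_small g hcop n Q hn hQ hinv fun x hx hxs => ?_
      refine hprop _ hSQ hS (closure_conj_invariant fun a ha => Subgroup.subset_closure ⟨hinv a ha.1, ?_⟩) x
        (Subgroup.subset_closure ⟨hx, hxs⟩)
      rcases ha.2 with h | ⟨h2, h⟩
      · left; rw [conj_pow, h]; group
      · right; exact ⟨h2, by rw [conj_pow, h]; group⟩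
    have hex : ∃ j, ∀ a ∈ S, a ∈ C j := ⟨m, fun a ha => hsm a ha.1 ha.2⟩
    rcases h0 : Nat.find hex with _ | j
    · intro x hx
      have hall := Nat.find_spec hex
      rw [h0, hC0] at hall
      have hle : Subgroup.closure S ≤ ⊥ := (Subgroup.closure_le _).2 hall
      rw [hS] at hle
      rw [Subgroup.mem_bot.1 (hle hx), mul_one, one_mul]
    have hj1 : ∀ a ∈ S, a ∈ C (j + 1) := by
      have := Nat.find_spec hex
      rwa [h0] at this
    obtain ⟨a, ha, haj⟩ : ∃ a ∈ S, a ∉ C j := by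
      by_contra h
      push Not at h
      have := Nat.find_min hex (m := j) (by omega) h
      exact this
    have hKne : Q ⊓ C j ≠ Q := fun h => haj (inf_eq_left.1 h ha.1)
    have hstep : ∀ x ∈ Q, g * x * g⁻¹ * x⁻¹ ∈ Q ⊓ C j := by
      have h : Subgroup.closure S ≤ Q ∧ ∀ x ∈ Subgroup.closure S, g * x * g⁻¹ * x⁻¹ ∈ C j := by
        refine ⟨hSQ, fun x hx => ?_⟩
        induction hx using Subgroup.closure_induction with
        | mem y hy => exact hmove y hy.1 hy.2 j (hj1 y hy)
        | one => simp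
        | mul y z hy hz e1 e2 =>
          have e3 := mul_mem e1 (hCP j y (hQP (hSQ hy)) _ e2)
          convert e3 using 1
          group
        | inv y hy e1 =>
          have e3 := hCP j y⁻¹ (hQP (inv_mem (hSQ hy))) _ (inv_mem e1)
          convert e3 using 1
          group
      rw [hS] at h
      exact fun x hx => Subgroup.mem_inf.2 ⟨mul_mem (hinv x hx) (inv_mem hx), h.2 x hx⟩
    have hKinv : ∀ x ∈ Q ⊓ C j, g * x * g⁻¹ ∈ Q ⊓ C j := fun x hx => by
      simpa using mul_mem (hstep x hx.1) hx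
    have hKfix := hprop _ inf_le_left hKne hKinv
    intro x hx
    have hy : x⁻¹ * (g * x * g⁻¹) ∈ Q ⊓ C j := by
      refine Subgroup.mem_inf.2 ⟨mul_mem (inv_mem hx) (hinv x hx), ?_⟩
      have := hCP j x⁻¹ (hQP (inv_mem hx)) _ (hstep x hx).2
      convert this using 1
      group
    obtain ⟨k, hk⟩ := hQ.exists_card_eq
    refine fixes_of_step_fixed (H := Q) (x := x⁻¹ * (g * x * g⁻¹))
      (by rw [hk]; exact hcop.pow_right k) hy.1 (by group) ?_
    rw [hKfix _ hy]
    group

end CfsgLib.Techniques
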