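import Cfsg.Agent.Lib.Techniques.Chains
import Cfsg.Agent.Lib.PCore.Basic
import Mathlib.GroupTheory.SchurZassenhaus
import Mathlib.GroupTheory.Abelianization.Finite

/-! Splitting fusion along a normal subgroup, and the case `G = C(O_p(G)) S`. -/

set_option autoImplicit false
set_option linter.unusedSectionVars false

namespace CfsgLib.Techniques.Fusion

open Cfsg Subgroup CfsgLib.Techniques
open scoped commutatorElement

variable {G : Type*} [Group G] [Finite G] {p : ℕ} [Fact p.Prime]

/-- If a map-closed property holds inside `H S` and inside `N(S ⊓ H)` for a normal subgroup `H`, it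
holds in `G`. -/
theorem holdsOn_split (S : Sylow p G) {P : Subgroup G → G → Prop}
    (hP : IsMapClosed (S : Subgroup G) P) (H : Subgroup G) [hH : H.Normal]
    (h1 : HoldsOn (S : Subgroup G) P H)
    (h2 : HoldsOn (S : Subgroup G) P (normalizer (((S : Subgroup G) ⊓ H : Subgroup G) : Set G))) :
    HoldsOn (S : Subgroup G) P ⊤ := by
  intro D h _ hD hh
  set Q := (S : Subgroup G) ⊓ H with hQ
  obtain ⟨n₁, hn₁, m, hm, hnm⟩ := exists_eq_mul_normalizer_inf S H h⁻¹
  -- `h = ν * c`
  set ν := m⁻¹ with hν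
  set c := n₁⁻¹ with hc
  have hhc : h = ν * c := by rw [hν, hc, ← mul_inv_rev, hnm, inv_inv]
  have hνN : ν ∈ normalizer (Q : Set G) := inv_mem hm
  have hSN : (S : Subgroup G) ≤ normalizer (Q : Set G) := fun s hs =>
    mem_normalizer_inf (le_normalizer hs) (normalizer_eq_top H ▸ mem_top s)
  set A := Q ⊔ D with hA
  set L := H ⊔ D with hL
  have hAS : A ≤ (S : Subgroup G) := sup_le inf_le_left hD
  have hAL : A ≤ L := sup_le_sup_right inf_le_right D
  have hDN : D ≤ normalizer (Q : Set G) := hD.trans hSN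
  have hidx : ¬ p ∣ A.relIndex L := by
    have h1 := relIndex_mul_relIndex Q H L inf_le_right le_sup_left
    have h2 := relIndex_mul_relIndex Q A L le_sup_left hAL
    have h3 : H.relIndex L = H.relIndex D := by rw [hL, sup_comm, relIndex_sup_right]
    have : (Q.subgroupOf (normalizer (Q : Set G))).Normal := normal_in_normalizer
    have h4 : Q.relIndex A = H.relIndex D := by
      have e1 : Q.relIndex A = (Q.subgroupOf (normalizer (Q : Set G))).relIndex
          (A.subgroupOf (normalizer (Q : Set G))) :=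
        (relIndex_subgroupOf (sup_le le_normalizer hDN)).symm
      rw [e1, hA, sup_comm, subgroupOf_sup hDN le_normalizer, relIndex_sup_right,
        relIndex_subgroupOf hDN, ← inf_relIndex_right Q D, ← inf_relIndex_right H D]
      congr 1
      rw [hQ, inf_right_comm, inf_eq_right.2 hD, inf_comm]
    rw [h3] at h1
    rw [h4] at h2
    have hne : H.relIndex D ≠ 0 := index_ne_zero_of_finite
    have h5 : A.relIndex L = Q.relIndex H :=
      Nat.eq_of_mul_eq_mul_left (Nat.pos_of_ne_zero hne) (h2.trans (h1.symm.trans (mul_comm _ _)))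
    rw [h5]
    exact not_dvd_relIndex_inf_normal S H
  set B := Q ⊔ D.map (MulAut.conj c).toMonoidHom with hB
  have hBS : B.map (MulAut.conj ν).toMonoidHom ≤ (S : Subgroup G) := by
    rw [hB, Subgroup.map_sup, map_conj_eq_self_iff.2 hνN, ← map_conj_mul, ← hhc]
    exact sup_le inf_le_left hh
  have hBp : IsPGroup p B := by
    have h := isPGroup_map_conj (S.2.to_le hBS) ν⁻¹
    rwa [map_conj_inv_cancel] at h
  have hcH : c ∈ H := inv_mem hn₁
  have hBL : B ≤ L := by
    refine sup_le (inf_le_right.trans le_sup_left) ?_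
    rintro _ ⟨d, hd, rfl⟩
    exact mul_mem (mul_mem (mem_sup_left hcH) (mem_sup_right hd)) (inv_mem (mem_sup_left hcH))
  obtain ⟨w, hw, hwB⟩ := exists_conj_le_sylow_of hBL hBp hAL (S.2.to_le hAS) hidx
  obtain ⟨d, hd, h₀, hh₀, rfl⟩ := exists_mul_of_mem_sup (show D ≤ normalizer (H : Set G) by
    rw [normalizer_eq_top]; exact le_top) (show w ∈ D ⊔ H by rwa [sup_comm])
  have h₀B : B.map (MulAut.conj h₀).toMonoidHom ≤ A := by
    rw [map_conj_mul] at hwB
    have := Subgroup.map_mono (f := (MulAut.conj d⁻¹).toMonoidHom) hwB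
    rw [map_conj_inv_cancel] at this
    refine this.trans (le_of_eq (map_conj_eq_self_iff.2 (inv_mem (le_normalizer ?_))))
    exact mem_sup_right hd
  have h₀N : h₀ ∈ normalizer (Q : Set G) := by
    refine map_conj_eq_self_iff.1 (eq_of_le_of_card_ge (le_inf
      (((Subgroup.map_mono le_sup_left).trans h₀B).trans hAS) ?_) (card_map_conj Q h₀).ge)
    rintro _ ⟨q, hq, rfl⟩
    exact hH.conj_mem q (mem_inf.1 hq).2 h₀
  have hc' : D.map (MulAut.conj (h₀ * c)).toMonoidHom ≤ (S : Subgroup G) := by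
    rw [map_conj_mul]
    exact ((Subgroup.map_mono le_sup_right).trans h₀B).trans hAS
  have e : h = (ν * h₀⁻¹) * (h₀ * c) := by rw [hhc]; group
  rw [e]
  refine hP.comp hD hc' (h1 _ _ (mul_mem hh₀ hcH) hD hc')
    (h2 _ _ (mul_mem hνN (inv_mem h₀N)) hc' ?_)
  rwa [← map_conj_mul, ← e]

/-- If `S ⊓ (O_p(G) C(O_p(G)))` is normal and `O_{p'}(G) = 1`, then `G` is `p`-constrained. -/
theorem centralizer_pCore_le_of_normal (S : Sylow p G) (hK : pPrimeCore p G = ⊥)
    (hn : ((S : Subgroup G) ⊓ (pCore p G ⊔ centralizer (pCore p G : Set G))).Normal) :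
    centralizer (pCore p G : Set G) ≤ pCore p G := by
  set P := pCore p G with hPdef
  have : P.Normal := pCore_normal p G
  set C := centralizer (P : Set G) with hC
  have : C.Normal := by rw [hC]; infer_instance
  have hQP : (S : Subgroup G) ⊓ (P ⊔ C) ≤ P := CfsgLib.PCore.le_pCore hn (S.2.to_le inf_le_left)
  set Z := (S : Subgroup G) ⊓ C with hZ
  have hZP : Z ≤ P := (inf_le_inf_left _ le_sup_right).trans hQP
  have hZc : ∀ z ∈ Z, ∀ c ∈ C, z * c = c * z := fun z hz c hc =>
    mem_centralizer_iff.1 hc z (hZP hz)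
  have hZn : (Z.subgroupOf C).Normal := ⟨fun z hz c => by
    have e : c * z * c⁻¹ = z := by
      apply Subtype.ext
      show (c : G) * z * (c : G)⁻¹ = z
      rw [← hZc z hz c c.2, mul_inv_cancel_right]
    rwa [e]⟩
  have hcop : (Nat.card (Z.subgroupOf C)).Coprime (Z.subgroupOf C).index := by
    obtain ⟨n, hn⟩ := IsPGroup.iff_card.1
      ((S.2.to_le inf_le_left : IsPGroup p Z).of_equiv (subgroupOfEquivOfLe inf_le_right).symm)
    rw [hn]
    exact ((Fact.out : p.Prime).coprime_iff_not_dvd.2 (not_dvd_relIndex_inf_normal S C)).pow_left n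
  obtain ⟨K, hK'⟩ := exists_right_complement'_of_coprime hcop
  have : K.Normal := by
    refine normalizer_eq_top_iff.1 (top_le_iff.1 (hK'.sup_eq_top ▸ sup_le ?_ le_normalizer))
    intro z hz
    rw [mem_normalizer_iff]
    intro k
    have e : z * k * z⁻¹ = k := by
      apply Subtype.ext
      show (z : G) * k * (z : G)⁻¹ = k
      rw [hZc z hz k k.2, mul_inv_cancel_right]
    rw [e]
  have hcard : (Nat.card (K.map C.subtype)).Coprime p := by
    rw [card_map_of_injective C.subtype_injective,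
      (show Nat.card K = (Z.subgroupOf C).index from hK'.card_right)]
    exact Nat.Coprime.symm
      ((Fact.out : p.Prime).coprime_iff_not_dvd.2 (not_dvd_relIndex_inf_normal S C))
  have hsub : (K.map C.subtype).IsSubnormal :=
    IsSubnormal.trans' (Subgroup.Normal.isSubnormal (H := K) inferInstance)
      (Subgroup.Normal.isSubnormal (H := C) inferInstance)
  have hle := CfsgLib.PCore.le_pPrimeCore_of_isSubnormal hsub hcard
  rw [hK, le_bot_iff, map_eq_bot_iff_of_injective _ C.subtype_injective] at hle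
  have htop : Z.subgroupOf C = ⊤ := by
    have := hK'.sup_eq_top
    rwa [hle, sup_bot_eq] at this
  exact (subgroupOf_eq_top.1 htop).trans hZP

/-- In `G = C(P) S` with `P ≤ S` normal, `P ⊓ G' ≤ S'`. -/
theorem inf_commutator_le_of_centralizer_sup_eq_top (S : Sylow p G) (P : Subgroup G) [P.Normal]
    (hPS : P ≤ (S : Subgroup G)) (htop : centralizer (P : Set G) ⊔ (S : Subgroup G) = ⊤) :
    P ⊓ _root_.commutator G ≤ ⁅(S : Subgroup G), (S : Subgroup G)⁆ := by
  classical
  intro x hx
  obtain ⟨hxP, hxG⟩ := mem_inf.1 hx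
  let ϕ : (S : Subgroup G) →* Abelianization (S : Subgroup G) := Abelianization.of
  have hconj : ∀ (y : G) (hy : y ∈ P) (g : G),
      ϕ ⟨g⁻¹ * y * g, hPS ((inferInstance : P.Normal).conj_mem' y hy g)⟩ = ϕ ⟨y, hPS hy⟩ := by
    intro y hy g
    obtain ⟨c, hc, s, hs, rfl⟩ := mem_sup_of_normal_left.1 (htop ▸ mem_top g)
    have e1 : c⁻¹ * y * c = y := by
      rw [mul_assoc, mem_centralizer_iff.1 hc y hy, inv_mul_cancel_left]
    have e2 : (c * s)⁻¹ * y * (c * s) = s⁻¹ * y * s := by
      rw [mul_inv_rev]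
      calc s⁻¹ * c⁻¹ * y * (c * s) = s⁻¹ * (c⁻¹ * y * c) * s := by group
        _ = s⁻¹ * y * s := by rw [e1]
    have e3 : (⟨(c * s)⁻¹ * y * (c * s), hPS ((inferInstance : P.Normal).conj_mem' y hy (c * s))⟩ :
        (S : Subgroup G)) = ⟨s, hs⟩⁻¹ * ⟨y, hPS hy⟩ * ⟨s, hs⟩ := Subtype.ext e2
    rw [e3, map_mul, map_mul, map_inv, mul_comm (ϕ ⟨s, hs⟩)⁻¹, inv_mul_cancel_right]
  have h1 : MonoidHom.transfer ϕ x = 1 := Abelianization.commutator_subset_ker _ hxG
  have h2 : MonoidHom.transfer ϕ x = ϕ ⟨x, hPS hxP⟩ ^ (S : Subgroup G).index := by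
    have : Fintype (Quotient (MulAction.orbitRel (zpowers x) (G ⧸ (S : Subgroup G)))) :=
      Fintype.ofFinite _
    rw [index_eq_sum_minimalPeriod (S : Subgroup G) x, ← Finset.prod_pow_eq_pow_sum,
      MonoidHom.transfer_eq_prod_quotient_orbitRel_zpowers_quot]
    apply Finset.prod_congr rfl
    intro q _
    rw [← map_pow]
    refine (hconj _ (pow_mem hxP _) _).trans ?_
    congr 1
  have hord : IsPGroup p (Abelianization (S : Subgroup G)) :=
    S.2.of_surjective Abelianization.of (QuotientGroup.mk'_surjective _)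
  have h3 : ϕ ⟨x, hPS hxP⟩ = 1 := by
    refine (hord.powEquiv' S.not_dvd_index).injective ?_
    simpa using h2.symm.trans h1
  have h4 := (Abelianization.ker_of (S : Subgroup G)).le h3
  have h5 := mem_map_of_mem (S : Subgroup G).subtype h4
  rw [_root_.commutator_def, map_commutator, ← MonoidHom.range_eq_map, range_subtype] at h5
  exact h5

end CfsgLib.Techniques.Fusion
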