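import Cfsg.Agent.Lib.Techniques.StableLift
import Cfsg.Agent.Lib.PLocal.NaturalModule
import Cfsg.Agent.Lib.PLocal.SectionStable
import Cfsg.Agent.Lib.PLocal5.PGroupBasic
import Cfsg.Agent.Lib.Coprime.Commutator

/-!
For odd `p`, in a normalizer `p`-stable group an element acting quadratically on `V / U` lies in
`O_p` of the action on `V`, if all `p'`-elements centralize `U`.
-/

set_option autoImplicit false
set_option linter.unusedSectionVars false
set_option linter.style.haveILetI false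

open scoped MatrixGroups commutatorElement

namespace CfsgLib.Techniques.StableQuot

open Cfsg Subgroup CfsgLib.SL2Unipotent

universe u

variable {p : ℕ} [hp : Fact p.Prime] {G : Type u} [Group G] [Finite G]

/-- A subgroup whose `p'`-elements centralize `V` acts on `V` as a `p`-group. -/
theorem le_stabD_of_coprime_le {V L : Subgroup G} [V.Normal] [L.Normal]
    (h : ∀ x ∈ L, (orderOf x).Coprime p → x ∈ centralizer (V : Set G)) :
    L ≤ CfsgLib.PLocal.stabD p V := by
  set π := QuotientGroup.mk' (centralizer (V : Set G))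
  refine fun x hx => CfsgLib.PCore.le_pCore
    ((inferInstance : L.Normal).map π (QuotientGroup.mk'_surjective _)) ?_ ⟨x, hx, rfl⟩
  rintro ⟨_, y, hy, rfl⟩
  obtain ⟨j, hj⟩ := exists_coprime_pow (p := p) y
  refine ⟨j, Subtype.ext ?_⟩
  show π y ^ p ^ j = 1
  rw [← map_pow]
  exact (QuotientGroup.eq_one_iff _).2 (h _ (pow_mem hy _) hj)

/-- The subgroup generated by the `p'`-elements of `L`. -/
def pPrimeGen (p : ℕ) (L : Subgroup G) : Subgroup G :=
  closure {x | x ∈ L ∧ (orderOf x).Coprime p}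

theorem pPrimeGen_normal (L : Subgroup G) [L.Normal] : (pPrimeGen p L).Normal := by
  refine ⟨fun x hx g => ?_⟩
  have h1 : (pPrimeGen p L).map (MulAut.conj g).toMonoidHom ≤ pPrimeGen p L := by
    rw [pPrimeGen, MonoidHom.map_closure]
    refine closure_mono ?_
    rintro _ ⟨y, hy, rfl⟩
    exact ⟨(inferInstance : L.Normal).conj_mem y hy.1 g, by
      show (orderOf (MulAut.conj g y)).Coprime p
      rw [MulEquiv.orderOf_eq]; exact hy.2⟩
  exact h1 ⟨x, hx, rfl⟩

/-- If `[[V, L₁], L₁] = 1` for the `p`-group `V`, then `[V, L₁] = 1`. -/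
theorem le_centralizer_of_commutator {V L : Subgroup G} [V.Normal] (hV : IsPGroup p V)
    (h : ⁅⁅V, pPrimeGen p L⁆, pPrimeGen p L⁆ = ⊥) :
    pPrimeGen p L ≤ centralizer (V : Set G) := by
  refine (closure_le _).2 fun x hx => ?_
  have hxL : zpowers x ≤ pPrimeGen p L := zpowers_le.2 (subset_closure hx)
  obtain ⟨n, hn⟩ := IsPGroup.iff_card.1 hV
  have h1 := CfsgLib.Coprime.commutator_eq_bot_of_commutator_commutator_eq_bot (zpowers x) V
    (by rw [normalizer_eq_top V]; exact le_top)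
    (by rw [Nat.card_zpowers, hn]; exact hx.2.pow_right n)
    (Or.inl inferInstance)
    (le_bot_iff.1 ((commutator_mono (commutator_mono le_rfl hxL) hxL).trans h.le))
  rw [commutator_comm, commutator_eq_bot_iff_le_centralizer] at h1
  exact h1 (mem_zpowers x)

set_option maxHeartbeats 1600000 in
/-- The core lemma. -/
theorem mem_stabD_of_stable (hp2 : p ≠ 2) (hst : IsNormalizerPStable p G) (V U : Subgroup G)
    [V.Normal] [U.Normal] (hV : IsPGroup p V)
    (hU : ∀ x : G, (orderOf x).Coprime p → x ∈ centralizer (U : Set G)) (a : G)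
    (hq : ⁅⁅V, zpowers a⁆, zpowers a⁆ ≤ U) : a ∈ CfsgLib.PLocal.stabD p V := by
  classical
  by_contra hna
  set L := normalClosure ({a} : Set G) with hL
  have haL : a ∈ L := subset_normalClosure rfl
  set L1 := pPrimeGen p L with hL1
  haveI hL1n : L1.Normal := pPrimeGen_normal L
  have hL1U : U ≤ centralizer (L1 : Set G) :=
    le_centralizer_iff.1 ((closure_le _).2 fun x hx => hU x hx.2)
  obtain ⟨V1, ⟨hV1n, hV1V, hV1L⟩, hmin⟩ := Set.Finite.exists_minimal
    ({W : Subgroup G | W.Normal ∧ W ≤ V ∧ ¬ L1 ≤ centralizer (W : Set G)}).toFinite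
    ⟨V, inferInstance, le_rfl, fun h => hna (le_stabD_of_coprime_le
      (fun x hx hx' => h (subset_closure ⟨hx, hx'⟩)) haL)⟩
  haveI := hV1n
  have hV1p : IsPGroup p V1 := hV.to_le hV1V
  set U0 := V1 ⊓ centralizer (L1 : Set G) with hU0
  haveI hU0n : U0.Normal := inferInstance
  have hU0V : U0 ≤ V1 := inf_le_left
  have hU0L : U0 ≤ centralizer (L1 : Set G) := inf_le_right
  have hsmall : ∀ W : Subgroup G, W.Normal → W ≤ V1 → W ≠ V1 → W ≤ U0 := fun W hW hle hne =>
    le_inf hle (le_centralizer_iff.1 (not_not.1 fun hh => hne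
      (le_antisymm hle (hmin ⟨hW, hle.trans hV1V, hh⟩ hle))))
  have hV1ne : V1 ≠ ⊥ := fun e => hV1L (by
    intro x _; rw [e, mem_centralizer_iff]; intro y hy; rw [mem_bot.1 hy, one_mul, mul_one])
  have hU0ne : U0 ≠ V1 := fun e => hV1L (le_centralizer_iff.1 (e ▸ hU0L))
  have hnotle : ¬ ⁅V1, L1⁆ ≤ U0 := fun h => hV1L (le_centralizer_of_commutator hV1p
    (le_bot_iff.1 ((commutator_mono h le_rfl).trans
      (commutator_eq_bot_iff_le_centralizer.2 hU0L).le)))
  have hcen : ∀ v ∈ V1, ∀ u ∈ U0, v * u = u * v := by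
    have h2 : ⁅V1, L1⁆ = V1 := by
      by_contra hne
      exact hnotle (hsmall _ inferInstance (commutator_le_left _ _) hne)
    have h3 : ⁅⁅V1, L1⁆, U0⁆ = ⊥ := by
      refine commutator_commutator_eq_bot_of_rotate ?_ ?_
      · rw [show ⁅L1, U0⁆ = ⊥ by rw [commutator_comm]; exact commutator_eq_bot_iff_le_centralizer.2 hU0L]
        exact commutator_bot_left _
      · exact le_bot_iff.1 ((commutator_mono (commutator_le_left U0 V1) le_rfl).trans
          (commutator_eq_bot_iff_le_centralizer.2 hU0L).le)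
    rw [h2, commutator_eq_bot_iff_le_centralizer] at h3
    intro v hv u hu
    exact (mem_centralizer_iff.1 (h3 hv) u hu).symm
  -- the section `E = V1 / U0`
  set π := QuotientGroup.mk' U0 with hπ
  have hπs : Function.Surjective π := QuotientGroup.mk'_surjective U0
  have hker : π.ker ≤ U0 := (QuotientGroup.ker_mk' U0).le
  set E := V1.map π with hEdef
  haveI hEn : E.Normal := hV1n.map π hπs
  have hEc : E.comap π = V1 := by
    rw [hEdef, comap_map_eq, QuotientGroup.ker_mk', sup_eq_left.2 hU0V]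
  haveI : Nontrivial V1 := (nontrivial_iff_ne_bot V1).2 hV1ne
  set Φ := (frattini V1).map V1.subtype with hΦ
  have hΦ0 : Φ ≤ U0 := hsmall Φ (CfsgLib.PLocal.frattini_map_normal V1) (map_subtype_le _) fun e => by
    refine CfsgLib.PGroup.frattini_ne_top (P := V1)
      (Subgroup.map_injective V1.subtype_injective ?_)
    rw [← hΦ, e, ← MonoidHom.range_eq_map, range_subtype]
  have hEel : IsElementaryAbelian p E := by
    constructor
    · rw [← commutator_self_eq_bot_iff, hEdef, ← map_commutator, Subgroup.map_eq_bot_iff,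
        QuotientGroup.ker_mk', ← map_subtype_commutator]
      exact (Subgroup.map_mono (CfsgLib.PGroup.commutator_le_frattini hV1p)).trans hΦ0
    · rintro _ ⟨x, hx, rfl⟩
      rw [← map_pow]
      exact (QuotientGroup.eq_one_iff _).2
        (hΦ0 ⟨_, CfsgLib.PGroup.pow_mem_frattini hV1p ⟨x, hx⟩, rfl⟩)
  set C := centralizer (E : Set (G ⧸ U0)) with hC
  -- fixed points
  have hpc : pCore p ((G ⧸ U0) ⧸ C) = ⊥ := by
    set κ := QuotientGroup.mk' C
    set D := (pCore p ((G ⧸ U0) ⧸ C)).comap κ with hD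
    haveI hDn : D.Normal := (pCore_normal p _).comap κ
    have hEne : E ≠ ⊥ := fun e => hU0ne (le_antisymm hU0V (by
      rw [Subgroup.map_eq_bot_iff, QuotientGroup.ker_mk'] at e; exact e))
    obtain ⟨P⟩ : Nonempty (Sylow p (G ⧸ U0)) := inferInstance
    have hEP : E ≤ (P : Subgroup (G ⧸ U0)) :=
      (CfsgLib.PCore.le_pCore hEn (hV1p.map π)).trans (CfsgLib.PCore.pCore_le_sylow P)
    obtain ⟨z, hzE, hzc, hzo⟩ := CfsgLib.PGroupBasic.exists_central_orderOf_eq (p := p) P.2
      (E.subgroupOf (P : Subgroup (G ⧸ U0))) (fun e => hEne (by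
        rw [← map_subgroupOf_eq_of_le hEP, e, Subgroup.map_bot]))
    set F := E ⊓ centralizer (D : Set (G ⧸ U0)) with hF
    have hzF : (z : G ⧸ U0) ∈ F := by
      refine mem_inf.2 ⟨hzE, mem_centralizer_iff.2 fun d hd => ?_⟩
      have h1 : κ d ∈ ((P.mapSurjective (QuotientGroup.mk'_surjective C)) : Subgroup _) :=
        CfsgLib.PCore.pCore_le_sylow _ hd
      rw [Sylow.coe_mapSurjective] at h1
      obtain ⟨s, hs, hsd⟩ := h1
      have h2 : s⁻¹ * d ∈ C := QuotientGroup.eq.1 hsd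
      have e1 := mem_centralizer_iff.1 h2 z hzE
      have e2 : s * (z : G ⧸ U0) = z * s := congrArg Subtype.val (mem_center_iff.1 hzc ⟨s, hs⟩)
      calc d * (z : G ⧸ U0) = s * ((s⁻¹ * d) * z) := by group
        _ = s * z * (s⁻¹ * d) := by rw [← e1]; group
        _ = z * d := by rw [e2]; group
    haveI : F.Normal := inferInstance
    by_contra hne
    have hW : F.comap π ≤ U0 := by
      refine hsmall _ inferInstance ((Subgroup.comap_mono inf_le_left).trans hEc.le) fun e => hne ?_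
      have hDE : D ≤ C := by
        rw [hC, le_centralizer_iff]
        have : E ≤ F := by rw [hEdef, ← e]; exact map_comap_le _ _
        exact this.trans inf_le_right
      rw [← map_comap_eq_self_of_surjective (QuotientGroup.mk'_surjective C) (pCore p _), ← hD,
        Subgroup.map_eq_bot_iff, QuotientGroup.ker_mk']
      exact hDE
    obtain ⟨v, hv⟩ := hπs z
    have h1 : (z : G ⧸ U0) = 1 := by
      rw [← hv]; exact (QuotientGroup.eq_one_iff v).2 (hW (show π v ∈ F from hv ▸ hzF))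
    have : z = 1 := Subtype.ext h1
    rw [this, orderOf_one] at hzo
    exact hp.out.one_lt.ne hzo
  -- the quadratic element
  set κ := (QuotientGroup.mk' C).comp π with hκ
  set Lb := L.map κ with hLb
  have hκs : Function.Surjective κ := (QuotientGroup.mk'_surjective C).comp hπs
  haveI : Lb.Normal := (inferInstance : L.Normal).map κ hκs
  haveI : (pCore p Lb).Characteristic := inferInstance
  have hLbc : pCore p Lb = ⊥ := by
    apply Subgroup.map_injective Lb.subtype_injective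
    rw [Subgroup.map_bot, ← le_bot_iff, ← hpc]
    exact CfsgLib.PCore.le_pCore inferInstance (CfsgLib.PCore.pCore_isPGroup.map _)
  have haE : κ a ≠ 1 := by
    intro h
    have hLk : L ≤ κ.ker := normalClosure_le_normal (by simpa using h)
    apply hnotle
    rw [Subgroup.commutator_le]
    intro v hv x hx
    have hxL : x ∈ L := ((closure_le L).2 fun y hy => hy.1 : L1 ≤ L) hx
    have h2 : π x ∈ C := (QuotientGroup.eq_one_iff (π x)).1 (hLk hxL)
    refine hker (?_ : π ⁅v, x⁆ = 1)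
    rw [map_commutatorElement, commutatorElement_eq_one_iff_mul_comm]
    exact mem_centralizer_iff.1 h2 (π v) (mem_map_of_mem π hv)
  have hEq : ⁅⁅E, zpowers (π a)⁆, zpowers (π a)⁆ = ⊥ := by
    refine CfsgLib.PLocal.map_quadratic π (N := U0) (QuotientGroup.ker_mk' U0).ge ?_
    refine le_inf ((commutator_mono (commutator_le_left _ _) le_rfl).trans (commutator_le_left _ _)) ?_
    exact ((commutator_mono (commutator_mono hV1V le_rfl) le_rfl).trans hq).trans hL1U
  obtain ⟨W, _, _, _, ρ, emb, hembi, hembE, hemb, hρ, hsq⟩ :=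
    CfsgLib.PLocal.exists_rep_quotient' (p := p) E hEel
  have hna' : (⟨κ a, mem_map_of_mem κ haL⟩ : Lb) ∉ pCore p Lb := by
    rw [hLbc, mem_bot]; exact fun h => haE (congrArg Subtype.val h)
  obtain ⟨M, θ, j, hθ, hj, hjm⟩ := CfsgLib.PLocal.exists_natural_submodule (p := p) hp2
    (ρ.comp Lb.subtype) (hρ.comp Lb.subtype_injective) (a := ⟨κ a, mem_map_of_mem κ haL⟩)
    (hsq (π a) hEq) hna'
  -- lift to `G`
  set M0 := L ⊓ (M.map Lb.subtype).comap κ with hM0
  have hM0L : M0 ≤ L := inf_le_left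
  let φ : M0 →* M :=
    { toFun := fun m => ⟨⟨κ (m : G), mem_map_of_mem κ (hM0L m.2)⟩, by
        obtain ⟨x, hx, e⟩ := (mem_inf.1 m.2).2
        exact (Subtype.ext e : x = ⟨κ (m : G), mem_map_of_mem κ (hM0L m.2)⟩) ▸ hx⟩
      map_one' := Subtype.ext (Subtype.ext (map_one κ))
      map_mul' := fun x y => Subtype.ext (Subtype.ext (map_mul κ (x : G) (y : G))) }
  have hφ : Function.Surjective φ := by
    rintro ⟨⟨y, hy⟩, hyM⟩
    obtain ⟨x, hx, rfl⟩ := id hy
    exact ⟨⟨x, mem_inf.2 ⟨hx, ⟨_, hyM, rfl⟩⟩⟩, rfl⟩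
  set θ0 := θ.comp φ with hθ0
  have hθ0s : Function.Surjective θ0 := hθ.comp hφ
  set e : Multiplicative (Fin 2 → ZMod p) →* G ⧸ U0 :=
    emb.comp j.toAddMonoidHom.toMultiplicative with he
  have hei : Function.Injective e := fun x y h => Multiplicative.toAdd.injective
    (hj (Multiplicative.ofAdd.injective (hembi h)))
  have hact : ∀ (m : M0) (z : Fin 2 → ZMod p), π m * e (Multiplicative.ofAdd z) * (π m)⁻¹ =
      e (Multiplicative.ofAdd ((θ0 m).1.mulVec z)) := by
    intro m z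
    show π m * emb (Multiplicative.ofAdd (j z)) * (π m)⁻¹ = emb (Multiplicative.ofAdd (j _))
    rw [← hemb]
    exact congrArg (fun w => emb (Multiplicative.ofAdd w)) (hjm (φ m) z)
  set R := e.range.comap π with hR
  have hU0R : U0 ≤ R := fun u hu => ⟨1, by rw [map_one]; exact ((QuotientGroup.eq_one_iff u).2 hu).symm⟩
  have hRV : R ≤ V1 := by
    intro x hx
    obtain ⟨w, hw⟩ := hx
    rw [← hEc, mem_comap, ← hw]
    exact hembE _
  have hRp : IsPGroup p R := hV1p.to_le hRV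
  have hRconj : ∀ (m : M0) (x : G), x ∈ R → (m : G) * x * (m : G)⁻¹ ∈ R := by
    intro m x hx
    obtain ⟨w, hw⟩ := hx
    refine ⟨Multiplicative.ofAdd ((θ0 m).1.mulVec (Multiplicative.toAdd w)), ?_⟩
    rw [← hact, ofAdd_toAdd, hw, map_mul, map_mul, map_inv]
  -- a `p'`-element inverting `R / U0`
  have hneg : (orderOf (-1 : SL(2, ZMod p))).Coprime p := by
    refine Nat.Coprime.coprime_dvd_left (orderOf_dvd_of_pow_eq_one (n := 2) (by simp)) ?_
    exact (Nat.coprime_primes Nat.prime_two hp.out).2 (Ne.symm hp2)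
  obtain ⟨t, ht, ht1⟩ := exists_coprime_preimage θ0 hθ0s hneg
  have hfix : ∀ x : M0, x ∈ closure {x : M0 | (orderOf x).Coprime p} →
      ∀ u ∈ U0, (x : G) * u * (x : G)⁻¹ = u := by
    intro x hx u hu
    have hxL : (x : G) ∈ L1 := ((closure_le (L1.comap M0.subtype)).2 fun y hy => subset_closure
      ⟨hM0L y.2, by show (orderOf (y : G)).Coprime p; rw [orderOf_coe]; exact hy⟩) hx
    rw [mem_centralizer_iff.1 (hU0L hu) x hxL, mul_inv_cancel_right]
  obtain ⟨n, hn⟩ := IsPGroup.iff_card.1 (hV1p.to_le hU0V)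
  obtain ⟨r, hr⟩ : Odd (Nat.card U0) := by
    rw [hn]; exact ((hp.out.odd_of_ne_two hp2).pow)
  have hpow : ∀ u ∈ U0, u ^ (Nat.card U0) = 1 := fun u hu =>
    orderOf_dvd_iff_pow_eq_one.1 (Subgroup.orderOf_dvd_natCard U0 hu)
  set h := r + 1 with hh
  have hhalf : ∀ u ∈ U0, u ^ h * u ^ h = u := fun u hu => by
    rw [← pow_add, show h + h = Nat.card U0 + 1 by omega, pow_succ, hpow u hu, one_mul]
  have hsq : ∀ u ∈ U0, u * u = 1 → u = 1 := fun u hu hu2 => by
    have := hpow u hu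
    rwa [hr, pow_succ, pow_mul, pow_two, hu2, one_pow, one_mul] at this
  have htU : ∀ u ∈ U0, (t : G)⁻¹ * u * (t : G) = u := by
    intro u hu
    simpa using hfix t⁻¹ (inv_mem (subset_closure ht)) u hu
  have hinv : ∀ x ∈ R, ∃ u ∈ U0, (t : G)⁻¹ * x * (t : G) = x⁻¹ * u := by
    intro x hx
    refine ⟨x * ((t : G)⁻¹ * x * (t : G)), ?_, by group⟩
    obtain ⟨w, hw⟩ := id hx
    refine (QuotientGroup.eq_one_iff _).1 (?_ : π (x * ((t : G)⁻¹ * x * (t : G))) = 1)
    have h1 := hact t⁻¹ (Multiplicative.toAdd w)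
    have h2 : (θ0 t⁻¹).1.mulVec (Multiplicative.toAdd w) = -Multiplicative.toAdd w := by
      rw [map_inv, ht1, show (-1 : SL(2, ZMod p))⁻¹ = -1 from inv_eq_of_mul_eq_one_right (by simp),
        Matrix.SpecialLinearGroup.coe_neg, Matrix.SpecialLinearGroup.coe_one, Matrix.neg_mulVec,
        Matrix.one_mulVec]
    rw [h2, ofAdd_neg, map_inv, ofAdd_toAdd, hw] at h1
    simp only [Subgroup.coe_inv, map_inv, inv_inv] at h1
    rw [map_mul, map_mul, map_mul, map_inv, h1, mul_inv_cancel]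
  -- every element can be adjusted to commute with `t` on `R`
  have hadj : ∀ g : M0, ∃ a' : M0, θ0 a' = θ0 g ∧ ∀ x ∈ R,
      (t : G) * ((a' : G) * ((t : G)⁻¹ * x * (t : G)) * (a' : G)⁻¹) * (t : G)⁻¹ =
        (a' : G) * x * (a' : G)⁻¹ := by
    intro m
    set k := m⁻¹ * (t * m * t⁻¹) with hk
    have hkmem : k ∈ closure {x : M0 | (orderOf x).Coprime p} := by
      rw [show k = (m⁻¹ * t * m⁻¹⁻¹) * t⁻¹ by rw [hk]; group]
      refine mul_mem (subset_closure ?_) (inv_mem (subset_closure ht))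
      show (orderOf (m⁻¹ * t * m⁻¹⁻¹)).Coprime p
      rw [← MulAut.conj_apply, MulEquiv.orderOf_eq]; exact ht
    have hkU : ∀ u ∈ U0, (k : G) * u * (k : G)⁻¹ = u := hfix k hkmem
    have hk1 : θ0 k = 1 := by
      rw [hk, map_mul, map_mul, map_mul, map_inv, map_inv, ht1]
      have : ∀ A : SL(2, ZMod p), (-1 : SL(2, ZMod p)) * A * (-1 : SL(2, ZMod p))⁻¹ = A := fun A => by
        rw [mul_inv_eq_iff_eq_mul]
        exact Subtype.ext (by simp)
      rw [this, inv_mul_cancel]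
    let c : G → G := fun x => x⁻¹ * ((k : G) * x * (k : G)⁻¹)
    have hc : ∀ x ∈ R, c x ∈ U0 := by
      intro x hx
      obtain ⟨w, hw⟩ := id hx
      refine (QuotientGroup.eq_one_iff (c x)).1 ?_
      show π (c x) = 1
      have h1 := hact k (Multiplicative.toAdd w)
      rw [hk1, Matrix.SpecialLinearGroup.coe_one, Matrix.one_mulVec, ofAdd_toAdd, hw] at h1
      simp only [c, map_mul, map_inv]
      rw [h1, inv_mul_cancel]
    have hiter : ∀ x ∈ R, ∀ n : ℕ, (k : G) ^ n * x * ((k : G) ^ n)⁻¹ = x * c x ^ n := by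
      intro x hx n
      induction n with
      | zero => simp
      | succ n ih =>
        calc (k : G) ^ (n + 1) * x * ((k : G) ^ (n + 1))⁻¹
            = (k : G) * ((k : G) ^ n * x * ((k : G) ^ n)⁻¹) * (k : G)⁻¹ := by rw [pow_succ']; group
          _ = ((k : G) * x * (k : G)⁻¹) * ((k : G) * c x ^ n * (k : G)⁻¹) := by rw [ih]; group
          _ = x * c x * c x ^ n := by rw [hkU _ (pow_mem (hc x hx) n)]; simp only [c]; group
          _ = x * c x ^ (n + 1) := by rw [pow_succ', mul_assoc]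
    refine ⟨m * k ^ h, by rw [map_mul, map_pow, hk1, one_pow, mul_one], fun x hx => ?_⟩
    obtain ⟨u, hu, hy⟩ := hinv x hx
    set y := (t : G)⁻¹ * x * (t : G) with hy'
    have hyR : y ∈ R := by rw [hy]; exact mul_mem (inv_mem hx) (hU0R hu)
    have hcy : c y = (c x)⁻¹ := by
      have hcx := hc x hx
      have e0 : (c x)⁻¹ * x⁻¹ = x⁻¹ * (c x)⁻¹ :=
        ((hcen _ (inv_mem (hRV hx)) _ (inv_mem hcx))).symm
      have hk' : (k : G) * y * (k : G)⁻¹ = x⁻¹ * (c x)⁻¹ * u := by
        rw [← e0, hy]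
        calc (k : G) * (x⁻¹ * u) * (k : G)⁻¹
            = ((k : G) * x * (k : G)⁻¹)⁻¹ * ((k : G) * u * (k : G)⁻¹) := by group
          _ = (c x)⁻¹ * x⁻¹ * u := by rw [hkU u hu]; simp only [c]; group
      calc c y = y⁻¹ * ((k : G) * y * (k : G)⁻¹) := rfl
        _ = u⁻¹ * ((c x)⁻¹ * u) := by rw [hk', hy]; group
        _ = (c x)⁻¹ := by
          rw [← hcen _ (hU0V (inv_mem hcx)) u hu |>.symm, ← mul_assoc, inv_mul_cancel, one_mul]
    have hq2 : c x * ((c x)⁻¹) ^ h = c x ^ h := by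
      rw [inv_pow, mul_inv_eq_iff_eq_mul, hhalf _ (hc x hx)]
    have e1 : (k : G) ^ h * y * ((k : G) ^ h)⁻¹ = y * (c x)⁻¹ ^ h := by rw [hiter y hyR, hcy]
    have eco : ((m * k ^ h : M0) : G) = (m : G) * (k : G) ^ h := rfl
    rw [eco]
    calc (t : G) * ((m : G) * (k : G) ^ h * y * ((m : G) * (k : G) ^ h)⁻¹) * (t : G)⁻¹
        = (t : G) * ((m : G) * ((k : G) ^ h * y * ((k : G) ^ h)⁻¹) * (m : G)⁻¹) * (t : G)⁻¹ := by group
      _ = ((m : G) * (k : G)) * ((t : G) * (y * (c x)⁻¹ ^ h) * (t : G)⁻¹) * ((m : G) * (k : G))⁻¹ := by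
          rw [e1, hk]; simp only [Subgroup.coe_mul, Subgroup.coe_inv]; group
      _ = (m : G) * ((k : G) * (x * (c x)⁻¹ ^ h) * (k : G)⁻¹) * (m : G)⁻¹ := by
          have : (t : G) * (y * (c x)⁻¹ ^ h) * (t : G)⁻¹ = x * (c x)⁻¹ ^ h := by
            conv_lhs => rw [← htU _ (pow_mem (inv_mem (hc x hx)) h), hy']
            group
          rw [this]; group
      _ = (m : G) * (x * (c x * (c x)⁻¹ ^ h)) * (m : G)⁻¹ := by
          congr 2
          calc (k : G) * (x * (c x)⁻¹ ^ h) * (k : G)⁻¹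
              = ((k : G) * x * (k : G)⁻¹) * ((k : G) * (c x)⁻¹ ^ h * (k : G)⁻¹) := by group
            _ = x * (c x * (c x)⁻¹ ^ h) := by
              rw [hkU _ (pow_mem (inv_mem (hc x hx)) h)]; simp only [c]; group
      _ = (m : G) * (k : G) ^ h * x * ((m : G) * (k : G) ^ h)⁻¹ := by rw [hq2, ← hiter x hx]; group
  -- the subgroup generated by inverted elements
  set I := {x : G | x ∈ R ∧ (t : G)⁻¹ * x * (t : G) = x⁻¹} with hI
  have hlift : ∀ v : Fin 2 → ZMod p, ∃ x ∈ I, π x = e (Multiplicative.ofAdd v) := by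
    intro v
    obtain ⟨x, hx⟩ := hπs (e (Multiplicative.ofAdd v))
    have hxR : x ∈ R := ⟨_, hx.symm⟩
    obtain ⟨u, hu, hxu⟩ := hinv x hxR
    have hw : u⁻¹ ^ h ∈ U0 := pow_mem (inv_mem hu) h
    refine ⟨x * u⁻¹ ^ h, ⟨mul_mem hxR (hU0R hw), ?_⟩, ?_⟩
    · calc (t : G)⁻¹ * (x * u⁻¹ ^ h) * (t : G)
          = ((t : G)⁻¹ * x * (t : G)) * ((t : G)⁻¹ * u⁻¹ ^ h * (t : G)) := by group
        _ = x⁻¹ * (u * u⁻¹ ^ h) := by rw [hxu, htU _ hw, mul_assoc]
        _ = x⁻¹ * (u⁻¹ ^ h)⁻¹ := by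
          congr 1
          rw [eq_inv_iff_mul_eq_one, mul_assoc, hhalf _ (inv_mem hu), mul_inv_cancel]
        _ = (x * u⁻¹ ^ h)⁻¹ := by
          rw [mul_inv_rev, hcen _ (hRV (inv_mem hxR)) _ (inv_mem hw)]
    · rw [map_mul, show π (u⁻¹ ^ h) = 1 from (QuotientGroup.eq_one_iff _).2 hw, mul_one, hx]
  have huniq : ∀ x ∈ I, ∀ y ∈ I, π x = π y → x = y := by
    rintro x ⟨hxR, hxi⟩ y ⟨hyR, hyi⟩ hxy
    have hd : x⁻¹ * y ∈ U0 := QuotientGroup.eq.1 hxy
    set d := x⁻¹ * y with hd'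
    have h1 : x⁻¹ * d = x⁻¹ * d⁻¹ := by
      rw [hcen _ (hRV (inv_mem hxR)) _ (inv_mem hd)]
      calc x⁻¹ * d = ((t : G)⁻¹ * x * (t : G)) * ((t : G)⁻¹ * d * (t : G)) := by rw [hxi, htU d hd]
        _ = (t : G)⁻¹ * y * (t : G) := by rw [hd']; group
        _ = d⁻¹ * x⁻¹ := by rw [hyi, hd']; group
    have h2 : d = 1 := hsq d hd (by
      have := mul_left_cancel h1
      nth_rw 2 [this]; exact mul_inv_cancel d)
    rw [hd', inv_mul_eq_one] at h2
    exact h2
  set R1 := closure I with hR1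
  have hR1R : R1 ≤ R := (closure_le R).2 fun x hx => hx.1
  -- a normal subgroup of `M0` stabilizing `R1`
  have hstab : ∀ a' : M0, (∀ x ∈ R, (t : G) * ((a' : G) * ((t : G)⁻¹ * x * (t : G)) * (a' : G)⁻¹) *
      (t : G)⁻¹ = (a' : G) * x * (a' : G)⁻¹) →
      (a' : G) ∈ normalizer (R1 : Set G) ∧ ∀ x ∈ I, (a' : G) * x * (a' : G)⁻¹ ∈ I := by
    intro a' ha'
    have hII : ∀ x ∈ I, (a' : G) * x * (a' : G)⁻¹ ∈ I := by
      rintro x ⟨hxR, hxi⟩
      refine ⟨hRconj a' x hxR, ?_⟩
      conv_lhs => rw [← ha' x hxR, hxi]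
      group
    refine ⟨?_, hII⟩
    rw [← CfsgLib.Techniques.map_conj_eq_self_iff]
    refine eq_of_le_of_card_ge ?_ (card_map_of_injective (MulAut.conj (a' : G)).injective).ge
    rw [hR1, MonoidHom.map_closure]
    exact closure_mono (Set.image_subset_iff.2 hII)
  obtain ⟨X, hXI, hX⟩ := hlift (Pi.single 0 1)
  obtain ⟨Y, hYI, hY⟩ := hlift (Pi.single 1 1)
  set T := zpowers ⁅X, Y⁆ with hT
  have hmemU : ∀ x ∈ R, ∀ y ∈ R, ⁅x, y⁆ ∈ U0 := by
    intro x hx y hy
    obtain ⟨v, hv⟩ := hx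
    obtain ⟨w, hw⟩ := hy
    refine (QuotientGroup.eq_one_iff _).1 (?_ : π ⁅x, y⁆ = 1)
    rw [map_commutatorElement, ← hv, ← hw, ← map_commutatorElement,
      show ⁅v, w⁆ = 1 from commutatorElement_eq_one_iff_mul_comm.2 (mul_comm v w), map_one]
  have hTU : T ≤ U0 := zpowers_le.2 (hmemU X hXI.1 Y hYI.1)
  have hgen : R ≤ closure ({X, Y} ∪ (U0 : Set G)) := by
    intro x hx
    obtain ⟨v, hv⟩ := hx
    set i := (Multiplicative.toAdd v 0).val
    set j := (Multiplicative.toAdd v 1).val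
    have hπij : π (X ^ i * Y ^ j) = π x := by
      rw [map_mul, map_pow, map_pow, hX, hY, ← map_pow e, ← map_pow e, ← map_mul e, ← hv]
      refine congrArg e ?_
      rw [← ofAdd_nsmul, ← ofAdd_nsmul, ← ofAdd_add]
      refine Multiplicative.toAdd.injective ?_
      funext l
      fin_cases l <;> simp [i, j]
      all_goals rw [← ZMod.natCast_val, Pi.natCast_apply, ZMod.natCast_zmod_val]
    have hu : (X ^ i * Y ^ j)⁻¹ * x ∈ U0 := QuotientGroup.eq.1 hπij
    rw [show x = X ^ i * Y ^ j * ((X ^ i * Y ^ j)⁻¹ * x) by group]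
    have hX' : X ∈ closure ({X, Y} ∪ (U0 : Set G)) := Subgroup.subset_closure (by simp)
    have hY' : Y ∈ closure ({X, Y} ∪ (U0 : Set G)) := Subgroup.subset_closure (by simp)
    have hu' : (X ^ i * Y ^ j)⁻¹ * x ∈ closure ({X, Y} ∪ (U0 : Set G)) :=
      Subgroup.subset_closure (Set.mem_union_right _ hu)
    exact mul_mem (mul_mem (pow_mem hX' i) (pow_mem hY' j)) hu'
  have hclR : closure ({X, Y} ∪ (U0 : Set G)) ≤ R := by
    refine (closure_le R).2 (Set.union_subset ?_ hU0R)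
    rintro _ (rfl | rfl)
    exacts [hXI.1, hYI.1]
  have hcT : ∀ x ∈ R, ∀ z ∈ T, x * z = z * x := fun x hx z hz => hcen x (hRV hx) z (hTU hz)
  have hcomm : ∀ x ∈ R, ∀ y ∈ R, ⁅x, y⁆ ∈ T := by
    intro x hx y hy
    induction hgen hx, hgen hy using closure_induction₂ with
    | mem x y hx' hy' =>
      have hone : ∀ a ∈ R, ∀ b ∈ U0, ⁅a, b⁆ ∈ T := fun a ha b hb => by
        rw [commutatorElement_eq_one_iff_mul_comm.2 (hcen a (hRV ha) b hb)]; exact one_mem T
      rcases hy' with hy' | hy'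
      swap
      · exact hone x hx y hy'
      rcases hx' with hx' | hx'
      swap
      · rw [← commutatorElement_inv]; exact inv_mem (hone y hy x hx')
      rcases hx' with rfl | rfl <;> rcases hy' with rfl | rfl
      · rw [commutatorElement_self]; exact one_mem T
      · exact mem_zpowers _
      · rw [← commutatorElement_inv]; exact inv_mem (mem_zpowers _)
      · rw [commutatorElement_self]; exact one_mem T
    | one_left y hy' => rw [commutatorElement_one_left]; exact one_mem T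
    | one_right x hx' => rw [commutatorElement_one_right]; exact one_mem T
    | mul_left a b y ha hb hy' iha ihb =>
      have h1 := ihb (hclR hb) hy
      rw [show ⁅a * b, y⁆ = a * ⁅b, y⁆ * a⁻¹ * ⁅a, y⁆ by simp only [commutatorElement_def]; group,
        hcT a (hclR ha) _ h1, mul_inv_cancel_right]
      exact mul_mem h1 (iha (hclR ha) hy)
    | mul_right a b x ha hb hx' iha ihb =>
      have h1 := ihb hx (hclR hb)
      rw [show ⁅x, a * b⁆ = ⁅x, a⁆ * (a * ⁅x, b⁆ * a⁻¹) by simp only [commutatorElement_def]; group,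
        hcT a (hclR ha) _ h1, mul_inv_cancel_right]
      exact mul_mem (iha hx (hclR ha)) h1
    | inv_left a y ha hy' iha =>
      have h1 := iha (hclR ha) hy
      rw [show ⁅a⁻¹, y⁆ = a⁻¹ * ⁅a, y⁆⁻¹ * a⁻¹⁻¹ by simp only [commutatorElement_def]; group,
        hcT a⁻¹ (inv_mem (hclR ha)) _ (inv_mem h1), mul_inv_cancel_right]
      exact inv_mem h1
    | inv_right x a hx' ha iha =>
      have h1 := iha hx (hclR ha)
      rw [show ⁅x, a⁻¹⁆ = a⁻¹ * ⁅x, a⁆⁻¹ * a⁻¹⁻¹ by simp only [commutatorElement_def]; group,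
        hcT a⁻¹ (inv_mem (hclR ha)) _ (inv_mem h1), mul_inv_cancel_right]
      exact inv_mem h1
  have hR1T : ∀ x ∈ R1, x ∈ U0 → x ∈ T := by
    have key : ∀ x ∈ R1, ((t : G)⁻¹ * x * (t : G)) * x ∈ T := by
      intro x hx
      induction hx using closure_induction with
      | mem x hx => rw [hx.2, inv_mul_cancel]; exact one_mem T
      | one => simp
      | mul x y hxm hym ihx ihy =>
        have hxR := hR1R hxm
        have hyR := hR1R hym
        set x' := (t : G)⁻¹ * x * (t : G)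
        set y' := (t : G)⁻¹ * y * (t : G)
        have hx'R : x' ∈ R := by
          obtain ⟨u, hu, e⟩ := hinv x hxR
          show (t : G)⁻¹ * x * (t : G) ∈ R
          rw [e]; exact mul_mem (inv_mem hxR) (hU0R hu)
        have hy'R : y' ∈ R := by
          obtain ⟨u, hu, e⟩ := hinv y hyR
          show (t : G)⁻¹ * y * (t : G) ∈ R
          rw [e]; exact mul_mem (inv_mem hyR) (hU0R hu)
        rw [show (t : G)⁻¹ * (x * y) * (t : G) * (x * y) = (x' * x) * (x⁻¹ * (⁅y', x⁆) * x⁻¹⁻¹) * (y' * y) by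
          simp only [x', y', commutatorElement_def]; group]
        rw [hcT x⁻¹ (inv_mem hxR) _ (hcomm y' hy'R x hxR), mul_inv_cancel_right]
        exact mul_mem (mul_mem ihx (hcomm y' hy'R x hxR)) ihy
      | inv x hxm ih =>
        have hxR := hR1R hxm
        rw [show (t : G)⁻¹ * x⁻¹ * (t : G) * x⁻¹ = x * ((t : G)⁻¹ * x * (t : G) * x)⁻¹ * x⁻¹ by group,
          hcT x hxR _ (inv_mem ih), mul_inv_cancel_right]
        exact inv_mem ih
    intro x hx hxU
    have h1 := key x hx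
    rw [htU x hxU] at h1
    rw [← hhalf x hxU, ← (Commute.refl x).mul_pow]
    exact pow_mem h1 h
  -- the quadratic element
  obtain ⟨g, hg⟩ := hθ0s (up 1)
  obtain ⟨a', ha'1, ha't⟩ := hadj g
  rw [hg] at ha'1
  obtain ⟨-, haI⟩ := hstab a' ha't
  have hav : ∀ (x : G) (v : Fin 2 → ZMod p), π x = e (Multiplicative.ofAdd v) →
      π ((a' : G) * x * (a' : G)⁻¹) = e (Multiplicative.ofAdd ((θ0 a').1.mulVec v)) := by
    intro x v hx
    rw [map_mul, map_mul, map_inv, hx, hact]
  have hup : ∀ v : Fin 2 → ZMod p, (θ0 a').1.mulVec v = v + v 1 • Pi.single 0 1 := by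
    intro v
    rw [ha'1]
    funext i
    fin_cases i <;> simp [Matrix.mulVec, dotProduct, Fin.sum_univ_two, Matrix.vecHead, Matrix.vecTail]
  have haX : (a' : G) * X * (a' : G)⁻¹ = X := huniq _ (haI X hXI) X hXI (by
    rw [hav X _ hX, hX, hup]; simp)
  have haw : ∀ z ∈ T, (a' : G) * z = z * (a' : G) := by
    have hu : (Y * X)⁻¹ * ((a' : G) * Y * (a' : G)⁻¹) ∈ U0 := by
      refine QuotientGroup.eq.1 (?_ : π (Y * X) = π ((a' : G) * Y * (a' : G)⁻¹))
      rw [hav Y _ hY, hup, map_mul, hY, hX, ← map_mul, ← ofAdd_add]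
      simp
    set u := (Y * X)⁻¹ * ((a' : G) * Y * (a' : G)⁻¹) with hu'
    have huX := hcen X (hRV hXI.1) u hu
    have h1 : (a' : G) * ⁅X, Y⁆ * (a' : G)⁻¹ = ⁅X, Y⁆ := by
      calc (a' : G) * ⁅X, Y⁆ * (a' : G)⁻¹
          = ⁅(a' : G) * X * (a' : G)⁻¹, (a' : G) * Y * (a' : G)⁻¹⁆ := by
            simp only [commutatorElement_def]; group
        _ = X * (Y * X * u) * X⁻¹ * (u⁻¹ * X⁻¹ * Y⁻¹) := by
            rw [haX, show (a' : G) * Y * (a' : G)⁻¹ = Y * X * u by rw [hu']; group,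
              commutatorElement_def]; group
        _ = X * Y * X * (u * X⁻¹) * (u⁻¹ * X⁻¹ * Y⁻¹) := by group
        _ = ⁅X, Y⁆ := by
            rw [← hcen X⁻¹ (hRV (inv_mem hXI.1)) u hu, commutatorElement_def]; group
    intro z hz
    have h2 : Commute (a' : G) ⁅X, Y⁆ := mul_inv_eq_iff_eq_mul.1 h1
    obtain ⟨q, rfl⟩ := hz
    exact (h2.zpow_right q).eq
  have hline : ∀ y ∈ R1, ∀ c : ZMod p, π y = e (Multiplicative.ofAdd (c • Pi.single 0 1)) →
      (a' : G) * y = y * (a' : G) := by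
    intro y hy c hc
    have hu : (X ^ c.val)⁻¹ * y ∈ U0 := by
      refine QuotientGroup.eq.1 (?_ : π (X ^ c.val) = π y)
      rw [hc, map_pow, hX, ← map_pow, ← ofAdd_nsmul]
      congr 2
      funext i
      fin_cases i <;> simp
    have hu1 : (X ^ c.val)⁻¹ * y ∈ T := hR1T _
      (mul_mem (inv_mem (pow_mem (subset_closure hXI) _)) hy) hu
    have h1 := haw _ hu1
    have h2 : Commute (a' : G) (X ^ c.val) := (show Commute (a' : G) X from mul_inv_eq_iff_eq_mul.1 haX).pow_right _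
    rw [show y = X ^ c.val * ((X ^ c.val)⁻¹ * y) by group, ← mul_assoc, h2.eq, mul_assoc, h1]
    group
  have hR1conj : ∀ x ∈ R1, (a' : G) * x * (a' : G)⁻¹ ∈ R1 := fun x hx =>
    (mem_normalizer_iff.1 (hstab a' ha't).1 x).1 hx
  have hstep : ∀ x ∈ R1, ∃ y ∈ R1, (a' : G) * y = y * (a' : G) ∧
      (a' : G) * x * (a' : G)⁻¹ = x * y := by
    intro x hx
    refine ⟨x⁻¹ * ((a' : G) * x * (a' : G)⁻¹), mul_mem (inv_mem hx) (hR1conj x hx), ?_, by group⟩
    obtain ⟨v, hv⟩ := hR1R hx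
    refine hline _ (mul_mem (inv_mem hx) (hR1conj x hx)) (Multiplicative.toAdd v 1) ?_
    rw [map_mul, map_inv, hav x (Multiplicative.toAdd v) (by rw [ofAdd_toAdd, hv]), hup, ofAdd_add,
      map_mul e, ofAdd_toAdd, hv, inv_mul_cancel_left]
  have hquad : ⁅⁅R1, zpowers (a' : G)⁆, zpowers (a' : G)⁆ = ⊥ := by
    rw [commutator_eq_bot_iff_le_centralizer, Subgroup.commutator_le]
    intro x hx g hg
    rw [Subgroup.mem_centralizer_iff]
    obtain ⟨y, hy, hya, hxy⟩ := hstep x⁻¹ (inv_mem hx)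
    obtain ⟨i, rfl⟩ : ∃ i : ℕ, (a' : G) ^ i = g := by
      rw [← mem_powers_iff_mem_zpowers] at hg; exact hg
    have hpw : ∀ i : ℕ, (a' : G) ^ i * x⁻¹ * ((a' : G) ^ i)⁻¹ = x⁻¹ * y ^ i := by
      intro i
      induction i with
      | zero => simp
      | succ i ih =>
        calc (a' : G) ^ (i + 1) * x⁻¹ * ((a' : G) ^ (i + 1))⁻¹
            = (a' : G) * ((a' : G) ^ i * x⁻¹ * ((a' : G) ^ i)⁻¹) * (a' : G)⁻¹ := by
              rw [pow_succ']; group
          _ = ((a' : G) * x⁻¹ * (a' : G)⁻¹) * ((a' : G) * y ^ i * (a' : G)⁻¹) := by rw [ih]; group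
          _ = x⁻¹ * y ^ (i + 1) := by
            rw [hxy, (show Commute (a' : G) y from hya).pow_right i |>.eq, mul_inv_cancel_right,
              pow_succ', mul_assoc]
    have hxi : ⁅x, (a' : G) ^ i⁆ = y ^ i := by
      calc ⁅x, (a' : G) ^ i⁆ = x * ((a' : G) ^ i * x⁻¹ * ((a' : G) ^ i)⁻¹) := by
            rw [commutatorElement_def]; group
        _ = y ^ i := by rw [hpw i, mul_inv_cancel_left]
    rw [hxi]
    rintro _ ⟨q, rfl⟩
    exact ((show Commute (a' : G) y from hya).pow_right i |>.zpow_left q).eq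
  set M2 := M0 ⊓ normalizer (R1 : Set G) with hM2
  set θ2 := θ0.comp (inclusion (inf_le_left : M2 ≤ M0)) with hθ2
  have hθ2s : Function.Surjective θ2 := by
    intro A
    obtain ⟨g, rfl⟩ := hθ0s A
    obtain ⟨b, hb1, hbt⟩ := hadj g
    exact ⟨⟨b, mem_inf.2 ⟨b.2, (hstab b hbt).1⟩⟩, hb1⟩
  have hθ2C : ∀ m : M2, (m : G) ∈ centralizer (R1 : Set G) → θ2 m = 1 := by
    intro m hm
    refine Subtype.ext (Matrix.ext_of_mulVec_single fun i => ?_)
    obtain ⟨x, hxI, hx⟩ := hlift (Pi.single i 1)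
    have h1 := hact (inclusion (inf_le_left : M2 ≤ M0) m) (Pi.single i 1)
    rw [← hx, ← map_mul] at h1
    change π ((m : G) * x) * (π (m : G))⁻¹ = _ at h1
    rw [← mem_centralizer_iff.1 hm x (subset_closure hxI), ← map_inv, ← map_mul,
      mul_inv_cancel_right, hx] at h1
    rw [Matrix.SpecialLinearGroup.coe_one, Matrix.one_mulVec]
    exact (Multiplicative.ofAdd.injective (hei h1)).symm
  exact false_of_stable hst (hRp.to_le hR1R) inf_le_right θ2 hθ2s hθ2C
    ⟨a', mem_inf.2 ⟨a'.2, (hstab a' ha't).1⟩⟩ ha'1 hquad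

end CfsgLib.Techniques.StableQuot
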