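import Cfsg.Agent.Lib.PLocal.PStableQuot
import Cfsg.Agent.Lib.PLocal5.SL2Basic
import Cfsg.Prelude.Def_LocalEven

/-!
Normalizer `p`-stability: subgroups, quotients by `p'`-groups, and it excludes a
quadratic element that maps to `up 1`.
-/

set_option autoImplicit false

open scoped MatrixGroups commutatorElement

namespace CfsgLib.Techniques.StableQuot

open Cfsg Subgroup CfsgLib.SL2Unipotent

universe u

variable {p : ℕ} [hp : Fact p.Prime]

theorem exists_coprime_preimage {M Y : Type*} [Group M] [Finite M] [Group Y] (f : M →* Y)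
    (hf : Function.Surjective f) {y : Y} (hy : (orderOf y).Coprime p) :
    ∃ m : M, (orderOf m).Coprime p ∧ f m = y := by
  obtain ⟨m, rfl⟩ := hf y
  obtain ⟨j, k, hk, hord⟩ := Nat.exists_eq_pow_mul_and_not_dvd (orderOf_pos m).ne' p hp.out.ne_one
  obtain ⟨i, hi⟩ := exists_pow_eq_self_of_coprime (x := f m) ((hy.pow_right j).symm)
  refine ⟨(m ^ p ^ j) ^ i, ?_, by rw [map_pow, map_pow, hi]⟩
  refine Nat.Coprime.coprime_dvd_left (orderOf_pow_dvd i) ?_
  rw [orderOf_pow, hord, Nat.gcd_mul_right_left, Nat.mul_div_cancel_left _ (pow_pos hp.out.pos j)]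
  exact (hp.out.coprime_iff_not_dvd.2 hk).symm

theorem exists_coprime_pow {M : Type*} [Group M] [Finite M] (x : M) :
    ∃ j : ℕ, (orderOf (x ^ p ^ j)).Coprime p := by
  obtain ⟨j, k, hk, hord⟩ := Nat.exists_eq_pow_mul_and_not_dvd (orderOf_pos x).ne' p hp.out.ne_one
  refine ⟨j, ?_⟩
  rw [orderOf_pow, hord, Nat.gcd_mul_right_left, Nat.mul_div_cancel_left _ (pow_pos hp.out.pos j)]
  exact (hp.out.coprime_iff_not_dvd.2 hk).symm

theorem tr_eq_two_of_pow_prime_pow {g : SL(2, ZMod p)} {k : ℕ} (hg : g ^ p ^ k = 1) : tr g = 2 := by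
  have h1 : IsNilpotent (g.1 - 1) := ⟨p ^ k, by
    rw [sub_pow_char_pow_of_commute (p := p) (n := k) (Commute.one_right _), one_pow,
      ← Matrix.SpecialLinearGroup.coe_pow, hg, Matrix.SpecialLinearGroup.coe_one, sub_self]⟩
  have h2 := (Matrix.isNilpotent_trace_of_isNilpotent h1).eq_zero
  rw [Matrix.trace_sub, Matrix.trace_one] at h2
  rw [tr]
  simpa [sub_eq_zero] using h2

variable {G : Type u} [Group G] [Finite G]

/-- In a normalizer `p`-stable group no element quadratic on a `p`-subgroup `R` maps to `up 1` under a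
homomorphism of a subgroup of `N(R)` onto `SL₂(p)` that kills the centralizer of `R`. -/
theorem false_of_stable (hst : IsNormalizerPStable p G) {R M : Subgroup G}
    (hR : IsPGroup p R) (hM : M ≤ normalizer (R : Set G)) (θ : M →* SL(2, ZMod p))
    (hθ : Function.Surjective θ) (hC : ∀ m : M, (m : G) ∈ centralizer (R : Set G) → θ m = 1)
    (a : M) (ha : θ a = up 1)
    (hq : ⁅⁅R, zpowers (a : G)⁆, zpowers (a : G)⁆ = ⊥) : False := by
  set N := normalizer (R : Set G) with hN
  set C := (centralizer (R : Set G)).subgroupOf N with hCdef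
  set π : M →* N ⧸ C := (QuotientGroup.mk' C).comp (inclusion hM) with hπ
  have hker : π.ker ≤ θ.ker := by
    intro m hm
    exact hC m (mem_subgroupOf.1 ((QuotientGroup.eq_one_iff _).1 hm) : _)
  set D := (pCore p (N ⧸ C)).comap π with hD
  have hDn : D.Normal := (pCore_normal p _).comap _
  have haD : a ∈ D := hst R hR (a : G) (hM a.2) hq
  set E := D.map θ with hE
  have hEn : E.Normal := hDn.map θ hθ
  have hEp : IsPGroup p E := by
    rintro ⟨_, m, hm, rfl⟩
    obtain ⟨k, hk⟩ := CfsgLib.PCore.pCore_isPGroup (p := p) (G := N ⧸ C) ⟨π m, hm⟩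
    have hk' : m ^ p ^ k ∈ π.ker := by
      rw [MonoidHom.mem_ker, map_pow]; simpa using congrArg Subtype.val hk
    exact ⟨k, Subtype.ext (by simpa using hker hk')⟩
  have huE : up 1 ∈ E := ha ▸ mem_map_of_mem θ haD
  let w : SL(2, ZMod p) := ⟨!![0, -1; 1, 0], by simp [Matrix.det_fin_two]⟩
  have hg : up 1 * (w * up 1 * w⁻¹) ∈ E := mul_mem huE (hEn.conj_mem _ huE w)
  obtain ⟨k, hk⟩ := hEp ⟨_, hg⟩
  have hk' : (up 1 * (w * up 1 * w⁻¹)) ^ p ^ k = 1 := by simpa using congrArg Subtype.val hk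
  have htr := tr_eq_two_of_pow_prime_pow hk'
  have hwlow : w * up 1 * w⁻¹ = low (-1) := by
    rw [mul_inv_eq_iff_eq_mul]
    ext i j
    show (!![(0 : ZMod p), -1; 1, 0] * !![1, 1; 0, 1] : Matrix (Fin 2) (Fin 2) (ZMod p)) i j =
      (!![1, 0; -1, 1] * !![(0 : ZMod p), -1; 1, 0] : Matrix (Fin 2) (Fin 2) (ZMod p)) i j
    fin_cases i <;> fin_cases j <;> simp
  rw [hwlow, tr_eq] at htr
  simp [Matrix.mul_apply, Fin.sum_univ_two] at htr
  exact one_ne_zero (α := ZMod p) (by linear_combination -htr)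

/-- Normalizer `p`-stability passes to subgroups. -/
theorem isNormalizerPStable_of_injective {H : Type u} [Group H] [Finite H] (i : H →* G)
    (hi : Function.Injective i) (hst : IsNormalizerPStable p G) : IsNormalizerPStable p H := by
  intro P hP g hg hq
  set N := normalizer ((P.map i : Subgroup G) : Set G)
  have hfN : ∀ x : normalizer (P : Set H), i x ∈ N := fun x =>
    le_normalizer_map i (mem_map_of_mem i x.2)
  let f : normalizer (P : Set H) →* N := (i.comp (normalizer (P : Set H)).subtype).codRestrict N hfN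
  set C := (centralizer (P : Set H)).subgroupOf (normalizer (P : Set H))
  set C' := (centralizer ((P.map i : Subgroup G) : Set G)).subgroupOf N
  have hcomap : C'.comap f = C := by
    ext x
    rw [mem_comap, mem_subgroupOf, mem_subgroupOf, mem_centralizer_iff, mem_centralizer_iff]
    constructor
    · intro h y hy
      apply hi
      rw [map_mul, map_mul]
      exact h _ (mem_map_of_mem i hy)
    · rintro h _ ⟨y, hy, rfl⟩
      show i y * i (x : H) = i (x : H) * i y
      rw [← map_mul, ← map_mul, h y hy]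
  let g' := QuotientGroup.map C C' f hcomap.ge
  have hinj : Function.Injective g' := by
    rw [injective_iff_map_eq_one]
    intro q hq'
    obtain ⟨x, rfl⟩ := QuotientGroup.mk'_surjective C q
    refine (QuotientGroup.eq_one_iff x).2 ?_
    rw [← hcomap]
    exact (QuotientGroup.eq_one_iff (f x)).1 hq'
  have h1 := hst (P.map i) (hP.map i) (i g) (hfN ⟨g, hg⟩) (by
    rw [← MonoidHom.map_zpowers, ← map_commutator, ← map_commutator, map_eq_bot_iff_of_injective _ hi]
    exact hq)
  exact CfsgLib.PCore.le_pCore ((pCore_normal p _).comap g')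
    (CfsgLib.PCore.pCore_isPGroup.comap_of_injective g' hinj) h1

/-- Normalizer `p`-stability passes to quotients by normal `p'`-subgroups. -/
theorem isNormalizerPStable_quotient_coprime (K : Subgroup G) [K.Normal]
    (hK : (Nat.card K).Coprime p) (hst : IsNormalizerPStable p G) : IsNormalizerPStable p (G ⧸ K) := by
  intro Pb hPb gb hgb hq
  set π := QuotientGroup.mk' K
  obtain ⟨P0⟩ : Nonempty (Sylow p ↥(Pb.comap π)) := inferInstance
  set P := (P0 : Subgroup ↥(Pb.comap π)).map (Pb.comap π).subtype with hP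
  have hPp : IsPGroup p P := P0.isPGroup'.map _
  have hPb' : P.map π = Pb := by
    let ρ : ↥(Pb.comap π) →* ↥Pb := (π.comp (Pb.comap π).subtype).codRestrict Pb fun a => a.2
    have hρ : Function.Surjective ρ := fun ⟨b, hb⟩ => by
      obtain ⟨a, rfl⟩ := QuotientGroup.mk'_surjective K b
      exact ⟨⟨a, hb⟩, rfl⟩
    have h1 := (P0.mapSurjective hρ).3 (Q := ⊤) (hPb.of_equiv Subgroup.topEquiv.symm) le_top
    refine le_antisymm ((Subgroup.map_mono (map_subtype_le _)).trans (map_comap_le _ _)) fun b hb => ?_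
    have h2 : (⟨b, hb⟩ : ↥Pb) ∈ (P0.mapSurjective hρ : Subgroup ↥Pb) := by rw [← h1]; exact mem_top _
    rw [Sylow.coe_mapSurjective] at h2
    obtain ⟨a, ha, e⟩ := h2
    exact ⟨a, ⟨a, ha, rfl⟩, congrArg Subtype.val e⟩
  clear hP
  clear_value P
  subst hPb'
  obtain ⟨x, hx⟩ := CfsgLib.PLocal.normalizerMap_surjective (N := K) hK hPp ⟨gb, hgb⟩
  have hx' : π (x : G) = gb := congrArg Subtype.val hx
  rw [← hx]
  refine (CfsgLib.PLocal.mem_pCore_normalizer_quotient_iff hK hPp x).1 (hst P hPp x x.2 ?_)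
  have h1 : ⁅⁅P, zpowers (x : G)⁆, zpowers (x : G)⁆ ≤ K := by
    have h0 : (⁅⁅P, zpowers (x : G)⁆, zpowers (x : G)⁆).map π = ⊥ := by
      rw [map_commutator, map_commutator, MonoidHom.map_zpowers, hx']; exact hq
    rwa [Subgroup.map_eq_bot_iff, QuotientGroup.ker_mk'] at h0
  have hx2 : zpowers (x : G) ≤ normalizer (P : Set G) := zpowers_le.2 x.2
  have h2 : ⁅P, zpowers (x : G)⁆ ≤ P := le_normalizer_iff_commutator_le_left.1 hx2
  have h3 : ⁅⁅P, zpowers (x : G)⁆, zpowers (x : G)⁆ ≤ P :=
    (commutator_mono h2 le_rfl).trans h2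
  refine le_bot_iff.1 fun z hz => ?_
  obtain ⟨j, hj⟩ := hPp ⟨z, h3 hz⟩
  have hj' : z ^ p ^ j = 1 := by simpa using congrArg Subtype.val hj
  have hzK : orderOf z ∣ Nat.card K := Subgroup.orderOf_dvd_natCard K (h1 hz)
  rw [mem_bot, ← orderOf_eq_one_iff]
  exact Nat.eq_one_of_dvd_coprimes (hK.pow_right j) hzK (orderOf_dvd_of_pow_eq_one hj')

end CfsgLib.Techniques.StableQuot
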