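import Cfsg.Agent.Lib.Techniques.Basic
import Mathlib.GroupTheory.Nilpotent
import Cfsg.Prelude.Def_Local

/-! The Sylow subgroup of the intersection of a conjugate of a tightly embedded subgroup with its normaliser. -/

set_option autoImplicit false

namespace CfsgLib.Techniques

open Subgroup

variable {G : Type*} [Group G] [Finite G]

theorem eq_bot_of_two_group_le_odd {P H : Subgroup G} (hP : IsPGroup 2 P) (h : P ≤ H)
    (hH : Odd (Nat.card H)) : P = ⊥ := by
  obtain ⟨k, hk⟩ := IsPGroup.iff_card.1 hP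
  rcases k with - | k
  · exact card_eq_one.1 (by simpa using hk)
  · exfalso
    have h1 := card_dvd_of_le h
    rw [hk, pow_succ] at h1
    exact (Nat.not_even_iff_odd.2 hH) (even_iff_two_dvd.2 (dvd_trans (dvd_mul_left 2 _) h1))

/-- One half of the isomorphism. -/
theorem tight_half (A B : Subgroup G)
    (hTI : ∀ x y : G, A.map (MulAut.conj x).toMonoidHom ≠ A.map (MulAut.conj y).toMonoidHom →
      Odd (Nat.card ↥(A.map (MulAut.conj x).toMonoidHom ⊓ A.map (MulAut.conj y).toMonoidHom : Subgroup G)))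
    (hAB : A ≠ B) (gB : G) (hB : B = A.map (MulAut.conj gB).toMonoidHom)
    (T : Subgroup G) (hT2 : IsPGroup 2 T) (hTne : T ≠ ⊥) (hT : T ≤ B ⊓ normalizer (A : Set G))
    (hTmax : ∀ P : Subgroup G, IsPGroup 2 P → T ≤ P → P ≤ B ⊓ normalizer (A : Set G) → P = T)
    (S : Subgroup G) (hTS : T ≤ S) (hS : S ≤ A ⊔ T) (hS2 : IsPGroup 2 S)
    (hSsyl : ¬ 2 ∣ S.relIndex (A ⊔ T)) :
    T ⊓ A = ⊥ ∧
    (∀ t ∈ T, ∀ r ∈ S ⊓ normalizer (T : Set G) ⊓ A, t * r = r * t) ∧
    T ⊔ (S ⊓ normalizer (T : Set G) ⊓ A) = S ⊓ normalizer (T : Set G) ∧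
    (∀ r ∈ S ⊓ normalizer (T : Set G) ⊓ A, r ∈ normalizer (B : Set G)) ∧
    Nat.card T ≤ Nat.card ↥(S ⊓ normalizer (T : Set G) ⊓ A) ∧
    ((∃ f : ↥T →* ↥(S ⊓ normalizer (T : Set G) ⊓ A), Function.Injective f) ∨
      ∀ P : Subgroup G, P ≤ A → IsPGroup 2 P → Nat.card P ≤ Nat.card ↥(S ⊓ normalizer (T : Set G) ⊓ A)) := by
  set R := S ⊓ normalizer (T : Set G) ⊓ A with hR
  have hodd : ∀ x y : G, A.map (MulAut.conj x).toMonoidHom ≠ A.map (MulAut.conj y).toMonoidHom →
      ∀ P : Subgroup G, IsPGroup 2 P → P ≤ A.map (MulAut.conj x).toMonoidHom →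
        P ≤ A.map (MulAut.conj y).toMonoidHom → P = ⊥ := fun x y hxy P hP h1 h2 =>
    eq_bot_of_two_group_le_odd hP (le_inf h1 h2) (hTI x y hxy)
  have hTA : T ⊓ A = ⊥ := by
    refine hodd 1 gB ?_ _ (hT2.to_le inf_le_left) (by rw [map_conj_one]; exact inf_le_right) ?_
    · rw [map_conj_one, ← hB]; exact hAB
    · rw [← hB]; exact inf_le_left.trans (hT.trans inf_le_left)
  have hTN : T ≤ normalizer (A : Set G) := hT.trans inf_le_right
  have hcomm : ∀ t ∈ T, ∀ r ∈ R, t * r = r * t := by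
    intro t ht r hr
    obtain ⟨hr1, hrA⟩ := mem_inf.1 hr
    obtain ⟨-, hrN⟩ := mem_inf.1 hr1
    have h1 : t * r * t⁻¹ * r⁻¹ ∈ T ⊓ A := by
      refine mem_inf.2 ⟨?_, A.mul_mem ((mem_normalizer_iff.1 (hTN ht) r).1 hrA) (A.inv_mem hrA)⟩
      have := T.mul_mem ht ((mem_normalizer_iff.1 hrN _).1 (T.inv_mem ht))
      simpa [mul_assoc] using this
    rw [hTA, mem_bot, mul_inv_eq_one, mul_inv_eq_iff_eq_mul] at h1
    exact h1
  have hsup : T ⊔ R = S ⊓ normalizer (T : Set G) := by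
    refine le_antisymm (sup_le (le_inf hTS le_normalizer) inf_le_left) fun x hx => ?_
    have hx' : x ∈ T ⊔ A := by rw [sup_comm]; exact hS (mem_inf.1 hx).1
    obtain ⟨t, ht, a, ha, rfl⟩ := exists_mul_of_mem_sup hTN hx'
    refine mul_mem_sup ht (mem_inf.2 ⟨?_, ha⟩)
    have := (S ⊓ normalizer (T : Set G)).mul_mem
      (mem_inf.2 ⟨S.inv_mem (hTS ht), inv_mem (le_normalizer ht)⟩) hx
    simpa using this
  have hBconj : ∀ x : G, B.map (MulAut.conj x).toMonoidHom ≠ B → ∀ P : Subgroup G, IsPGroup 2 P →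
      P ≤ B → P ≤ B.map (MulAut.conj x).toMonoidHom → P = ⊥ := by
    intro x hx P hP h1 h2
    rw [hB, ← map_conj_mul] at h2
    rw [hB, ← map_conj_mul] at hx
    exact hodd (x * gB) gB hx P hP h2 (hB ▸ h1)
  have hRN : ∀ r ∈ R, r ∈ normalizer (B : Set G) := by
    intro r hr
    rw [← map_conj_eq_self_iff]
    by_contra hne
    refine hTne (hBconj r hne T hT2 (hT.trans inf_le_left) fun t ht => ?_)
    have e : r * t * r⁻¹ = t := by rw [← hcomm t ht r hr]; group
    rw [← e]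
    exact conj_mem_map_conj r (hT ht).1
  have hcases : (∃ f : ↥T →* ↥R, Function.Injective f) ∨
      ∀ P : Subgroup G, P ≤ A → IsPGroup 2 P → Nat.card P ≤ Nat.card ↥R := by
    by_cases hW : S ≤ normalizer (T : Set G)
    · right
      intro P hPA hP
      obtain ⟨x, hx, hxP⟩ := exists_conj_le_sylow_of (hPA.trans le_sup_left) hP hS hS2 hSsyl
      rw [← card_map_conj P x]
      refine card_le_of_le (le_inf (le_inf hxP (hxP.trans hW)) ?_)
      have hxA : x ∈ normalizer (A : Set G) := (sup_le le_normalizer hTN) hx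
      rw [← map_conj_eq_self_iff.2 hxA]
      exact map_mono hPA
    · left
      set W := S ⊓ normalizer (T : Set G) with hWdef
      have hWlt : W.subgroupOf S < ⊤ := by
        rw [lt_top_iff_ne_top, Ne, subgroupOf_eq_top]
        exact fun h => hW (h.trans inf_le_right)
      have hnil := hS2.isNilpotent
      obtain ⟨⟨x, hxS⟩, hxN, hxW⟩ := SetLike.exists_of_lt
        ((Group.normalizerCondition_of_isNilpotent : NormalizerCondition ↥S) _ hWlt)
      have hxW' : ∀ w ∈ W, x * w * x⁻¹ ∈ W := fun w hw => by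
        have := (mem_normalizer_iff.1 hxN ⟨w, (mem_inf.1 hw).1⟩).1 hw
        exact this
      have hxT : x ∉ normalizer (T : Set G) := fun h => hxW (mem_inf.2 ⟨hxS, h⟩)
      set T' := T.map (MulAut.conj x).toMonoidHom with hT'
      have hT'W : T' ≤ W := by
        rintro _ ⟨t, ht, rfl⟩
        exact hxW' t (mem_inf.2 ⟨hTS ht, le_normalizer ht⟩)
      have hxA : x ∈ normalizer (A : Set G) := (sup_le le_normalizer hTN) (hS hxS)
      have hne : B.map (MulAut.conj x).toMonoidHom ≠ B := by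
        intro he
        apply hxT
        rw [← map_conj_eq_self_iff]
        refine eq_of_le_of_card_ge ?_ (card_map_conj T x).ge
        have hsup' := hTmax (T' ⊔ T) (isPGroup_sup (hT2.map _) hT2 (hT'W.trans inf_le_right))
          le_sup_right (sup_le ?_ hT)
        · exact le_sup_left.trans hsup'.le
        · rintro _ ⟨t, ht, rfl⟩
          refine ⟨he.le (conj_mem_map_conj x (hT ht).1), ?_⟩
          exact (normalizer (A : Set G)).mul_mem ((normalizer (A : Set G)).mul_mem hxA (hT ht).2)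
            ((normalizer (A : Set G)).inv_mem hxA)
      have htriv : T' ⊓ T = ⊥ :=
        hBconj x hne _ (hT2.to_le inf_le_right) (inf_le_right.trans (hT.trans inf_le_left))
          (inf_le_left.trans (map_mono (hT.trans inf_le_left)))
      have hdec : ∀ t : ↥T, ∃ r : ↥R, ∃ u ∈ T, x * t * x⁻¹ = r * u := by
        intro t
        have h1 : x * t * x⁻¹ ∈ T ⊔ R := hsup.symm ▸ hT'W (conj_mem_map_conj x t.2)
        obtain ⟨u, hu, r, hr, e⟩ := exists_mul_of_mem_sup
          (show T ≤ normalizer (R : Set G) from fun u hu => centralizer_le_normalizer _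
            (mem_centralizer_iff.2 fun r hr => (hcomm u hu r hr).symm)) h1
        exact ⟨⟨r, hr⟩, u, hu, by rw [← e, hcomm u hu r hr]⟩
      choose f u hu hf using hdec
      have huniq : ∀ (r₁ r₂ : ↥R) (u₁ u₂ : G), u₁ ∈ T → u₂ ∈ T → (r₁ : G) * u₁ = r₂ * u₂ → r₁ = r₂ := by
        intro r₁ r₂ u₁ u₂ h1 h2 h
        apply Subtype.ext
        have e : (r₂ : G)⁻¹ * r₁ = u₂ * u₁⁻¹ := by
          calc (r₂ : G)⁻¹ * r₁ = (r₂ : G)⁻¹ * (r₁ * u₁) * u₁⁻¹ := by group
            _ = _ := by rw [h]; group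
        have h3 : (r₂ : G)⁻¹ * r₁ ∈ T ⊓ A :=
          mem_inf.2 ⟨e ▸ mul_mem h2 (inv_mem h1), (mem_inf.1 (R.mul_mem (R.inv_mem r₂.2) r₁.2)).2⟩
        rw [hTA, mem_bot, inv_mul_eq_one] at h3
        exact h3.symm
      let F : ↥T →* ↥R := MonoidHom.mk' f fun a b => by
        refine huniq (f (a * b)) (f a * f b) (u (a * b)) (u a * u b) (hu _) (mul_mem (hu a) (hu b)) ?_
        rw [← hf]
        calc x * (a * b : G) * x⁻¹ = (x * a * x⁻¹) * (x * b * x⁻¹) := by group
          _ = (f a : G) * (u a * (f b : G)) * u b := by rw [hf a, hf b]; group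
          _ = _ := by rw [hcomm _ (hu a) _ (f b).2]; push_cast; group
      refine ⟨F, (injective_iff_map_eq_one F).2 fun t ht => ?_⟩
      have h1 : x * t * x⁻¹ ∈ T' ⊓ T := by
        refine mem_inf.2 ⟨conj_mem_map_conj x t.2, ?_⟩
        rw [hf t, show f t = 1 from ht, OneMemClass.coe_one, one_mul]
        exact hu t
      rw [htriv, mem_bot, conj_eq_one_iff] at h1
      exact Subtype.ext h1
  refine ⟨hTA, hcomm, hsup, hRN, ?_, hcases⟩
  rcases hcases with ⟨f, hf⟩ | h
  · exact Nat.card_le_card_of_injective f hf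
  · rw [← card_map_conj T gB⁻¹]
    refine h _ ?_ (hT2.map _)
    rintro _ ⟨t, ht, rfl⟩
    have : t ∈ B := (hT ht).1
    rw [hB, mem_map_conj] at this
    simpa using this

end CfsgLib.Techniques
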