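import Cfsg.Agent.Lib.Techniques.TwoFunctor
import Cfsg.Prelude.Def_PLocal
import Cfsg.Prelude.Def_TwoFusion

/-!
Conjugates of `Ω₁Z(S)` under factorizations `X = C(Ω₁Z(S)) N(W(S))` in constrained sections.
-/

set_option autoImplicit false
set_option linter.unusedSectionVars false

namespace CfsgLib.Techniques.Fusion

open Cfsg Subgroup CfsgLib.Techniques

universe u

variable {G : Type u} [Group G] {p : ℕ}

/-- The members of `Ω₁Z(P)` are the elements of order dividing `p` of the centre of `P`. -/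
theorem mem_omegaOne_center {P : Subgroup G} {z : G} :
    z ∈ omegaOne p (P ⊓ centralizer (P : Set G)) ↔
      (z ∈ P ∧ z ∈ centralizer (P : Set G)) ∧ z ^ p = 1 := by
  refine ⟨fun hz => ?_, fun hz => subset_closure ⟨mem_inf.2 hz.1, hz.2⟩⟩
  induction hz using closure_induction with
  | mem x hx => exact ⟨mem_inf.1 hx.1, hx.2⟩
  | one => exact ⟨⟨one_mem _, one_mem _⟩, one_pow p⟩
  | mul x y _ _ hx hy =>
    refine ⟨⟨mul_mem hx.1.1 hy.1.1, mul_mem hx.1.2 hy.1.2⟩, ?_⟩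
    have hc : Commute x y := mem_centralizer_iff.1 hy.1.2 x hx.1.1
    rw [hc.mul_pow, hx.2, hy.2, one_mul]
  | inv x _ hx => exact ⟨⟨inv_mem hx.1.1, inv_mem hx.1.2⟩, by rw [inv_pow, hx.2, inv_one]⟩

variable [Fact p.Prime] [Finite G]

/-- If a normal `p`-subgroup `Q` contains its centralizer in a Sylow subgroup, the quotient by the
`p'`-core has characteristic `p`. -/
theorem constrained_quotient (S : Sylow p G) (Q : Subgroup G) [Q.Normal] (hQS : Q ≤ (S : Subgroup G))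
    (hC : (S : Subgroup G) ⊓ centralizer (Q : Set G) ≤ Q) (K : Subgroup G) [K.Normal]
    (hK : K = pPrimeCore p G) :
    centralizer (pCore p (G ⧸ K) : Set (G ⧸ K)) ≤ pCore p (G ⧸ K) := by
  subst hK
  set π := QuotientGroup.mk' (pPrimeCore p G) with hπ
  let Sb : Sylow p (G ⧸ pPrimeCore p G) := S.mapSurjective (QuotientGroup.mk'_surjective _)
  have hQn : (Q.map π).Normal := Normal.map inferInstance π (QuotientGroup.mk'_surjective _)
  have hQP : Q.map π ≤ pCore p (G ⧸ pPrimeCore p G) :=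
    CfsgLib.PCore.le_pCore hQn ((S.2.to_le hQS).map π)
  have hPS := CfsgLib.PCore.pCore_le_sylow Sb
  refine centralizer_pCore_le_of_normal Sb CfsgLib.PCore.pPrimeCore_quotient_pPrimeCore ?_
  suffices e : (Sb : Subgroup (G ⧸ pPrimeCore p G)) ⊓ (pCore p (G ⧸ pPrimeCore p G) ⊔
      centralizer (pCore p (G ⧸ pPrimeCore p G) : Set (G ⧸ pPrimeCore p G))) =
        pCore p (G ⧸ pPrimeCore p G) by
    rw [e]; exact pCore_normal p _
  refine le_antisymm ?_ (le_inf hPS le_sup_left)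
  intro x hx
  obtain ⟨hxS, hx'⟩ := mem_inf.1 hx
  have : (pCore p (G ⧸ pPrimeCore p G)).Normal := pCore_normal p _
  obtain ⟨a, ha, c, hc, rfl⟩ := mem_sup_of_normal_left.1 hx'
  have hcS : c ∈ (S : Subgroup G).map π := (mul_mem_cancel_left (hPS ha)).1 hxS
  obtain ⟨s, hs, rfl⟩ := hcS
  refine mul_mem ha (hQP (mem_map_of_mem π (hC (mem_inf.2 ⟨hs, mem_centralizer_iff.2 fun q hq => ?_⟩))))
  have h1 : π (q * s) = π (s * q) := by
    rw [map_mul, map_mul]
    exact mem_centralizer_iff.1 hc (π q) (hQP (mem_map_of_mem π hq))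
  have h2 : (q * s)⁻¹ * (s * q) ∈ (S : Subgroup G) ⊓ pPrimeCore p G :=
    mem_inf.2 ⟨mul_mem (inv_mem (mul_mem (hQS hq) hs)) (mul_mem hs (hQS hq)), QuotientGroup.eq.1 h1⟩
  rw [CfsgLib.PCore.inf_eq_bot_of_isPGroup_coprime S.2 CfsgLib.PCore.pPrimeCore_coprime, mem_bot,
    inv_mul_eq_one] at h2
  exact h2

/-- Fusion of `Ω₁Z(S)` read off from a factorization modulo a `p'`-subgroup. -/
theorem exists_normalizer_conj_of_factorization {W : ∀ (Q : Type u) [Group Q], Subgroup Q}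
    (hW : IsCharPFunctor.{u} p W) (S : Sylow p G) (K : Subgroup G) [K.Normal]
    (hK : (Nat.card K).Coprime p) (T : Sylow p (G ⧸ K))
    (hT : (T : Subgroup (G ⧸ K)) = (S : Subgroup G).map (QuotientGroup.mk' K))
    (hfac : ∀ y : G ⧸ K,
      ∃ a ∈ centralizer (omegaOne p ((T : Subgroup (G ⧸ K)) ⊓
          centralizer ((T : Subgroup (G ⧸ K)) : Set (G ⧸ K))) : Set (G ⧸ K)),
      ∃ b ∈ normalizer ((inducedFunctor (G := G ⧸ K) W (T : Subgroup (G ⧸ K)) : Subgroup (G ⧸ K)) :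
          Set (G ⧸ K)), y = a * b)
    {z x : G} (hz : z ∈ omegaOne p ((S : Subgroup G) ⊓ centralizer ((S : Subgroup G) : Set G)))
    (hzW : z ∈ inducedFunctor (G := G) W (S : Subgroup G)) (hx : x * z * x⁻¹ ∈ (S : Subgroup G)) :
    ∃ m ∈ normalizer ((inducedFunctor (G := G) W (S : Subgroup G) : Subgroup G) : Set G),
      x * z * x⁻¹ = m * z * m⁻¹ := by
  set π := QuotientGroup.mk' K with hπ
  obtain ⟨a, ha, b, hb, he⟩ := hfac (π x)⁻¹
  rw [hT] at hb
  obtain ⟨m, hm, rfl⟩ := exists_lift_mem_normalizer S K hK hW hb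
  refine ⟨m⁻¹, inv_mem hm, ?_⟩
  obtain ⟨⟨hzS, hzC⟩, hzp⟩ := mem_omegaOne_center.1 hz
  have hzb : π z ∈ omegaOne p ((T : Subgroup (G ⧸ K)) ⊓
      centralizer ((T : Subgroup (G ⧸ K)) : Set (G ⧸ K))) := by
    refine mem_omegaOne_center.2 ⟨⟨hT ▸ mem_map_of_mem π hzS, ?_⟩, by rw [← map_pow, hzp, map_one]⟩
    rw [mem_centralizer_iff, hT]
    rintro _ ⟨s, hs, rfl⟩
    rw [← map_mul, ← map_mul, mem_centralizer_iff.1 hzC s hs]
  have h1 : π x = (π m)⁻¹ * a⁻¹ := by rw [← inv_inv (π x), he, mul_inv_rev]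
  have hc : a⁻¹ * π z * a = π z := by
    rw [mul_assoc, mem_centralizer_iff.1 ha (π z) hzb, inv_mul_cancel_left]
  have h2 : π (x * z * x⁻¹) = π (m⁻¹ * z * m⁻¹⁻¹) := by
    simp only [map_mul, map_inv, h1, mul_inv_rev, inv_inv]
    calc (π m)⁻¹ * a⁻¹ * π z * (a * π m) = (π m)⁻¹ * (a⁻¹ * π z * a) * π m := by group
      _ = _ := by rw [hc]
  have hmz : m⁻¹ * z * m⁻¹⁻¹ ∈ (S : Subgroup G) :=
    inducedFunctor_le W _ ((mem_normalizer_iff.1 (inv_mem hm) z).1 hzW)
  have h3 : (x * z * x⁻¹)⁻¹ * (m⁻¹ * z * m⁻¹⁻¹) ∈ (S : Subgroup G) ⊓ K :=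
    mem_inf.2 ⟨mul_mem (inv_mem hx) hmz, QuotientGroup.eq.1 h2⟩
  rwa [inf_eq_bot_of_coprime S hK, mem_bot, inv_mul_eq_one] at h3

/-- A conjugate of `z ∈ Ω₁Z(S) ≤ V` by an element normalizing the normal subgroup `V` of `S` is a
conjugate by an element normalizing `V` and `C_S(V)`. -/
theorem exists_frattini_centralizer (S : Sylow p G) {V : Subgroup G} {z n : G} (hzV : z ∈ V)
    (hn : n ∈ normalizer (V : Set G)) (hSV : (S : Subgroup G) ≤ normalizer (V : Set G)) :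
    ∃ y ∈ normalizer (V : Set G) ⊓
        normalizer (((S : Subgroup G) ⊓ centralizer (V : Set G) : Subgroup G) : Set G),
      n * z * n⁻¹ = y * z * y⁻¹ := by
  set H := normalizer (V : Set G)
  have hCn : ((centralizer (V : Set G)).subgroupOf H).Normal :=
    normal_subgroupOf_of_le_normalizer (normalizer_le_normalizer_centralizer V)
  obtain ⟨c, hc, y, hy, e⟩ :=
    exists_eq_mul_normalizer_inf (S.subtype hSV) ((centralizer (V : Set G)).subgroupOf H) ⟨n, hn⟩
  have e' : n = (c : G) * y := congrArg Subtype.val e.symm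
  refine ⟨y, mem_inf.2 ⟨y.2, ?_⟩, ?_⟩
  · have h1 := le_normalizer_map H.subtype (mem_map_of_mem H.subtype hy)
    rw [Sylow.coe_subtype, map_inf _ _ _ H.subtype_injective, map_subgroupOf_eq_of_le hSV,
      subgroupOf_map_subtype] at h1
    have e2 : (S : Subgroup G) ⊓ (centralizer (V : Set G) ⊓ H) =
        (S : Subgroup G) ⊓ centralizer (V : Set G) := by
      rw [← inf_assoc]; exact inf_eq_left.2 (inf_le_left.trans hSV)
    rwa [e2] at h1
  · have h2 : (c : G) * ((y : G) * z * (y : G)⁻¹) = (y : G) * z * (y : G)⁻¹ * c :=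
      (mem_centralizer_iff.1 hc _ ((mem_normalizer_iff.1 y.2 z).1 hzV)).symm
    calc n * z * n⁻¹ = (c : G) * ((y : G) * z * (y : G)⁻¹) * (c : G)⁻¹ := by rw [e']; group
      _ = _ := by rw [h2, mul_inv_cancel_right]

end CfsgLib.Techniques.Fusion
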