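import Cfsg.Agent.Lib.Techniques.TripleFactor

/-!
Two normalizers induce the same conjugates of `Ω₁Z(S)` if the constrained sections factorize.
-/

set_option autoImplicit false
set_option linter.unusedSectionVars false

namespace CfsgLib.Techniques.Fusion

open Cfsg Subgroup CfsgLib.Techniques

universe u

variable {G : Type u} [Group G] [Finite G] {p : ℕ} [Fact p.Prime]

/-- Conjugates of `z ∈ Ω₁Z(S)` by `N(V S)` are conjugates by `N(W S)`. -/
theorem exists_conj_eq_of_sections {W V : ∀ (Q : Type u) [Group Q], Subgroup Q}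
    (hW : IsCharPFunctor.{u} p W) (hV : IsCharPFunctor.{u} p V) (S : Sylow p G)
    (hfac : ∀ (K R : Subgroup G) [(R.subgroupOf K).Normal],
      centralizer (pCore p (K ⧸ R.subgroupOf K) : Set (K ⧸ R.subgroupOf K)) ≤
          pCore p (K ⧸ R.subgroupOf K) →
      ∀ T : Sylow p (K ⧸ R.subgroupOf K), ∀ x : K ⧸ R.subgroupOf K,
      ∃ a ∈ centralizer (omegaOne p ((T : Subgroup (K ⧸ R.subgroupOf K)) ⊓
          centralizer ((T : Subgroup (K ⧸ R.subgroupOf K)) : Set (K ⧸ R.subgroupOf K))) :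
          Set (K ⧸ R.subgroupOf K)),
      ∃ b ∈ normalizer ((inducedFunctor (G := K ⧸ R.subgroupOf K) W
          (T : Subgroup (K ⧸ R.subgroupOf K)) : Subgroup (K ⧸ R.subgroupOf K)) :
          Set (K ⧸ R.subgroupOf K)), x = a * b)
    {z n : G} (hz : z ∈ omegaOne p ((S : Subgroup G) ⊓ centralizer ((S : Subgroup G) : Set G)))
    (hzW : z ∈ inducedFunctor (G := G) W (S : Subgroup G))
    (hzV : z ∈ inducedFunctor (G := G) V (S : Subgroup G))
    (hn : n ∈ normalizer ((inducedFunctor (G := G) V (S : Subgroup G) : Subgroup G) : Set G)) :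
    ∃ m ∈ normalizer ((inducedFunctor (G := G) W (S : Subgroup G) : Subgroup G) : Set G),
      n * z * n⁻¹ = m * z * m⁻¹ := by
  set V₀ := inducedFunctor (G := G) V (S : Subgroup G) with hV₀
  have hSV : (S : Subgroup G) ≤ normalizer (V₀ : Set G) :=
    Subgroup.le_normalizer.trans (normalizer_le_normalizer_inducedFunctor hV S.2)
  obtain ⟨y, hy, hyz⟩ := exists_frattini_centralizer S hzV hn hSV
  have hnzS : n * z * n⁻¹ ∈ (S : Subgroup G) :=
    inducedFunctor_le V _ ((mem_normalizer_iff.1 hn z).1 hzV)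
  rw [hyz] at hnzS ⊢
  set Q₀ := (S : Subgroup G) ⊓ centralizer (V₀ : Set G) with hQ₀
  set L := normalizer (V₀ : Set G) ⊓ normalizer (Q₀ : Set G) with hL
  have hV₀S : V₀ ≤ (S : Subgroup G) := inducedFunctor_le V _
  have hSL : (S : Subgroup G) ≤ L := le_inf hSV fun s hs =>
    mem_normalizer_inf (le_normalizer hs) (normalizer_le_normalizer_centralizer V₀ (hSV hs))
  have hVn : (V₀.subgroupOf L).Normal := normal_subgroupOf_of_le_normalizer inf_le_left
  have hQn : (Q₀.subgroupOf L).Normal := normal_subgroupOf_of_le_normalizer inf_le_right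
  let Sx : Sylow p L := S.subtype hSL
  have hSx : (Sx : Subgroup L).map L.subtype = (S : Subgroup G) := map_subgroupOf_eq_of_le hSL
  have hQS : V₀.subgroupOf L ⊔ Q₀.subgroupOf L ≤ (Sx : Subgroup L) :=
    sup_le (fun a ha => hV₀S ha) (fun a ha => (mem_inf.1 (show (a : G) ∈ Q₀ from ha)).1)
  have hC : (Sx : Subgroup L) ⊓ centralizer ((V₀.subgroupOf L ⊔ Q₀.subgroupOf L : Subgroup L) : Set L) ≤
      V₀.subgroupOf L ⊔ Q₀.subgroupOf L := by
    rintro a ⟨haS, haC⟩
    refine mem_sup_right (mem_inf.2 ⟨haS, mem_centralizer_iff.2 fun v hv => ?_⟩)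
    exact congrArg Subtype.val (mem_centralizer_iff.1 haC ⟨v, hSL (hV₀S hv)⟩ (mem_sup_left hv))
  have hRK : ((pPrimeCore p L).map L.subtype).subgroupOf L = pPrimeCore p L :=
    comap_map_eq_self_of_injective L.subtype_injective _
  have hRn : (((pPrimeCore p L).map L.subtype).subgroupOf L).Normal := by
    rw [hRK]; exact pPrimeCore_normal p L
  have hcop : (Nat.card (((pPrimeCore p L).map L.subtype).subgroupOf L)).Coprime p := by
    rw [hRK]; exact CfsgLib.PCore.pPrimeCore_coprime
  let T : Sylow p (L ⧸ ((pPrimeCore p L).map L.subtype).subgroupOf L) :=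
    Sx.mapSurjective (QuotientGroup.mk'_surjective _)
  have hmap := inducedFunctor_map_injective hW L.subtype L.subtype_injective Sx.2
  rw [hSx] at hmap
  obtain ⟨m, hm, hmz⟩ := exists_normalizer_conj_of_factorization hW Sx _ hcop T rfl
    (hfac L _ (constrained_quotient Sx _ hQS hC _ hRK) T)
    (z := ⟨z, hSL (mem_omegaOne_center.1 hz).1.1⟩) (x := ⟨y, hy⟩)
    (mem_omegaOne_center.2 ⟨⟨(mem_omegaOne_center.1 hz).1.1, mem_centralizer_iff.2 fun s hs =>
      Subtype.ext (mem_centralizer_iff.1 (mem_omegaOne_center.1 hz).1.2 (s : G) hs)⟩,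
      Subtype.ext (mem_omegaOne_center.1 hz).2⟩)
    (by rw [← mem_map_iff_mem L.subtype_injective, ← hmap]; exact hzW) hnzS
  refine ⟨(m : G), ?_, congrArg Subtype.val hmz⟩
  rw [hmap]
  exact le_normalizer_map L.subtype (mem_map_of_mem L.subtype hm)

end CfsgLib.Techniques.Fusion
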