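import Cfsg.Agent.Lib.Techniques.FusionInduction

/-! Well-placed subgroups: every subgroup of a Sylow subgroup has a well-placed conjugate. -/

set_option autoImplicit false
set_option linter.unusedSectionVars false

namespace CfsgLib.Techniques.Fusion

open Cfsg Subgroup CfsgLib.Techniques

variable {G : Type*} [Group G] [Finite G] {p : ℕ} [Fact p.Prime]

theorem functorTower_shift (W : Subgroup G → Subgroup G) (S T : Subgroup G) :
    ∀ i, functorTower W S T (i + 1) = functorTower W S (W (S ⊓ normalizer (T : Set G))) i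
  | 0 => rfl
  | i + 1 => by
    show W (S ⊓ normalizer ((functorTower W S T (i + 1) : Subgroup G) : Set G)) = _
    rw [functorTower_shift W S T i]
    rfl

theorem IsConjugacyFunctor.le_normalizer {W : Subgroup G → Subgroup G}
    (hW : IsConjugacyFunctor p W) {R : Subgroup G} (hR : IsPGroup p R) :
    normalizer (R : Set G) ≤ normalizer ((W R : Subgroup G) : Set G) := fun g hg => by
  rw [← map_conj_eq_self_iff, ← (hW R hR).2.2 g, map_conj_eq_self_iff.2 hg]

theorem IsWellPlaced.isFN {W : Subgroup G → Subgroup G} {S T : Subgroup G}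
    (h : IsWellPlaced p W S T) : IsFN p S T := ⟨h.1, h.2 0⟩

theorem IsWellPlaced.next {W : Subgroup G → Subgroup G} {S : Subgroup G} (hS : IsPGroup p S)
    (hW : IsConjugacyFunctor p W) {T : Subgroup G} (h : IsWellPlaced p W S T) :
    IsWellPlaced p W S (W (S ⊓ normalizer (T : Set G))) := by
  refine ⟨(hW _ (hS.to_le inf_le_left)).1.trans inf_le_left, fun i => ?_⟩
  rw [← functorTower_shift]
  exact h.2 (i + 1)

theorem isWellPlaced_sylow_functor (S : Sylow p G) {W : Subgroup G → Subgroup G}
    (hW : IsConjugacyFunctor p W) : IsWellPlaced p W (S : Subgroup G) (W (S : Subgroup G)) := by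
  set T := W (S : Subgroup G)
  have hST : (S : Subgroup G) ⊓ normalizer (T : Set G) = S :=
    inf_eq_left.2 (Subgroup.le_normalizer.trans (IsConjugacyFunctor.le_normalizer hW S.2))
  have hconst : ∀ i, functorTower W (S : Subgroup G) T i = T := by
    intro i
    induction i with
    | zero => rfl
    | succ i ih =>
      show W ((S : Subgroup G) ⊓ normalizer ((functorTower W (S : Subgroup G) T i : Subgroup G) : Set G)) = T
      rw [ih, hST]
  refine ⟨(hW _ S.2).1, fun i => ?_⟩
  rw [hconst i, hST]
  exact not_dvd_relIndex_sylow S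
    (Subgroup.le_normalizer.trans (IsConjugacyFunctor.le_normalizer hW S.2))

/-- Every subgroup of a Sylow subgroup has a well-placed conjugate, reached by an element carrying
its normalizer in the Sylow subgroup into the Sylow subgroup. -/
theorem exists_isWellPlaced_conj (S : Sylow p G) {W : Subgroup G → Subgroup G}
    (hW : IsConjugacyFunctor p W) {T : Subgroup G} (hT : T ≤ (S : Subgroup G)) :
    ∃ g : G, IsWellPlaced p W (S : Subgroup G) (T.map (MulAut.conj g).toMonoidHom) ∧
      ((S : Subgroup G) ⊓ normalizer (T : Set G)).map (MulAut.conj g).toMonoidHom ≤ (S : Subgroup G) := by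
  suffices H : ∀ (m : ℕ) (T : Subgroup G),
      Nat.card (S : Subgroup G) - Nat.card ((S : Subgroup G) ⊓ normalizer (T : Set G) : Subgroup G) < m →
      T ≤ (S : Subgroup G) → ∃ g : G, IsWellPlaced p W (S : Subgroup G) (T.map (MulAut.conj g).toMonoidHom) ∧
      ((S : Subgroup G) ⊓ normalizer (T : Set G)).map (MulAut.conj g).toMonoidHom ≤ (S : Subgroup G) from
    H _ T (Nat.lt_succ_self _) hT
  intro m
  induction m with
  | zero => intro T h; omega
  | succ m ih =>
    intro T hlt hT
    obtain ⟨g0, hU⟩ := exists_isFN_conj S (S.2.to_le hT)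
    obtain ⟨h, hh, hh'⟩ := exists_conj_into S.2 hU rfl
    set U := T.map (MulAut.conj g0).toMonoidHom
    set R := (S : Subgroup G) ⊓ normalizer (T : Set G) with hR
    set R₁ := (S : Subgroup G) ⊓ normalizer (U : Set G) with hR₁
    set V := W R₁ with hV
    have hR₁p : IsPGroup p R₁ := S.2.to_le inf_le_left
    have hVle : V ≤ R₁ := (hW R₁ hR₁p).1
    -- a well-placed conjugate of the next term
    obtain ⟨k, hk, hk'⟩ : ∃ k : G, IsWellPlaced p W (S : Subgroup G) (V.map (MulAut.conj k).toMonoidHom) ∧
        R₁.map (MulAut.conj k).toMonoidHom ≤ (S : Subgroup G) := by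
      by_cases hRS : R₁ = S
      · refine ⟨1, ?_, ?_⟩
        · rw [map_conj_one, hV, hRS]; exact isWellPlaced_sylow_functor S hW
        · rw [map_conj_one, hRS]
      · have hsub : (S : Subgroup G) ⊓ normalizer (R₁ : Set G) ≤ (S : Subgroup G) ⊓ normalizer (V : Set G) :=
          inf_le_inf_left _ (IsConjugacyFunctor.le_normalizer hW hR₁p)
        have h1 := card_lt_card_inf_normalizer (H := R₁) S.2 inf_le_left hRS
        have h2 := card_le_of_le hsub
        have h3 : Nat.card R ≤ Nat.card R₁ := by
          rw [← card_map_conj R h]; exact card_le_of_le hh'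
        obtain ⟨k, hk, hk'⟩ := ih V (by
          have := card_le_of_le (inf_le_left : (S : Subgroup G) ⊓ normalizer (V : Set G) ≤ S)
          omega) (hVle.trans inf_le_left)
        exact ⟨k, hk, (Subgroup.map_mono (le_inf inf_le_left
          (Subgroup.le_normalizer.trans (IsConjugacyFunctor.le_normalizer hW hR₁p)))).trans hk'⟩
    refine ⟨k * h, ?_, ?_⟩
    · rw [map_conj_mul, hh]
      set U' := U.map (MulAut.conj k).toMonoidHom with hU'
      have hNU' : normalizer (U' : Set G) = (normalizer (U : Set G)).map (MulAut.conj k).toMonoidHom :=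
        (Subgroup.map_equiv_normalizer_eq U (MulAut.conj k)).symm
      have hU'S : U' ≤ (S : Subgroup G) :=
        (Subgroup.map_mono (le_inf hU.1 Subgroup.le_normalizer)).trans hk'
      have hidx : ¬ p ∣ (R₁.map (MulAut.conj k).toMonoidHom).relIndex (normalizer (U' : Set G)) := by
        rw [hNU', relIndex_map_map_of_injective _ _ (MulAut.conj k).injective]; exact hU.2
      have hle : R₁.map (MulAut.conj k).toMonoidHom ≤ (S : Subgroup G) ⊓ normalizer (U' : Set G) :=
        le_inf hk' (hNU'.symm ▸ Subgroup.map_mono inf_le_right)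
      have heq : R₁.map (MulAut.conj k).toMonoidHom = (S : Subgroup G) ⊓ normalizer (U' : Set G) := by
        refine eq_of_le_of_card_ge hle ?_
        obtain ⟨x, -, hx⟩ := exists_conj_le_sylow_of (inf_le_right) (S.2.to_le inf_le_left)
          (hle.trans inf_le_right) (isPGroup_map_conj hR₁p k) hidx
        exact (card_map_conj _ x).ge.trans (card_le_of_le hx)
      refine ⟨hU'S, fun i => ?_⟩
      rcases i with - | i
      · show ¬ p ∣ ((S : Subgroup G) ⊓ normalizer (U' : Set G)).relIndex (normalizer (U' : Set G))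
        rw [← heq]; exact hidx
      · rw [functorTower_shift, ← heq, (hW R₁ hR₁p).2.2 k]
        exact hk.2 i
    · rw [map_conj_mul]
      exact (Subgroup.map_mono hh').trans hk'

theorem exists_isWellPlaced_family (S : Sylow p G) {W : Subgroup G → Subgroup G}
    (hW : IsConjugacyFunctor p W) (T : Subgroup G) (hT : T ≤ (S : Subgroup G)) :
    ∃ U ∈ {U : Subgroup G | IsWellPlaced p W (S : Subgroup G) U},
      (∃ g : G, T.map (MulAut.conj g).toMonoidHom = U) ∧ IsFN p (S : Subgroup G) U := by
  obtain ⟨g, hg, -⟩ := exists_isWellPlaced_conj S hW hT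
  exact ⟨_, hg, ⟨g, rfl⟩, IsWellPlaced.isFN hg⟩

end CfsgLib.Techniques.Fusion
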