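import Cfsg.Agent.Lib.Techniques.WellPlaced
import Cfsg.Agent.Lib.Techniques.Chains

/-! Local-to-global theorems for conjugacy functors, and conjugation families. -/

set_option autoImplicit false

namespace CfsgLib.Techniques.Fusion

open Cfsg Subgroup CfsgLib.Techniques
open scoped commutatorElement

variable {G : Type*} [Group G] [Finite G] {p : ℕ} [Fact p.Prime]

/-- The normaliser steps in `H` attached to a set of functors at the `p`-subgroup `R`. -/
def functorSteps (𝓦 : Set (Subgroup G → Subgroup G)) (H R : Subgroup G) : Set (Subgroup G) :=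
  {M | ∃ W ∈ 𝓦, M = H ⊓ normalizer ((W R : Subgroup G) : Set G)}

theorem functor_conj {W : Subgroup G → Subgroup G} (hW : IsConjugacyFunctor p W) {R : Subgroup G}
    (hR : IsPGroup p R) (x : G) :
    W (R.map (MulAut.conj x).toMonoidHom) = (W R).map (MulAut.conj x).toMonoidHom :=
  (hW R hR).2.2 x

theorem map_step_le {W : Subgroup G → Subgroup G} (hW : IsConjugacyFunctor p W) {R H : Subgroup G}
    (hR : IsPGroup p R) {x : G} (hx : x ∈ normalizer (H : Set G)) :
    (H ⊓ normalizer ((W R : Subgroup G) : Set G)).map (MulAut.conj x).toMonoidHom ≤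
      H ⊓ normalizer ((W (R.map (MulAut.conj x).toMonoidHom) : Subgroup G) : Set G) := by
  rw [functor_conj hW hR]
  exact le_inf ((map_mono inf_le_left).trans (map_conj_eq_self_iff.2 hx).le)
    ((map_mono inf_le_right).trans (map_conj_normalizer_le _ x))

/-- Control of strong fusion does not depend on the Sylow subgroup. -/
theorem chain_of_familyControls {𝓦 : Set (Subgroup G → Subgroup G)}
    (h𝓦 : ∀ W ∈ 𝓦, IsConjugacyFunctor p W) {H : Subgroup G}
    (h : FamilyControlsStrongFusionIn p 𝓦 H) {R : Subgroup G} (hRH : R ≤ H) (hR : IsPGroup p R)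
    (hi : ¬ p ∣ R.relIndex H) : HoldsOn R (Chain R (functorSteps 𝓦 H R)) H := by
  obtain ⟨T, hTH, hT, hTi, hctrl⟩ := h
  obtain ⟨x, hx, hxT⟩ := exists_conj_eq_sylow_of hTH hT hTi hRH hR hi
  intro D y hy hD hyD
  set D' := D.map (MulAut.conj x⁻¹).toMonoidHom
  have hRT : R.map (MulAut.conj x⁻¹).toMonoidHom = T := by
    rw [← hxT, ← map_conj_mul, inv_mul_cancel, map_conj_one]
  have hD' : D' ≤ T := hRT ▸ map_mono hD
  obtain ⟨n, c, h0, h1, h2, h3⟩ := hctrl (D' : Set G) (x⁻¹ * y * x)
    (mul_mem (mul_mem (inv_mem hx) hy) hx) hD' (by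
      rintro _ ⟨a, ha, rfl⟩
      rw [SetLike.mem_coe, mem_map_conj, inv_inv] at ha
      have hm := hRT.le (conj_mem_map_conj x⁻¹ (hyD (conj_mem_map_conj y ha)))
      simpa [mul_assoc] using hm)
  have hch : Chain T (functorSteps 𝓦 H T) D' (x⁻¹ * y * x) := by
    refine chain_of_fin c h0 (fun i => ?_) (fun i a ha => h2 i ⟨a, ha, rfl⟩) h3
    obtain ⟨W, hW, hc⟩ := h1 i
    exact ⟨_, ⟨W, hW, rfl⟩, hc⟩
  have := hch.map (MulAut.conj x).toMonoidHom (T' := R) (Ms' := functorSteps 𝓦 H R) hxT.le ?_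
  · rw [← map_conj_mul, mul_inv_cancel, map_conj_one] at this
    simpa [mul_assoc] using this
  · rintro M ⟨W, hW, rfl⟩
    refine ⟨_, ⟨W, hW, rfl⟩, ?_⟩
    rw [← hxT]
    exact map_step_le (h𝓦 W hW) hT (Subgroup.le_normalizer hx)

/-- Control of transfer does not depend on the Sylow subgroup. -/
theorem transfer_of_familyControls {𝓦 : Set (Subgroup G → Subgroup G)}
    (h𝓦 : ∀ W ∈ 𝓦, IsConjugacyFunctor p W) {H : Subgroup G}
    (h : FamilyControlsTransferIn p 𝓦 H) {R : Subgroup G} (hRH : R ≤ H) (hR : IsPGroup p R)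
    (hi : ¬ p ∣ R.relIndex H) (τ : Subgroup G)
    (hτ : ∀ W ∈ 𝓦, R ⊓ ⁅H ⊓ normalizer ((W R : Subgroup G) : Set G),
      H ⊓ normalizer ((W R : Subgroup G) : Set G)⁆ ≤ τ) : R ⊓ ⁅H, H⁆ ≤ τ := by
  obtain ⟨T, hTH, hT, hTi, heq⟩ := h
  obtain ⟨x, hx, hxT⟩ := exists_conj_eq_sylow_of hTH hT hTi hRH hR hi
  have hH : H.map (MulAut.conj x).toMonoidHom = H := map_conj_eq_self_iff.2 (Subgroup.le_normalizer hx)
  calc R ⊓ ⁅H, H⁆ = (T ⊓ ⁅H, H⁆).map (MulAut.conj x).toMonoidHom := by
        rw [map_inf _ _ _ (MulAut.conj x).injective, hxT, map_commutator, hH]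
    _ ≤ τ := by
      rw [heq, map_iSup]
      refine iSup_le fun W => ?_
      rw [map_iSup]
      refine iSup_le fun hW => ?_
      refine le_trans ?_ (hτ W hW)
      rw [map_inf _ _ _ (MulAut.conj x).injective, map_commutator, ← hxT]
      have := map_step_le (h𝓦 W hW) hT (Subgroup.le_normalizer hx)
      exact inf_le_inf_left _ (commutator_mono this this)

theorem familyControlsStrongFusion_top (S : Sylow p G) {𝓦 : Set (Subgroup G → Subgroup G)}
    (h : HoldsOn (S : Subgroup G) (Chain (S : Subgroup G) (functorSteps 𝓦 ⊤ S)) ⊤) :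
    FamilyControlsStrongFusionIn p 𝓦 ⊤ := by
  refine ⟨S, le_top, S.2, not_dvd_relIndex_sylow S le_top, fun A g _ hA hgA => ?_⟩
  have hD : closure A ≤ (S : Subgroup G) := (closure_le _).2 hA
  have hD' : (closure A).map (MulAut.conj g).toMonoidHom ≤ (S : Subgroup G) := by
    rw [MonoidHom.map_closure, closure_le]
    exact hgA
  obtain ⟨n, c, h0, h1, h2, h3⟩ := (h _ g (mem_top g) hD hD').toFin hD
  refine ⟨n, c, h0, fun i => ?_, fun i => ?_, fun a ha => h3 a (subset_closure ha)⟩
  · obtain ⟨_, ⟨W, hW, rfl⟩, hm⟩ := h1 i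
    exact ⟨W, hW, hm⟩
  · rintro _ ⟨a, ha, rfl⟩
    exact h2 i a (subset_closure ha)

theorem family_fusion_local_to_global (S : Sylow p G) {𝓦 : Set (Subgroup G → Subgroup G)}
    (h𝓦 : ∀ W ∈ 𝓦, IsConjugacyFunctor p W)
    (hloc : ∀ U : Subgroup G, U ≠ ⊥ → IsFN p (S : Subgroup G) U →
      FamilyControlsStrongFusionIn p 𝓦 (normalizer (U : Set G))) :
    FamilyControlsStrongFusionIn p 𝓦 ⊤ := by
  refine familyControlsStrongFusion_top S (local_to_global S (isMapClosed_chain _ _) 𝓦 h𝓦 ?_ ?_)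
  · intro W hW D x hx hD hxD
    exact chain_step (Ms := functorSteps 𝓦 ⊤ (S : Subgroup G))
      (M := ⊤ ⊓ normalizer ((W (S : Subgroup G) : Subgroup G) : Set G)) ⟨W, hW, rfl⟩
      (mem_inf.2 ⟨mem_top x, hx⟩) hxD
  · intro U hU hFN hsteps D y hy hD hyD
    refine (chain_of_familyControls h𝓦 (hloc U hU hFN) inf_le_right (S.2.to_le inf_le_left) hFN.2
      D y hy hD hyD).elim (isMapClosed_chain _ _) inf_le_left ?_ hD
    rintro M ⟨W, hW, rfl⟩
    exact hsteps W hW

theorem family_transfer_local_to_global (S : Sylow p G) {𝓦 : Set (Subgroup G → Subgroup G)}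
    (h𝓦 : ∀ W ∈ 𝓦, IsConjugacyFunctor p W)
    (hloc : ∀ U : Subgroup G, U ≠ ⊥ → IsFN p (S : Subgroup G) U →
      FamilyControlsTransferIn p 𝓦 (normalizer (U : Set G))) :
    FamilyControlsTransferIn p 𝓦 ⊤ := by
  set τ := ⨆ W ∈ 𝓦, (S : Subgroup G) ⊓ ⁅⊤ ⊓ normalizer ((W (S : Subgroup G) : Subgroup G) : Set G),
    ⊤ ⊓ normalizer ((W (S : Subgroup G) : Subgroup G) : Set G)⁆ with hτ
  have hSN : ∀ W ∈ 𝓦, (S : Subgroup G) ≤ ⊤ ⊓ normalizer ((W (S : Subgroup G) : Subgroup G) : Set G) :=
    fun W hW => le_inf le_top (Subgroup.le_normalizer.trans (IsConjugacyFunctor.le_normalizer (h𝓦 W hW) S.2))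
  have key : HoldsOn (S : Subgroup G) (FocalIn τ) ⊤ := by
    refine local_to_global S (isMapClosed_focalIn _ _) 𝓦 h𝓦 (fun W hW => ?_) ?_
    · exact (focalIn_of_inf_commutator_le (hSN W hW) (le_iSup₂ (f := fun W (_ : W ∈ 𝓦) =>
        (S : Subgroup G) ⊓ ⁅⊤ ⊓ normalizer ((W (S : Subgroup G) : Subgroup G) : Set G),
          ⊤ ⊓ normalizer ((W (S : Subgroup G) : Subgroup G) : Set G)⁆) W hW)).mono le_rfl
        (le_inf le_top le_rfl)
    · intro U hU hFN hsteps
      refine focalIn_of_inf_commutator_le inf_le_right ?_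
      refine transfer_of_familyControls h𝓦 (hloc U hU hFN) inf_le_right (S.2.to_le inf_le_left) hFN.2 τ
        fun W hW => ?_
      have hRp : IsPGroup p ↥((S : Subgroup G) ⊓ normalizer (U : Set G)) := S.2.to_le inf_le_left
      refine inf_commutator_le_of_focalIn (le_inf inf_le_right
        (Subgroup.le_normalizer.trans (IsConjugacyFunctor.le_normalizer (h𝓦 W hW) hRp))) hRp ?_ (hsteps W hW)
      intro hd
      have hRM : (S : Subgroup G) ⊓ normalizer (U : Set G) ≤ normalizer (U : Set G) ⊓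
          normalizer ((W ((S : Subgroup G) ⊓ normalizer (U : Set G)) : Subgroup G) : Set G) :=
        le_inf inf_le_right
          (Subgroup.le_normalizer.trans (IsConjugacyFunctor.le_normalizer (h𝓦 W hW) hRp))
      exact hFN.2 (hd.trans (Dvd.intro _ (relIndex_mul_relIndex _ _ _ hRM inf_le_left)))
  refine ⟨S, le_top, S.2, not_dvd_relIndex_sylow S le_top, le_antisymm
    (inf_commutator_le_of_focalIn le_top S.2 (not_dvd_relIndex_sylow S le_top) key) ?_⟩
  exact iSup₂_le fun W hW => inf_le_inf_left _ (commutator_mono inf_le_left inf_le_left)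

theorem wellPlaced_local_to_global (S : Sylow p G) {W : Subgroup G → Subgroup G}
    (hW : IsConjugacyFunctor p W) {P : Subgroup G → G → Prop} (hP : IsMapClosed (S : Subgroup G) P)
    (hbase : HoldsOn (S : Subgroup G) P (normalizer ((W (S : Subgroup G) : Subgroup G) : Set G)))
    (hloc : ∀ U : Subgroup G, U ≠ ⊥ → IsWellPlaced p W (S : Subgroup G) U →
      HoldsOn ((S : Subgroup G) ⊓ normalizer (U : Set G)) P (normalizer (U : Set G) ⊓
        normalizer ((W ((S : Subgroup G) ⊓ normalizer (U : Set G)) : Subgroup G) : Set G)) →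
      HoldsOn ((S : Subgroup G) ⊓ normalizer (U : Set G)) P (normalizer (U : Set G))) :
    HoldsOn (S : Subgroup G) P ⊤ := by
  have claim : ∀ (m : ℕ) (U : Subgroup G),
      Nat.card (S : Subgroup G) - Nat.card ((S : Subgroup G) ⊓ normalizer (U : Set G) : Subgroup G) < m →
      U ≠ ⊥ → IsWellPlaced p W (S : Subgroup G) U →
      HoldsOn ((S : Subgroup G) ⊓ normalizer (U : Set G)) P (normalizer (U : Set G)) := by
    intro m
    induction m with
    | zero => intro U h; omega
    | succ m ih =>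
      intro U hlt hne hU
      refine hloc U hne hU ?_
      set R := (S : Subgroup G) ⊓ normalizer (U : Set G) with hR
      by_cases hRS : R = S
      · rw [hRS]
        exact hbase.mono le_rfl inf_le_right
      have hRp : IsPGroup p R := S.2.to_le inf_le_left
      have hRne : R ≠ ⊥ := fun e => hne (le_bot_iff.1 (e ▸ le_inf hU.1 Subgroup.le_normalizer))
      have hle : R ≤ (S : Subgroup G) ⊓ normalizer ((W R : Subgroup G) : Set G) :=
        le_inf inf_le_left (Subgroup.le_normalizer.trans (IsConjugacyFunctor.le_normalizer hW hRp))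
      have h1 : Nat.card R < Nat.card ((S : Subgroup G) ⊓ normalizer ((W R : Subgroup G) : Set G) : Subgroup G) :=
        lt_of_lt_of_le (card_lt_card_inf_normalizer (H := R) S.2 inf_le_left hRS)
          (card_le_of_le (inf_le_inf_left _ (IsConjugacyFunctor.le_normalizer hW hRp)))
      refine (ih (W R) ?_ ((hW R hRp).2.1 hRne) (IsWellPlaced.next S.2 hW hU)).mono hle inf_le_right
      have := card_le_of_le (inf_le_left : (S : Subgroup G) ⊓ normalizer ((W R : Subgroup G) : Set G) ≤ S)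
      omega
  have habove : HoldsAbove (S : Subgroup G) P 1 := by
    refine holdsAbove_of_family S hP.toIsFusionClosed {U | IsWellPlaced p W (S : Subgroup G) U} 1
      (fun T hT _ => exists_isWellPlaced_family S hW T hT) fun U hU hkU _ x hx => ?_
    have hUle : U ≤ (S : Subgroup G) ⊓ normalizer (U : Set G) := le_inf hU.1 Subgroup.le_normalizer
    refine claim _ U (Nat.lt_succ_self _) (fun e => ?_) hU U x hx hUle ?_
    · rw [e, card_bot] at hkU; omega
    · rw [map_conj_eq_self_iff.2 hx]; exact hUle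
  intro D g _ hD hgD
  rcases Nat.lt_or_ge 1 (Nat.card D) with h | h
  · exact habove D g h hD hgD
  · refine hP.congr (h := 1) ?_ (hP.one hD)
    intro a ha
    have : a = 1 := by
      rw [card_eq_one.1 (le_antisymm h Nat.card_pos)] at ha
      exact ha
    simp [this]

theorem wellPlaced_fusion_local_to_global (S : Sylow p G) {W : Subgroup G → Subgroup G}
    (hW : IsConjugacyFunctor p W)
    (hloc : ∀ U : Subgroup G, U ≠ ⊥ → IsWellPlaced p W (S : Subgroup G) U →
      ControlsStrongFusionIn p W (normalizer (U : Set G))) : ControlsStrongFusionIn p W ⊤ := by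
  set M := normalizer ((W (S : Subgroup G) : Subgroup G) : Set G)
  have key : HoldsOn (S : Subgroup G) (Chain (S : Subgroup G) {M}) ⊤ := by
    refine wellPlaced_local_to_global S hW (isMapClosed_chain _ _)
      (fun D x hx _ hxD => chain_step (Set.mem_singleton M) hx hxD) fun U hU hWP hstep D y hy hD hyD => ?_
    obtain ⟨T, hTH, hT, hTi, hctrl⟩ := hloc U hU hWP
    set R := (S : Subgroup G) ⊓ normalizer (U : Set G)
    have hRp : IsPGroup p R := S.2.to_le inf_le_left
    obtain ⟨x, hx, hxT⟩ := exists_conj_eq_sylow_of hTH hT hTi inf_le_right hRp (hWP.2 0)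
    replace hxT : T.map (MulAut.conj x).toMonoidHom = R := hxT
    have hRT : R.map (MulAut.conj x⁻¹).toMonoidHom = T := by
      rw [← hxT, ← map_conj_mul, inv_mul_cancel, map_conj_one]
    set D' := D.map (MulAut.conj x⁻¹).toMonoidHom
    obtain ⟨z, hz, hzD⟩ := hctrl (D' : Set G) (x⁻¹ * y * x) (mul_mem (mul_mem (inv_mem hx) hy) hx)
      (hRT ▸ map_mono hD) (by
        rintro _ ⟨a, ha, rfl⟩
        rw [SetLike.mem_coe, mem_map_conj, inv_inv] at ha
        have hm := hRT.le (conj_mem_map_conj x⁻¹ (hyD (conj_mem_map_conj y ha)))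
        simpa [mul_assoc] using hm)
    have hz' : x * z * x⁻¹ ∈ normalizer (U : Set G) ⊓ normalizer ((W R : Subgroup G) : Set G) := by
      rw [← hxT]
      exact map_step_le hW hT (Subgroup.le_normalizer hx) (conj_mem_map_conj x hz)
    have hagree : ∀ a ∈ D, x * z * x⁻¹ * a * (x * z * x⁻¹)⁻¹ = y * a * y⁻¹ := by
      intro a ha
      have := hzD _ (conj_mem_map_conj x⁻¹ ha)
      have h2 := congrArg (fun t => x * t * x⁻¹) this
      simpa [mul_assoc] using h2
    refine (isMapClosed_chain _ _).congr hagree (hstep D _ hz' hD ?_)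
    rintro _ ⟨a, ha, rfl⟩
    change x * z * x⁻¹ * a * (x * z * x⁻¹)⁻¹ ∈ R
    rw [hagree a ha]
    exact hyD (conj_mem_map_conj y ha)
  refine ⟨S, le_top, S.2, not_dvd_relIndex_sylow S le_top, fun A g _ hA hgA => ?_⟩
  obtain ⟨z, hz, hzA⟩ := (key (closure A) g (mem_top g) ((closure_le _).2 hA)
    (by rw [MonoidHom.map_closure, closure_le]; exact hgA)).exists_mem
  exact ⟨z, mem_inf.2 ⟨mem_top z, hz⟩, fun a ha => hzA a (subset_closure ha)⟩

theorem wellPlaced_transfer_local_to_global (S : Sylow p G) {W : Subgroup G → Subgroup G}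
    (hW : IsConjugacyFunctor p W)
    (hloc : ∀ U : Subgroup G, U ≠ ⊥ → IsWellPlaced p W (S : Subgroup G) U →
      ControlsTransferIn p W (normalizer (U : Set G))) : ControlsTransferIn p W ⊤ := by
  set M := ⊤ ⊓ normalizer ((W (S : Subgroup G) : Subgroup G) : Set G)
  set τ := (S : Subgroup G) ⊓ ⁅M, M⁆
  have hSM : (S : Subgroup G) ≤ M :=
    le_inf le_top (Subgroup.le_normalizer.trans (IsConjugacyFunctor.le_normalizer hW S.2))
  have key : HoldsOn (S : Subgroup G) (FocalIn τ) ⊤ := by
    refine wellPlaced_local_to_global S hW (isMapClosed_focalIn _ _)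
      ((focalIn_of_inf_commutator_le hSM le_rfl).mono le_rfl (le_inf le_top le_rfl))
      fun U hU hWP hstep => ?_
    set R := (S : Subgroup G) ⊓ normalizer (U : Set G)
    have hRp : IsPGroup p R := S.2.to_le inf_le_left
    refine focalIn_of_inf_commutator_le inf_le_right ?_
    obtain ⟨T, hTH, hT, hTi, heq⟩ := hloc U hU hWP
    obtain ⟨x, hx, hxT⟩ := exists_conj_eq_sylow_of hTH hT hTi inf_le_right hRp (hWP.2 0)
    calc R ⊓ ⁅normalizer (U : Set G), normalizer (U : Set G)⁆
        = (T ⊓ ⁅normalizer (U : Set G), normalizer (U : Set G)⁆).map (MulAut.conj x).toMonoidHom := by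
          rw [map_inf _ _ _ (MulAut.conj x).injective, hxT, map_commutator,
            map_conj_eq_self_iff.2 (Subgroup.le_normalizer hx)]
      _ ≤ R ⊓ ⁅normalizer (U : Set G) ⊓ normalizer ((W R : Subgroup G) : Set G),
            normalizer (U : Set G) ⊓ normalizer ((W R : Subgroup G) : Set G)⁆ := by
          rw [heq, map_inf _ _ _ (MulAut.conj x).injective, hxT, map_commutator]
          have := map_step_le hW hT (Subgroup.le_normalizer hx)
          rw [hxT] at this
          exact inf_le_inf_left _ (commutator_mono this this)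
      _ ≤ τ := by
          refine inf_commutator_le_of_focalIn (le_inf inf_le_right
            (Subgroup.le_normalizer.trans (IsConjugacyFunctor.le_normalizer hW hRp))) hRp ?_ hstep
          intro hd
          have hRM : R ≤ normalizer (U : Set G) ⊓ normalizer ((W R : Subgroup G) : Set G) :=
            le_inf inf_le_right (Subgroup.le_normalizer.trans (IsConjugacyFunctor.le_normalizer hW hRp))
          exact hWP.2 0 (hd.trans (Dvd.intro _ (relIndex_mul_relIndex _ _ _ hRM inf_le_left)))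
  refine ⟨S, le_top, S.2, not_dvd_relIndex_sylow S le_top, le_antisymm
    (le_inf inf_le_left ((inf_commutator_le_of_focalIn le_top S.2 (not_dvd_relIndex_sylow S le_top) key).trans
      inf_le_right)) ?_⟩
  exact inf_le_inf_left _ (commutator_mono inf_le_left inf_le_left)

/-! ### Conjugation families -/

/-- A list of normaliser elements of members of `𝓕` which move `D` step by step. -/
def Realises (𝓕 : Set (Subgroup G)) : List (Subgroup G × G) → Subgroup G → Prop
  | [], _ => True
  | tx :: l, D => tx.1 ∈ 𝓕 ∧ tx.2 ∈ normalizer (tx.1 : Set G) ∧ D ≤ tx.1 ∧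
      Realises 𝓕 l (D.map (MulAut.conj tx.2⁻¹).toMonoidHom)

theorem Realises.mono {𝓕 : Set (Subgroup G)} :
    ∀ {l : List (Subgroup G × G)} {D D' : Subgroup G}, D ≤ D' → Realises 𝓕 l D' → Realises 𝓕 l D
  | [], _, _, _, _ => trivial
  | _ :: _, _, _, h, ⟨h1, h2, h3, h4⟩ => ⟨h1, h2, h.trans h3, Realises.mono (map_mono h) h4⟩

theorem Realises.append {𝓕 : Set (Subgroup G)} :
    ∀ {l l' : List (Subgroup G × G)} {D : Subgroup G}, Realises 𝓕 l D →
      Realises 𝓕 l' (D.map (MulAut.conj ((l.map Prod.snd).prod)⁻¹).toMonoidHom) → Realises 𝓕 (l ++ l') D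
  | [], l', D, _, h => by
      rwa [List.map_nil, List.prod_nil, inv_one, map_conj_one] at h
  | tx :: l, l', D, ⟨h1, h2, h3, h4⟩, h => ⟨h1, h2, h3, Realises.append h4 (by
      rwa [List.map_cons, List.prod_cons, mul_inv_rev, map_conj_mul] at h)⟩

theorem Realises.take_le {𝓕 : Set (Subgroup G)} :
    ∀ {l : List (Subgroup G × G)} {D : Subgroup G}, Realises 𝓕 l D → ∀ (i : ℕ) (hi : i < l.length),
      l[i].1 ∈ 𝓕 ∧ l[i].2 ∈ normalizer (l[i].1 : Set G) ∧
      D.map (MulAut.conj (((l.map Prod.snd).take i).prod)⁻¹).toMonoidHom ≤ l[i].1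
  | [], _, _, i, hi => by simp at hi
  | tx :: l, D, ⟨h1, h2, h3, h4⟩, 0, _ => ⟨h1, h2, by
      rw [List.take_zero, List.prod_nil, inv_one, map_conj_one]; exact h3⟩
  | tx :: l, D, ⟨h1, h2, h3, h4⟩, i + 1, hi => by
      have := Realises.take_le h4 i (by simpa using hi)
      simp only [List.getElem_cons_succ, List.map_cons, List.take_succ_cons, List.prod_cons, mul_inv_rev, map_conj_mul]
      exact this

theorem isConjugationFamily_of (S : Sylow p G) (𝓕 : Set (Subgroup G))
    (h𝓕 : ∀ U ∈ 𝓕, U ≤ (S : Subgroup G))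
    (hF : ∀ T : Subgroup G, T ≤ (S : Subgroup G) →
      ∃ U ∈ 𝓕, (∃ g : G, T.map (MulAut.conj g).toMonoidHom = U) ∧ IsFN p (S : Subgroup G) U) :
    IsConjugationFamily 𝓕 (S : Subgroup G) := by
  have hP : IsFusionClosed (S : Subgroup G)
      (fun D h => ∃ l, Realises 𝓕 l D ∧ ((l.map Prod.snd).prod)⁻¹ = h) := by
    constructor
    · rintro D D' h hle ⟨l, hl, hh⟩
      exact ⟨l, hl.mono hle, hh⟩
    · rintro D h h' - - ⟨l, hl, hh⟩ ⟨l', hl', hh'⟩
      exact ⟨l ++ l', hl.append (hh.symm ▸ hl'), by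
        rw [List.map_append, List.prod_append, mul_inv_rev, hh, hh']⟩
  have key := holdsAbove_of_family S hP 𝓕 0 (fun T hT _ => hF T hT) fun U hU _ _ x hx =>
    ⟨[(U, x⁻¹)], ⟨hU, inv_mem hx, le_rfl, trivial⟩, by simp⟩
  refine ⟨h𝓕, fun A g _ hA hgA => ?_⟩
  obtain ⟨l, hl, hprod⟩ := key (closure A) g⁻¹ Nat.card_pos ((closure_le _).2 hA)
    (by
      rw [MonoidHom.map_closure, closure_le]
      rintro _ ⟨a, ha, rfl⟩
      simpa using hgA ⟨a, ha, rfl⟩)
  rw [inv_inj] at hprod
  refine ⟨l.length, fun i => l[i.1].1, fun i => l[i.1].2, ?_, fun i => (hl.take_le i.1 i.2).1,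
    fun i => (hl.take_le i.1 i.2).2.1, fun h => ?_, fun i h => ?_⟩
  · rw [← hprod]
    congr 1
    exact List.ext_getElem (by simp) (by simp)
  · intro a ha
    have := (hl.take_le 0 h).2.2 (conj_mem_map_conj _ (subset_closure ha))
    simpa using this
  · rintro _ ⟨a, ha, rfl⟩
    have h2 := (hl.take_le (i.1 + 1) h).2.2 (conj_mem_map_conj _ (subset_closure ha))
    have e : List.ofFn (fun j : Fin l.length => l[j.1].2) = l.map Prod.snd :=
      List.ext_getElem (by simp) (by simp)
    simp only [e]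
    simpa [mul_assoc] using h2

end CfsgLib.Techniques.Fusion
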